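import Groth.Agent.Lib.Helper5.RT2
import Groth.Agent.Lib.Helper13.ExtQCoh
import Groth.Agent.Lib.Helper13.FinPres
import Groth.Agent.Lib.Helper13.Retract
import Groth.Agent.Lib.Helper13.LocFree2

/-!
# Cokernels of morphisms of finite locally free modules are finitely presented
-/

set_option autoImplicit false
set_option linter.unusedSectionVars false
set_option linter.unusedVariables false
set_option linter.style.haveILetI false

universe u

open CategoryTheory CategoryTheory.Limits AlgebraicGeometry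

namespace Groth.Agent.Helper5.FPC

open Groth.Agent.Helper5.RT Groth.Agent.Helper13.LocFree

variable {X : Scheme.{u}}

/-- a finite locally free module is quasi-coherent -/
theorem isQuasicoherent_of_isFinLocFree (M : X.Modules) (h : FlatMod.IsFinLocFree M) :
    M.IsQuasicoherent := by
  apply Groth.Agent.Helper13.Ext.isQuasicoherent_of_forall_exists_restrict
  intro x
  obtain ⟨U, n, hxU, ⟨e⟩⟩ := h x
  exact ⟨U, hxU, Groth.Agent.Helper13.QCohLocal.isQuasicoherent_of_iso e.symm⟩

/-- the cokernel of a morphism between free modules of finite rank has a finite presentation -/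
theorem exists_finite_presentation_cokernel_free {m n : ℕ}
    (f : FlatMod.freeMod X m ⟶ FlatMod.freeMod X n) :
    ∃ P : (cokernel f).Presentation, P.IsFinite := by
  let F₁ : X.Modules := SheafOfModules.free (R := X.ringCatSheaf) (ULift.{u} (Fin m))
  let F₂ : X.Modules := SheafOfModules.free (R := X.ringCatSheaf) (ULift.{u} (Fin n))
  let i₁ : F₁ ≅ FlatMod.freeMod X m := freeULiftIsoFreeMod m
  let i₂ : F₂ ≅ FlatMod.freeMod X n := freeULiftIsoFreeMod n
  let f' : F₁ ⟶ F₂ := i₁.hom ≫ f ≫ i₂.inv
  have hf' : f' ≫ i₂.hom = i₁.hom ≫ f := by simp [f']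
  let P₀ : (cokernel f').Presentation :=
    SheafOfModules.presentationOfIsCokernelFree f' (cokernel.π f') (cokernel.condition f')
      (cokernelIsCokernel f')
  let e : cokernel f' ≅ cokernel f := cokernel.mapIso f' f i₁ i₂ hf'
  refine ⟨@SheafOfModules.Presentation.ofIsIso _ _ _ _ _ _ _ _ e.hom (Iso.isIso_hom e) P₀, ?_⟩
  exact
    { isFiniteType_generators := ⟨inferInstanceAs (Finite (ULift.{u} (Fin n)))⟩
      isFiniteType_relations := ⟨inferInstanceAs (Finite (ULift.{u} (Fin m)))⟩ }

/-- the cokernel of a morphism between finite locally free modules is finitely presented -/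
theorem isFinitePresentation_cokernel {A B : X.Modules} (φ : A ⟶ B)
    (hA : FlatMod.IsFinLocFree A) (hB : FlatMod.IsFinLocFree B) :
    SheafOfModules.IsFinitePresentation (R := X.ringCatSheaf) (cokernel φ) := by
  have key : ∀ x : X, ∃ (W : X.Opens), x ∈ W ∧
      ∃ P : ((cokernel φ).restrict W.ι).Presentation, P.IsFinite := by
    intro x
    obtain ⟨U₁, m, hx₁, ⟨e₁⟩⟩ := hA x
    obtain ⟨U₂, n, hx₂, ⟨e₂⟩⟩ := hB x
    obtain ⟨eA⟩ := free_of_le A (inf_le_left : U₁ ⊓ U₂ ≤ U₁) m e₁
    obtain ⟨eB⟩ := free_of_le B (inf_le_right : U₁ ⊓ U₂ ≤ U₂) n e₂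
    refine ⟨U₁ ⊓ U₂, ⟨hx₁, hx₂⟩, ?_⟩
    let Rf := Scheme.Modules.restrictFunctor (U₁ ⊓ U₂).ι
    let f : FlatMod.freeMod _ m ⟶ FlatMod.freeMod _ n := eA.inv ≫ Rf.map φ ≫ eB.hom
    have hf : f ≫ eB.symm.hom = eA.symm.hom ≫ Rf.map φ := by simp [f]
    obtain ⟨P, hP⟩ := exists_finite_presentation_cokernel_free f
    let e : cokernel f ≅ Rf.obj (cokernel φ) :=
      cokernel.mapIso f (Rf.map φ) eA.symm eB.symm hf ≪≫ (PreservesCokernel.iso Rf φ).symm
    refine ⟨@SheafOfModules.Presentation.ofIsIso _ _ _ _ _ _ _ _ e.hom (Iso.isIso_hom e) P, ?_⟩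
    exact
      { isFiniteType_generators := ⟨hP.isFiniteType_generators.finite⟩
        isFiniteType_relations := ⟨hP.isFiniteType_relations.finite⟩ }
  choose W hxW P hP using key
  refine Groth.Agent.Helper13.FinPres.isFinitePresentation_of_presentations (cokernel φ) W ?_ P hP
  rw [TopologicalSpace.IsOpenCover, eq_top_iff]
  intro x _
  exact TopologicalSpace.Opens.mem_iSup.2 ⟨x, hxW x⟩

/-- a flat cokernel of a morphism between finite locally free modules is finite locally free -/
theorem isFinLocFree_cokernel_of_isFlat {A B : X.Modules} (φ : A ⟶ B)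
    (hA : FlatMod.IsFinLocFree A) (hB : FlatMod.IsFinLocFree B)
    (hfl : FlatMod.IsFlat (cokernel φ)) : FlatMod.IsFinLocFree (cokernel φ) := by
  haveI := isQuasicoherent_of_isFinLocFree A hA
  haveI := isQuasicoherent_of_isFinLocFree B hB
  haveI : (cokernel φ).IsQuasicoherent :=
    Groth.Agent.Helper13.QCohLocal.isQuasicoherent_cokernel φ
  rw [isFinLocFree_iff_isFinitePresentation_and_isFlat]
  exact ⟨isFinitePresentation_cokernel φ hA hB, hfl⟩

end Groth.Agent.Helper5.FPC
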