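import Groth.Agent.Lib.Helper5.KFlat4

/-!
# K-flatness and base change (projection formula for complexes)
-/

set_option autoImplicit false
set_option linter.unusedSectionVars false
set_option linter.unusedVariables false
set_option linter.style.haveILetI false

universe u

open CategoryTheory CategoryTheory.Limits MonoidalCategory HomologicalComplex TensorProduct
open ChangeOfRings

namespace Groth.Agent.Helper5.KF

variable {R R' : Type u} [CommRing R] [CommRing R'] (φ : R →+* R')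

section Theta

variable (M : ModuleCat.{u} R') (N : ModuleCat.{u} R)

/-- the projection formula `M ⊗_R N ≃ M ⊗_{R'} (R' ⊗_R N)` as an additive equivalence -/
noncomputable def thetaEquiv :
    (((ModuleCat.restrictScalars φ).obj M ⊗ N : ModuleCat.{u} R) : Type u) ≃+
      ((M ⊗ (ModuleCat.extendScalars φ).obj N : ModuleCat.{u} R') : Type u) :=
  letI : Algebra R R' := φ.toAlgebra
  letI : Module R M := Module.compHom M φ
  haveI : IsScalarTower R R' M := ⟨fun r s m => by
    change (φ r * s) • m = φ r • (s • m); rw [mul_smul]⟩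
  (TensorProduct.AlgebraTensorModule.cancelBaseChange R R' R' M N).symm.toAddEquiv

/-- the element `1 ⊗ n` of the extension of scalars -/
noncomputable def oneTmul (n : N) : (ModuleCat.extendScalars φ).obj N := (1 : R') ⊗ₜ[R,φ] n

/-- pure tensors in `M ⊗_{R'} ext N` -/
noncomputable def tmul' (m : M) (x : (ModuleCat.extendScalars φ).obj N) :
    (M ⊗ (ModuleCat.extendScalars φ).obj N : ModuleCat.{u} R') := m ⊗ₜ[R'] x

/-- pure tensors in `res M ⊗_R N` -/
noncomputable def tmulR (m : M) (n : N) :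
    ((ModuleCat.restrictScalars φ).obj M ⊗ N : ModuleCat.{u} R) :=
  (m : (ModuleCat.restrictScalars φ).obj M) ⊗ₜ[R] n

lemma thetaEquiv_tmul (m : M) (n : N) :
    thetaEquiv φ M N (tmulR φ M N m n) = tmul' φ M N m (oneTmul φ N n) := rfl

lemma thetaEquiv_smul (r : R)
    (t : (((ModuleCat.restrictScalars φ).obj M ⊗ N : ModuleCat.{u} R) : Type u)) :
    thetaEquiv φ M N (r • t) = φ r • thetaEquiv φ M N t := by
  induction t using TensorProduct.induction_on with
  | zero => simp
  | tmul m n =>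
    have key : ∀ (m' : M), thetaEquiv φ M N (r • tmulR φ M N m' n) =
        φ r • thetaEquiv φ M N (tmulR φ M N m' n) := by
      intro m'
      have h1 : r • tmulR φ M N m' n = tmulR φ M N (φ r • m') n := rfl
      rw [h1, thetaEquiv_tmul, thetaEquiv_tmul]
      rfl
    exact key m
  | add x y hx hy => rw [smul_add, map_add, hx, hy, map_add, smul_add]

/-- the projection formula as a morphism of `R`-modules -/
noncomputable def theta : ((ModuleCat.restrictScalars φ).obj M ⊗ N : ModuleCat.{u} R) ⟶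
    (ModuleCat.restrictScalars φ).obj (M ⊗ (ModuleCat.extendScalars φ).obj N) :=
  ModuleCat.ofHom (Y := (ModuleCat.restrictScalars φ).obj (M ⊗ (ModuleCat.extendScalars φ).obj N))
    { toFun := fun t => thetaEquiv φ M N t
      map_add' := fun x y => map_add _ x y
      map_smul' := fun r t => thetaEquiv_smul φ M N r t }

lemma theta_apply (t : ((ModuleCat.restrictScalars φ).obj M ⊗ N : ModuleCat.{u} R)) :
    theta φ M N t = thetaEquiv φ M N t := rfl

lemma theta_bijective : Function.Bijective (theta φ M N) := (thetaEquiv φ M N).bijective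

lemma theta_naturality_left {M M' : ModuleCat.{u} R'} (g : M ⟶ M') (N : ModuleCat.{u} R) :
    theta φ M N ≫ (ModuleCat.restrictScalars φ).map (g ▷ (ModuleCat.extendScalars φ).obj N) =
      ((ModuleCat.restrictScalars φ).map g ▷ N) ≫ theta φ M' N := by
  ext : 1
  apply TensorProduct.ext'
  intro m n
  rfl

lemma theta_naturality_right (M : ModuleCat.{u} R') {N N' : ModuleCat.{u} R} (h : N ⟶ N') :
    theta φ M N ≫ (ModuleCat.restrictScalars φ).map (M ◁ (ModuleCat.extendScalars φ).map h) =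
      ((ModuleCat.restrictScalars φ).obj M ◁ h) ≫ theta φ M N' := by
  ext : 1
  apply TensorProduct.ext'
  intro m n
  rfl

end Theta

section Complexes

/-- restriction of scalars on complexes -/
noncomputable abbrev rsC : DRing.Cx R' ⥤ DRing.Cx R :=
  (ModuleCat.restrictScalars φ).mapHomologicalComplex (ComplexShape.up ℤ)

/-- extension of scalars on complexes -/
noncomputable abbrev extC : DRing.Cx R ⥤ DRing.Cx R' :=
  (ModuleCat.extendScalars φ).mapHomologicalComplex (ComplexShape.up ℤ)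

variable (L : DRing.Cx R') (K : DRing.Cx R)

/-- typed inclusion into `L ⊗ ext K` -/
noncomputable def ιE (p q n : ℤ) (h : p + q = n) :
    L.X p ⊗ (ModuleCat.extendScalars φ).obj (K.X q) ⟶ (L ⊗ (extC φ).obj K).X n :=
  ι L ((extC φ).obj K) p q n h

/-- typed projection from `L ⊗ ext K` -/
noncomputable def prE (p q n : ℤ) :
    (L ⊗ (extC φ).obj K).X n ⟶ L.X p ⊗ (ModuleCat.extendScalars φ).obj (K.X q) :=
  pr L ((extC φ).obj K) p q n

/-- typed inclusion into `res L ⊗ K` -/
noncomputable def ιR (p q n : ℤ) (h : p + q = n) :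
    (ModuleCat.restrictScalars φ).obj (L.X p) ⊗ K.X q ⟶ (((rsC φ).obj L) ⊗ K).X n :=
  ι ((rsC φ).obj L) K p q n h

/-- typed projection from `res L ⊗ K` -/
noncomputable def prR (p q n : ℤ) :
    (((rsC φ).obj L) ⊗ K).X n ⟶ (ModuleCat.restrictScalars φ).obj (L.X p) ⊗ K.X q :=
  pr ((rsC φ).obj L) K p q n

@[reassoc]
lemma ιE_prE (p q n : ℤ) (h : p + q = n) : ιE φ L K p q n h ≫ prE φ L K p q n = 𝟙 _ :=
  ι_pr L ((extC φ).obj K) p q n h

@[reassoc]
lemma ιE_prE_ne (p q p' q' n : ℤ) (h : p' + q' = n) (hne : ¬ (p' = p ∧ q' = q)) :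
    ιE φ L K p' q' n h ≫ prE φ L K p q n = 0 :=
  ι_pr_ne L ((extC φ).obj K) p q p' q' n h hne

@[reassoc]
lemma ιR_prR (p q n : ℤ) (h : p + q = n) : ιR φ L K p q n h ≫ prR φ L K p q n = 𝟙 _ :=
  ι_pr ((rsC φ).obj L) K p q n h

@[reassoc]
lemma ιR_prR_ne (p q p' q' n : ℤ) (h : p' + q' = n) (hne : ¬ (p' = p ∧ q' = q)) :
    ιR φ L K p' q' n h ≫ prR φ L K p q n = 0 :=
  ι_pr_ne ((rsC φ).obj L) K p q p' q' n h hne

lemma hom_extR {n : ℤ} {Y : ModuleCat.{u} R} {f g : (((rsC φ).obj L) ⊗ K).X n ⟶ Y}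
    (h : ∀ (p q : ℤ) (hpq : p + q = n), ιR φ L K p q n hpq ≫ f = ιR φ L K p q n hpq ≫ g) :
    f = g :=
  hom_ext' ((rsC φ).obj L) K h

@[reassoc]
lemma ιE_d (p q n : ℤ) (hpq : p + q = n) (n' : ℤ) (hn : n + 1 = n') :
    ιE φ L K p q n hpq ≫ (L ⊗ (extC φ).obj K).d n n' =
      (L.d p (p + 1) ▷ (ModuleCat.extendScalars φ).obj (K.X q)) ≫
        ιE φ L K (p + 1) q n' (by omega) +
      p.negOnePow • ((L.X p ◁ (ModuleCat.extendScalars φ).map (K.d q (q + 1))) ≫
        ιE φ L K p (q + 1) n' (by omega)) :=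
  ι_d L ((extC φ).obj K) p q n hpq n' hn (p + 1) (q + 1) rfl rfl

@[reassoc]
lemma ιR_d (p q n : ℤ) (hpq : p + q = n) (n' : ℤ) (hn : n + 1 = n') :
    ιR φ L K p q n hpq ≫ (((rsC φ).obj L) ⊗ K).d n n' =
      ((ModuleCat.restrictScalars φ).map (L.d p (p + 1)) ▷ K.X q) ≫
        ιR φ L K (p + 1) q n' (by omega) +
      p.negOnePow • (((ModuleCat.restrictScalars φ).obj (L.X p) ◁ K.d q (q + 1)) ≫
        ιR φ L K p (q + 1) n' (by omega)) :=
  ι_d ((rsC φ).obj L) K p q n hpq n' hn (p + 1) (q + 1) rfl rfl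

/-- the comparison map `res L ⊗_R K → res (L ⊗_{R'} ext K)` in degree `n` -/
noncomputable def Theta (n : ℤ) : (((rsC φ).obj L) ⊗ K).X n ⟶
    (ModuleCat.restrictScalars φ).obj ((L ⊗ (extC φ).obj K).X n) :=
  mapBifunctorDesc (fun p q h => theta φ (L.X p) (K.X q) ≫
    (ModuleCat.restrictScalars φ).map (ιE φ L K p q n h))

@[reassoc]
lemma ι_Theta (p q n : ℤ) (h : p + q = n) :
    ιR φ L K p q n h ≫ Theta φ L K n = theta φ (L.X p) (K.X q) ≫
      (ModuleCat.restrictScalars φ).map (ιE φ L K p q n h) := by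
  unfold Theta ιR ι
  exact ι_mapBifunctorDesc _ p q h

lemma Theta_pr (p q n : ℤ) :
    Theta φ L K n ≫ (ModuleCat.restrictScalars φ).map (prE φ L K p q n) =
      prR φ L K p q n ≫ theta φ (L.X p) (K.X q) := by
  apply hom_extR
  intro a b hab
  rw [ι_Theta_assoc, ← Functor.map_comp]
  by_cases h : a = p ∧ b = q
  · obtain ⟨rfl, rfl⟩ := h
    rw [ιE_prE, ιR_prR_assoc, CategoryTheory.Functor.map_id, Category.comp_id]
  · rw [ιE_prE_ne φ L K p q a b n hab h,
      ιR_prR_ne_assoc φ L K p q a b n hab h, Functor.map_zero, comp_zero, zero_comp]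

lemma Theta_d (n n' : ℤ) (hn : n + 1 = n') :
    Theta φ L K n ≫ (ModuleCat.restrictScalars φ).map ((L ⊗ (extC φ).obj K).d n n') =
      (((rsC φ).obj L) ⊗ K).d n n' ≫ Theta φ L K n' := by
  apply hom_extR
  intro p q hpq
  rw [ι_Theta_assoc, ← Functor.map_comp, ιE_d φ L K p q n hpq n' hn,
    ιR_d_assoc φ L K p q n hpq n' hn,
    Functor.map_add, Functor.map_comp, Functor.map_units_smul, Functor.map_comp,
    Preadditive.comp_add, Preadditive.add_comp, Category.assoc, Linear.comp_units_smul,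
    Linear.units_smul_comp, Category.assoc, ι_Theta, ι_Theta]
  congr 1
  · rw [← Category.assoc, ← Category.assoc]
    congr 1
    exact theta_naturality_left φ (L.d p (p + 1)) (K.X q)
  · congr 1
    rw [← Category.assoc, ← Category.assoc]
    congr 1
    exact theta_naturality_right φ (L.X p) (K.d q (q + 1))

/-- `Theta` as a function with values in the `R'`-module -/
noncomputable def Th (n : ℤ) (z : (((rsC φ).obj L) ⊗ K).X n) : (L ⊗ (extC φ).obj K).X n :=
  Theta φ L K n z

lemma Th_add (n : ℤ) (z₁ z₂ : (((rsC φ).obj L) ⊗ K).X n) :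
    Th φ L K n (z₁ + z₂) = Th φ L K n z₁ + Th φ L K n z₂ :=
  map_add (Theta φ L K n).hom z₁ z₂

lemma Th_zero (n : ℤ) : Th φ L K n 0 = 0 := map_zero (Theta φ L K n).hom

lemma Th_sub (n : ℤ) (z₁ z₂ : (((rsC φ).obj L) ⊗ K).X n) :
    Th φ L K n (z₁ - z₂) = Th φ L K n z₁ - Th φ L K n z₂ :=
  map_sub (Theta φ L K n).hom z₁ z₂

/-- `theta` as a function with values in the `R'`-module -/
noncomputable def th (p q : ℤ)
    (t : ((ModuleCat.restrictScalars φ).obj (L.X p) ⊗ K.X q : ModuleCat.{u} R)) :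
    (L.X p ⊗ (ModuleCat.extendScalars φ).obj (K.X q) : ModuleCat.{u} R') :=
  thetaEquiv φ (L.X p) (K.X q) t

lemma th_injective (p q : ℤ) : Function.Injective (th φ L K p q) :=
  (thetaEquiv φ (L.X p) (K.X q)).injective

lemma th_surjective (p q : ℤ) : Function.Surjective (th φ L K p q) :=
  (thetaEquiv φ (L.X p) (K.X q)).surjective

lemma th_zero (p q : ℤ) : th φ L K p q 0 = 0 := map_zero (thetaEquiv φ (L.X p) (K.X q))

lemma Th_ιR (p q n : ℤ) (h : p + q = n)
    (t : ((ModuleCat.restrictScalars φ).obj (L.X p) ⊗ K.X q : ModuleCat.{u} R)) :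
    Th φ L K n (ιR φ L K p q n h t) = ιE φ L K p q n h (th φ L K p q t) :=
  app (ι_Theta φ L K p q n h) t

lemma prE_Th (p q n : ℤ) (z : (((rsC φ).obj L) ⊗ K).X n) :
    prE φ L K p q n (Th φ L K n z) = th φ L K p q (prR φ L K p q n z) :=
  app (Theta_pr φ L K p q n) z

lemma d_Th (n n' : ℤ) (hn : n + 1 = n') (z : (((rsC φ).obj L) ⊗ K).X n) :
    (L ⊗ (extC φ).obj K).d n n' (Th φ L K n z) =
      Th φ L K n' ((((rsC φ).obj L) ⊗ K).d n n' z) :=
  app (Theta_d φ L K n n' hn) z

lemma Th_injective (n : ℤ) : Function.Injective (Th φ L K n) := by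
  intro z z' hzz'
  rw [← sub_eq_zero] at hzz' ⊢
  rw [← Th_sub] at hzz'
  apply eq_zero_of_components
  intro p q hpq
  change prR φ L K p q n (z - z') = 0
  apply th_injective φ L K p q
  rw [← prE_Th, hzz', map_zero, th_zero]

lemma Th_surjective (n : ℤ) (z' : (L ⊗ (extC φ).obj K).X n) :
    ∃ z : (((rsC φ).obj L) ⊗ K).X n, Th φ L K n z = z' := by
  let T : Submodule R' ((L ⊗ (extC φ).obj K).X n) :=
    { carrier := {y | ∀ a : R', ∃ z : (((rsC φ).obj L) ⊗ K).X n, Th φ L K n z = a • y}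
      add_mem' := by
        intro x y hx hy a
        obtain ⟨z₁, h₁⟩ := hx a
        obtain ⟨z₂, h₂⟩ := hy a
        exact ⟨z₁ + z₂, by rw [Th_add, h₁, h₂, smul_add]⟩
      zero_mem' := fun a => ⟨0, by rw [Th_zero, smul_zero]⟩
      smul_mem' := by
        intro b x hx a
        obtain ⟨z₁, h₁⟩ := hx (a * b)
        exact ⟨z₁, by rw [h₁, mul_smul]⟩ }
  have hz' : z' ∈ T := by
    apply mem_of_components
    intro p q hpq a
    obtain ⟨t, ht⟩ := th_surjective φ L K p q (a • prE φ L K p q n z')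
    refine ⟨ιR φ L K p q n hpq t, ?_⟩
    rw [Th_ιR, ht, map_smul]
    rfl
  obtain ⟨z, hz⟩ := hz' 1
  exact ⟨z, by rw [hz, one_smul]⟩

/-- exactness is preserved by restriction of scalars -/
lemma exactAt_rsC (i : ℤ) (h : L.ExactAt i) : ((rsC φ).obj L).ExactAt i := by
  apply exactAt_of_elements
  intro z hz
  exact elements_of_exactAt L i h z hz

theorem exactAt_tensor_extC (hK : KFl K) (hL : ∀ i : ℤ, L.ExactAt i) (n : ℤ) :
    (L ⊗ (extC φ).obj K).ExactAt n := by
  apply exactAt_of_elements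
  intro z' hz'
  obtain ⟨z, rfl⟩ := Th_surjective φ L K n z'
  have hz : (((rsC φ).obj L) ⊗ K).d n (n + 1) z = 0 := by
    apply Th_injective φ L K (n + 1)
    rw [← d_Th φ L K n (n + 1) rfl, hz', Th_zero]
  have hex : (((rsC φ).obj L) ⊗ K).ExactAt n :=
    (HomologicalComplex.exactAt_iff_isZero_homology _ _).mpr
      (hK ((rsC φ).obj L) (fun i => (HomologicalComplex.exactAt_iff_isZero_homology _ _).mp
        (exactAt_rsC φ L i (hL i))) n)
  obtain ⟨w, hw⟩ := elements_of_exactAt _ n hex z hz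
  refine ⟨Th φ L K (n - 1) w, ?_⟩
  rw [d_Th φ L K (n - 1) n (by omega), hw]

theorem KFl.extC (hK : KFl K) : KFl ((extC φ).obj K) := by
  intro L hL i
  rw [← HomologicalComplex.exactAt_iff_isZero_homology]
  exact exactAt_tensor_extC φ L K hK
    (fun j => (HomologicalComplex.exactAt_iff_isZero_homology _ _).mpr (hL j)) i

end Complexes

end Groth.Agent.Helper5.KF
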