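import Groth.Agent.Lib.Helper5.SkyMod1
import Groth.Agent.Lib.Helper5.KFlat6

/-!
# The stalk functor is left adjoint to the skyscraper functor; stalks of pullbacks
-/

set_option autoImplicit false
set_option linter.unusedSectionVars false
set_option linter.unusedVariables false
set_option linter.style.haveILetI false

universe u

open CategoryTheory CategoryTheory.Limits AlgebraicGeometry Opposite TopologicalSpace

namespace Groth.Agent.Helper5.Sky

open Groth.Agent.Helper13.QCoh

variable {X : Scheme.{u}} (x : X)

/-- the stalk as a module, abbreviation -/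
noncomputable abbrev St (F : X.Modules) : ModuleCat.{u} (X.presheaf.stalk x) :=
  (DerSch.stalkFunctor X x).obj F

/-- the unit on sections: a section goes to its germ -/
noncomputable def unitSec (F : X.Modules) (U : X.Opens) (s : Γ(F, U)) : Sec x (St x F) U :=
  fun h => F.presheaf.germ U x h.down s

/-- the unit of the adjunction, on presheaves of modules -/
noncomputable def unitPre (F : X.Modules) : F.val ⟶ skyPre x (St x F) :=
  PresheafOfModules.homMk
    { app := fun U => AddCommGrpCat.ofHom
        { toFun := fun s => unitSec x F U.unop s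
          map_zero' := by funext h; exact map_zero (F.presheaf.germ U.unop x h.down).hom
          map_add' := fun s t => by
            funext h
            exact map_add (F.presheaf.germ U.unop x h.down).hom s t }
      naturality := fun U V f => by
        ext s
        funext h
        exact TopCat.Presheaf.germ_res_apply F.presheaf f.unop x h.down s }
    (by
      intro U r s
      funext h
      exact Groth.Agent.Helper13.Tensor.germ_smul F U.unop x h.down r s)

/-- the unit of the adjunction -/
noncomputable def unitHom (F : X.Modules) : F ⟶ sky x (St x F) :=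
  SheafOfModules.Hom.mk (unitPre x F)

lemma unitHom_app_apply (F : X.Modules) (U : X.Opens) (s : Γ(F, U)) (h : PLift (x ∈ U)) :
    ((unitHom x F).app U s : Sec x (St x F) U) h = F.presheaf.germ U x h.down s := rfl

lemma unit_naturality {F G : X.Modules} (φ : F ⟶ G) :
    φ ≫ unitHom x G = unitHom x F ≫ skyMap x ((DerSch.stalkFunctor X x).map φ) := by
  apply Scheme.Modules.hom_ext
  intro U
  ext s
  funext h
  exact (stalkMap_germ φ x U h.down s).symm

/-- the unit as a natural transformation -/
noncomputable def unitNat : 𝟭 X.Modules ⟶ DerSch.stalkFunctor X x ⋙ skyF x where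
  app F := unitHom x F
  naturality F G φ := unit_naturality x φ

/-- the counit as a natural transformation -/
noncomputable def counitNat : skyF x ⋙ DerSch.stalkFunctor X x ⟶ 𝟭 _ := (skyStalkIso x).inv

lemma counit_germ (M : ModuleCat.{u} (X.presheaf.stalk x)) (U : X.Opens) (hx : x ∈ U)
    (t : Sec x M U) :
    (counitNat x).app M ((sky x M).presheaf.germ U x hx t) = t ⟨hx⟩ := by
  have h1 : (sky x M).presheaf.germ U x hx t = ηHom x M (t ⟨hx⟩) := by
    rw [ηHom_apply, ηfun_eq x M U hx]
    exact congrArg _ (sec_eq_cst x M U hx t)
  rw [h1]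
  exact congr($((skyStalkIso x).hom_inv_id_app M) (t ⟨hx⟩))

/-- the stalk functor is left adjoint to the skyscraper functor -/
noncomputable def stalkSkyAdj : DerSch.stalkFunctor X x ⊣ skyF x :=
  Adjunction.mkOfUnitCounit
    { unit := unitNat x
      counit := counitNat x
      left_triangle := by
        ext F : 2
        ext t
        obtain ⟨U, hx, s, rfl⟩ := TopCat.Presheaf.exists_germ_eq F.presheaf t
        change (counitNat x).app (St x F)
          (stalkMap (unitHom x F) x (F.presheaf.germ U x hx s)) = F.presheaf.germ U x hx s
        rw [stalkMap_germ]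
        exact counit_germ x (St x F) U hx ((unitHom x F).app U s)
      right_triangle := by
        ext M : 2
        apply Scheme.Modules.hom_ext
        intro U
        ext s
        funext h
        exact counit_germ x M U h.down s }

end Groth.Agent.Helper5.Sky

namespace Groth.Agent.Helper5.Sky

open Groth.Agent.Helper13.QCoh

variable {X Y : Scheme.{u}} (f : X ⟶ Y) (x : X)

/-- the stalk map as a ring homomorphism -/
noncomputable abbrev φst : (Y.presheaf.stalk (f.base x)) →+* (X.presheaf.stalk x) :=
  (f.stalkMap x).hom

variable (M : ModuleCat.{u} (X.presheaf.stalk x))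

lemma gm_pushforward (V : Y.Opens) (h : PLift (f.base x ∈ V)) (r : Γ(Y, V)) :
    φst f x (Y.presheaf.germ V (f.base x) h.down r) =
      X.presheaf.germ (f ⁻¹ᵁ V) x h.down (f.app V r) :=
  Scheme.Hom.germ_stalkMap_apply f V x h.down r

/-- the comparison, forward direction, on presheaves of modules -/
noncomputable def pushSkyPreHom :
    ((Scheme.Modules.pushforward f).obj (sky x M)).val ⟶
      skyPre (f.base x) ((ModuleCat.restrictScalars (φst f x)).obj M) :=
  PresheafOfModules.homMk
    { app := fun V => AddCommGrpCat.ofHom
        { toFun := fun s h => (s : Sec x M (f ⁻¹ᵁ V.unop)) ⟨h.down⟩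
          map_zero' := rfl
          map_add' := fun _ _ => rfl }
      naturality := fun U V g => rfl }
    (by
      intro V r s
      funext h
      change gm x (op (f ⁻¹ᵁ V.unop)) ⟨h.down⟩ (f.app V.unop r) • (s : Sec x M (f ⁻¹ᵁ V.unop)) ⟨h.down⟩ =
        φst f x (gm (f.base x) V h r) • (s : Sec x M (f ⁻¹ᵁ V.unop)) ⟨h.down⟩
      rw [gm, gm]
      erw [gm_pushforward f x V.unop h r]
      rfl)

/-- the comparison, backward direction, on presheaves of modules -/
noncomputable def pushSkyPreInv :
    skyPre (f.base x) ((ModuleCat.restrictScalars (φst f x)).obj M) ⟶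
      ((Scheme.Modules.pushforward f).obj (sky x M)).val :=
  PresheafOfModules.homMk
    { app := fun V => AddCommGrpCat.ofHom
        { toFun := fun s => ((fun h => s ⟨h.down⟩ : Sec x M (f ⁻¹ᵁ V.unop)))
          map_zero' := rfl
          map_add' := fun _ _ => rfl }
      naturality := fun U V g => rfl }
    (by
      intro V r s
      funext h
      change φst f x (gm (f.base x) V ⟨h.down⟩ r) • s ⟨h.down⟩ =
        gm x (op (f ⁻¹ᵁ V.unop)) h (f.app V.unop r) • s ⟨h.down⟩
      rw [gm, gm]
      erw [gm_pushforward f x V.unop ⟨h.down⟩ r]
      rfl)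

/-- the pushforward of a skyscraper module is a skyscraper module -/
noncomputable def pushSkyIso :
    (Scheme.Modules.pushforward f).obj (sky x M) ≅
      sky (f.base x) ((ModuleCat.restrictScalars (φst f x)).obj M) where
  hom := SheafOfModules.Hom.mk (pushSkyPreHom f x M)
  inv := SheafOfModules.Hom.mk (pushSkyPreInv f x M)
  hom_inv_id := by
    apply Scheme.Modules.hom_ext
    intro U
    ext s
    rfl
  inv_hom_id := by
    apply Scheme.Modules.hom_ext
    intro U
    ext s
    rfl

/-- the pushforward of skyscraper modules, as a natural isomorphism -/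
noncomputable def pushSkyNatIso :
    skyF x ⋙ Scheme.Modules.pushforward f ≅
      ModuleCat.restrictScalars (φst f x) ⋙ skyF (f.base x) :=
  NatIso.ofComponents (fun M => pushSkyIso f x M) (by
    intro M N g
    apply Scheme.Modules.hom_ext
    intro U
    ext s
    rfl)

/-- the stalk of a pullback is the base change of the stalk -/
noncomputable def pullbackStalkIso :
    Scheme.Modules.pullback f ⋙ DerSch.stalkFunctor X x ≅
      DerSch.stalkFunctor Y (f.base x) ⋙ ModuleCat.extendScalars (φst f x) :=
  ((Scheme.Modules.pullbackPushforwardAdjunction f).comp (stalkSkyAdj x)).leftAdjointUniq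
    (((stalkSkyAdj (f.base x)).comp (ModuleCat.extendRestrictScalarsAdj (φst f x))).ofNatIsoRight
      (pushSkyNatIso f x).symm)

end Groth.Agent.Helper5.Sky

namespace Groth.Agent.Helper5.Sky

variable {X Y : Scheme.{u}}

theorem isKFlat_pullback (f : X ⟶ Y) (K : CochainComplex Y.Modules ℤ) (hK : DCoh.IsKFlat K) :
    DCoh.IsKFlat (((Scheme.Modules.pullback f).mapHomologicalComplex
      (ComplexShape.up ℤ)).obj K) := by
  apply StalkCx.isKFlat_of_stalks
  intro x
  have h1 := isKFlat_stalk (f.base x) K hK
  have h2 := KF.KFl.extC (φst f x) _ h1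
  have e : (KF.extC (φst f x)).obj (StalkCx.stalkCx (f.base x) K) ≅
      StalkCx.stalkCx x (((Scheme.Modules.pullback f).mapHomologicalComplex
        (ComplexShape.up ℤ)).obj K) :=
    ((NatIso.mapHomologicalComplex (pullbackStalkIso f x) (ComplexShape.up ℤ)).app K).symm
  exact KF.KFl.of_homotopyEquiv (HomotopyEquiv.ofIso e) h2

end Groth.Agent.Helper5.Sky
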