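import Groth.Agent.Lib.Helper5.KFlat2

/-!
# Short exact sequences of complexes tensored with a complex; two-out-of-three for acyclicity
-/

set_option autoImplicit false
set_option linter.unusedSectionVars false
set_option linter.unusedVariables false
set_option linter.style.haveILetI false

universe u

open CategoryTheory CategoryTheory.Limits MonoidalCategory HomologicalComplex

namespace Groth.Agent.Helper5.KF

variable {A : Type u} [CommRing A]

lemma whiskerLeft_zero' (L : DRing.Cx A) (X Y : DRing.Cx A) : L ◁ (0 : X ⟶ Y) = 0 := by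
  ext n : 1
  apply hom_ext'
  intro p q hpq
  rw [ι_whiskerLeft]
  simp

lemma whiskerRight_zero' (L : DRing.Cx A) (X Y : DRing.Cx A) : (0 : X ⟶ Y) ▷ L = 0 := by
  ext n : 1
  apply hom_ext'
  intro p q hpq
  rw [ι_whiskerRight]
  simp

/-- the short complex `L ⊗ S` -/
noncomputable def tensorSC (L : DRing.Cx A) (S : ShortComplex (DRing.Cx A)) :
    ShortComplex (DRing.Cx A) :=
  ShortComplex.mk (L ◁ S.f) (L ◁ S.g)
    (by rw [← MonoidalCategory.whiskerLeft_comp, S.zero, whiskerLeft_zero'])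

/-- the short complex `S ⊗ L` -/
noncomputable def tensorSCR (L : DRing.Cx A) (S : ShortComplex (DRing.Cx A)) :
    ShortComplex (DRing.Cx A) :=
  ShortComplex.mk (S.f ▷ L) (S.g ▷ L)
    (by rw [← MonoidalCategory.comp_whiskerRight, S.zero, whiskerRight_zero'])

section
variable (L : DRing.Cx A) {X₁ X₂ X₃ : DRing.Cx A} (f : X₁ ⟶ X₂) (g : X₂ ⟶ X₃)

lemma injective_whiskerLeft_f (hinj : ∀ p q : ℤ, Function.Injective (L.X p ◁ f.f q)) (n : ℤ) :
    Function.Injective ((L ◁ f).f n) := by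
  intro z z' hzz'
  rw [← sub_eq_zero] at hzz' ⊢
  rw [← map_sub] at hzz'
  apply eq_zero_of_components
  intro p q hpq
  apply hinj p q
  rw [map_zero, ← pr_whiskerLeft_apply, hzz', map_zero]

lemma surjective_whiskerLeft_f (hsurj : ∀ p q : ℤ, Function.Surjective (L.X p ◁ g.f q)) (n : ℤ) :
    Function.Surjective ((L ◁ g).f n) := by
  intro z
  let T : Submodule A ((L ⊗ X₃).X n) := LinearMap.range ((L ◁ g).f n).hom
  change z ∈ T
  apply mem_of_components
  intro p q hpq
  obtain ⟨s, hs⟩ := hsurj p q (pr L X₃ p q n z)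
  refine ⟨ι L X₂ p q n hpq s, ?_⟩
  change (L ◁ g).f n (ι L X₂ p q n hpq s) = _
  rw [whiskerLeft_ι_apply, hs]

lemma exact_whiskerLeft_f (hfg : f ≫ g = 0)
    (hex : ∀ p q : ℤ, Function.Exact (L.X p ◁ f.f q) (L.X p ◁ g.f q)) (n : ℤ) :
    Function.Exact ((L ◁ f).f n) ((L ◁ g).f n) := by
  intro z
  constructor
  · intro hz
    let T : Submodule A ((L ⊗ X₂).X n) := LinearMap.range ((L ◁ f).f n).hom
    change z ∈ T
    apply mem_of_components
    intro p q hpq
    have h1 : (L.X p ◁ g.f q) (pr L X₂ p q n z) = 0 := by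
      rw [← pr_whiskerLeft_apply, hz, map_zero]
    obtain ⟨s, hs⟩ := (hex p q _).mp h1
    refine ⟨ι L X₁ p q n hpq s, ?_⟩
    change (L ◁ f).f n (ι L X₁ p q n hpq s) = _
    rw [whiskerLeft_ι_apply, hs]
  · rintro ⟨w, rfl⟩
    have : L ◁ f ≫ L ◁ g = 0 := by
      rw [← MonoidalCategory.whiskerLeft_comp, hfg, whiskerLeft_zero']
    exact app (congrArg (fun φ => φ.f n) this) w

end

theorem shortExact_tensorSC (L : DRing.Cx A) (S : ShortComplex (DRing.Cx A))
    (hinj : ∀ p q : ℤ, Function.Injective (L.X p ◁ S.f.f q))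
    (hsurj : ∀ p q : ℤ, Function.Surjective (L.X p ◁ S.g.f q))
    (hex : ∀ p q : ℤ, Function.Exact (L.X p ◁ S.f.f q) (L.X p ◁ S.g.f q)) :
    (tensorSC L S).ShortExact := by
  apply HomologicalComplex.shortExact_of_degreewise_shortExact
  intro n
  exact ModuleCat.shortComplex_shortExact _ (exact_whiskerLeft_f L S.f S.g S.zero hex n)
    (injective_whiskerLeft_f L S.f hinj n) (surjective_whiskerLeft_f L S.g hsurj n)

/-- two-out-of-three for acyclicity in a short exact sequence of complexes -/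
theorem acyclic_of_shortExact (S : ShortComplex (DRing.Cx A)) (hS : S.ShortExact) :
    ((∀ i, IsZero (S.X₁.homology i)) → (∀ i, IsZero (S.X₂.homology i)) →
      ∀ i, IsZero (S.X₃.homology i)) ∧
    ((∀ i, IsZero (S.X₁.homology i)) → (∀ i, IsZero (S.X₃.homology i)) →
      ∀ i, IsZero (S.X₂.homology i)) ∧
    ((∀ i, IsZero (S.X₂.homology i)) → (∀ i, IsZero (S.X₃.homology i)) →
      ∀ i, IsZero (S.X₁.homology i)) := by
  refine ⟨fun h1 h2 i => ?_, fun h1 h3 i => ?_, fun h2 h3 i => ?_⟩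
  · exact (hS.homology_exact₃ i (i + 1) rfl).isZero_of_both_zeros
      ((h2 i).eq_of_src _ _) ((h1 (i + 1)).eq_of_tgt _ _)
  · exact (hS.homology_exact₂ i).isZero_of_both_zeros
      ((h1 i).eq_of_src _ _) ((h3 i).eq_of_tgt _ _)
  · exact (hS.homology_exact₁ (i - 1) i (by simp)).isZero_of_both_zeros
      ((h3 (i - 1)).eq_of_src _ _) ((h2 i).eq_of_tgt _ _)

end Groth.Agent.Helper5.KF
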