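import Groth.Agent.Lib.Helper5.StalkCx3
import Groth.Agent.Lib.Helper5.KFlat3

/-!
# Exactness is detected on stalks; tensoring a short exact sequence with flat cokernel
-/

set_option autoImplicit false
set_option linter.unusedSectionVars false
set_option linter.unusedVariables false
set_option linter.style.haveILetI false

universe u

open CategoryTheory CategoryTheory.Limits AlgebraicGeometry MonoidalCategory

namespace Groth.Agent.Helper5.StalkCx

variable {X : Scheme.{u}}

theorem exact_of_stalks (S : ShortComplex X.Modules)
    (h : ∀ x : X, (S.map (DerSch.stalkFunctor X x)).Exact) : S.Exact := by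
  rw [ShortComplex.exact_iff_isZero_homology]
  apply isZero_of_stalks
  intro x
  have := (ShortComplex.exact_iff_isZero_homology _).mp (h x)
  exact IsZero.of_iso this (S.mapHomologyIso (DerSch.stalkFunctor X x)).symm

theorem mono_of_stalks {A B : X.Modules} (f : A ⟶ B)
    (h : ∀ x : X, Mono ((DerSch.stalkFunctor X x).map f)) : Mono f := by
  let S : ShortComplex X.Modules := ShortComplex.mk (0 : A ⟶ A) f zero_comp
  have hS : S.Exact := by
    apply exact_of_stalks
    intro x
    rw [ShortComplex.exact_iff_mono _ ((DerSch.stalkFunctor X x).map_zero _ _)]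
    exact h x
  exact (S.exact_iff_mono rfl).mp hS

theorem epi_of_stalks {A B : X.Modules} (f : A ⟶ B)
    (h : ∀ x : X, Epi ((DerSch.stalkFunctor X x).map f)) : Epi f := by
  let S : ShortComplex X.Modules := ShortComplex.mk f (0 : B ⟶ B) comp_zero
  have hS : S.Exact := by
    apply exact_of_stalks
    intro x
    rw [ShortComplex.exact_iff_epi _ ((DerSch.stalkFunctor X x).map_zero _ _)]
    exact h x
  exact (S.exact_iff_epi rfl).mp hS

theorem shortExact_of_stalks (S : ShortComplex X.Modules)
    (h : ∀ x : X, (S.map (DerSch.stalkFunctor X x)).ShortExact) : S.ShortExact :=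
  { exact := exact_of_stalks S (fun x => (h x).exact)
    mono_f := mono_of_stalks S.f (fun x => (h x).mono_f)
    epi_g := epi_of_stalks S.g (fun x => (h x).epi_g) }

theorem shortExact_cx_of_stalks (S : ShortComplex (CochainComplex X.Modules ℤ))
    (h : ∀ x : X, (S.map ((DerSch.stalkFunctor X x).mapHomologicalComplex
      (ComplexShape.up ℤ))).ShortExact) : S.ShortExact := by
  apply HomologicalComplex.shortExact_of_degreewise_shortExact
  intro n
  apply shortExact_of_stalks
  intro x
  exact (HomologicalComplex.shortExact_iff_degreewise_shortExact _).mp (h x) n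

/-- ring level: tensoring a short exact sequence of complexes with termwise flat cokernel -/
theorem shortExact_tensorSC_of_flat {R : Type u} [CommRing R] (S : ShortComplex (DRing.Cx R))
    (hS : S.ShortExact) (h3 : ∀ q : ℤ, Module.Flat R (S.X₃.X q)) (L : DRing.Cx R) :
    (KF.tensorSC L S).ShortExact := by
  have hdeg := (HomologicalComplex.shortExact_iff_degreewise_shortExact S).mp hS
  have hinjq : ∀ q : ℤ, Function.Injective (S.f.f q) := fun q => (hdeg q).moduleCat_injective_f
  have hsurjq : ∀ q : ℤ, Function.Surjective (S.g.f q) := fun q => (hdeg q).moduleCat_surjective_g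
  have hexq : ∀ q : ℤ, Function.Exact (S.f.f q) (S.g.f q) := fun q =>
    (ShortComplex.ShortExact.moduleCat_exact_iff_function_exact _).mp (hdeg q).exact
  apply KF.shortExact_tensorSC
  · intro p q
    haveI := h3 q
    exact LinearMap.lTensor_injective_of_exact_of_flat (S.g.f q).hom (hsurjq q) (S.f.f q).hom
      (hinjq q) (hexq q) (L.X p)
  · intro p q
    exact LinearMap.lTensor_surjective (L.X p) (hsurjq q)
  · intro p q
    exact lTensor_exact (L.X p) (hexq q) (hsurjq q)

/-- the comparison of short complexes -/
noncomputable def tensSCStalkIso (x : X) (L : CochainComplex X.Modules ℤ)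
    (S : ShortComplex (CochainComplex X.Modules ℤ)) :
    KF.tensorSC (stalkCx x L) (S.map ((DerSch.stalkFunctor X x).mapHomologicalComplex
      (ComplexShape.up ℤ))) ≅
    (KFA.tensSC (DCoh.tensorBi (X := X)) L S).map
      ((DerSch.stalkFunctor X x).mapHomologicalComplex (ComplexShape.up ℤ)) :=
  ShortComplex.isoMk (stalkTensIso x L S.X₁) (stalkTensIso x L S.X₂) (stalkTensIso x L S.X₃)
    ((stalkBiComm x).ΦC_naturality_right L S.f).symm
    ((stalkBiComm x).ΦC_naturality_right L S.g).symm

/-- sheaf level: tensoring a short exact sequence of complexes with termwise flat cokernel -/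
theorem shortExact_tensSC_of_flat (S : ShortComplex (CochainComplex X.Modules ℤ))
    (hS : S.ShortExact) (h3 : ∀ n : ℤ, FlatMod.IsFlat (S.X₃.X n))
    (L : CochainComplex X.Modules ℤ) :
    (KFA.tensSC (DCoh.tensorBi (X := X)) L S).ShortExact := by
  apply shortExact_cx_of_stalks
  intro x
  refine ShortComplex.shortExact_of_iso (tensSCStalkIso x L S) ?_
  apply shortExact_tensorSC_of_flat
  · exact hS.map_of_exact _
  · intro q
    exact h3 q x

end Groth.Agent.Helper5.StalkCx
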