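import Groth.Agent.Lib.Helper18.QCohBiprod

/-!
# Coproducts of quasi-coherent modules are quasi-coherent
-/

set_option autoImplicit false
set_option linter.unusedSectionVars false
set_option linter.unusedVariables false
set_option linter.style.haveILetI false

universe u

open CategoryTheory CategoryTheory.Limits AlgebraicGeometry Opposite TopologicalSpace

namespace Groth.Agent.Helper5.QCS

theorem isIso_fromTildeΓ_sigma {R : CommRingCat.{u}} {ι : Type u} (E : ι → (Spec R).Modules)
    (hE : ∀ i, IsIso (E i).fromTildeΓ) : IsIso (∐ E).fromTildeΓ := by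
  simp only [isIso_fromTildeΓ_iff] at hE ⊢
  choose N hN using hE
  have iN : ∀ i, (tilde.functor R).obj (N i) ≅ E i := fun i => (hN i).some
  exact ⟨∐ N, ⟨PreservesCoproduct.iso (tilde.functor R) N ≪≫ Sigma.mapIso iN⟩⟩

theorem isQuasicoherent_sigma {X : Scheme.{u}} {ι : Type u} (M : ι → X.Modules)
    (hM : ∀ i, (M i).IsQuasicoherent) : (∐ M).IsQuasicoherent := by
  apply Groth.Agent.Helper13.QCohLocal.isQuasicoherent_of_restrict_fromSpec
  intro U
  haveI : IsOpenImmersion U.2.fromSpec := IsAffineOpen.isOpenImmersion_fromSpec U.2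
  let G := Scheme.Modules.restrictFunctor U.2.fromSpec
  haveI : G.IsLeftAdjoint := (Scheme.Modules.restrictAdjunction U.2.fromSpec).isLeftAdjoint
  have e : G.obj (∐ M) ≅ ∐ (fun i => G.obj (M i)) := PreservesCoproduct.iso G M
  have hE : ∀ i, (G.obj (M i)).IsQuasicoherent := fun i =>
    haveI := hM i
    inferInstanceAs (((M i).restrict U.2.fromSpec).IsQuasicoherent)
  have h3 : IsIso (∐ (fun i => G.obj (M i))).fromTildeΓ :=
    isIso_fromTildeΓ_sigma _ (fun i => (isQuasicoherent_iff_isIso_fromTildeΓ _).mp (hE i))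
  have h4 : (∐ (fun i => G.obj (M i))).IsQuasicoherent :=
    (isQuasicoherent_iff_isIso_fromTildeΓ _).mpr h3
  exact Groth.Agent.Helper18.QCohBiprod.isQuasicoherent_of_iso' e.symm h4

end Groth.Agent.Helper5.QCS
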