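import Groth.Agent.Lib.Helper5.K0Der2
import Groth.Agent.S9514
import Groth.Agent.Lib.Helper13.PullbackEpi
import Groth.Agent.Lib.Helper13.QCohAss

/-!
# Coherent modules on a locally Noetherian scheme form a thick class; `K₀(Coh) ≅ K₀(D^b_Coh)`
-/

set_option autoImplicit false
set_option linter.style.haveILetI false

open CategoryTheory CategoryTheory.Limits AlgebraicGeometry ZeroObject

universe u

namespace Groth.Agent.Helper5.K0Coh

variable (X : Scheme.{u})

/-- The coherent modules, as an object property. -/
def cohP : ObjectProperty X.Modules := fun M => Coh.IsCoh M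

variable {X}

theorem isFiniteType_of_isZero {M : X.Modules} (hM : IsZero M) :
    SheafOfModules.IsFiniteType (R := X.ringCatSheaf) M := by
  apply Groth.Agent.Helper13.FinType.isFiniteType_of_genOn
  intro x
  refine ⟨⊤, trivial, PEmpty, inferInstance, PEmpty.elim, ?_⟩
  intro y hy
  have hs : Subsingleton (M.presheaf.stalk y) := by
    have h := (Groth.Agent.Helper13.Pullback.isZero_iff_support_eq_empty M).1 hM
    by_contra hc
    have : y ∈ CohB1.support M := hc
    rw [h] at this
    exact this
  rw [eq_top_iff]
  intro z _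
  rw [Subsingleton.elim z 0]
  exact zero_mem _

theorem isQuasicoherent_of_isZero {M : X.Modules} (hM : IsZero M) : M.IsQuasicoherent := by
  haveI := Groth.Agent.Helper13.QCoh.isQuasicoherent_unit X
  haveI : (kernel (𝟙 (SheafOfModules.unit X.ringCatSheaf))).IsQuasicoherent :=
    Groth.Agent.Helper13.QCohLocal.isQuasicoherent_kernel _
  have hz : IsZero (kernel (𝟙 (SheafOfModules.unit X.ringCatSheaf))) :=
    isZero_kernel_of_mono _
  exact Groth.Agent.Helper13.QCohLocal.isQuasicoherent_of_iso (hz.iso hM)

theorem isCoh_of_isZero {M : X.Modules} (hM : IsZero M) : Coh.IsCoh M :=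
  ⟨isQuasicoherent_of_isZero hM, isFiniteType_of_isZero hM⟩

theorem isCoh_of_iso {M N : X.Modules} (e : M ≅ N) (hM : Coh.IsCoh M) : Coh.IsCoh N := by
  haveI : M.IsQuasicoherent := hM.1
  haveI : SheafOfModules.IsFiniteType (R := X.ringCatSheaf) M := hM.2
  exact ⟨Groth.Agent.Helper13.QCohLocal.isQuasicoherent_of_iso e,
    Groth.Agent.Helper13.FinType.isFiniteType_of_epi e.hom⟩

instance : (cohP X).IsClosedUnderIsomorphisms where
  of_iso e h := isCoh_of_iso e h

instance : (cohP X).ContainsZero where
  exists_zero := ⟨0, isZero_zero _, isCoh_of_isZero (isZero_zero _)⟩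

instance [IsLocallyNoetherian X] : (cohP X).IsClosedUnderKernels where
  kernels_le := by
    rintro _ ⟨f, k, hk, ⟨hX, hY⟩⟩
    have h := (Groth.Agent.S9514.result X hX hY f).1
    exact isCoh_of_iso (IsLimit.conePointUniqueUpToIso (kernelIsKernel f) hk) h

end Groth.Agent.Helper5.K0Coh
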