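import Groth.Agent.Lib.Helper5.LDer5

/-!
# Recognition of K-level left derived functors; composition of derived pullbacks
-/

set_option autoImplicit false
set_option linter.unusedSectionVars false
set_option linter.unusedVariables false
set_option linter.style.haveILetI false

universe v' u' u

open CategoryTheory CategoryTheory.Limits AlgebraicGeometry

attribute [local instance] HasDerivedCategory.standard

namespace Groth.Agent.Helper5.LDer

section Recog

variable {Y : Scheme.{u}} {H : Type u'} [Category.{v'} H]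
  (F : HomotopyCategory Y.Modules (ComplexShape.up ℤ) ⥤ H)
  (hF : InvertsKFlatQis (HomotopyCategory.quotient Y.Modules (ComplexShape.up ℤ) ⋙ F))

include hF in
/-- recognition of K-level left derived functors -/
theorem isLeftDerivedFunctor_K_of_isIso (G : DerivedCategory Y.Modules ⥤ H)
    (β : DerivedCategory.Qh ⋙ G ⟶ F)
    (hβ : ∀ K : CochainComplex Y.Modules ℤ, DCoh.IsKFlat K →
      IsIso (β.app ((HomotopyCategory.quotient Y.Modules (ComplexShape.up ℤ)).obj K))) :
    G.IsLeftDerivedFunctor β (HomotopyCategory.quasiIso Y.Modules (ComplexShape.up ℤ)) := by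
  let βC : (HomotopyCategory.quotient Y.Modules (ComplexShape.up ℤ) ⋙ DerivedCategory.Qh) ⋙ G ⟶
      HomotopyCategory.quotient Y.Modules (ComplexShape.up ℤ) ⋙ F :=
    { app := fun K => β.app ((HomotopyCategory.quotient Y.Modules (ComplexShape.up ℤ)).obj K)
      naturality := fun K L g =>
        β.naturality ((HomotopyCategory.quotient Y.Modules (ComplexShape.up ℤ)).map g) }
  have h1 : G.IsLeftDerivedFunctor βC
      (HomologicalComplex.quasiIso Y.Modules (ComplexShape.up ℤ)) :=
    isLeftDerivedFunctor_of_isIso _ _ _ (KP Y) (Kψ Y) hψ_cx (hPF_cx _ hF) (hF'_cx _ hF) G βC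
      (fun X => hβ _ (KP_isKFlat X))
  haveI : G.IsRightKanExtension βC := h1.isRightKanExtension
  have h2 := isRightKanExtension_descα (HomotopyCategory.quotient Y.Modules (ComplexShape.up ℤ))
    (HomologicalComplex.homotopyEquivalences _ _) DerivedCategory.Qh F G βC
  have h3 : descα (HomotopyCategory.quotient Y.Modules (ComplexShape.up ℤ))
      (HomologicalComplex.homotopyEquivalences _ _) DerivedCategory.Qh F G βC = β := by
    apply Localization.natTrans_ext (HomotopyCategory.quotient Y.Modules (ComplexShape.up ℤ))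
      (HomologicalComplex.homotopyEquivalences _ _)
    intro K
    exact descα_app _ _ _ _ _ _ K
  rw [h3] at h2
  exact ⟨h2⟩

end Recog

section Comp

variable {X Y Z : Scheme.{u}} (f : X ⟶ Y) (g : Y ⟶ Z)
  [DCoh.HasLpull f] [DCoh.HasLpull g] [DCoh.HasLpull (f ≫ g)]

/-- the counit of the derived pullback -/
noncomputable abbrev LpullCounit {X Y : Scheme.{u}} (f : X ⟶ Y) [DCoh.HasLpull f] :
    DerivedCategory.Qh ⋙ DCoh.Lpull f ⟶ DCoh.pullKh f :=
  (DCoh.pullKh f).totalLeftDerivedCounit DerivedCategory.Qh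
    (HomotopyCategory.quasiIso Y.Modules (ComplexShape.up ℤ))

lemma isIso_LpullCounit {X Y : Scheme.{u}} (f : X ⟶ Y) [DCoh.HasLpull f]
    (K : CochainComplex Y.Modules ℤ) (hK : DCoh.IsKFlat K) :
    IsIso ((LpullCounit f).app ((HomotopyCategory.quotient Y.Modules (ComplexShape.up ℤ)).obj K)) :=
  isIso_counit_K (DCoh.pullKh f) (invertsKFlatQis_pullKh f) (DCoh.Lpull f) (LpullCounit f) K hK

/-- the comparison iso on homotopy categories -/
noncomputable def pullKhComp :
    (Scheme.Modules.pullback g).mapHomotopyCategory (ComplexShape.up ℤ) ⋙ DCoh.pullKh f ≅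
      DCoh.pullKh (f ≫ g) :=
  (Functor.associator _ _ _).symm ≪≫
    Functor.isoWhiskerRight (Functor.mapHomotopyCategoryCompIso
      (Scheme.Modules.pullbackComp f g) (ComplexShape.up ℤ)) DerivedCategory.Qh

/-- the natural transformation exhibiting `Lg^* ⋙ Lf^*` as a left derived functor -/
noncomputable def compβ : DerivedCategory.Qh ⋙ (DCoh.Lpull g ⋙ DCoh.Lpull f) ⟶
    DCoh.pullKh (f ≫ g) :=
  (Functor.associator _ _ _).inv ≫ Functor.whiskerRight (LpullCounit g) (DCoh.Lpull f) ≫
    (Functor.associator _ _ _).hom ≫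
    Functor.whiskerLeft ((Scheme.Modules.pullback g).mapHomotopyCategory (ComplexShape.up ℤ))
      (LpullCounit f) ≫ (pullKhComp f g).hom

lemma isIso_compβ_app (K : CochainComplex Z.Modules ℤ) (hK : DCoh.IsKFlat K) :
    IsIso ((compβ f g).app ((HomotopyCategory.quotient Z.Modules (ComplexShape.up ℤ)).obj K)) := by
  haveI := isIso_LpullCounit g K hK
  haveI : IsIso ((LpullCounit f).app (((Scheme.Modules.pullback g).mapHomotopyCategory
      (ComplexShape.up ℤ)).obj ((HomotopyCategory.quotient Z.Modules (ComplexShape.up ℤ)).obj K))) :=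
    isIso_LpullCounit f _ (Sky.isKFlat_pullback g K hK)
  simp only [compβ, NatTrans.comp_app, Functor.associator_inv_app, Functor.associator_hom_app,
    Functor.whiskerRight_app, Functor.whiskerLeft_app, Category.id_comp]
  infer_instance

theorem Lpull_comp_iso : Nonempty (DCoh.Lpull g ⋙ DCoh.Lpull f ≅ DCoh.Lpull (f ≫ g)) := by
  haveI : (DCoh.Lpull g ⋙ DCoh.Lpull f).IsLeftDerivedFunctor (compβ f g)
      (HomotopyCategory.quasiIso Z.Modules (ComplexShape.up ℤ)) :=
    isLeftDerivedFunctor_K_of_isIso (DCoh.pullKh (f ≫ g)) (invertsKFlatQis_pullKh (f ≫ g)) _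
      (compβ f g) (isIso_compβ_app f g)
  exact ⟨Functor.leftDerivedNatIso (DCoh.Lpull g ⋙ DCoh.Lpull f) (DCoh.Lpull (f ≫ g)) (compβ f g)
    (LpullCounit (f ≫ g)) (HomotopyCategory.quasiIso Z.Modules (ComplexShape.up ℤ)) (Iso.refl _)⟩

end Comp

end Groth.Agent.Helper5.LDer
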