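import Groth.Agent.Lib.Helper5.KZeroSub
import Mathlib.CategoryTheory.Abelian.Refinements
import Mathlib.Algebra.Homology.ShortComplex.ShortExact
import Mathlib.Algebra.Homology.ShortComplex.Exact

/-!
# Diagram lemmas in an abelian category: Schanuel pullback and horseshoe
-/

set_option autoImplicit false
set_option linter.style.haveILetI false
set_option linter.unusedSectionVars false

open CategoryTheory CategoryTheory.Limits

universe v u

namespace Groth.Agent.Helper5.KRes

variable {C : Type u} [Category.{v} C] [Abelian C]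

/-- A short exact sequence from a kernel. -/
theorem shortExact_of_isKernel {K L A : C} (ι : K ⟶ L) (π : L ⟶ A) (w : ι ≫ π = 0) [Epi π]
    (hk : IsLimit (KernelFork.ofι ι w)) : (ShortComplex.mk ι π w).ShortExact :=
  haveI : Mono ι := mono_of_isLimit_fork hk
  ShortComplex.ShortExact.mk' (ShortComplex.exact_of_f_is_kernel _ hk) ‹_› ‹_›

theorem shortExact_kernel {L A : C} (π : L ⟶ A) [Epi π] :
    (ShortComplex.mk (kernel.ι π) π (kernel.condition π)).ShortExact :=
  shortExact_of_isKernel _ _ _ (kernelIsKernel π)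

/-- Schanuel: the pullback of two presentations, first projection. -/
theorem schanuel_fst {A L K' L' : C} (π : L ⟶ A)
    (ι' : K' ⟶ L') (π' : L' ⟶ A) (w' : ι' ≫ π' = 0)
    (hS' : (ShortComplex.mk ι' π' w').ShortExact) :
    (ShortComplex.mk (pullback.lift (0 : K' ⟶ L) ι' (by rw [zero_comp, w']))
      (pullback.fst π π') (pullback.lift_fst _ _ _)).ShortExact := by
  haveI : Epi π' := hS'.epi_g
  haveI : Mono ι' := hS'.mono_f
  apply shortExact_of_isKernel
  refine KernelFork.IsLimit.ofι _ _ (fun {W} t ht => hS'.fIsKernel.lift (KernelFork.ofι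
    (t ≫ pullback.snd π π') (by rw [Category.assoc, ← pullback.condition, ← Category.assoc, ht,
      zero_comp]))) ?_ ?_
  · intro W t ht
    have h1 : hS'.fIsKernel.lift (KernelFork.ofι (t ≫ pullback.snd π π') (by
        rw [Category.assoc, ← pullback.condition, ← Category.assoc, ht, zero_comp])) ≫ ι' =
        t ≫ pullback.snd π π' := Fork.IsLimit.lift_ι hS'.fIsKernel
    apply pullback.hom_ext
    · rw [Category.assoc, pullback.lift_fst, comp_zero, ht]
    · rw [Category.assoc, pullback.lift_snd, h1]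
  · intro W t ht m hm
    rw [← cancel_mono ι']
    have h1 : hS'.fIsKernel.lift (KernelFork.ofι (t ≫ pullback.snd π π') (by
        rw [Category.assoc, ← pullback.condition, ← Category.assoc, ht, zero_comp])) ≫ ι' =
        t ≫ pullback.snd π π' := Fork.IsLimit.lift_ι hS'.fIsKernel
    rw [h1, ← hm, Category.assoc, pullback.lift_snd]

/-- Schanuel: the pullback of two presentations, second projection. -/
theorem schanuel_snd {A K L L' : C} (ι : K ⟶ L) (π : L ⟶ A) (w : ι ≫ π = 0)
    (hS : (ShortComplex.mk ι π w).ShortExact) (π' : L' ⟶ A) :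
    (ShortComplex.mk (pullback.lift ι (0 : K ⟶ L') (by rw [zero_comp, w]))
      (pullback.snd π π') (pullback.lift_snd _ _ _)).ShortExact := by
  haveI : Epi π := hS.epi_g
  haveI : Mono ι := hS.mono_f
  apply shortExact_of_isKernel
  refine KernelFork.IsLimit.ofι _ _ (fun {W} t ht => hS.fIsKernel.lift (KernelFork.ofι
    (t ≫ pullback.fst π π') (by rw [Category.assoc, pullback.condition, ← Category.assoc, ht,
      zero_comp]))) ?_ ?_
  · intro W t ht
    have h1 : hS.fIsKernel.lift (KernelFork.ofι (t ≫ pullback.fst π π') (by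
        rw [Category.assoc, pullback.condition, ← Category.assoc, ht, zero_comp])) ≫ ι =
        t ≫ pullback.fst π π' := Fork.IsLimit.lift_ι hS.fIsKernel
    apply pullback.hom_ext
    · rw [Category.assoc, pullback.lift_fst, h1]
    · rw [Category.assoc, pullback.lift_snd, comp_zero, ht]
  · intro W t ht m hm
    rw [← cancel_mono ι]
    have h1 : hS.fIsKernel.lift (KernelFork.ofι (t ≫ pullback.fst π π') (by
        rw [Category.assoc, pullback.condition, ← Category.assoc, ht, zero_comp])) ≫ ι =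
        t ≫ pullback.fst π π' := Fork.IsLimit.lift_ι hS.fIsKernel
    rw [h1, ← hm, Category.assoc, pullback.lift_fst]

/-- Horseshoe: presentations of the two ends of a short exact sequence, together with a lift of
the second one, give a presentation of the middle whose kernel is an extension of the kernels. -/
theorem horseshoe (S : ShortComplex C) (hS : S.ShortExact)
    {K' L' K'' L'' : C} (ι' : K' ⟶ L') (p' : L' ⟶ S.X₁) (w' : ι' ≫ p' = 0)
    (h' : (ShortComplex.mk ι' p' w').ShortExact)
    (ι'' : K'' ⟶ L'') (p'' : L'' ⟶ S.X₃) (w'' : ι'' ≫ p'' = 0)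
    (h'' : (ShortComplex.mk ι'' p'' w'').ShortExact)
    (v : L'' ⟶ S.X₂) (hv : v ≫ S.g = p'') :
    Epi (biprod.desc (p' ≫ S.f) v) ∧
    ∃ (a : K' ⟶ kernel (biprod.desc (p' ≫ S.f) v)) (b : kernel (biprod.desc (p' ≫ S.f) v) ⟶ K'')
      (wab : a ≫ b = 0), (ShortComplex.mk a b wab).ShortExact := by
  haveI : Epi p' := h'.epi_g
  haveI : Mono ι' := h'.mono_f
  haveI : Epi p'' := h''.epi_g
  haveI : Mono ι'' := h''.mono_f
  haveI : Mono S.f := hS.mono_f
  haveI : Epi S.g := hS.epi_g
  set p := biprod.desc (p' ≫ S.f) v with hp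
  have hinl : biprod.inl ≫ p = p' ≫ S.f := by rw [hp, biprod.inl_desc]
  have hinr : biprod.inr ≫ p = v := by rw [hp, biprod.inr_desc]
  have hpq : p ≫ S.g = biprod.snd ≫ p'' := by
    apply biprod.hom_ext'
    · simp [hp]
    · simp [hp, hv]
  -- `p` is an epimorphism
  have hepi : Epi p := by
    rw [epi_iff_surjective_up_to_refinements]
    intro T a
    obtain ⟨T₁, π₁, hπ₁, c, fac₁⟩ := surjective_up_to_refinements_of_epi p'' (a ≫ S.g)
    have h0 : (π₁ ≫ a - c ≫ v) ≫ S.g = 0 := by
      rw [Preadditive.sub_comp, Category.assoc, Category.assoc, fac₁, hv, sub_self]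
    obtain ⟨T₂, π₂, hπ₂, a', fac₂⟩ := hS.exact.exact_up_to_refinements _ h0
    obtain ⟨T₃, π₃, hπ₃, b, fac₃⟩ := surjective_up_to_refinements_of_epi p' a'
    haveI : Epi (π₃ ≫ π₂ ≫ π₁) := epi_comp' hπ₃ (epi_comp' hπ₂ hπ₁)
    refine ⟨T₃, π₃ ≫ π₂ ≫ π₁, inferInstance, b ≫ biprod.inl + π₃ ≫ π₂ ≫ c ≫ biprod.inr, ?_⟩
    have e1 : π₂ ≫ π₁ ≫ a = a' ≫ S.f + π₂ ≫ c ≫ v := by
      rw [← fac₂, Preadditive.comp_sub, sub_add_cancel]
    simp only [Category.assoc]
    rw [e1, Preadditive.comp_add, Preadditive.add_comp, Category.assoc, Category.assoc,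
      Category.assoc, Category.assoc, hp, biprod.inl_desc, biprod.inr_desc, ← Category.assoc π₃,
      fac₃, Category.assoc]
  refine ⟨hepi, ?_⟩
  -- the maps on kernels
  have wa : (ι' ≫ biprod.inl) ≫ p = 0 := by
    rw [Category.assoc, hp, biprod.inl_desc, ← Category.assoc, w', zero_comp]
  let a : K' ⟶ kernel p := kernel.lift p (ι' ≫ biprod.inl) wa
  have ha : a ≫ kernel.ι p = ι' ≫ biprod.inl := kernel.lift_ι _ _ _
  have wb : (kernel.ι p ≫ biprod.snd) ≫ p'' = 0 := by
    rw [Category.assoc, ← hpq, ← Category.assoc, kernel.condition, zero_comp]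
  let b : kernel p ⟶ K'' := h''.fIsKernel.lift (KernelFork.ofι (kernel.ι p ≫ biprod.snd) wb)
  have hb : b ≫ ι'' = kernel.ι p ≫ biprod.snd := Fork.IsLimit.lift_ι h''.fIsKernel
  have wab : a ≫ b = 0 := by
    rw [← cancel_mono ι'', Category.assoc, hb, ← Category.assoc, ha, Category.assoc,
      biprod.inl_snd, comp_zero, zero_comp]
  refine ⟨a, b, wab, ?_⟩
  -- `b` is an epimorphism
  haveI : Epi b := by
    rw [epi_iff_surjective_up_to_refinements]
    intro T z
    have h0 : (z ≫ ι'' ≫ v) ≫ S.g = 0 := by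
      rw [Category.assoc, Category.assoc, hv, w'', comp_zero]
    obtain ⟨T₁, π₁, hπ₁, a', fac₁⟩ := hS.exact.exact_up_to_refinements _ h0
    obtain ⟨T₂, π₂, hπ₂, c, fac₂⟩ := surjective_up_to_refinements_of_epi p' a'
    haveI : Epi (π₂ ≫ π₁) := epi_comp' hπ₂ hπ₁
    have hx : (-(c ≫ biprod.inl) + π₂ ≫ π₁ ≫ z ≫ ι'' ≫ biprod.inr) ≫ p = 0 := by
      rw [Preadditive.add_comp, Preadditive.neg_comp]
      simp only [Category.assoc]
      rw [hp, biprod.inl_desc, biprod.inr_desc, ← Category.assoc c, ← fac₂, Category.assoc,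
        ← fac₁]
      simp
    refine ⟨T₂, π₂ ≫ π₁, inferInstance, kernel.lift p _ hx, ?_⟩
    rw [← cancel_mono ι'']
    simp only [Category.assoc]
    rw [hb, ← Category.assoc (kernel.lift p _ hx), kernel.lift_ι, Preadditive.add_comp,
      Preadditive.neg_comp]
    simp
  -- `a` is the kernel of `b`
  haveI : Mono a := mono_of_mono_fac ha
  have key : ∀ {W : C} (t : W ⟶ kernel p), t ≫ b = 0 → ∃ l : W ⟶ K', l ≫ a = t := by
    intro W t ht
    have h1 : t ≫ kernel.ι p ≫ biprod.snd = 0 := by
      rw [← hb, ← Category.assoc, ht, zero_comp]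
    have h2 : t ≫ kernel.ι p = (t ≫ kernel.ι p ≫ biprod.fst) ≫ biprod.inl := by
      apply biprod.hom_ext
      · simp
      · simp [h1]
    have h3 : (t ≫ kernel.ι p) ≫ p = 0 := by rw [Category.assoc, kernel.condition, comp_zero]
    rw [h2, Category.assoc, hinl] at h3
    have h4 : (t ≫ kernel.ι p ≫ biprod.fst) ≫ p' = 0 := by
      rw [← cancel_mono S.f, zero_comp]
      simpa using h3
    refine ⟨h'.exact.lift _ h4, ?_⟩
    rw [← cancel_mono (kernel.ι p), Category.assoc, ha, ← Category.assoc]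
    have h5 : h'.exact.lift _ h4 ≫ ι' = t ≫ kernel.ι p ≫ biprod.fst := h'.exact.lift_f _ h4
    rw [h5, ← h2]
  apply shortExact_of_isKernel
  exact KernelFork.IsLimit.ofι _ _ (fun t ht => (key t ht).choose)
    (fun t ht => (key t ht).choose_spec)
    (fun t ht m hm => by rw [← cancel_mono a, hm, (key t ht).choose_spec])

end Groth.Agent.Helper5.KRes
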