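import Groth.Agent.Lib.Helper5.LOC1
import Groth.Agent.Lib.Helper13.FinPresLocal
import Groth.Agent.Lib.Helper13.FinTypeRestrict

/-!
# Finite type and finite presentation are local
-/

set_option autoImplicit false
set_option linter.unusedSectionVars false
set_option linter.unusedVariables false
set_option linter.style.haveILetI false

universe u

open CategoryTheory CategoryTheory.Limits AlgebraicGeometry TopologicalSpace

namespace Groth.Agent.Helper5.LOC

open Groth.Agent.Helper13.QCoh Groth.Agent.Helper13.FinType Groth.Agent.Helper13.LocFree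

variable {X : Scheme.{u}}

/-- finite type is a local property -/
theorem isFiniteType_of_local (M : X.Modules)
    (h : ∀ x : X, ∃ V : X.Opens, x ∈ V ∧
      SheafOfModules.IsFiniteType (R := (V : Scheme.{u}).ringCatSheaf) (M.restrict V.ι)) :
    SheafOfModules.IsFiniteType (R := X.ringCatSheaf) M := by
  apply isFiniteType_of_genOn
  intro x
  obtain ⟨V, hxV, hV⟩ := h x
  obtain ⟨y, rfl⟩ : ∃ y : (V : Scheme.{u}), V.ι.base y = x := ⟨⟨x, hxV⟩, rfl⟩
  obtain ⟨U', hyU', I, hI, s, hs⟩ := exists_genOn_of_isFiniteType (M.restrict V.ι) y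
  have h2 := LocGenOn.of_restrict V.ι M U' s (LocGenOn.of_genOn hs)
  exact ⟨V.ι ''ᵁ U', ⟨y, hyU', rfl⟩, I, hI, _, GenOn.of_locGenOn h2⟩

/-- finite presentation is a local property -/
theorem isFinitePresentation_of_local (M : X.Modules)
    (h : ∀ x : X, ∃ V : X.Opens, x ∈ V ∧
      SheafOfModules.IsFinitePresentation (R := (V : Scheme.{u}).ringCatSheaf) (M.restrict V.ι)) :
    SheafOfModules.IsFinitePresentation (R := X.ringCatSheaf) M := by
  choose V hxV hV using h
  have key : ∀ x : X, ∃ (ι : Type u) (U : ι → (V x : Scheme.{u}).Opens)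
      (P : ∀ i, ((M.restrict (V x).ι).restrict (U i).ι).Presentation),
      IsOpenCover U ∧ (∀ i, IsAffineOpen (U i)) ∧ ∀ i, (P i).IsFinite := fun x =>
    haveI := hV x
    exists_isOpenCover_finite_presentation (M.restrict (V x).ι)
  choose ι U P hcov _ hfin using key
  refine Groth.Agent.Helper13.FinPres.isFinitePresentation_of_family M
    (ι := Σ x : X, ι x) (fun j => ((U j.1 j.2 : (V j.1 : Scheme.{u}).Opens) : Scheme.{u}))
    (fun j => (U j.1 j.2).ι ≫ (V j.1).ι) ?_
    (fun j => @SheafOfModules.Presentation.ofIsIso _ _ _ _ _ _ _ _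
      ((Scheme.Modules.restrictFunctorComp (U j.1 j.2).ι (V j.1).ι).app M).inv
      (Iso.isIso_inv ((Scheme.Modules.restrictFunctorComp (U j.1 j.2).ι (V j.1).ι).app M))
      (P j.1 j.2))
    (fun j => ?_)
  · intro x
    have hx' : (⟨x, hxV x⟩ : (V x : Scheme.{u})) ∈ ⨆ i, U x i := by
      rw [(hcov x).iSup_eq_top]; trivial
    obtain ⟨i, hi⟩ := Opens.mem_iSup.1 hx'
    exact ⟨⟨x, i⟩, ⟨⟨⟨x, hxV x⟩, hi⟩, rfl⟩⟩
  · have := hfin j.1 j.2
    exact
      { isFiniteType_generators := ⟨this.isFiniteType_generators.finite⟩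
        isFiniteType_relations := ⟨this.isFiniteType_relations.finite⟩ }

end Groth.Agent.Helper5.LOC
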