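import Groth.Agent.Lib.Helper5.LTen9

/-!
# Tor amplitude in distinguished triangles
-/

set_option autoImplicit false
set_option linter.unusedSectionVars false
set_option linter.unusedVariables false
set_option linter.style.haveILetI false

universe u

open CategoryTheory CategoryTheory.Limits AlgebraicGeometry MonoidalCategory
  CategoryTheory.Pretriangulated

attribute [local instance] HasDerivedCategory.standard

namespace Groth.Agent.Helper5.LDer

open Groth.Agent.Helper5.StalkCx Groth.Agent.Helper5.KRes CochainComplex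

variable {X : Scheme.{u}}

lemma isKFlat_mappingCone {K L : CochainComplex X.Modules ℤ} (φ : K ⟶ L) (hK : DCoh.IsKFlat K)
    (hL : DCoh.IsKFlat L) : DCoh.IsKFlat (mappingCone φ) :=
  KFA.IsKFl.cone (DCoh.tensorBi (X := X)) φ hK hL

/-- a K-flat model of a distinguished triangle -/
theorem exists_kflat_cone_model (T : Triangle (DCoh.D X)) (hT : T ∈ distTriang (DCoh.D X)) :
    ∃ (A B : CochainComplex X.Modules ℤ) (φ : A ⟶ B), DCoh.IsKFlat A ∧ DCoh.IsKFlat B ∧
      Nonempty (T.obj₁ ≅ DerivedCategory.Q.obj A) ∧ Nonempty (T.obj₂ ≅ DerivedCategory.Q.obj B) ∧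
      Nonempty (T.obj₃ ≅ DerivedCategory.Q.obj (mappingCone φ)) := by
  obtain ⟨A₀, B₀, φ₀, ⟨e⟩⟩ := (DerivedCategory.mem_distTriang_iff T).mp hT
  have comm : (KP X).map φ₀ ≫ (Kψ X).app B₀ = (Kψ X).app A₀ ≫ φ₀ := (Kψ X).naturality φ₀
  let m := mappingCone.triangleMap ((KP X).map φ₀) φ₀ ((Kψ X).app A₀) ((Kψ X).app B₀) comm
  let M := DerivedCategory.Q.mapTriangle.map m
  haveI := Kψ_quasiIso A₀
  haveI := Kψ_quasiIso B₀
  have h1 : IsIso M.hom₁ := inferInstanceAs (IsIso (DerivedCategory.Q.map ((Kψ X).app A₀)))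
  have h2 : IsIso M.hom₂ := inferInstanceAs (IsIso (DerivedCategory.Q.map ((Kψ X).app B₀)))
  have h3 : IsIso M.hom₃ := isIso₃_of_isIso₁₂ M
    (DerivedCategory.mappingCone_triangle_distinguished _)
    (DerivedCategory.mappingCone_triangle_distinguished _) h1 h2
  refine ⟨(KP X).obj A₀, (KP X).obj B₀, (KP X).map φ₀, KP_isKFlat _, KP_isKFlat _, ⟨?_⟩, ⟨?_⟩, ⟨?_⟩⟩
  · exact (Triangle.π₁.mapIso e) ≪≫ (asIso M.hom₁).symm
  · exact (Triangle.π₂.mapIso e) ≪≫ (asIso M.hom₂).symm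
  · exact (Triangle.π₃.mapIso e) ≪≫ (asIso M.hom₃).symm

/-- two out of three for the vanishing of Tor in a fixed degree -/
theorem isZero_HD_LTensorMod_obj₂ (T : Triangle (DCoh.D X)) (hT : T ∈ distTriang (DCoh.D X))
    (F : X.Modules) [DCoh.HasLTensorMod F] (i : ℤ)
    (h₁ : IsZero (DCoh.HD ((DCoh.LTensorMod F).obj T.obj₁) i))
    (h₃ : IsZero (DCoh.HD ((DCoh.LTensorMod F).obj T.obj₃) i)) :
    IsZero (DCoh.HD ((DCoh.LTensorMod F).obj T.obj₂) i) := by
  obtain ⟨A, B, φ, hA, hB, ⟨e₁⟩, ⟨e₂⟩, ⟨e₃⟩⟩ := exists_kflat_cone_model T hT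
  let Φ := (DCoh.tensorRightMod F).mapHomologicalComplex (ComplexShape.up ℤ)
  have hC := isKFlat_mappingCone φ hA hB
  have hd := DerivedCategory.mappingCone_triangle_distinguished (Φ.map φ)
  have hex := (DerivedCategory.homologyFunctor X.Modules i).map_distinguished_exact _ hd
  have z₁ : IsZero (DCoh.HD (DerivedCategory.Q.obj (Φ.obj A)) i) :=
    IsZero.of_iso h₁ ((DerivedCategory.homologyFunctor X.Modules i).mapIso
      ((LTensorModObjIso F A hA).symm ≪≫ (DCoh.LTensorMod F).mapIso e₁.symm))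
  have z₃ : IsZero (DCoh.HD (DerivedCategory.Q.obj (mappingCone (Φ.map φ))) i) :=
    IsZero.of_iso h₃ ((DerivedCategory.homologyFunctor X.Modules i).mapIso
      (DerivedCategory.Q.mapIso
        (mappingCone.mapHomologicalComplexIso φ (DCoh.tensorRightMod F)).symm ≪≫
      (LTensorModObjIso F _ hC).symm ≪≫ (DCoh.LTensorMod F).mapIso e₃.symm))
  have z₂ : IsZero (DCoh.HD (DerivedCategory.Q.obj (Φ.obj B)) i) :=
    hex.isZero_of_both_isZero z₁ z₃
  exact IsZero.of_iso z₂ ((DerivedCategory.homologyFunctor X.Modules i).mapIso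
    ((DCoh.LTensorMod F).mapIso e₂ ≪≫ LTensorModObjIso F B hB))

/-- flat amplitude and shifts -/
theorem hasFlatAmplitudeIn_shift (K : DCoh.D X) (a b n a' b' : ℤ) (ha : a' + n = a)
    (hb : b' + n = b) (h : DCoh.HasFlatAmplitudeIn a b K) :
    DCoh.HasFlatAmplitudeIn a' b' (K⟦n⟧) := by
  obtain ⟨E, hv, hfl, ⟨e⟩⟩ := h
  refine ⟨E⟦n⟧, ?_, fun i => hfl _, ⟨?_⟩⟩
  · intro i hi
    exact hv (i + n) (by omega)
  · exact ((DerivedCategory.Q.commShiftIso n).app E) ≪≫ (CategoryTheory.shiftFunctor (DCoh.D X) n).mapIso e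

theorem torAmplitude_triangle (T : Triangle (DCoh.D X)) (hT : T ∈ distTriang (DCoh.D X))
    (a b : ℤ) :
    (DCoh.HasFlatAmplitudeIn (a + 1) (b + 1) T.obj₁ → DCoh.HasFlatAmplitudeIn a b T.obj₂ →
      DCoh.HasTorAmplitudeIn a b T.obj₃) ∧
    (DCoh.HasFlatAmplitudeIn a b T.obj₁ → DCoh.HasFlatAmplitudeIn a b T.obj₃ →
      DCoh.HasTorAmplitudeIn a b T.obj₂) ∧
    (DCoh.HasFlatAmplitudeIn (a + 1) (b + 1) T.obj₂ → DCoh.HasFlatAmplitudeIn a b T.obj₃ →
      DCoh.HasTorAmplitudeIn (a + 1) (b + 1) T.obj₁) := by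
  refine ⟨fun h1 h2 => ?_, fun h1 h3 => ?_, fun h2 h3 => ?_⟩
  · -- rotate
    intro F _ i hi
    have hT' := rot_of_distTriang T hT
    have k1 := hasTorAmplitudeIn_of_hasFlatAmplitudeIn a b _
      (hasFlatAmplitudeIn_shift T.obj₁ (a + 1) (b + 1) 1 a b rfl rfl h1)
    have k2 := hasTorAmplitudeIn_of_hasFlatAmplitudeIn a b _ h2
    exact isZero_HD_LTensorMod_obj₂ T.rotate hT' F i (k2 F i hi) (k1 F i hi)
  · intro F _ i hi
    exact isZero_HD_LTensorMod_obj₂ T hT F i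
      (hasTorAmplitudeIn_of_hasFlatAmplitudeIn a b _ h1 F i hi)
      (hasTorAmplitudeIn_of_hasFlatAmplitudeIn a b _ h3 F i hi)
  · intro F _ i hi
    have hT' := inv_rot_of_distTriang T hT
    have k3 := hasTorAmplitudeIn_of_hasFlatAmplitudeIn (a + 1) (b + 1) _
      (hasFlatAmplitudeIn_shift T.obj₃ a b (-1) (a + 1) (b + 1) (by omega) (by omega) h3)
    have k2 := hasTorAmplitudeIn_of_hasFlatAmplitudeIn (a + 1) (b + 1) _ h2
    exact isZero_HD_LTensorMod_obj₂ T.invRotate hT' F i (k3 F i hi) (k2 F i hi)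

end Groth.Agent.Helper5.LDer
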