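import Groth.Agent.Lib.Helper5.PC1
import Groth.Agent.Lib.Helper5.LTen10

/-!
# Morphisms of the derived category which are isomorphisms on cohomology above a degree
-/

set_option autoImplicit false
set_option linter.unusedSectionVars false
set_option linter.unusedVariables false
set_option linter.style.haveILetI false

universe u

open CategoryTheory CategoryTheory.Limits AlgebraicGeometry HomologicalComplex ZeroObject
  Pretriangulated

attribute [local instance] HasDerivedCategory.standard

namespace Groth.Agent.Helper5.PC

open DerivedCategory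

variable {X : Scheme.{u}}

/-- `α` induces isomorphisms on `H^i` for `i > m` and an epimorphism on `H^m` -/
def IsConn (m : ℤ) {A B : DCoh.D X} (α : A ⟶ B) : Prop :=
  (∀ i : ℤ, m < i → IsIso ((DerivedCategory.homologyFunctor X.Modules i).map α)) ∧
    Epi ((DerivedCategory.homologyFunctor X.Modules m).map α)

lemma IsConn.of_arrow_iso {m : ℤ} {A B A' B' : DCoh.D X} {α : A ⟶ B} {β : A' ⟶ B'}
    (h : IsConn m α) (e : Arrow.mk α ≅ Arrow.mk β) : IsConn m β := by
  refine ⟨fun i hi => ?_, ?_⟩
  · have e' := (DerivedCategory.homologyFunctor X.Modules i).mapArrow.mapIso e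
    exact ((MorphismProperty.isomorphisms X.Modules).arrow_iso_iff e').mp (h.1 i hi)
  · have e' := (DerivedCategory.homologyFunctor X.Modules m).mapArrow.mapIso e
    exact ((MorphismProperty.epimorphisms X.Modules).arrow_iso_iff e').mp h.2

theorem isConn_mor₁_iff (T : Triangle (DCoh.D X)) (hT : T ∈ distTriang (DCoh.D X)) (m : ℤ) :
    IsConn m T.mor₁ ↔ ∀ i : ℤ, m ≤ i → IsZero ((DerivedCategory.homologyFunctor X.Modules i).obj T.obj₃) := by
  constructor
  · rintro ⟨h1, h2⟩ i hi
    have hepi : Epi ((DerivedCategory.homologyFunctor X.Modules i).map T.mor₁) := by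
      rcases hi.lt_or_eq with h | rfl
      · haveI := h1 i h
        infer_instance
      · exact h2
    haveI := h1 (i + 1) (by omega)
    have hmono : Mono ((DerivedCategory.homologyFunctor X.Modules (i + 1)).map T.mor₁) := inferInstance
    have z1 := (HomologySequence.epi_homologyMap_mor₁_iff T hT i).mp hepi
    have z2 := (HomologySequence.mono_homologyMap_mor₁_iff T hT i (i + 1) rfl).mp hmono
    exact (HomologySequence.exact₃ T hT i (i + 1) rfl).isZero_of_both_zeros z1 z2
  · intro h
    have hepi : ∀ i : ℤ, m ≤ i → Epi ((DerivedCategory.homologyFunctor X.Modules i).map T.mor₁) := by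
      intro i hi
      rw [HomologySequence.epi_homologyMap_mor₁_iff T hT i]
      exact (h i hi).eq_of_tgt _ _
    refine ⟨fun i hi => ?_, hepi m le_rfl⟩
    haveI := hepi i hi.le
    haveI : Mono ((DerivedCategory.homologyFunctor X.Modules i).map T.mor₁) := by
      rw [HomologySequence.mono_homologyMap_mor₁_iff T hT (i - 1) i (by omega)]
      exact (h (i - 1) (by omega)).eq_of_src _ _
    exact isIso_of_mono_of_epi _

end Groth.Agent.Helper5.PC
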