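import Groth.Agent.Lib.Helper5.ZLF2
import Groth.Agent.Lib.Helper5.LOC3
import Groth.Agent.Lib.Helper5.PC2

/-!
# Cohomology sheaves of pseudo-coherent objects at the top degrees
-/

set_option autoImplicit false
set_option linter.unusedSectionVars false
set_option linter.unusedVariables false
set_option linter.style.haveILetI false

universe u

open CategoryTheory CategoryTheory.Limits AlgebraicGeometry HomologicalComplex

attribute [local instance] HasDerivedCategory.standard

namespace Groth.Agent.Helper5.PCH

open Groth.Agent.Helper5.RT Groth.Agent.Helper13.LocFree Groth.Agent.Helper5.LDer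
  Groth.Agent.Helper5.FPC Groth.Agent.Helper5.PC Groth.Agent.Helper13.FinType
  Groth.Agent.Helper5.LOC

variable {X : Scheme.{u}}

lemma isFinitePresentation_of_iso {M N : X.Modules} (e : M ≅ N)
    (h : SheafOfModules.IsFinitePresentation (R := X.ringCatSheaf) M) :
    SheafOfModules.IsFinitePresentation (R := X.ringCatSheaf) N :=
  (SheafOfModules.isFinitePresentation X.ringCatSheaf).prop_of_iso e h

lemma isFiniteType_of_isFinLocFree (M : X.Modules) (h : FlatMod.IsFinLocFree M) :
    SheafOfModules.IsFiniteType (R := X.ringCatSheaf) M := by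
  haveI := isQuasicoherent_of_isFinLocFree M h
  have h1 := isFinitePresentation_of_isFinLocFree M h
  obtain ⟨σ, hσ⟩ := h1.exists_quasicoherentData
  have h2 : σ.localGeneratorsData.IsFiniteType :=
    { isFiniteType := fun i => (hσ.isFinite_presentation i).isFiniteType_generators }
  exact { exists_localGeneratorsData := ⟨σ.localGeneratorsData, h2⟩ }

/-- exactness of the source above `m` -/
lemma exactAt_of_conn (P G : CochainComplex X.Modules ℤ)
    (α : DerivedCategory.Q.obj P ⟶ DerivedCategory.Q.obj G) (m : ℤ) (hα : IsConn m α)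
    (i : ℤ) (hi : m < i) (hG : IsZero (G.homology i)) : P.ExactAt i := by
  rw [HomologicalComplex.exactAt_iff_isZero_homology]
  haveI := hα.1 i hi
  exact IsZero.of_iso hG ((HDQIso P i).symm ≪≫
    asIso ((DerivedCategory.homologyFunctor X.Modules i).map α) ≪≫ HDQIso G i)

/-- if `G` receives an `m`-connected morphism from a strictly perfect complex and has no
cohomology above `m`, then `H^m(G)` is of finite type -/
theorem isFiniteType_homology_of_conn (P G : CochainComplex X.Modules ℤ)
    (hP : DCoh.IsStrictlyPerfect P)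
    (α : DerivedCategory.Q.obj P ⟶ DerivedCategory.Q.obj G) (m : ℤ) (hα : IsConn m α)
    (hG : ∀ i : ℤ, m < i → IsZero (G.homology i)) :
    SheafOfModules.IsFiniteType (R := X.ringCatSheaf) (G.homology m) := by
  obtain ⟨⟨aP, bP, hvP⟩, hfP⟩ := hP
  have hex : ∀ i : ℤ, m < i → P.ExactAt i := fun i hi => exactAt_of_conn P G α m hα i hi (hG i hi)
  have hZ : FlatMod.IsFinLocFree (P.cycles m) :=
    isFinLocFree_cycles_of_exact_above P bP m (fun k hk => hvP k (Or.inr hk)) (fun k _ => hfP k)
      hex m le_rfl
  haveI := isFiniteType_of_isFinLocFree _ hZ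
  haveI h1 : SheafOfModules.IsFiniteType (R := X.ringCatSheaf) (P.homology m) :=
    isFiniteType_of_epi (P.homologyπ m)
  haveI h2 : SheafOfModules.IsFiniteType (R := X.ringCatSheaf)
      (DCoh.HD (DerivedCategory.Q.obj P) m) := isFiniteType_of_iso (HDQIso P m).symm
  haveI := hα.2
  haveI h3 : SheafOfModules.IsFiniteType (R := X.ringCatSheaf)
      (DCoh.HD (DerivedCategory.Q.obj G) m) :=
    isFiniteType_of_epi ((DerivedCategory.homologyFunctor X.Modules m).map α)
  exact isFiniteType_of_iso (HDQIso G m)

/-- if `G` receives an `m`-connected morphism from a strictly perfect complex and has no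
cohomology above `m + 1`, then `H^{m+1}(G)` is finitely presented -/
theorem isFinitePresentation_homology_of_conn (P G : CochainComplex X.Modules ℤ)
    (hP : DCoh.IsStrictlyPerfect P)
    (α : DerivedCategory.Q.obj P ⟶ DerivedCategory.Q.obj G) (m : ℤ) (hα : IsConn m α)
    (hG : ∀ i : ℤ, m + 1 < i → IsZero (G.homology i)) :
    SheafOfModules.IsFinitePresentation (R := X.ringCatSheaf) (G.homology (m + 1)) := by
  obtain ⟨⟨aP, bP, hvP⟩, hfP⟩ := hP
  have hex : ∀ i : ℤ, m + 1 < i → P.ExactAt i :=
    fun i hi => exactAt_of_conn P G α m hα i (by omega) (hG i hi)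
  have hZ : FlatMod.IsFinLocFree (P.cycles (m + 1)) :=
    isFinLocFree_cycles_of_exact_above P bP (m + 1) (fun k hk => hvP k (Or.inr hk))
      (fun k _ => hfP k) hex (m + 1) le_rfl
  have h0 := isFinitePresentation_cokernel (P.toCycles m (m + 1)) (hfP m) hZ
  have e1 : cokernel (P.toCycles m (m + 1)) ≅ P.homology (m + 1) :=
    IsColimit.coconePointUniqueUpToIso (colimit.isColimit _)
      (P.homologyIsCokernel m (m + 1) (by simp))
  haveI := hα.1 (m + 1) (by omega)
  exact isFinitePresentation_of_iso (e1 ≪≫ (HDQIso P (m + 1)).symm ≪≫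
    asIso ((DerivedCategory.homologyFunctor X.Modules (m + 1)).map α) ≪≫ HDQIso G (m + 1)) h0

end Groth.Agent.Helper5.PCH
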