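import Groth.Agent.Lib.Helper5.PRF2
import Groth.Agent.Lib.Lead.Hom3
import Groth.Agent.Lib.Helper13.LocFree4

/-!
# Bounded coherent complexes on regular schemes are perfect
-/

set_option autoImplicit false
set_option linter.unusedSectionVars false
set_option linter.unusedVariables false
set_option linter.style.haveILetI false

universe u

open CategoryTheory CategoryTheory.Limits AlgebraicGeometry ZeroObject

attribute [local instance] HasDerivedCategory.standard

namespace Groth.Agent.Helper5.PRF

open Groth.Agent.Helper5.FPC Groth.Agent.Helper5.PCH Groth.Agent.Helper5.LDer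
  Groth.Agent.Helper5.RT Groth.Agent.Helper5.LOC Groth.Agent.Helper5.PCT Groth.Agent.Helper5.PC
  Groth.Agent.Helper5.PCM Groth.Agent.Helper5.COHP Groth.Agent.Helper5.BP

/-- a finite locally free module placed in degree `0` is perfect -/
theorem perfAt_inD_of_isFinLocFree {X : Scheme.{u}} (B : X.Modules) (hB : FlatMod.IsFinLocFree B)
    (x : X) : PerfAt (DCoh.inD X B) x := by
  have hP : DCoh.IsStrictlyPerfect ((CochainComplex.singleFunctor X.Modules 0).obj B) := by
    refine ⟨⟨0, 0, fun i hi => HomologicalComplex.isZero_single_obj_X (ComplexShape.up ℤ) 0 B i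
      (by omega)⟩, fun i => ?_⟩
    by_cases hi : i = 0
    · subst hi
      exact Groth.Agent.Helper13.LocFree.isFinLocFree_of_iso
        (HomologicalComplex.singleObjXSelf (ComplexShape.up ℤ) 0 B).symm hB
    · exact isFinLocFree_of_isZero
        (HomologicalComplex.isZero_single_obj_X (ComplexShape.up ℤ) 0 B i hi)
  exact perfAt_of_iso (inDIso B).symm (perfAt_Q_of_isStrictlyPerfect _ hP x)

/-- a coherent module whose stalk at `x` has finite projective dimension is perfect near `x` -/
theorem perfAt_inD_aux : ∀ (k : ℕ) (X : Scheme.{u}) [IsLocallyNoetherian X] (F : X.Modules)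
    (hF : Coh.IsCoh F) (x : X),
    HasProjectiveDimensionLT ((DerSch.stalkFunctor X x).obj F) (k + 1) →
    PerfAt (DCoh.inD X F) x := by
  intro k
  induction k with
  | zero =>
    intro X _ F hF x h
    rw [← projective_iff_hasProjectiveDimensionLT_one] at h
    obtain ⟨V, n, hxV, ⟨e⟩⟩ := exists_restrict_iso_freeMod_of_projective_stalk F hF x h
    set y : (V : Scheme.{u}) := ⟨x, hxV⟩ with hy
    have h₁ : PerfAt (DCoh.inD (V : Scheme.{u}) (FlatMod.freeMod (↑V) n)) y :=
      perfAt_inD_of_isFinLocFree _ (Groth.Agent.Helper13.LocFree.isFinLocFree_freeMod n) y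
    have e₃ : DCoh.inD (V : Scheme.{u}) (FlatMod.freeMod (↑V) n) ≅
        (DCoh.restrictD V.ι).obj (DCoh.inD X F) :=
      (DerivedCategory.singleFunctor _ 0).mapIso e.symm ≪≫
      (((Scheme.Modules.restrictFunctor V.ι).mapDerivedCategorySingleFunctor 0).app F).symm
    exact perfAt_of_openImmersion V.ι (DCoh.inD X F) y (perfAt_of_iso e₃ h₁)
  | succ k ih =>
    intro X _ F hF x h
    haveI hq : F.IsQuasicoherent := hF.1
    haveI hft : CohB1.IsFT F := hF.2
    obtain ⟨V, hxV, B, hB, π, hπ⟩ := exists_epi_of_isFiniteType F x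
    haveI : Epi π := hπ
    haveI hBq : B.IsQuasicoherent := isQuasicoherent_of_isFinLocFree _ hB
    haveI hBf : SheafOfModules.IsFiniteType (R := (V : Scheme.{u}).ringCatSheaf) B :=
      isFiniteType_of_isFinLocFree _ hB
    haveI hFVq : (F.restrict V.ι).IsQuasicoherent :=
      inferInstanceAs ((Scheme.Modules.restrictFunctor V.ι).obj F).IsQuasicoherent
    have hK : Coh.IsCoh (kernel π) := by
      haveI := Groth.Agent.Helper13.QCohLocal.isQuasicoherent_kernel π
      exact ⟨inferInstance, isFiniteType_of_mono (kernel.ι π)⟩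
    set y : (V : Scheme.{u}) := ⟨x, hxV⟩ with hy
    have hS := shortExact_kernel π
    have hT := hS.singleTriangle_distinguished
    -- the projective dimension of the stalk of the kernel
    have h1 : HasProjectiveDimensionLT ((DerSch.stalkFunctor (V : Scheme.{u}) y).obj
        (F.restrict V.ι)) (k + 1 + 1) :=
      hasProjectiveDimensionLT_stalk_restrict V.ι y F (k + 1) h
    have hS' := hS.map_of_exact (DerSch.stalkFunctor (V : Scheme.{u}) y)
    have h2 : HasProjectiveDimensionLT ((DerSch.stalkFunctor (V : Scheme.{u}) y).obj (kernel π))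
        (k + 1) :=
      (hS'.hasProjectiveDimensionLT_X₃_iff k (projective_stalk_of_isFinLocFree B hB y)).mp h1
    have h₁ : PerfAt (DCoh.inD (V : Scheme.{u}) (kernel π)) y := ih (V : Scheme.{u}) _ hK y h2
    have h₂ : PerfAt (DCoh.inD (V : Scheme.{u}) B) y := perfAt_inD_of_isFinLocFree B hB y
    have h₃ := perfAt_obj₃ _ hT y h₁ h₂
    have e₃ : DCoh.inD (V : Scheme.{u}) (F.restrict V.ι) ≅
        (DCoh.restrictD V.ι).obj (DCoh.inD X F) :=
      (((Scheme.Modules.restrictFunctor V.ι).mapDerivedCategorySingleFunctor 0).app F).symm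
    exact perfAt_of_openImmersion V.ι (DCoh.inD X F) y (perfAt_of_iso e₃ h₃)

variable {X : Scheme.{u}}

/-- a coherent module on a regular locally Noetherian scheme, placed in degree `0`, is perfect -/
theorem isPerfect_inD_of_isCoh [IsLocallyNoetherian X]
    (hreg : ∀ x : X, IsRegularLocalRing (X.presheaf.stalk x)) (F : X.Modules)
    (hF : Coh.IsCoh F) : DCoh.IsPerfect (DCoh.inD X F) := by
  intro x
  haveI := hreg x
  have hd : ringKrullDim (X.presheaf.stalk x) =
      ((IsLocalRing.maximalIdeal (X.presheaf.stalk x)).spanFinrank : ℕ) :=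
    (IsRegularLocalRing.spanFinrank_maximalIdeal (R := X.presheaf.stalk x)).symm
  exact perfAt_inD_aux _ X F hF x
    (Groth.Agent.Lead.Hom.hasProjectiveDimensionLT_of_isRegularLocalRing hd _)

/-- a coherent module on a regular locally Noetherian scheme, placed in any degree, is perfect -/
theorem isPerfect_single_of_isCoh [IsLocallyNoetherian X]
    (hreg : ∀ x : X, IsRegularLocalRing (X.presheaf.stalk x)) (F : X.Modules)
    (hF : Coh.IsCoh F) (b : ℤ) :
    DCoh.IsPerfect ((DerivedCategory.singleFunctor X.Modules b).obj F) := by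
  have h := isPerfect_shift _ (-b) (isPerfect_inD_of_isCoh hreg F hF)
  have e : ((DerivedCategory.singleFunctor X.Modules 0).obj F)⟦-b⟧ ≅
      (DerivedCategory.singleFunctor X.Modules b).obj F :=
    ((DerivedCategory.singleFunctors X.Modules).shiftIso (-b) b 0 (by omega)).app F
  exact isPerfect_of_iso e h

/-- the zero object is perfect -/
theorem isPerfect_of_isZero (E : DCoh.D X) (hE : IsZero E) : DCoh.IsPerfect E := by
  intro x
  obtain ⟨Z, hZ⟩ : ∃ Z : CochainComplex X.Modules ℤ, IsZero Z := ⟨0, isZero_zero _⟩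
  have hP : DCoh.IsStrictlyPerfect Z :=
    ⟨⟨0, 0, fun i _ => (HomologicalComplex.eval _ _ i).map_isZero hZ⟩,
      fun i => isFinLocFree_of_isZero ((HomologicalComplex.eval _ _ i).map_isZero hZ)⟩
  exact perfAt_of_iso (IsZero.iso (DerivedCategory.Q.map_isZero hZ) hE)
    (perfAt_Q_of_isStrictlyPerfect Z hP x)

/-- bounded with coherent cohomology implies perfect on a regular scheme: induction on the
length -/
theorem isPerfect_of_isCoh_aux [IsLocallyNoetherian X]
    (hreg : ∀ x : X, IsRegularLocalRing (X.presheaf.stalk x)) (m : ℤ) :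
    ∀ (k : ℕ) (E : DCoh.D X), E.IsGE m → E.IsLE (m + k - 1) →
    (∀ i : ℤ, m ≤ i → i ≤ m + k - 1 → Coh.IsCoh (DCoh.HD E i)) → DCoh.IsPerfect E := by
  intro k
  induction k with
  | zero =>
    intro E hGE hLE _
    haveI := hGE
    haveI := hLE
    exact isPerfect_of_isZero E
      (DerivedCategory.TStructure.t.isZero E (m + (0 : ℕ) - 1) m (by push_cast; omega))
  | succ k ih =>
    intro E hGE hE hc
    haveI := hGE
    have hb : m + ((k + 1 : ℕ) : ℤ) - 1 = m + k := by push_cast; ring
    haveI : E.IsLE (m + k) := hb ▸ hE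
    obtain ⟨A, Y, f, g, h, hT, hA, ⟨eY⟩, hf⟩ := exists_trunc_triangle E (m + k)
    have hAGE : A.IsGE m := by
      rw [DerivedCategory.isGE_iff]
      intro i hi
      haveI := hf i (by omega)
      exact IsZero.of_iso (DerivedCategory.isZero_of_isGE E m i hi)
        (asIso ((DerivedCategory.homologyFunctor X.Modules i).map f))
    have hA' : DCoh.IsPerfect A := by
      refine ih A hAGE hA (fun i hi1 hi2 => ?_)
      haveI := hf i (by omega)
      exact isCoh_of_iso (asIso ((DerivedCategory.homologyFunctor X.Modules i).map f)).symm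
        (hc i hi1 (by rw [hb]; omega))
    have hY : Coh.IsCoh Y := isCoh_of_iso eY.symm (hc (m + k) (by omega) (by rw [hb]))
    exact isPerfect_obj₂ _ hT hA' (isPerfect_single_of_isCoh hreg Y hY (m + k))

/-- bounded with coherent cohomology implies perfect on a regular scheme -/
theorem isPerfect_of_isCoh [IsLocallyNoetherian X]
    (hreg : ∀ x : X, IsRegularLocalRing (X.presheaf.stalk x)) (E : DCoh.D X) (a b : ℤ)
    [hGE : E.IsGE a] [hLE : E.IsLE b] (hc : DCoh.IsCohD E) : DCoh.IsPerfect E := by
  refine isPerfect_of_isCoh_aux hreg a (b - a + 1).toNat E hGE ?_ (fun i _ _ => hc i)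
  exact DerivedCategory.TStructure.t.isLE_of_le E b _ (by omega)

end Groth.Agent.Helper5.PRF
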