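import Groth.Prelude.Def_KZero
import Mathlib.Algebra.Homology.ShortComplex.ShortExact
import Mathlib.CategoryTheory.Abelian.Basic

/-!
# Basic facts on `KZero.K0sub P`
-/

open CategoryTheory CategoryTheory.Limits ZeroObject

universe v u

namespace Groth.Agent.Helper5.KZ

variable {A : Type u} [Category.{v} A] [Abelian A] (P : ObjectProperty A)

theorem clSub_of (X : A) (h : P X) :
    KZero.clSub P X = QuotientAddGroup.mk (FreeAbelianGroup.of ⟨X, h⟩) := dif_pos h

theorem clSub_shortExact (S : ShortComplex A) (hS : S.ShortExact)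
    (h₁ : P S.X₁) (h₂ : P S.X₂) (h₃ : P S.X₃) :
    KZero.clSub P S.X₂ = KZero.clSub P S.X₁ + KZero.clSub P S.X₃ := by
  have h : (FreeAbelianGroup.of (⟨S.X₂, h₂⟩ : Subtype P) - FreeAbelianGroup.of ⟨S.X₁, h₁⟩ -
      FreeAbelianGroup.of ⟨S.X₃, h₃⟩) ∈ KZero.relSub P :=
    AddSubgroup.subset_closure ⟨S, h₁, h₂, h₃, hS, rfl⟩
  have h2 := (QuotientAddGroup.eq_zero_iff _).mpr h
  simp only [QuotientAddGroup.mk_sub] at h2
  rw [clSub_of P _ h₁, clSub_of P _ h₂, clSub_of P _ h₃]
  rw [sub_sub, sub_eq_zero] at h2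
  exact h2

theorem clSub_isZero {X : A} (hX : IsZero X) (h : P X) : KZero.clSub P X = 0 := by
  have hS : (ShortComplex.mk (0 : X ⟶ X) (0 : X ⟶ X) zero_comp).ShortExact := by
    refine ShortComplex.ShortExact.mk' ?_ ?_ ?_
    · exact ShortComplex.exact_of_isZero_X₂ _ hX
    · exact ⟨fun _ _ _ => hX.eq_of_tgt _ _⟩
    · exact ⟨fun _ _ _ => hX.eq_of_src _ _⟩
  have := clSub_shortExact P _ hS h h h
  simpa using this

theorem clSub_iso {X Y Z : A} (e : X ≅ Y) (hX : P X) (hY : P Y) (hZ : IsZero Z) (hPZ : P Z) :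
    KZero.clSub P X = KZero.clSub P Y := by
  have hS : (ShortComplex.mk (0 : Z ⟶ X) e.hom zero_comp).ShortExact := by
    refine ShortComplex.ShortExact.mk' ?_ ?_ ?_
    · rw [ShortComplex.exact_iff_mono _ rfl]
      infer_instance
    · exact ⟨fun _ _ _ => hZ.eq_of_tgt _ _⟩
    · dsimp; infer_instance
  have := clSub_shortExact P _ hS hPZ hX hY
  simp only [clSub_isZero P hZ hPZ, zero_add] at this
  exact this

/-- The homomorphism out of `K0sub P` induced by an additive function. -/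
noncomputable def lift {G : Type*} [AddCommGroup G] (φ : Subtype P → G)
    (hφ : ∀ (S : ShortComplex A) (h₁ : P S.X₁) (h₂ : P S.X₂) (h₃ : P S.X₃), S.ShortExact →
      φ ⟨S.X₂, h₂⟩ = φ ⟨S.X₁, h₁⟩ + φ ⟨S.X₃, h₃⟩) : KZero.K0sub P →+ G :=
  QuotientAddGroup.lift _ (FreeAbelianGroup.lift φ) (by
    intro x hx
    have : KZero.relSub P ≤ (FreeAbelianGroup.lift φ).ker := by
      unfold KZero.relSub
      rw [AddSubgroup.closure_le]
      rintro _ ⟨S, h₁, h₂, h₃, hS, rfl⟩
      simp only [SetLike.mem_coe, AddMonoidHom.mem_ker, map_sub, FreeAbelianGroup.lift_apply_of]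
      rw [hφ S h₁ h₂ h₃ hS]
      abel
    exact this hx)

theorem lift_clSub {G : Type*} [AddCommGroup G] (φ : Subtype P → G)
    (hφ : ∀ (S : ShortComplex A) (h₁ : P S.X₁) (h₂ : P S.X₂) (h₃ : P S.X₃), S.ShortExact →
      φ ⟨S.X₂, h₂⟩ = φ ⟨S.X₁, h₁⟩ + φ ⟨S.X₃, h₃⟩) (X : A) (h : P X) :
    lift P φ hφ (KZero.clSub P X) = φ ⟨X, h⟩ := by
  rw [clSub_of P X h]
  simp [lift]

theorem induction_on {motive : KZero.K0sub P → Prop} (x : KZero.K0sub P)
    (zero : motive 0) (of : ∀ (X : A) (_ : P X), motive (KZero.clSub P X))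
    (neg : ∀ x, motive x → motive (-x)) (add : ∀ x y, motive x → motive y → motive (x + y)) :
    motive x := by
  induction x using QuotientAddGroup.induction_on with
  | H z =>
    induction z using FreeAbelianGroup.induction_on with
    | zero => exact zero
    | of x =>
      have := of x.1 x.2
      rw [clSub_of P x.1 x.2] at this
      exact this
    | neg x hx =>
      have := neg _ (by
        have := of x.1 x.2
        rw [clSub_of P x.1 x.2] at this
        exact this)
      rwa [← QuotientAddGroup.mk_neg] at this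
    | add x y hx hy =>
      rw [QuotientAddGroup.mk_add]
      exact add _ _ hx hy

end Groth.Agent.Helper5.KZ
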