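import Groth.Agent.Lib.Helper5.KFAbs2

/-!
# A functor commuting with two bifunctors commutes with the total complexes
-/

set_option autoImplicit false
set_option linter.unusedSectionVars false
set_option linter.unusedVariables false
set_option linter.style.haveILetI false

universe v v' u u'

open CategoryTheory CategoryTheory.Limits HomologicalComplex

namespace Groth.Agent.Helper5.KFA

section

variable {𝒜 : Type u} [Category.{v} 𝒜] [Abelian 𝒜] (T : 𝒜 ⥤ 𝒜 ⥤ 𝒜) [T.Additive]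
  [∀ X, (T.obj X).Additive]
  [∀ (K₁ K₂ : CochainComplex 𝒜 ℤ),
    HomologicalComplex.HasMapBifunctor K₁ K₂ T (ComplexShape.up ℤ)]

@[reassoc]
lemma ι_d (L K : CochainComplex 𝒜 ℤ) (p q n : ℤ) (hpq : p + q = n) (n' : ℤ) (hn : n + 1 = n')
    (p' q' : ℤ) (hp' : p + 1 = p') (hq' : q + 1 = q') :
    ι T L K p q n hpq ≫ (tens T L K).d n n' =
      (T.map (L.d p p')).app (K.X q) ≫ ι T L K p' q n' (by omega) +
      p.negOnePow • ((T.obj (L.X p)).map (K.d q q') ≫ ι T L K p q' n' (by omega)) := by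
  subst hp' hq'
  have h1 := mapBifunctor.d₁_eq L K T (ComplexShape.up ℤ)
    (show (ComplexShape.up ℤ).Rel p (p + 1) from rfl) q n' (by dsimp; omega)
  have h2 := mapBifunctor.d₂_eq L K T (ComplexShape.up ℤ) p
    (show (ComplexShape.up ℤ).Rel q (q + 1) from rfl) n' (by dsimp; omega)
  erw [mapBifunctor.d_eq, Preadditive.comp_add, mapBifunctor.ι_D₁, mapBifunctor.ι_D₂, h1, h2]
  congr 1
  exact one_smul _ _

end

variable {𝒜 : Type u} [Category.{v} 𝒜] [Abelian 𝒜] (T : 𝒜 ⥤ 𝒜 ⥤ 𝒜) [T.Additive]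
  [∀ X, (T.obj X).Additive]
  [∀ (K₁ K₂ : CochainComplex 𝒜 ℤ),
    HomologicalComplex.HasMapBifunctor K₁ K₂ T (ComplexShape.up ℤ)]
  {ℬ : Type u'} [Category.{v'} ℬ] [Abelian ℬ] (T' : ℬ ⥤ ℬ ⥤ ℬ) [T'.Additive]
  [∀ X, (T'.obj X).Additive]
  [∀ (K₁ K₂ : CochainComplex ℬ ℤ),
    HomologicalComplex.HasMapBifunctor K₁ K₂ T' (ComplexShape.up ℤ)]
  (F : 𝒜 ⥤ ℬ) [F.Additive]

/-- a functor commuting with two bifunctors -/
structure BiComm where
  μ : ∀ A B : 𝒜, F.obj ((T.obj A).obj B) ≅ (T'.obj (F.obj A)).obj (F.obj B)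
  nat_left : ∀ {A A' : 𝒜} (f : A ⟶ A') (B : 𝒜),
    F.map ((T.map f).app B) ≫ (μ A' B).hom = (μ A B).hom ≫ (T'.map (F.map f)).app (F.obj B)
  nat_right : ∀ (A : 𝒜) {B B' : 𝒜} (g : B ⟶ B'),
    F.map ((T.obj A).map g) ≫ (μ A B').hom = (μ A B).hom ≫ (T'.obj (F.obj A)).map (F.map g)

variable {T T' F}

namespace BiComm

variable (m : BiComm T T' F)

@[reassoc]
lemma nat_left_inv {A A' : 𝒜} (f : A ⟶ A') (B : 𝒜) :
    (m.μ A B).inv ≫ F.map ((T.map f).app B) =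
      (T'.map (F.map f)).app (F.obj B) ≫ (m.μ A' B).inv := by
  rw [Iso.inv_comp_eq, ← Category.assoc, Iso.eq_comp_inv, m.nat_left]

@[reassoc]
lemma nat_right_inv (A : 𝒜) {B B' : 𝒜} (g : B ⟶ B') :
    (m.μ A B).inv ≫ F.map ((T.obj A).map g) =
      (T'.obj (F.obj A)).map (F.map g) ≫ (m.μ A B').inv := by
  rw [Iso.inv_comp_eq, ← Category.assoc, Iso.eq_comp_inv, m.nat_right]

/-- the complex `F L` -/
noncomputable abbrev mapC (F : 𝒜 ⥤ ℬ) [F.Additive] (L : CochainComplex 𝒜 ℤ) : CochainComplex ℬ ℤ :=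
  (F.mapHomologicalComplex (ComplexShape.up ℤ)).obj L

/-- the morphism of complexes `F g` -/
noncomputable abbrev mapCM (F : 𝒜 ⥤ ℬ) [F.Additive] {L L' : CochainComplex 𝒜 ℤ} (g : L ⟶ L') :
    mapC F L ⟶ mapC F L' :=
  (F.mapHomologicalComplex (ComplexShape.up ℤ)).map g

/-- `μ` with the types expressed through `mapC` -/
noncomputable def μC (L K : CochainComplex 𝒜 ℤ) (p q : ℤ) :
    F.obj ((T.obj (L.X p)).obj (K.X q)) ≅ (T'.obj ((mapC F L).X p)).obj ((mapC F K).X q) :=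
  m.μ (L.X p) (K.X q)

@[reassoc]
lemma μC_inv_d₁ (L K : CochainComplex 𝒜 ℤ) (p p' q : ℤ) :
    (m.μC L K p q).inv ≫ F.map ((T.map (L.d p p')).app (K.X q)) =
      (T'.map ((mapC F L).d p p')).app ((mapC F K).X q) ≫ (m.μC L K p' q).inv :=
  m.nat_left_inv (L.d p p') (K.X q)

@[reassoc]
lemma μC_inv_d₂ (L K : CochainComplex 𝒜 ℤ) (p q q' : ℤ) :
    (m.μC L K p q).inv ≫ F.map ((T.obj (L.X p)).map (K.d q q')) =
      (T'.obj ((mapC F L).X p)).map ((mapC F K).d q q') ≫ (m.μC L K p q').inv :=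
  m.nat_right_inv (L.X p) (K.d q q')

@[reassoc]
lemma μC_inv_mapL (L : CochainComplex 𝒜 ℤ) {K K' : CochainComplex 𝒜 ℤ} (g : K ⟶ K') (p q : ℤ) :
    (m.μC L K p q).inv ≫ F.map ((T.obj (L.X p)).map (g.f q)) =
      (T'.obj ((mapC F L).X p)).map ((mapCM F g).f q) ≫ (m.μC L K' p q).inv :=
  m.nat_right_inv (L.X p) (g.f q)

@[reassoc]
lemma μC_inv_mapR (K : CochainComplex 𝒜 ℤ) {L L' : CochainComplex 𝒜 ℤ} (f : L ⟶ L') (p q : ℤ) :
    (m.μC L K p q).inv ≫ F.map ((T.map (f.f p)).app (K.X q)) =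
      (T'.map ((mapCM F f).f p)).app ((mapC F K).X q) ≫ (m.μC L' K p q).inv :=
  m.nat_left_inv (f.f p) (K.X q)

/-- `F` applied to the inclusion of a summand, typed through `mapC` -/
noncomputable def Fι (F : 𝒜 ⥤ ℬ) [F.Additive] (L K : CochainComplex 𝒜 ℤ) (p q n : ℤ)
    (h : p + q = n) :
    F.obj ((T.obj (L.X p)).obj (K.X q)) ⟶ (mapC F (tens T L K)).X n :=
  F.map (ι T L K p q n h)

@[reassoc]
lemma Fι_d (L K : CochainComplex 𝒜 ℤ) (p q n : ℤ) (hpq : p + q = n) (n' : ℤ) (hn : n + 1 = n')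
    (p' q' : ℤ) (hp' : p + 1 = p') (hq' : q + 1 = q') :
    Fι (T := T) F L K p q n hpq ≫ (mapC F (tens T L K)).d n n' =
      F.map ((T.map (L.d p p')).app (K.X q)) ≫ Fι (T := T) F L K p' q n' (by omega) +
      p.negOnePow • (F.map ((T.obj (L.X p)).map (K.d q q')) ≫
        Fι (T := T) F L K p q' n' (by omega)) := by
  change F.map (ι T L K p q n hpq) ≫ F.map ((tens T L K).d n n') = _
  rw [← F.map_comp, ι_d T L K p q n hpq n' hn p' q' hp' hq', F.map_add, F.map_comp,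
    Functor.map_units_smul, F.map_comp]
  rfl

@[reassoc]
lemma Fι_mapL (L : CochainComplex 𝒜 ℤ) {K K' : CochainComplex 𝒜 ℤ} (g : K ⟶ K') (p q n : ℤ)
    (h : p + q = n) :
    Fι (T := T) F L K p q n h ≫ (mapCM F (tensL T L g)).f n =
      F.map ((T.obj (L.X p)).map (g.f q)) ≫ Fι (T := T) F L K' p q n h := by
  change F.map (ι T L K p q n h) ≫ F.map ((tensL T L g).f n) = _
  rw [← F.map_comp, ι_tensL, F.map_comp]
  rfl

@[reassoc]
lemma Fι_mapR (K : CochainComplex 𝒜 ℤ) {L L' : CochainComplex 𝒜 ℤ} (f : L ⟶ L') (p q n : ℤ)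
    (h : p + q = n) :
    Fι (T := T) F L K p q n h ≫ (mapCM F (tensR T K f)).f n =
      F.map ((T.map (f.f p)).app (K.X q)) ≫ Fι (T := T) F L' K p q n h := by
  change F.map (ι T L K p q n h) ≫ F.map ((tensR T K f).f n) = _
  rw [← F.map_comp, ι_tensR, F.map_comp]
  rfl

/-- the comparison map in degree `n` -/
noncomputable def Φ (L K : CochainComplex 𝒜 ℤ) (n : ℤ) :
    (tens T' (mapC F L) (mapC F K)).X n ⟶ (mapC F (tens T L K)).X n :=
  mapBifunctorDesc (fun p q h => (m.μC L K p q).inv ≫ Fι (T := T) F L K p q n h)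

@[reassoc]
lemma ι_Φ (L K : CochainComplex 𝒜 ℤ) (p q n : ℤ) (h : p + q = n) :
    ι T' (mapC F L) (mapC F K) p q n h ≫ m.Φ L K n =
      (m.μC L K p q).inv ≫ Fι (T := T) F L K p q n h := by
  unfold Φ ι
  exact ι_mapBifunctorDesc _ _ _ _

lemma Φ_d (L K : CochainComplex 𝒜 ℤ) (n n' : ℤ) (hn : n + 1 = n') :
    m.Φ L K n ≫ (mapC F (tens T L K)).d n n' =
      (tens T' (mapC F L) (mapC F K)).d n n' ≫ m.Φ L K n' := by
  apply hom_ext'
  intro p q hpq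
  rw [ι_Φ_assoc, Fι_d L K p q n hpq n' hn (p + 1) (q + 1) rfl rfl,
    ι_d_assoc T' (mapC F L) (mapC F K) p q n hpq n' hn (p + 1) (q + 1) rfl rfl]
  rw [Preadditive.comp_add, Preadditive.add_comp]
  congr 1
  · rw [Category.assoc, ι_Φ, m.μC_inv_d₁_assoc]
  · rw [Linear.units_smul_comp, Category.assoc, ι_Φ,
      Linear.comp_units_smul, m.μC_inv_d₂_assoc]

/-- the comparison morphism of complexes -/
noncomputable def ΦC (L K : CochainComplex 𝒜 ℤ) :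
    tens T' (mapC F L) (mapC F K) ⟶ mapC F (tens T L K) where
  f n := m.Φ L K n
  comm' n n' h := m.Φ_d L K n n' h

lemma ΦC_naturality_right (L : CochainComplex 𝒜 ℤ) {K K' : CochainComplex 𝒜 ℤ} (g : K ⟶ K') :
    tensL T' (mapC F L) (mapCM F g) ≫ m.ΦC L K' = m.ΦC L K ≫ mapCM F (tensL T L g) := by
  ext n : 1
  apply hom_ext'
  intro p q hpq
  change ι T' (mapC F L) (mapC F K) p q n hpq ≫ (tensL T' (mapC F L) (mapCM F g)).f n ≫
    m.Φ L K' n = ι T' (mapC F L) (mapC F K) p q n hpq ≫ m.Φ L K n ≫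
      (mapCM F (tensL T L g)).f n
  rw [ι_tensL_assoc, ι_Φ, ι_Φ_assoc, Fι_mapL, m.μC_inv_mapL_assoc]

lemma ΦC_naturality_left (K : CochainComplex 𝒜 ℤ) {L L' : CochainComplex 𝒜 ℤ} (f : L ⟶ L') :
    tensR T' (mapC F K) (mapCM F f) ≫ m.ΦC L' K = m.ΦC L K ≫ mapCM F (tensR T K f) := by
  ext n : 1
  apply hom_ext'
  intro p q hpq
  change ι T' (mapC F L) (mapC F K) p q n hpq ≫ (tensR T' (mapC F K) (mapCM F f)).f n ≫
    m.Φ L' K n = ι T' (mapC F L) (mapC F K) p q n hpq ≫ m.Φ L K n ≫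
      (mapCM F (tensR T K f)).f n
  rw [ι_tensR_assoc, ι_Φ, ι_Φ_assoc, Fι_mapR, m.μC_inv_mapR_assoc]

section Iso

variable [∀ I : Type, PreservesColimitsOfShape (Discrete I) F]

/-- the graded object underlying the double complex -/
noncomputable abbrev gr (L K : CochainComplex 𝒜 ℤ) : GradedObject (ℤ × ℤ) 𝒜 :=
  (((T.mapBifunctorHomologicalComplex (ComplexShape.up ℤ) (ComplexShape.up ℤ)).obj L).obj
    K).toGradedObject

/-- the index type of the summands in degree `n` -/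
abbrev Idx (n : ℤ) : Type :=
  ↥((ComplexShape.π (ComplexShape.up ℤ) (ComplexShape.up ℤ) (ComplexShape.up ℤ)) ⁻¹' {n})

lemma Idx.sum {n : ℤ} (i : Idx n) : i.1.1 + i.1.2 = n := i.2

/-- the image under `F` of the coproduct cofan is a colimit -/
noncomputable def isColimitF (L K : CochainComplex 𝒜 ℤ) (n : ℤ) :
    IsColimit (Cofan.mk ((mapC F (tens T L K)).X n)
      (fun i : Idx n => Fι (T := T) F L K i.1.1 i.1.2 n i.sum)) :=
  isColimitCofanMkObjOfIsColimit F _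
    (fun i : Idx n => (gr (T := T) L K).ιMapObj
      (ComplexShape.π (ComplexShape.up ℤ) (ComplexShape.up ℤ) (ComplexShape.up ℤ)) i.1 n i.2)
    ((gr (T := T) L K).isColimitCofanMapObj
      (ComplexShape.π (ComplexShape.up ℤ) (ComplexShape.up ℤ) (ComplexShape.up ℤ)) n)

/-- the inverse comparison map -/
noncomputable def Ψ (L K : CochainComplex 𝒜 ℤ) (n : ℤ) :
    (mapC F (tens T L K)).X n ⟶ (tens T' (mapC F L) (mapC F K)).X n :=
  Cofan.IsColimit.desc (isColimitF (T := T) (F := F) L K n)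
    (fun i : Idx n => (m.μC L K i.1.1 i.1.2).hom ≫ ι T' (mapC F L) (mapC F K) i.1.1 i.1.2 n i.sum)

@[reassoc]
lemma Fι_Ψ (L K : CochainComplex 𝒜 ℤ) (p q n : ℤ) (h : p + q = n) :
    Fι (T := T) F L K p q n h ≫ m.Ψ L K n =
      (m.μC L K p q).hom ≫ ι T' (mapC F L) (mapC F K) p q n h :=
  Cofan.IsColimit.fac (isColimitF (T := T) (F := F) L K n) _ (⟨(p, q), h⟩ : Idx n)

lemma Φ_Ψ (L K : CochainComplex 𝒜 ℤ) (n : ℤ) : m.Φ L K n ≫ m.Ψ L K n = 𝟙 _ := by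
  apply hom_ext'
  intro p q h
  rw [ι_Φ_assoc, Fι_Ψ, Iso.inv_hom_id_assoc, Category.comp_id]

lemma Ψ_Φ (L K : CochainComplex 𝒜 ℤ) (n : ℤ) : m.Ψ L K n ≫ m.Φ L K n = 𝟙 _ := by
  apply Cofan.IsColimit.hom_ext (isColimitF (T := T) (F := F) L K n)
  intro i
  change Fι (T := T) F L K i.1.1 i.1.2 n i.sum ≫ m.Ψ L K n ≫ m.Φ L K n =
    Fι (T := T) F L K i.1.1 i.1.2 n i.sum ≫ 𝟙 _
  rw [Fι_Ψ_assoc, ι_Φ, Iso.hom_inv_id_assoc, Category.comp_id]

instance (L K : CochainComplex 𝒜 ℤ) (n : ℤ) : IsIso (m.Φ L K n) :=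
  ⟨m.Ψ L K n, m.Φ_Ψ L K n, m.Ψ_Φ L K n⟩

instance (L K : CochainComplex 𝒜 ℤ) : IsIso (m.ΦC L K) := by
  have : ∀ n : ℤ, IsIso ((m.ΦC L K).f n) := by
    intro n
    change IsIso (m.Φ L K n)
    infer_instance
  exact HomologicalComplex.Hom.isIso_of_components (m.ΦC L K)

/-- the comparison isomorphism of complexes -/
noncomputable def tensIso (L K : CochainComplex 𝒜 ℤ) :
    tens T' (mapC F L) (mapC F K) ≅ mapC F (tens T L K) :=
  asIso (m.ΦC L K)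

end Iso

end BiComm

end Groth.Agent.Helper5.KFA
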