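import Groth.Agent.Lib.Helper5.StalkCx1
import Groth.Agent.Lib.Helper5.KFAbs3
import Groth.Agent.Lib.Helper13.TensorUnit
import Groth.Prelude.Def_DCoh4

/-!
# The stalk functor commutes with the tensor product of complexes of `O_X`-modules
-/

set_option autoImplicit false
set_option linter.unusedSectionVars false
set_option linter.unusedVariables false
set_option linter.style.haveILetI false

universe u

open CategoryTheory CategoryTheory.Limits AlgebraicGeometry MonoidalCategory TensorProduct
open Groth.Agent.Helper13.Tensor Groth.Agent.Helper13.FinType Groth.Agent.Helper13.QCoh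

namespace Groth.Agent.Helper5.StalkCx

variable {X : Scheme.{u}}

lemma tensorBi_obj_obj (M N : X.Modules) :
    (DCoh.tensorBi.obj M).obj N = CohB1.tensorMod M N := rfl

lemma tensorBi_obj_map (M : X.Modules) {N N' : X.Modules} (g : N ⟶ N') :
    (DCoh.tensorBi.obj M).map g = Groth.Agent.Helper13.Tensor.map (𝟙 M) g := by
  unfold Groth.Agent.Helper13.Tensor.map Groth.Agent.Helper13.Tensor.preMap
  erw [MonoidalCategory.id_tensorHom]
  rfl

lemma tensorBi_map_app {M M' : X.Modules} (f : M ⟶ M') (N : X.Modules) :
    (DCoh.tensorBi.map f).app N = Groth.Agent.Helper13.Tensor.map f (𝟙 N) := by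
  unfold Groth.Agent.Helper13.Tensor.map Groth.Agent.Helper13.Tensor.preMap
  erw [MonoidalCategory.tensorHom_id]
  rfl

lemma stalkFunctor_map_apply (x : X) {M N : X.Modules} (φ : M ⟶ N) (m : M.presheaf.stalk x) :
    (DerSch.stalkFunctor X x).map φ m = stalkMap φ x m := rfl

lemma stalkFunctor_map_hom (x : X) {M N : X.Modules} (φ : M ⟶ N) :
    ((DerSch.stalkFunctor X x).map φ).hom = stalkLinearMap φ x :=
  LinearMap.ext (fun _ => rfl)

/-- the stalk of the tensor product is the tensor product of the stalks -/
noncomputable def stalkTensorIso (x : X) (M N : X.Modules) :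
    (DerSch.stalkFunctor X x).obj ((DCoh.tensorBi.obj M).obj N) ≅
      ((curriedTensor (ModuleCat.{u} (X.presheaf.stalk x))).obj
        ((DerSch.stalkFunctor X x).obj M)).obj ((DerSch.stalkFunctor X x).obj N) :=
  (stalkTensorEquiv M N x).symm.toModuleIso

lemma stalkTensorIso_hom_apply (x : X) (M N : X.Modules)
    (s : (CohB1.tensorMod M N).presheaf.stalk x) :
    (stalkTensorIso x M N).hom s = (stalkTensorEquiv M N x).symm s := rfl

lemma stalkTensor_nat (x : X) {M M' N N' : X.Modules} (f : M ⟶ M') (g : N ⟶ N')
    (s : (CohB1.tensorMod M N).presheaf.stalk x) :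
    (stalkTensorEquiv M' N' x).symm (stalkMap (Groth.Agent.Helper13.Tensor.map f g) x s) =
      TensorProduct.map (stalkLinearMap f x) (stalkLinearMap g x)
        ((stalkTensorEquiv M N x).symm s) := by
  obtain ⟨z, rfl⟩ := (stalkTensorEquiv M N x).surjective s
  rw [stalkMap_map, LinearEquiv.symm_apply_apply, LinearEquiv.symm_apply_apply]

lemma stalkLinearMap_id (x : X) (M : X.Modules) : stalkLinearMap (𝟙 M) x = LinearMap.id := by
  rw [← stalkFunctor_map_hom, CategoryTheory.Functor.map_id]
  rfl

/-- the stalk functor commutes with the tensor products -/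
noncomputable def stalkBiComm (x : X) :
    KFA.BiComm (DCoh.tensorBi (X := X)) (curriedTensor (ModuleCat.{u} (X.presheaf.stalk x)))
      (DerSch.stalkFunctor X x) where
  μ M N := stalkTensorIso x M N
  nat_left {M M'} f N := by
    ext s
    change (stalkTensorEquiv M' N x).symm (stalkMap ((DCoh.tensorBi.map f).app N) x s) =
      ((DerSch.stalkFunctor X x).map f ▷ (DerSch.stalkFunctor X x).obj N)
        ((stalkTensorEquiv M N x).symm s)
    have h1 := tensorBi_map_app f N
    have key := stalkTensor_nat x f (𝟙 N) s
    rw [stalkLinearMap_id] at key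
    refine (congrArg (fun φ => (stalkTensorEquiv M' N x).symm (stalkMap φ x s)) h1).trans
      (key.trans ?_)
    rfl
  nat_right M {N N'} g := by
    ext s
    change (stalkTensorEquiv M N' x).symm (stalkMap ((DCoh.tensorBi.obj M).map g) x s) =
      ((DerSch.stalkFunctor X x).obj M ◁ (DerSch.stalkFunctor X x).map g)
        ((stalkTensorEquiv M N x).symm s)
    have h1 := tensorBi_obj_map M g
    have key := stalkTensor_nat x (𝟙 M) g s
    rw [stalkLinearMap_id] at key
    refine (congrArg (fun φ => (stalkTensorEquiv M N' x).symm (stalkMap φ x s)) h1).trans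
      (key.trans ?_)
    rfl

end Groth.Agent.Helper5.StalkCx
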