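import Groth.Agent.Lib.Helper13.TensorAssoc
import Groth.Agent.Lib.Helper5.StalkCx2

/-!
# Naturality of the associator of the tensor product of modules on a scheme
-/

set_option autoImplicit false
set_option linter.unusedSectionVars false
set_option linter.unusedVariables false
set_option linter.style.haveILetI false

universe u

open CategoryTheory CategoryTheory.Limits AlgebraicGeometry MonoidalCategory

namespace Groth.Agent.Helper5.CXA

open Groth.Agent.Helper13.Tensor

variable {X : Scheme.{u}}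

variable {L L' M M' N N' : X.Modules}

/-- the underlying morphism of presheaves of modules -/
noncomputable abbrev pm {A B : X.Modules} (f : A ⟶ B) : CohB1.toPMod A ⟶ CohB1.toPMod B := f.val

/-- the unit `toPMod L ⊗ toPMod M ⟶ toPMod (L ⊗ M)` -/
noncomputable abbrev η' (L M : X.Modules) :
    CohB1.toPMod L ⊗ CohB1.toPMod M ⟶ CohB1.toPMod (CohB1.tensorMod L M) := η L M

lemma η'_naturality (f : L ⟶ L') (g : M ⟶ M') :
    η' L M ≫ pm (map f g) = (pm f ⊗ₘ pm g) ≫ η' L' M' :=
  η_naturality f g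

lemma map_eq (f : L ⟶ L') (g : M ⟶ M') : map f g = shfMap (pm f ⊗ₘ pm g) := rfl

lemma assocA_eq (L M N : X.Modules) :
    assocA L M N = shfMap (η' L M ⊗ₘ 𝟙 (CohB1.toPMod N)) := rfl

lemma assocB_eq (L M N : X.Modules) :
    assocB L M N = shfMap (𝟙 (CohB1.toPMod L) ⊗ₘ η' M N) := rfl

lemma shfMap_comp {R R' R'' : CohB1.PMod X} (a : R ⟶ R') (b : R' ⟶ R'') :
    shfMap (a ≫ b) = shfMap a ≫ shfMap b := (CohB1.sheafifyMod X).map_comp a b

lemma assocA_naturality (f : L ⟶ L') (g : M ⟶ M') (h : N ⟶ N') :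
    assocA L M N ≫ map (map f g) h =
      shfMap ((pm f ⊗ₘ pm g) ⊗ₘ pm h) ≫ assocA L' M' N' := by
  have key : (η' L M ⊗ₘ 𝟙 (CohB1.toPMod N)) ≫ (pm (map f g) ⊗ₘ pm h) =
      ((pm f ⊗ₘ pm g) ⊗ₘ pm h) ≫ (η' L' M' ⊗ₘ 𝟙 (CohB1.toPMod N')) := by
    rw [MonoidalCategory.tensorHom_comp_tensorHom, MonoidalCategory.tensorHom_comp_tensorHom,
      η'_naturality, Category.id_comp, Category.comp_id]
  exact (shfMap_comp _ _).symm.trans ((congrArg shfMap key).trans (shfMap_comp _ _))

lemma assocB_naturality (f : L ⟶ L') (g : M ⟶ M') (h : N ⟶ N') :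
    assocB L M N ≫ map f (map g h) =
      shfMap (pm f ⊗ₘ (pm g ⊗ₘ pm h)) ≫ assocB L' M' N' := by
  have key : (𝟙 (CohB1.toPMod L) ⊗ₘ η' M N) ≫ (pm f ⊗ₘ pm (map g h)) =
      (pm f ⊗ₘ (pm g ⊗ₘ pm h)) ≫ (𝟙 (CohB1.toPMod L') ⊗ₘ η' M' N') := by
    rw [MonoidalCategory.tensorHom_comp_tensorHom, MonoidalCategory.tensorHom_comp_tensorHom,
      η'_naturality, Category.id_comp, Category.comp_id]
  exact (shfMap_comp _ _).symm.trans ((congrArg shfMap key).trans (shfMap_comp _ _))

lemma assoc_hom_eq (L M N : X.Modules) :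
    (assoc L M N).hom = inv (assocA L M N) ≫
      shfMap (α_ (CohB1.toPMod L) (CohB1.toPMod M) (CohB1.toPMod N)).hom ≫ assocB L M N := rfl

/-- naturality of the associator in all three variables -/
theorem assoc_naturality (f : L ⟶ L') (g : M ⟶ M') (h : N ⟶ N') :
    map (map f g) h ≫ (assoc L' M' N').hom = (assoc L M N).hom ≫ map f (map g h) := by
  rw [assoc_hom_eq, assoc_hom_eq, Category.assoc, Category.assoc, assocB_naturality,
    ← cancel_epi (assocA L M N), IsIso.hom_inv_id_assoc, ← Category.assoc,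
    assocA_naturality, Category.assoc, IsIso.hom_inv_id_assoc]
  have key := MonoidalCategory.associator_naturality (pm f) (pm g) (pm h)
  have key2 : shfMap ((pm f ⊗ₘ pm g) ⊗ₘ pm h) ≫
      shfMap (α_ (CohB1.toPMod L') (CohB1.toPMod M') (CohB1.toPMod N')).hom =
      shfMap (α_ (CohB1.toPMod L) (CohB1.toPMod M) (CohB1.toPMod N)).hom ≫
        shfMap (pm f ⊗ₘ (pm g ⊗ₘ pm h)) :=
    (shfMap_comp _ _).symm.trans ((congrArg shfMap key).trans (shfMap_comp _ _))
  rw [← Category.assoc, key2, Category.assoc]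

end Groth.Agent.Helper5.CXA
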