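import Mathlib
import Groth.Prelude.Def_DerSch

/-!
# The stalk functor on `X.Modules` is exact and preserves colimits; stalks detect zero objects
-/

set_option autoImplicit false
set_option linter.unusedSectionVars false
set_option linter.unusedVariables false
set_option linter.style.haveILetI false

open CategoryTheory Limits AlgebraicGeometry

namespace Groth.Agent.Helper5.StalkCx

section Refl
universe v₁ v₂ v₃ u₁ u₂ u₃ w w'
variable {P : Type u₁} {S : Type u₂} {D : Type u₃} [Category.{v₁} P] [Category.{v₂} S]
  [Category.{v₃} D]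
  {L : P ⥤ S} {R : S ⥤ P} (adj : L ⊣ R) [R.Full] [R.Faithful] (G : S ⥤ D)
  {J : Type w} [Category.{w'} J]

include adj in
/-- a functor out of a reflective subcategory preserves colimits as soon as its composition with
the reflector does -/
lemma preservesColimitsOfShape_of_reflective [HasColimitsOfShape J P]
    [PreservesColimitsOfShape J (L ⋙ G)] : PreservesColimitsOfShape J G := by
  constructor
  intro F
  let c' := colimit.cocone (F ⋙ R)
  have hc' : IsColimit c' := colimit.isColimit (F ⋙ R)
  have : PreservesColimitsOfShape J L := adj.leftAdjoint_preservesColimits.1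
  have h1 : IsColimit (L.mapCocone c') := isColimitOfPreserves L hc'
  let e : (F ⋙ R) ⋙ L ≅ F :=
    (Functor.isoWhiskerLeft F (asIso adj.counit) :) ≪≫ F.rightUnitor
  let c : Cocone F := (Cocone.precompose e.inv).obj (L.mapCocone c')
  have hc : IsColimit c := (IsColimit.precomposeInvEquiv e _).symm h1
  apply preservesColimit_of_preserves_colimit_cocone hc
  have h2 : IsColimit ((L ⋙ G).mapCocone c') := isColimitOfPreserves (L ⋙ G) hc'
  have h3 : IsColimit ((Cocone.precompose (Functor.whiskerRight e.inv G)).obj
      (G.mapCocone (L.mapCocone c'))) :=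
    (IsColimit.precomposeInvEquiv (Functor.isoWhiskerRight e G) _).symm h2
  exact h3.ofIsoColimit
    (Functor.mapCoconePrecompose (H := G) (α := e.inv) (c := L.mapCocone c')).symm

end Refl

universe u w w'

section ToSheaf

variable (X : Scheme.{u}) {J : Type w} [Category.{w'} J] [HasColimitsOfShape J AddCommGrpCat.{u}]

instance toSheaf_preservesColimitsOfShape :
    PreservesColimitsOfShape J (SheafOfModules.toSheaf.{u} X.ringCatSheaf) := by
  have h0 : PreservesColimitsOfShape J
      (PresheafOfModules.toPresheaf.{u} X.ringCatSheaf.obj ⋙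
        presheafToSheaf (Opens.grothendieckTopology X) AddCommGrpCat.{u}) := inferInstance
  have h1 : PreservesColimitsOfShape J
      (PresheafOfModules.sheafification.{u} (𝟙 X.ringCatSheaf.obj) ⋙
        SheafOfModules.toSheaf.{u} X.ringCatSheaf) :=
    preservesColimitsOfShape_of_natIso
      (PresheafOfModules.sheafificationCompToSheaf.{u} (𝟙 X.ringCatSheaf.obj)).symm
  exact preservesColimitsOfShape_of_reflective
    (PresheafOfModules.sheafificationAdjunction.{u} (𝟙 X.ringCatSheaf.obj)) _

end ToSheaf

variable {X : Scheme.{u}}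

/-- the forgetful functor from `O_X`-modules to sheaves of abelian groups -/
noncomputable def toAbSheaf (X : Scheme.{u}) : X.Modules ⥤ TopCat.Sheaf Ab.{u} X.toTopCat :=
  SheafOfModules.toSheaf.{u} X.ringCatSheaf

/-- the stalk functor to abelian groups -/
noncomputable def stalkAb (X : Scheme.{u}) (x : X) : X.Modules ⥤ Ab.{u} :=
  toAbSheaf X ⋙ (TopCat.Sheaf.forget Ab.{u} X.toTopCat ⋙ TopCat.Presheaf.stalkFunctor Ab.{u} x)

instance (X : Scheme.{u}) : PreservesFiniteLimits (toAbSheaf X) :=
  inferInstanceAs (PreservesFiniteLimits (SheafOfModules.toSheaf.{u} X.ringCatSheaf))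

instance (X : Scheme.{u}) {J : Type w} [Category.{w'} J] [HasColimitsOfShape J AddCommGrpCat.{u}] :
    PreservesColimitsOfShape J (toAbSheaf X) :=
  inferInstanceAs (PreservesColimitsOfShape J (SheafOfModules.toSheaf.{u} X.ringCatSheaf))

instance (X : Scheme.{u}) (x : X) : PreservesFiniteLimits (stalkAb X x) := by
  unfold stalkAb
  infer_instance

instance (X : Scheme.{u}) (x : X) {J : Type w} [Category.{w'} J]
    [HasColimitsOfShape J AddCommGrpCat.{u}] :
    PreservesColimitsOfShape J (stalkAb X x) := by
  unfold stalkAb
  infer_instance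

/-- the stalk functor to modules over the local ring, after forgetting to abelian groups, is the
stalk functor to abelian groups -/
noncomputable def stalkFunctorForgetIso (X : Scheme.{u}) (x : X) :
    DerSch.stalkFunctor X x ⋙ forget₂ (ModuleCat.{u} (X.presheaf.stalk x)) Ab.{u} ≅ stalkAb X x :=
  NatIso.ofComponents (fun M => Iso.refl _) (by
    intro M N φ
    rfl)

section Pres

variable (X : Scheme.{u}) (x : X)

instance : PreservesFiniteLimits (DerSch.stalkFunctor X x) := by
  have : PreservesFiniteLimits (DerSch.stalkFunctor X x ⋙ forget₂ _ Ab.{u}) :=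
    preservesFiniteLimits_of_natIso (stalkFunctorForgetIso X x).symm
  exact preservesFiniteLimits_of_reflects_of_preserves (DerSch.stalkFunctor X x)
    (forget₂ _ Ab.{u})

instance {J : Type w} [Category.{w'} J] [HasColimitsOfShape J AddCommGrpCat.{u}]
    [HasColimitsOfShape J (ModuleCat.{u} (X.presheaf.stalk x))]
    [PreservesColimitsOfShape J (forget₂ (ModuleCat.{u} (X.presheaf.stalk x)) Ab.{u})] :
    PreservesColimitsOfShape J (DerSch.stalkFunctor X x) := by
  have : PreservesColimitsOfShape J (DerSch.stalkFunctor X x ⋙ forget₂ _ Ab.{u}) :=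
    preservesColimitsOfShape_of_natIso (stalkFunctorForgetIso X x).symm
  have : ReflectsColimitsOfShape J (forget₂ (ModuleCat.{u} (X.presheaf.stalk x)) Ab.{u}) :=
    reflectsColimitsOfShape_of_reflectsIsomorphisms
  exact preservesColimitsOfShape_of_reflects_of_preserves (DerSch.stalkFunctor X x)
    (forget₂ _ Ab.{u})

instance : PreservesFiniteColimits (DerSch.stalkFunctor X x) := ⟨fun J _ _ => inferInstance⟩

instance : (DerSch.stalkFunctor X x).PreservesHomology := inferInstance

end Pres

/-- a module all of whose stalks vanish is zero -/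
theorem isZero_of_stalks (M : X.Modules)
    (h : ∀ x : X, IsZero ((DerSch.stalkFunctor X x).obj M)) : IsZero M := by
  have h1 : IsZero ((toAbSheaf X).obj M) := by
    rw [TopCat.Sheaf.isZero_iff_stalkFunctor_obj_isZero]
    intro x
    have h2 : IsZero ((DerSch.stalkFunctor X x ⋙ forget₂ _ Ab.{u}).obj M) :=
      (forget₂ (ModuleCat.{u} (X.presheaf.stalk x)) Ab.{u}).map_isZero (h x)
    exact IsZero.of_iso h2 ((stalkFunctorForgetIso X x).app M).symm
  rw [IsZero.iff_id_eq_zero]
  have hf : (toAbSheaf X).Faithful := by
    unfold toAbSheaf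
    exact inferInstanceAs (SheafOfModules.toSheaf.{u} X.ringCatSheaf).Faithful
  apply (toAbSheaf X).map_injective
  exact h1.eq_of_src _ _

/-- the homology of the complex of stalks is the stalk of the homology -/
noncomputable def stalkHomologyIso (L : CochainComplex X.Modules ℤ) (x : X) (i : ℤ) :
    (((DerSch.stalkFunctor X x).mapHomologicalComplex (ComplexShape.up ℤ)).obj L).homology i ≅
      (DerSch.stalkFunctor X x).obj (L.homology i) :=
  (L.sc i).mapHomologyIso (DerSch.stalkFunctor X x)

/-- acyclicity is detected on stalks -/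
theorem isZero_homology_of_stalks (L : CochainComplex X.Modules ℤ) (i : ℤ)
    (h : ∀ x : X, IsZero
      ((((DerSch.stalkFunctor X x).mapHomologicalComplex (ComplexShape.up ℤ)).obj L).homology i)) :
    IsZero (L.homology i) := by
  apply isZero_of_stalks
  intro x
  exact IsZero.of_iso (h x) (stalkHomologyIso L x i).symm

theorem isZero_homology_stalk (L : CochainComplex X.Modules ℤ) (i : ℤ)
    (h : IsZero (L.homology i)) (x : X) : IsZero
      ((((DerSch.stalkFunctor X x).mapHomologicalComplex (ComplexShape.up ℤ)).obj L).homology i) :=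
  IsZero.of_iso ((DerSch.stalkFunctor X x).map_isZero h) (stalkHomologyIso L x i)

end Groth.Agent.Helper5.StalkCx
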