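import Groth.Agent.Lib.Helper5.CI3

/-!
# Direct image along a closed immersion: exactness, counit and unit
-/

set_option autoImplicit false
set_option linter.unusedSectionVars false
set_option linter.unusedVariables false
set_option linter.style.haveILetI false

universe u

open CategoryTheory CategoryTheory.Limits AlgebraicGeometry Opposite TopologicalSpace

namespace Groth.Agent.Helper5.CI

open Groth.Agent.Helper5.Sky Groth.Agent.Helper5.StalkCx

variable {X Y : Scheme.{u}} (f : X ⟶ Y)

theorem epi_pushforward_map [IsClosedImmersion f] {M N : X.Modules} (g : M ⟶ N) [Epi g] :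
    Epi ((Scheme.Modules.pushforward f).map g) := by
  apply epi_of_stalks
  intro y
  by_cases hy : y ∈ Set.range f.base
  · obtain ⟨x, rfl⟩ := hy
    have h := sigma_naturality f x g
    haveI := isIso_sigma f x M
    haveI := isIso_sigma f x N
    have e : (DerSch.stalkFunctor Y (f.base x)).map ((Scheme.Modules.pushforward f).map g) =
        sigma f x M ≫ (ModuleCat.restrictScalars (φst f x)).map
          ((DerSch.stalkFunctor X x).map g) ≫ inv (sigma f x N) := by
      rw [← Category.assoc, ← h, Category.assoc, IsIso.hom_inv_id, Category.comp_id]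
    rw [e]
    infer_instance
  · have hZ := isZero_stalk_pushforward f N y hy
    exact ⟨fun a b _ => hZ.eq_of_src a b⟩

instance preservesFiniteColimits_pushforward [IsClosedImmersion f] :
    PreservesFiniteColimits (Scheme.Modules.pushforward f) := by
  rw [Functor.preservesFiniteColimits_iff_forall_exact_map_and_epi]
  intro S hS
  haveI : PreservesLimitsOfSize.{0, 0} (Scheme.Modules.pushforward f) :=
    (Scheme.Modules.pullbackPushforwardAdjunction f).rightAdjoint_preservesLimits
  haveI : PreservesFiniteLimits (Scheme.Modules.pushforward f) :=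
    PreservesLimitsOfSize.preservesFiniteLimits _
  haveI : Epi S.g := hS.epi_g
  have h3 : PreservesFiniteLimits (Scheme.Modules.pushforward f) := inferInstance
  have h4 : ∀ (S : ShortComplex X.Modules), S.ShortExact →
      (S.map (Scheme.Modules.pushforward f)).Exact ∧
        Mono ((Scheme.Modules.pushforward f).map S.f) :=
    ((Functor.preservesFiniteLimits_tfae (Scheme.Modules.pushforward f)).out 3 0).1 h3
  exact ⟨(h4 S hS).1, epi_pushforward_map f S.g⟩

theorem isIso_counit [IsClosedImmersion f] (M : X.Modules) :
    IsIso ((Scheme.Modules.pullbackPushforwardAdjunction f).counit.app M) := by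
  apply isIso_of_stalks
  intro x
  rw [map_counit (Scheme.Modules.pullbackPushforwardAdjunction f) (stalkSkyAdj x)
    (stalkSkyAdj (f.base x)) (ModuleCat.extendRestrictScalarsAdj (φst f x)) (pushSkyNatIso f x) M]
  haveI : IsIso (sig (stalkSkyAdj x) (stalkSkyAdj (f.base x)) (pushSkyNatIso f x) M) :=
    isIso_sigma f x M
  haveI := isIso_counit_of_surjective (f.stalkMap_surjective x) ((DerSch.stalkFunctor X x).obj M)
  infer_instance

theorem isIso_unit [IsClosedImmersion f] (C : Y.Modules)
    (h0 : ∀ y, y ∉ Set.range f.base → IsZero ((DerSch.stalkFunctor Y y).obj C))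
    (h1 : ∀ (x : X) (a : Y.presheaf.stalk (f.base x)), φst f x a = 0 →
      ∀ t : (DerSch.stalkFunctor Y (f.base x)).obj C, a • t = 0) :
    IsIso ((Scheme.Modules.pullbackPushforwardAdjunction f).unit.app C) := by
  apply isIso_of_stalks
  intro y
  by_cases hy : y ∈ Set.range f.base
  · obtain ⟨x, rfl⟩ := hy
    have h := map_unit (Scheme.Modules.pullbackPushforwardAdjunction f) (stalkSkyAdj x)
      (stalkSkyAdj (f.base x)) (ModuleCat.extendRestrictScalarsAdj (φst f x)) (pushSkyNatIso f x) C
    haveI : IsIso (sig (stalkSkyAdj x) (stalkSkyAdj (f.base x)) (pushSkyNatIso f x)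
        ((Scheme.Modules.pullback f).obj C)) := isIso_sigma f x _
    haveI : IsIso ((DerSch.stalkFunctor Y (f.base x)).map
        ((Scheme.Modules.pullbackPushforwardAdjunction f).unit.app C) ≫
        (sig (stalkSkyAdj x) (stalkSkyAdj (f.base x)) (pushSkyNatIso f x)
          ((Scheme.Modules.pullback f).obj C) ≫
        (ModuleCat.restrictScalars (φst f x)).map
          ((lam (Scheme.Modules.pullbackPushforwardAdjunction f) (stalkSkyAdj x)
            (stalkSkyAdj (f.base x)) (ModuleCat.extendRestrictScalarsAdj (φst f x))
            (pushSkyNatIso f x)).hom.app C))) := by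
      rw [h]
      exact isIso_unit_of_ker_smul (f.stalkMap_surjective x) _ (h1 x)
    exact IsIso.of_isIso_comp_right _
      (sig (stalkSkyAdj x) (stalkSkyAdj (f.base x)) (pushSkyNatIso f x)
          ((Scheme.Modules.pullback f).obj C) ≫
        (ModuleCat.restrictScalars (φst f x)).map
          ((lam (Scheme.Modules.pullbackPushforwardAdjunction f) (stalkSkyAdj x)
            (stalkSkyAdj (f.base x)) (ModuleCat.extendRestrictScalarsAdj (φst f x))
            (pushSkyNatIso f x)).hom.app C))
  · have hZ1 := h0 y hy
    have hZ2 := isZero_stalk_pushforward f ((Scheme.Modules.pullback f).obj C) y hy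
    exact ⟨⟨0, hZ1.eq_of_src _ _, hZ2.eq_of_src _ _⟩⟩

end Groth.Agent.Helper5.CI
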