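import Groth.Agent.Lib.Helper5.KFlat4

/-!
# Tensoring with a K-flat complex preserves quasi-isomorphisms
-/

set_option autoImplicit false
set_option linter.unusedSectionVars false
set_option linter.unusedVariables false
set_option linter.style.haveILetI false

universe u

open CategoryTheory CategoryTheory.Limits MonoidalCategory HomologicalComplex

namespace Groth.Agent.Helper5.KF

variable {A : Type u} [CommRing A]

section
variable (L : DRing.Cx A) {X₁ X₂ X₃ : DRing.Cx A} (f : X₁ ⟶ X₂) (g : X₂ ⟶ X₃)

lemma injective_whiskerRight_f (hinj : ∀ p q : ℤ, Function.Injective (f.f p ▷ L.X q)) (n : ℤ) :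
    Function.Injective ((f ▷ L).f n) := by
  intro z z' hzz'
  rw [← sub_eq_zero] at hzz' ⊢
  rw [← map_sub] at hzz'
  apply eq_zero_of_components
  intro p q hpq
  apply hinj p q
  rw [map_zero, ← pr_whiskerRight_apply, hzz', map_zero]

lemma surjective_whiskerRight_f (hsurj : ∀ p q : ℤ, Function.Surjective (g.f p ▷ L.X q))
    (n : ℤ) : Function.Surjective ((g ▷ L).f n) := by
  intro z
  let T : Submodule A ((X₃ ⊗ L).X n) := LinearMap.range ((g ▷ L).f n).hom
  change z ∈ T
  apply mem_of_components
  intro p q hpq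
  obtain ⟨s, hs⟩ := hsurj p q (pr X₃ L p q n z)
  refine ⟨ι X₂ L p q n hpq s, ?_⟩
  change (g ▷ L).f n (ι X₂ L p q n hpq s) = _
  rw [whiskerRight_ι_apply, hs]

lemma exact_whiskerRight_f (hfg : f ≫ g = 0)
    (hex : ∀ p q : ℤ, Function.Exact (f.f p ▷ L.X q) (g.f p ▷ L.X q)) (n : ℤ) :
    Function.Exact ((f ▷ L).f n) ((g ▷ L).f n) := by
  intro z
  constructor
  · intro hz
    let T : Submodule A ((X₂ ⊗ L).X n) := LinearMap.range ((f ▷ L).f n).hom
    change z ∈ T
    apply mem_of_components
    intro p q hpq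
    have h1 : (g.f p ▷ L.X q) (pr X₂ L p q n z) = 0 := by
      rw [← pr_whiskerRight_apply, hz, map_zero]
    obtain ⟨s, hs⟩ := (hex p q _).mp h1
    refine ⟨ι X₁ L p q n hpq s, ?_⟩
    change (f ▷ L).f n (ι X₁ L p q n hpq s) = _
    rw [whiskerRight_ι_apply, hs]
  · rintro ⟨w, rfl⟩
    have : f ▷ L ≫ g ▷ L = 0 := by
      rw [← MonoidalCategory.comp_whiskerRight, hfg, whiskerRight_zero']
    exact app (congrArg (fun φ => φ.f n) this) w

end

theorem shortExact_tensorSCR (L : DRing.Cx A) (S : ShortComplex (DRing.Cx A))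
    (hinj : ∀ p q : ℤ, Function.Injective (S.f.f p ▷ L.X q))
    (hsurj : ∀ p q : ℤ, Function.Surjective (S.g.f p ▷ L.X q))
    (hex : ∀ p q : ℤ, Function.Exact (S.f.f p ▷ L.X q) (S.g.f p ▷ L.X q)) :
    (tensorSCR L S).ShortExact := by
  apply HomologicalComplex.shortExact_of_degreewise_shortExact
  intro n
  exact ModuleCat.shortComplex_shortExact _ (exact_whiskerRight_f L S.f S.g S.zero hex n)
    (injective_whiskerRight_f L S.f hinj n) (surjective_whiskerRight_f L S.g hsurj n)

/-- the degreewise splitting of a short exact sequence of complexes from degreewise retractions -/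
noncomputable def splittingOfRetraction (S : ShortComplex (DRing.Cx A)) (hS : S.ShortExact)
    (r : ∀ q : ℤ, S.X₂.X q ⟶ S.X₁.X q) (hr : ∀ q : ℤ, S.f.f q ≫ r q = 𝟙 _) (q : ℤ) :
    (S.map (HomologicalComplex.eval _ _ q)).Splitting :=
  ShortComplex.Splitting.ofExactOfRetraction _
    (hS.map_of_exact (HomologicalComplex.eval _ _ q)).exact (r q) (hr q)
    (hS.map_of_exact (HomologicalComplex.eval _ _ q)).epi_g

theorem shortExact_tensorSC_of_splitting (M : DRing.Cx A) (S : ShortComplex (DRing.Cx A))
    (σ : ∀ q : ℤ, (S.map (HomologicalComplex.eval _ _ q)).Splitting) :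
    (tensorSC M S).ShortExact := by
  have key : ∀ p q : ℤ, ((S.map (HomologicalComplex.eval _ _ q)).map
      (tensorLeft (M.X p))).ShortExact := fun p q =>
    { exact := ((σ q).map (tensorLeft (M.X p))).exact
      mono_f := ((σ q).map (tensorLeft (M.X p))).mono_f
      epi_g := ((σ q).map (tensorLeft (M.X p))).epi_g }
  apply shortExact_tensorSC
  · intro p q
    exact (key p q).moduleCat_injective_f
  · intro p q
    exact (key p q).moduleCat_surjective_g
  · intro p q
    exact (ShortComplex.ShortExact.moduleCat_exact_iff_function_exact _).mp (key p q).exact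

theorem shortExact_tensorSCR_of_splitting (M : DRing.Cx A) (S : ShortComplex (DRing.Cx A))
    (σ : ∀ q : ℤ, (S.map (HomologicalComplex.eval _ _ q)).Splitting) :
    (tensorSCR M S).ShortExact := by
  have key : ∀ p q : ℤ, ((S.map (HomologicalComplex.eval _ _ p)).map
      (tensorRight (M.X q))).ShortExact := fun p q =>
    { exact := ((σ p).map (tensorRight (M.X q))).exact
      mono_f := ((σ p).map (tensorRight (M.X q))).mono_f
      epi_g := ((σ p).map (tensorRight (M.X q))).epi_g }
  apply shortExact_tensorSCR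
  · intro p q
    exact (key p q).moduleCat_injective_f
  · intro p q
    exact (key p q).moduleCat_surjective_g
  · intro p q
    exact (ShortComplex.ShortExact.moduleCat_exact_iff_function_exact _).mp (key p q).exact

/-- in a short exact sequence of complexes with acyclic cokernel, the inclusion is a
quasi-isomorphism -/
theorem quasiIso_f_of_acyclic (S : ShortComplex (DRing.Cx A)) (hS : S.ShortExact)
    (h3 : ∀ i, IsZero (S.X₃.homology i)) : QuasiIso S.f := by
  rw [quasiIso_iff]
  intro i
  rw [quasiIsoAt_iff_isIso_homologyMap]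
  haveI : Mono (HomologicalComplex.homologyMap S.f i) :=
    (hS.homology_exact₁ (i - 1) i (by simp)).mono_g ((h3 (i - 1)).eq_of_src _ _)
  haveI : Epi (HomologicalComplex.homologyMap S.f i) :=
    (hS.homology_exact₂ i).epi_f ((h3 i).eq_of_tgt _ _)
  exact isIso_of_mono_of_epi _

theorem quasiIso_iff_acyclic_mappingCone {K L : DRing.Cx A} (f : K ⟶ L) :
    QuasiIso f ↔ ∀ n : ℤ, (CochainComplex.mappingCone f).ExactAt n := by
  refine (HomotopyCategory.quotient_map_mem_quasiIso_iff f).symm.trans ?_
  rw [HomotopyCategory.quasiIso_eq_trW_subcategoryAcyclic,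
    ← HomotopyCategory.quotient_obj_mem_subcategoryAcyclic_iff_exactAt]
  exact (HomotopyCategory.subcategoryAcyclic _).trW_iff_of_distinguished _
    (HomotopyCategory.mappingCone_triangleh_distinguished f)

/-- `- ⊗ K` preserves homotopies -/
noncomputable def whiskerRightHomotopy (K : DRing.Cx A) {L L' : DRing.Cx A} {f g : L ⟶ L'}
    (h : Homotopy f g) : Homotopy (f ▷ K) (g ▷ K) :=
  mapBifunctorMapHomotopy₁ h (𝟙 K) (curriedTensor (ModuleCat.{u} A)) (ComplexShape.up ℤ)

/-- `- ⊗ K` preserves homotopy equivalences -/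
noncomputable def whiskerRightHomotopyEquiv (K : DRing.Cx A) {L L' : DRing.Cx A}
    (e : HomotopyEquiv L L') : HomotopyEquiv (L ⊗ K) (L' ⊗ K) where
  hom := e.hom ▷ K
  inv := e.inv ▷ K
  homotopyHomInvId :=
    (Homotopy.ofEq (MonoidalCategory.comp_whiskerRight e.hom e.inv K).symm).trans
      ((whiskerRightHomotopy K e.homotopyHomInvId).trans
        (Homotopy.ofEq (MonoidalCategory.id_whiskerRight L K)))
  homotopyInvHomId :=
    (Homotopy.ofEq (MonoidalCategory.comp_whiskerRight e.inv e.hom K).symm).trans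
      ((whiskerRightHomotopy K e.homotopyInvHomId).trans
        (Homotopy.ofEq (MonoidalCategory.id_whiskerRight L' K)))

section Fac

open CochainComplex

variable {X Y : DRing.Cx A} (f : X ⟶ Y)

/-- the middle object of the factorization of `f` as a degreewise split monomorphism followed
by a homotopy equivalence -/
noncomputable abbrev facObj (X Y : DRing.Cx A) : DRing.Cx A := Y ⊞ mappingCone (𝟙 X)

noncomputable def facι : X ⟶ facObj X Y := biprod.lift f (mappingCone.inr (𝟙 X))

noncomputable def facπ (X Y : DRing.Cx A) : facObj X Y ⟶ Y := biprod.fst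

lemma facι_facπ : facι f ≫ facπ X Y = f := biprod.lift_fst _ _

/-- degreewise retraction of `facι` -/
noncomputable def facRetr (X Y : DRing.Cx A) (q : ℤ) : (facObj X Y).X q ⟶ X.X q :=
  (biprod.snd : facObj X Y ⟶ mappingCone (𝟙 X)).f q ≫ (mappingCone.snd (𝟙 X)).v q q (add_zero q)

lemma facι_facRetr (q : ℤ) : (facι f).f q ≫ facRetr X Y q = 𝟙 _ := by
  unfold facRetr
  rw [← Category.assoc, ← HomologicalComplex.comp_f, facι, biprod.lift_snd,
    mappingCone.inr_f_snd_v]

noncomputable def facEquiv (X Y : DRing.Cx A) : HomotopyEquiv (facObj X Y) Y where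
  hom := facπ X Y
  inv := biprod.inl
  homotopyHomInvId := by
    have h := mappingCone.homotopyToZeroOfId X
    have h0 : Homotopy ((biprod.snd : facObj X Y ⟶ _) ≫ 𝟙 _ ≫ (biprod.inr : _ ⟶ facObj X Y))
        ((biprod.snd : facObj X Y ⟶ _) ≫ 0 ≫ (biprod.inr : _ ⟶ facObj X Y)) :=
      (h.compRight biprod.inr).compLeft biprod.snd
    refine (Homotopy.ofEq ?_).trans (((Homotopy.refl (facπ X Y ≫ biprod.inl)).add h0.symm).trans
      (Homotopy.ofEq ?_))
    · rw [zero_comp, comp_zero, add_zero]
    · simp only [Category.id_comp]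
      exact biprod.total
  homotopyInvHomId := Homotopy.ofEq biprod.inl_fst

instance : Mono (facι f) := by
  apply HomologicalComplex.mono_of_mono_f
  intro q
  exact mono_of_mono_fac (facι_facRetr f q)

/-- the short exact sequence `X → facObj X Y → coker` -/
noncomputable def facSC : ShortComplex (DRing.Cx A) :=
  ShortComplex.mk (facι f) (cokernel.π (facι f)) (cokernel.condition _)

lemma facSC_shortExact : (facSC f).ShortExact :=
  { exact := ShortComplex.exact_cokernel _
    mono_f := by dsimp [facSC]; infer_instance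
    epi_g := by dsimp [facSC]; infer_instance }

noncomputable def facSplitting (q : ℤ) :
    ((facSC f).map (HomologicalComplex.eval _ _ q)).Splitting :=
  splittingOfRetraction (facSC f) (facSC_shortExact f) (facRetr X Y) (facι_facRetr f) q

end Fac

/-- the cokernel in the factorization is acyclic when `f` is a quasi-isomorphism -/
lemma facSC_acyclic {X Y : DRing.Cx A} (f : X ⟶ Y) (hf : QuasiIso f) :
    ∀ i, IsZero ((facSC f).X₃.homology i) := by
  haveI : QuasiIso (facπ X Y) := (facEquiv X Y).quasiIso_hom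
  haveI : QuasiIso (facι f ≫ facπ X Y) := by rw [facι_facπ]; exact hf
  have h : QuasiIso (facι f) := quasiIso_of_comp_right (facι f) (facπ X Y)
  intro i
  exact (HomologicalComplex.exactAt_iff_isZero_homology _ _).mp
    ((facSC_shortExact f).acyclic_X₃ h i)

/-- Tensoring (on the right) with a K-flat complex preserves quasi-isomorphisms. -/
theorem KFl.quasiIso_whiskerRight {K : DRing.Cx A} (hK : KFl K) {L₁ L₂ : DRing.Cx A}
    (f : L₁ ⟶ L₂) (hf : QuasiIso f) : QuasiIso (f ▷ K) := by
  have hS : (tensorSCR K (facSC f)).ShortExact :=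
    shortExact_tensorSCR_of_splitting K (facSC f) (facSplitting f)
  have h1 : QuasiIso (facι f ▷ K) :=
    quasiIso_f_of_acyclic _ hS (hK _ (facSC_acyclic f hf))
  have h2 : QuasiIso (facπ L₁ L₂ ▷ K) :=
    (whiskerRightHomotopyEquiv K (facEquiv L₁ L₂)).quasiIso_hom
  have : f ▷ K = facι f ▷ K ≫ facπ L₁ L₂ ▷ K := by
    rw [← MonoidalCategory.comp_whiskerRight, facι_facπ]
  rw [this]
  infer_instance

end Groth.Agent.Helper5.KF
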