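import Groth.Agent.Lib.Helper5.KFlat9
import Groth.Agent.Lib.Helper5.KFlat10

/-!
# Quasi-isomorphisms between K-flat complexes are preserved by `L ⊗ -`
-/

set_option autoImplicit false
set_option linter.unusedSectionVars false
set_option linter.unusedVariables false
set_option linter.style.haveILetI false

universe u

open CategoryTheory CategoryTheory.Limits MonoidalCategory HomologicalComplex

namespace Groth.Agent.Helper5.KF

variable {A : Type u} [CommRing A]

section StaircaseLeft

variable (P L : DRing.Cx A) (b : ℤ) (hb : ∀ i : ℤ, b < i → IsZero (P.X i))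
  (hP : ∀ i : ℤ, Module.Flat A (P.X i)) (hL : ∀ i : ℤ, L.ExactAt i) (n : ℤ)

include hb hP hL in
lemma staircaseL (k : ℕ) : ∀ (m : ℤ), b + 1 - m ≤ k → ∀ (z : (P ⊗ L).X n),
    (P ⊗ L).d n (n + 1) z = 0 →
    (∀ p q : ℤ, p + q = n → p < m → pr P L p q n z = 0) →
    ∃ w : (P ⊗ L).X (n - 1), (P ⊗ L).d (n - 1) n w = z := by
  induction k with
  | zero =>
    intro m hm z hz hcomp
    refine ⟨0, ?_⟩
    rw [map_zero]
    symm
    apply eq_zero_of_components
    intro p q hpq
    by_cases hp : p < m
    · exact hcomp p q hpq hp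
    · have hz0 : IsZero (P.X p ⊗ L.X q) :=
        (tensorRight (L.X q)).map_isZero (hb p (by push_cast at hm; omega))
      haveI := ModuleCat.subsingleton_of_isZero hz0
      exact Subsingleton.elim _ _
  | succ k ih =>
    intro m hm z hz h1
    by_cases hm' : b + 1 - m ≤ k
    · exact ih m hm' z hz h1
    set c := pr P L m (n - m) n z with hc
    have e2 := pr_d_apply P L n (n + 1) rfl (m - 1) (n - m) m (n - m + 1) (by omega) rfl z
    rw [hz, map_zero, h1 (m - 1) (n - m + 1) (by omega) (by omega), map_zero, zero_add] at e2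
    have e2' := units_smul_eq_zero _ _ e2.symm
    have hex : Function.Exact (L.d (n - m - 1) (n - m)).hom (L.d (n - m) (n - m + 1)).hom := by
      have := hL (n - m)
      rw [HomologicalComplex.exactAt_iff' L (n - m - 1) (n - m) (n - m + 1) (by simp) (by simp),
        ShortComplex.moduleCat_exact_iff_range_eq_ker] at this
      exact (LinearMap.exact_iff.mpr this.symm)
    haveI := hP m
    have hex' := Module.Flat.lTensor_exact (P.X m) hex
    obtain ⟨w, hw⟩ := (hex' c).mp e2'
    set w₀ : (P ⊗ L).X (n - 1) := m.negOnePow • ι P L m (n - m - 1) (n - 1) (by omega) w with hw₀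
    have hdw₀ : (P ⊗ L).d (n - 1) n w₀ =
        m.negOnePow • ι P L (m + 1) (n - m - 1) n (by omega)
          ((P.d m (m + 1) ▷ L.X (n - m - 1)) w) + ι P L m (n - m) n (by omega) c := by
      rw [hw₀, map_units_smul', d_ι_apply P L m (n - m - 1) (n - 1) (by omega) n (by omega)
        (m + 1) (n - m) rfl (by omega) w]
      erw [hw]
      rw [smul_add, smul_smul, Int.units_mul_self, one_smul]
    set z' := z - (P ⊗ L).d (n - 1) n w₀ with hz'
    have hz'd : (P ⊗ L).d n (n + 1) z' = 0 := by
      rw [hz', map_sub, hz, d_d_apply, sub_zero]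
    have h1' : ∀ p q : ℤ, p + q = n → p < m + 1 → pr P L p q n z' = 0 := by
      intro p q hpq hp
      rw [hz', map_sub, hdw₀, map_add, map_units_smul',
        pr_ι_ne_apply P L p q (m + 1) (n - m - 1) n (by omega) (by omega), smul_zero, zero_add]
      by_cases hpm : p = m
      · subst hpm
        obtain rfl : q = n - p := by omega
        rw [pr_ι_apply, sub_self]
      · rw [pr_ι_ne_apply P L p q m (n - m) n (by omega) (by omega), sub_zero]
        exact h1 p q hpq (by omega)
    obtain ⟨w', hw'⟩ := ih (m + 1) (by push_cast at hm; omega) z' hz'd h1'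
    refine ⟨w' + w₀, ?_⟩
    rw [map_add, hw', hz']
    abel

include hb hP hL in
/-- A bounded above complex of flat modules tensored (on the left) with an acyclic complex is
acyclic. -/
theorem exactAt_tensor_of_flat_bddAbove_left : (P ⊗ L).ExactAt n := by
  apply exactAt_of_elements
  intro z hz
  have key : ∀ z : (P ⊗ L).X n, ∃ m : ℤ, ∀ p q : ℤ, p + q = n → p < m → pr P L p q n z = 0 := by
    intro z
    let S : Submodule A ((P ⊗ L).X n) :=
      { carrier := {z | ∃ m : ℤ, ∀ p q : ℤ, p + q = n → p < m → pr P L p q n z = 0}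
        add_mem' := by
          rintro x y ⟨m₁, h₁⟩ ⟨m₂, h₂⟩
          refine ⟨min m₁ m₂, fun p q hpq hq => ?_⟩
          rw [map_add, h₁ p q hpq (lt_of_lt_of_le hq (min_le_left _ _)),
            h₂ p q hpq (lt_of_lt_of_le hq (min_le_right _ _)), add_zero]
        zero_mem' := ⟨0, fun p q _ _ => map_zero _⟩
        smul_mem' := by
          rintro c x ⟨m, h⟩
          exact ⟨m, fun p q hpq hq => by rw [map_smul, h p q hpq hq, smul_zero]⟩ }
    refine mem_of_components P L S z (fun p q hpq => ⟨p, fun p' q' hpq' hq' => ?_⟩)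
    exact pr_ι_ne_apply P L p' q' p q n hpq (by omega) _
  obtain ⟨m, hm⟩ := key z
  exact staircaseL P L b hb hP hL n (b + 1 - m).toNat m (by omega) z hz hm

end StaircaseLeft

/-- exactness of `S₀ ⊗ C` for a complex `S₀` with zero differentials gives exactness of
`S₀.X 0 ⊗ C.X •` -/
lemma exists_of_exactAt_single (S₀ C : DRing.Cx A) (hd : ∀ i j, S₀.d i j = 0)
    (hex : ∀ i, (S₀ ⊗ C).ExactAt i) (q q' q'' : ℤ) (hq : q + 1 = q') (hq' : q' + 1 = q'')
    (t : (S₀.X 0 ⊗ C.X q' : ModuleCat.{u} A)) (ht : (S₀.X 0 ◁ C.d q' q'') t = 0) :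
    ∃ s : (S₀.X 0 ⊗ C.X q : ModuleCat.{u} A), (S₀.X 0 ◁ C.d q q') s = t := by
  set z := ι S₀ C 0 q' q' (by omega) t with hz
  have hdz : (S₀ ⊗ C).d q' (q' + 1) z = 0 := by
    rw [hz, d_ι_apply S₀ C 0 q' q' (by omega) (q' + 1) rfl 1 q'' rfl hq' t, hd,
      zero_whiskerRight_apply, map_zero, zero_add, ht, map_zero, smul_zero]
  obtain ⟨w, hw⟩ := elements_of_exactAt _ _ (hex q') z hdz
  have h1 := pr_d_apply S₀ C (q' - 1) q' (by omega) (-1) q 0 q' (by omega) hq w
  rw [hw, hz, pr_ι_apply, hd, zero_whiskerRight_apply, zero_add] at h1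
  refine ⟨pr S₀ C 0 q (q' - 1) w, ?_⟩
  rw [h1]
  simp

open CochainComplex in
/-- An acyclic K-flat complex stays acyclic after tensoring with any module. -/
theorem modAcyclic_of_KFl_of_acyclic (C : DRing.Cx A) (hC : KFl C)
    (hC' : ∀ i : ℤ, IsZero (C.homology i)) : ModAcyclic C := by
  intro M q q' q'' hq hq' t ht
  let R := projectiveResolution M
  let P := R.cochainComplex
  let S₀ : DRing.Cx A := (CochainComplex.singleFunctor (ModuleCat.{u} A) 0).obj M
  let π : P ⟶ S₀ := R.π'
  have hπ : QuasiIso π := inferInstance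
  have hcone : ∀ i : ℤ, IsZero ((mappingCone π).homology i) := fun i =>
    (HomologicalComplex.exactAt_iff_isZero_homology _ _).mp
      ((quasiIso_iff_acyclic_mappingCone π).mp hπ i)
  have hSES : (tensorSCR C (coneSC π)).ShortExact :=
    shortExact_tensorSCR_of_splitting C (coneSC π) (coneSplitting π)
  have h2 : ∀ i : ℤ, IsZero (((mappingCone π) ⊗ C).homology i) := hC _ hcone
  have h3 : ∀ i : ℤ, IsZero (((P⟦(1 : ℤ)⟧) ⊗ C).homology i) := by
    intro i
    refine (HomologicalComplex.exactAt_iff_isZero_homology _ _).mp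
      (exactAt_tensor_of_flat_bddAbove_left (P⟦(1 : ℤ)⟧) C 0 ?_ ?_ ?_ i)
    · intro j hj
      exact CochainComplex.isZero_of_isStrictlyLE P 0 (j + 1) (by omega)
    · intro j
      have : Projective (P.X (j + 1)) := inferInstance
      have hproj : Module.Projective A (P.X (j + 1)) :=
        (IsProjective.iff_projective (R := A) (P.X (j + 1))).mpr this
      exact (inferInstance : Module.Flat A (P.X (j + 1)))
    · intro j
      exact (HomologicalComplex.exactAt_iff_isZero_homology _ _).mpr (hC' j)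
  have h1 : ∀ i : ℤ, IsZero ((S₀ ⊗ C).homology i) :=
    (acyclic_of_shortExact _ hSES).2.2 h2 h3
  let e : S₀.X 0 ≅ M := HomologicalComplex.singleObjXSelf (ComplexShape.up ℤ) 0 M
  have hd : ∀ i j, S₀.d i j = 0 := fun i j =>
    HomologicalComplex.single_obj_d (ComplexShape.up ℤ) 0 M i j
  have ht' : (S₀.X 0 ◁ C.d q' q'') ((e.inv ▷ C.X q') t) = 0 := by
    rw [← whisker_exchange_apply, ht, map_zero]
  obtain ⟨s, hs⟩ := exists_of_exactAt_single S₀ C hd
    (fun i => (HomologicalComplex.exactAt_iff_isZero_homology _ _).mpr (h1 i)) q q' q'' hq hq'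
    _ ht'
  refine ⟨(e.hom ▷ C.X q) s, ?_⟩
  rw [← whisker_exchange_apply, hs, whiskerRight_comp_apply, e.inv_hom_id]
  simp

/-- A quasi-isomorphism between K-flat complexes stays a quasi-isomorphism after tensoring with
any complex. -/
theorem KFl.quasiIso_whiskerLeft {P Q : DRing.Cx A} (hP : KFl P) (hQ : KFl Q) (α : P ⟶ Q)
    (hα : QuasiIso α) (L : DRing.Cx A) : QuasiIso (L ◁ α) := by
  have hB : KFl (facObj P Q) := KFl.of_homotopyEquiv (facEquiv P Q).symm hQ
  have hCac := facSC_acyclic α hα
  have hCfl : KFl (facSC α).X₃ := by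
    intro M hM
    have hS := shortExact_tensorSC_of_splitting M (facSC α) (facSplitting α)
    exact (acyclic_of_shortExact _ hS).1 (hP M hM) (hB M hM)
  have hmod := modAcyclic_of_KFl_of_acyclic _ hCfl hCac
  have hLC : ∀ i, IsZero ((L ⊗ (facSC α).X₃).homology i) := fun i =>
    (HomologicalComplex.exactAt_iff_isZero_homology _ _).mp
      (exactAt_tensor_of_modAcyclic hmod L i)
  have hS := shortExact_tensorSC_of_splitting L (facSC α) (facSplitting α)
  have h1 : QuasiIso (L ◁ facι α) := quasiIso_f_of_acyclic _ hS hLC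
  have h2 : QuasiIso (L ◁ facπ P Q) :=
    (whiskerLeftHomotopyEquiv L (facEquiv P Q)).quasiIso_hom
  have : L ◁ α = L ◁ facι α ≫ L ◁ facπ P Q := by
    rw [← MonoidalCategory.whiskerLeft_comp, facι_facπ]
  rw [this]
  infer_instance

end Groth.Agent.Helper5.KF
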