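import Groth.Agent.Lib.Helper5.SkyMod1
import Groth.Agent.Lib.Helper5.KFlat11

set_option autoImplicit false
set_option linter.unusedSectionVars false
set_option linter.unusedVariables false
set_option linter.style.haveILetI false

universe u

open CategoryTheory CategoryTheory.Limits AlgebraicGeometry MonoidalCategory

namespace Groth.Agent.Helper5.StalkCx

variable {X : Scheme.{u}}

theorem isIso_of_stalks {A B : X.Modules} (g : A ⟶ B)
    (h : ∀ x : X, IsIso ((DerSch.stalkFunctor X x).map g)) : IsIso g := by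
  haveI : Mono g := mono_of_stalks g (fun x => by haveI := h x; infer_instance)
  haveI : Epi g := epi_of_stalks g (fun x => by haveI := h x; infer_instance)
  exact isIso_of_mono_of_epi g

theorem quasiIso_sc_of_stalks {S₁ S₂ : ShortComplex X.Modules} (φ : S₁ ⟶ S₂)
    (h : ∀ x : X, ShortComplex.QuasiIso ((DerSch.stalkFunctor X x).mapShortComplex.map φ)) :
    ShortComplex.QuasiIso φ := by
  have γ : ShortComplex.LeftHomologyMapData φ S₁.leftHomologyData S₂.leftHomologyData := default
  rw [γ.quasiIso_iff]
  apply isIso_of_stalks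
  intro x
  have := h x
  rw [(γ.map (DerSch.stalkFunctor X x)).quasiIso_iff, ShortComplex.LeftHomologyMapData.map_φH]
    at this
  exact this

theorem quasiIso_of_stalks {K L : CochainComplex X.Modules ℤ} (f : K ⟶ L)
    (h : ∀ x : X, QuasiIso (((DerSch.stalkFunctor X x).mapHomologicalComplex
      (ComplexShape.up ℤ)).map f)) : QuasiIso f := by
  rw [quasiIso_iff]
  intro i
  rw [quasiIsoAt_iff]
  apply quasiIso_sc_of_stalks
  intro x
  have := (quasiIso_iff _).mp (h x) i
  rw [quasiIsoAt_iff] at this
  exact this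

theorem quasiIso_tensL_of_kflat {P Q : CochainComplex X.Modules ℤ} (α : P ⟶ Q)
    (hα : QuasiIso α) (hP : DCoh.IsKFlat P) (hQ : DCoh.IsKFlat Q)
    (F : CochainComplex X.Modules ℤ) : QuasiIso ((DCoh.tensorCx.obj F).map α) := by
  apply quasiIso_of_stalks
  intro x
  have hαx : QuasiIso (((DerSch.stalkFunctor X x).mapHomologicalComplex
      (ComplexShape.up ℤ)).map α) := inferInstance
  have h1 : QuasiIso (stalkCx x F ◁ ((DerSch.stalkFunctor X x).mapHomologicalComplex
      (ComplexShape.up ℤ)).map α) :=
    KF.KFl.quasiIso_whiskerLeft (Sky.isKFlat_stalk x P hP) (Sky.isKFlat_stalk x Q hQ) _ hαx _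
  have nat := (stalkBiComm x).ΦC_naturality_right F α
  have e1 : IsIso ((stalkBiComm x).ΦC F P) := inferInstance
  have e2 : IsIso ((stalkBiComm x).ΦC F Q) := inferInstance
  have h2 : QuasiIso ((stalkBiComm x).ΦC F P ≫
      KFA.BiComm.mapCM (DerSch.stalkFunctor X x) (KFA.tensL DCoh.tensorBi F α)) := by
    rw [← nat]
    haveI : QuasiIso ((stalkBiComm x).ΦC F Q) := inferInstance
    exact quasiIso_comp _ _
  exact (quasiIso_iff_comp_left ((stalkBiComm x).ΦC F P) _).mp h2

end Groth.Agent.Helper5.StalkCx
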