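import Groth.Agent.Lib.Helper5.PBT1
import Groth.Agent.Lib.Helper5.StalkCx6

/-!
# Pullback of modules commutes with tensor products
-/

set_option autoImplicit false
set_option linter.unusedSectionVars false
set_option linter.unusedVariables false
set_option linter.style.haveILetI false

universe u

open CategoryTheory CategoryTheory.Limits AlgebraicGeometry Opposite TopologicalSpace MonoidalCategory

namespace Groth.Agent.Helper5.PBT

open Groth.Agent.Helper5.Sky Groth.Agent.Helper13.PbGen Groth.Agent.Helper13.QCoh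
  Groth.Agent.Helper13.PbTensor Groth.Agent.Helper13.Tensor Groth.Agent.Helper5.StalkCx

variable {X Y : Scheme.{u}} (f : X ⟶ Y) (x : X) (A B : Y.Modules)

/-- the stalk of the comparison map, as a morphism of modules over the local ring -/
noncomputable abbrev cmpSt : (DerSch.stalkFunctor X x).obj
      ((Scheme.Modules.pullback f).obj (CohB1.tensorMod A B)) ⟶
    (DerSch.stalkFunctor X x).obj (CohB1.tensorMod ((Scheme.Modules.pullback f).obj A)
      ((Scheme.Modules.pullback f).obj B)) :=
  (DerSch.stalkFunctor X x).map (cmp f A B)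

/-- the chain of maps computing the monoidal structure map of extension of scalars -/
noncomputable def chain :
    (ModuleCat.extendScalars (φst f x)).obj
      ((DerSch.stalkFunctor Y (f.base x)).obj A ⊗ (DerSch.stalkFunctor Y (f.base x)).obj B) ⟶
    (ModuleCat.extendScalars (φst f x)).obj ((DerSch.stalkFunctor Y (f.base x)).obj A) ⊗
      (ModuleCat.extendScalars (φst f x)).obj ((DerSch.stalkFunctor Y (f.base x)).obj B) :=
  (ModuleCat.extendScalars (φst f x)).map (stalkTensorIso (f.base x) A B).inv ≫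
    (pullbackStalkIso f x).inv.app (CohB1.tensorMod A B) ≫ cmpSt f x A B ≫
    (stalkTensorIso x ((Scheme.Modules.pullback f).obj A) ((Scheme.Modules.pullback f).obj B)).hom ≫
    ((pullbackStalkIso f x).hom.app A ⊗ₘ (pullbackStalkIso f x).hom.app B)

open ChangeOfRings in
theorem chain_germ (W : Y.Opens) (hW : f.base x ∈ W) (a : Γ(A, W)) (b : Γ(B, W)) :
    chain f x A B ((1 : X.presheaf.stalk x) ⊗ₜ[Y.presheaf.stalk (f.base x), φst f x]
      (show ((DerSch.stalkFunctor Y (f.base x)).obj A ⊗ (DerSch.stalkFunctor Y (f.base x)).obj B :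
        ModuleCat (Y.presheaf.stalk (f.base x))) from
        (A.presheaf.germ W (f.base x) hW a) ⊗ₜ (B.presheaf.germ W (f.base x) hW b))) =
    Functor.OplaxMonoidal.δ (ModuleCat.extendScalars (φst f x)) _ _
      ((1 : X.presheaf.stalk x) ⊗ₜ[Y.presheaf.stalk (f.base x), φst f x]
      (show ((DerSch.stalkFunctor Y (f.base x)).obj A ⊗ (DerSch.stalkFunctor Y (f.base x)).obj B :
        ModuleCat (Y.presheaf.stalk (f.base x))) from
        (A.presheaf.germ W (f.base x) hW a) ⊗ₜ (B.presheaf.germ W (f.base x) hW b))) := by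
  have hW' : x ∈ f ⁻¹ᵁ W := hW
  have h1 : (stalkTensorIso (f.base x) A B).inv
      ((A.presheaf.germ W (f.base x) hW a) ⊗ₜ (B.presheaf.germ W (f.base x) hW b)) =
      (CohB1.tensorMod A B).presheaf.germ W (f.base x) hW (tmul A B a b) :=
    stalkTensorEquiv_germ A B (f.base x) hW a b
  have h2 := pullbackStalkIso_inv_tmul f x (CohB1.tensorMod A B) W hW hW' (tmul A B a b)
  have h3 : cmpSt f x A B (((Scheme.Modules.pullback f).obj (CohB1.tensorMod A B)).presheaf.germ
      (f ⁻¹ᵁ W) x hW' (ηsec f (CohB1.tensorMod A B) W (tmul A B a b))) =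
      (CohB1.tensorMod ((Scheme.Modules.pullback f).obj A)
        ((Scheme.Modules.pullback f).obj B)).presheaf.germ (f ⁻¹ᵁ W) x hW'
        (tmul _ _ (ηsec f A W a) (ηsec f B W b)) := by
    rw [DerSch.stalkFunctor_map_germ, cmp_app_ηsec]
  have h4 : (stalkTensorIso x ((Scheme.Modules.pullback f).obj A)
      ((Scheme.Modules.pullback f).obj B)).hom
      ((CohB1.tensorMod ((Scheme.Modules.pullback f).obj A)
        ((Scheme.Modules.pullback f).obj B)).presheaf.germ (f ⁻¹ᵁ W) x hW'
        (tmul _ _ (ηsec f A W a) (ηsec f B W b))) =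
      (((Scheme.Modules.pullback f).obj A).presheaf.germ (f ⁻¹ᵁ W) x hW' (ηsec f A W a)) ⊗ₜ
        (((Scheme.Modules.pullback f).obj B).presheaf.germ (f ⁻¹ᵁ W) x hW' (ηsec f B W b)) := by
    rw [stalkTensorIso_hom_apply]
    exact (LinearEquiv.symm_apply_eq _).mpr (stalkTensorEquiv_germ _ _ x hW' _ _).symm
  have h5 := pullbackStalkIso_hom_germ f x A W hW hW' a
  have h6 := pullbackStalkIso_hom_germ f x B W hW hW' b
  have s1 : (ModuleCat.extendScalars (φst f x)).map (stalkTensorIso (f.base x) A B).inv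
      ((1 : X.presheaf.stalk x) ⊗ₜ[Y.presheaf.stalk (f.base x), φst f x]
      (show ((DerSch.stalkFunctor Y (f.base x)).obj A ⊗ (DerSch.stalkFunctor Y (f.base x)).obj B :
        ModuleCat (Y.presheaf.stalk (f.base x))) from
        (A.presheaf.germ W (f.base x) hW a) ⊗ₜ (B.presheaf.germ W (f.base x) hW b))) =
      ((1 : X.presheaf.stalk x) ⊗ₜ[Y.presheaf.stalk (f.base x), φst f x]
        (show ((DerSch.stalkFunctor Y (f.base x)).obj (CohB1.tensorMod A B)) from
          (CohB1.tensorMod A B).presheaf.germ W (f.base x) hW (tmul A B a b))) :=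
    congrArg (fun t => ((1 : X.presheaf.stalk x) ⊗ₜ[Y.presheaf.stalk (f.base x), φst f x]
      (show ((DerSch.stalkFunctor Y (f.base x)).obj (CohB1.tensorMod A B)) from t))) h1
  have s5 : ((pullbackStalkIso f x).hom.app A ⊗ₘ (pullbackStalkIso f x).hom.app B)
      ((((Scheme.Modules.pullback f).obj A).presheaf.germ (f ⁻¹ᵁ W) x hW' (ηsec f A W a)) ⊗ₜ
        (((Scheme.Modules.pullback f).obj B).presheaf.germ (f ⁻¹ᵁ W) x hW' (ηsec f B W b))) =
      Functor.OplaxMonoidal.δ (ModuleCat.extendScalars (φst f x)) _ _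
      ((1 : X.presheaf.stalk x) ⊗ₜ[Y.presheaf.stalk (f.base x), φst f x]
      (show ((DerSch.stalkFunctor Y (f.base x)).obj A ⊗ (DerSch.stalkFunctor Y (f.base x)).obj B :
        ModuleCat (Y.presheaf.stalk (f.base x))) from
        (A.presheaf.germ W (f.base x) hW a) ⊗ₜ (B.presheaf.germ W (f.base x) hW b))) := by
    refine (ModuleCat.MonoidalCategory.tensorHom_tmul _ _ _ _).trans ?_
    refine (congrArg₂ (fun p q => p ⊗ₜ[X.presheaf.stalk x] q) h5 h6).trans ?_
    exact (ModuleCat.extendScalars_δ_tmul (φst f x) _ _ _ _).symm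
  refine Eq.trans ?_ s5
  refine Eq.trans ?_ (congrArg (fun t => ((pullbackStalkIso f x).hom.app A ⊗ₘ
    (pullbackStalkIso f x).hom.app B) t) h4)
  refine Eq.trans ?_ (congrArg (fun t => ((pullbackStalkIso f x).hom.app A ⊗ₘ
    (pullbackStalkIso f x).hom.app B) ((stalkTensorIso x ((Scheme.Modules.pullback f).obj A)
      ((Scheme.Modules.pullback f).obj B)).hom t)) h3)
  refine Eq.trans ?_ (congrArg (fun t => ((pullbackStalkIso f x).hom.app A ⊗ₘ
    (pullbackStalkIso f x).hom.app B) ((stalkTensorIso x ((Scheme.Modules.pullback f).obj A)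
      ((Scheme.Modules.pullback f).obj B)).hom (cmpSt f x A B t))) h2)
  refine Eq.trans ?_ (congrArg (fun t => ((pullbackStalkIso f x).hom.app A ⊗ₘ
    (pullbackStalkIso f x).hom.app B) ((stalkTensorIso x ((Scheme.Modules.pullback f).obj A)
      ((Scheme.Modules.pullback f).obj B)).hom (cmpSt f x A B
        ((pullbackStalkIso f x).inv.app (CohB1.tensorMod A B) t)))) s1)
  rfl

theorem chain_eq : chain f x A B = Functor.OplaxMonoidal.δ (ModuleCat.extendScalars (φst f x)) _ _ := by
  apply ModuleCat.ExtendScalars.hom_ext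
  intro m
  induction m using TensorProduct.induction_on with
  | zero =>
    erw [TensorProduct.tmul_zero]
    exact ((chain f x A B).hom.map_zero).trans
      ((Functor.OplaxMonoidal.δ (ModuleCat.extendScalars (φst f x)) _ _).hom.map_zero).symm
  | tmul a c =>
    obtain ⟨W, hW, r₀, m, m', n, n', -, rfl, -, rfl, -⟩ :=
      exists_rep (CohB1.toPMod A) (CohB1.toPMod B) (f.base x) 0 a 0 c 0
    exact chain_germ f x A B W hW m n
  | add a b ha hb =>
    erw [TensorProduct.tmul_add]
    exact ((chain f x A B).hom.map_add _ _).trans ((congrArg₂ (· + ·) ha hb).trans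
      ((Functor.OplaxMonoidal.δ (ModuleCat.extendScalars (φst f x)) _ _).hom.map_add _ _).symm)

instance isIso_cmpSt : IsIso (cmpSt f x A B) := by
  have h : IsIso (chain f x A B) := by rw [chain_eq]; infer_instance
  set m1 := (ModuleCat.extendScalars (φst f x)).map (stalkTensorIso (f.base x) A B).inv with hm1
  set m2 := (pullbackStalkIso f x).inv.app (CohB1.tensorMod A B) with hm2
  set m4 := (stalkTensorIso x ((Scheme.Modules.pullback f).obj A)
    ((Scheme.Modules.pullback f).obj B)).hom with hm4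
  set m5 := ((pullbackStalkIso f x).hom.app A ⊗ₘ (pullbackStalkIso f x).hom.app B) with hm5
  have i1 : IsIso m1 := by rw [hm1]; infer_instance
  have i2 : IsIso m2 := by rw [hm2]; infer_instance
  have i4 : IsIso m4 := by rw [hm4]; infer_instance
  have i5 : IsIso m5 := by rw [hm5]; infer_instance
  have hc : chain f x A B = m1 ≫ m2 ≫ cmpSt f x A B ≫ m4 ≫ m5 := rfl
  rw [hc] at h
  have h1 : IsIso (m2 ≫ cmpSt f x A B ≫ m4 ≫ m5) := IsIso.of_isIso_comp_left m1 _
  have h2 : IsIso (cmpSt f x A B ≫ m4 ≫ m5) := IsIso.of_isIso_comp_left m2 _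
  have h45 : IsIso (m4 ≫ m5) := IsIso.comp_isIso
  exact @IsIso.of_isIso_comp_right _ _ _ _ _ (cmpSt f x A B) (m4 ≫ m5) h45 h2

/-- the comparison map `f^*(A ⊗ B) ⟶ f^*A ⊗ f^*B` is an isomorphism -/
instance isIso_cmp : IsIso (cmp f A B) :=
  Groth.Agent.Helper5.StalkCx.isIso_of_stalks _ (fun x => isIso_cmpSt f x A B)

end Groth.Agent.Helper5.PBT

namespace Groth.Agent.Helper5.PBT

open Groth.Agent.Helper5.Sky Groth.Agent.Helper13.PbGen Groth.Agent.Helper13.QCoh
  Groth.Agent.Helper13.PbTensor Groth.Agent.Helper13.Tensor Groth.Agent.Helper5.StalkCx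

variable {X Y : Scheme.{u}} (f : X ⟶ Y)

lemma ηsec_naturality {A A' : Y.Modules} (g : A ⟶ A') (U : Y.Opens) (a : Γ(A, U)) :
    ((Scheme.Modules.pullback f).map g).app (f ⁻¹ᵁ U) (ηsec f A U a) = ηsec f A' U (g.app U a) := by
  have h := (Scheme.Modules.pullbackPushforwardAdjunction f).unit.naturality g
  have h2 := congrArg (fun φ => Scheme.Modules.Hom.app φ U a) h
  exact h2.symm

theorem cmp_nat {A A' B B' : Y.Modules} (g : A ⟶ A') (h : B ⟶ B') :
    (Scheme.Modules.pullback f).map (Groth.Agent.Helper13.Tensor.map g h) ≫ cmp f A' B' =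
      cmp f A B ≫ Groth.Agent.Helper13.Tensor.map ((Scheme.Modules.pullback f).map g)
        ((Scheme.Modules.pullback f).map h) := by
  apply ((Scheme.Modules.pullbackPushforwardAdjunction f).homEquiv _ _).injective
  apply Groth.Agent.Helper13.Tensor.hom_ext
  intro U a b
  rw [homEquiv_app, homEquiv_app]
  change (cmp f A' B').app (f ⁻¹ᵁ U) (((Scheme.Modules.pullback f).map
      (Groth.Agent.Helper13.Tensor.map g h)).app (f ⁻¹ᵁ U)
        (ηsec f (CohB1.tensorMod A B) U (tmul A B a b))) =
    (Groth.Agent.Helper13.Tensor.map ((Scheme.Modules.pullback f).map g)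
        ((Scheme.Modules.pullback f).map h)).app (f ⁻¹ᵁ U)
      ((cmp f A B).app (f ⁻¹ᵁ U) (ηsec f (CohB1.tensorMod A B) U (tmul A B a b)))
  rw [ηsec_naturality, map_app_tmul, cmp_app_ηsec, cmp_app_ηsec, map_app_tmul, ηsec_naturality,
    ηsec_naturality]

/-- the pullback of a tensor product is the tensor product of the pullbacks -/
noncomputable def pullbackTensorIso (A B : Y.Modules) :
    (Scheme.Modules.pullback f).obj (CohB1.tensorMod A B) ≅
      CohB1.tensorMod ((Scheme.Modules.pullback f).obj A) ((Scheme.Modules.pullback f).obj B) :=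
  asIso (cmp f A B)

/-- pullback commutes with the tensor products -/
noncomputable def pullbackBiComm :
    KFA.BiComm (DCoh.tensorBi (X := Y)) (DCoh.tensorBi (X := X)) (Scheme.Modules.pullback f) where
  μ A B := pullbackTensorIso f A B
  nat_left {A A'} g B := by
    have h := cmp_nat f g (𝟙 B)
    rw [CategoryTheory.Functor.map_id, ← tensorBi_map_app, ← tensorBi_map_app] at h
    exact h
  nat_right A {B B'} g := by
    have h := cmp_nat f (𝟙 A) g
    rw [CategoryTheory.Functor.map_id, ← tensorBi_obj_map, ← tensorBi_obj_map] at h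
    exact h

/-- the pullback of a tensor product of complexes -/
noncomputable def pullbackTensIso (L K : CochainComplex Y.Modules ℤ) :
    (DCoh.tensorCx.obj (((Scheme.Modules.pullback f).mapHomologicalComplex
        (ComplexShape.up ℤ)).obj L)).obj
      (((Scheme.Modules.pullback f).mapHomologicalComplex (ComplexShape.up ℤ)).obj K) ≅
    ((Scheme.Modules.pullback f).mapHomologicalComplex (ComplexShape.up ℤ)).obj
      ((DCoh.tensorCx.obj L).obj K) :=
  (pullbackBiComm f).tensIso L K

end Groth.Agent.Helper5.PBT
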