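import Mathlib

/-! Evaluation of power series in an adically complete algebra. -/

set_option autoImplicit false
set_option linter.style.haveILetI false

namespace Groth.Agent.Helper5.EvalPS

open MvPowerSeries

variable {k : Type*} [CommRing k] {R : Type*} [CommRing R] [Algebra k R] (𝔪 : Ideal R) {d : ℕ}

lemma idealOfVars_pow_le (b : Fin d → R) (hb : ∀ i, b i ∈ 𝔪) (n : ℕ) :
    MvPolynomial.idealOfVars (Fin d) k ^ n ≤
      Ideal.comap (MvPolynomial.aeval b : MvPolynomial (Fin d) k →ₐ[k] R) (𝔪 ^ n) := by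
  refine le_trans (Ideal.pow_right_mono ?_ n) (Ideal.le_comap_pow _ n)
  rw [MvPolynomial.idealOfVars, Ideal.span_le]
  rintro _ ⟨i, rfl⟩
  simp [hb i]

/-- the truncated evaluation maps -/
noncomputable def evalTrunc (b : Fin d → R) (hb : ∀ i, b i ∈ 𝔪) (n : ℕ) :
    MvPowerSeries (Fin d) k →ₐ[k] R ⧸ 𝔪 ^ n :=
  (Ideal.quotientMapₐ (𝔪 ^ n) (MvPolynomial.aeval b) (idealOfVars_pow_le 𝔪 b hb n)).comp
    ((truncTotalAlgHom (Fin d) k n).restrictScalars k)

lemma evalTrunc_apply (b : Fin d → R) (hb : ∀ i, b i ∈ 𝔪) (n : ℕ)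
    (p : MvPowerSeries (Fin d) k) :
    evalTrunc 𝔪 b hb n p = Ideal.Quotient.mk _ (MvPolynomial.aeval b (truncTotal n p)) := by
  rfl

lemma evalTrunc_compat (b : Fin d → R) (hb : ∀ i, b i ∈ 𝔪) {m n : ℕ} (hle : m ≤ n) :
    (Ideal.Quotient.factorₐ k (Ideal.pow_le_pow_right hle)).comp (evalTrunc 𝔪 b hb n) =
      evalTrunc 𝔪 b hb m := by
  ext p
  simp only [AlgHom.comp_apply, evalTrunc_apply]
  rw [Ideal.Quotient.factorₐ_apply_mk, Ideal.Quotient.eq, ← map_sub]
  exact idealOfVars_pow_le 𝔪 b hb m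
    (truncTotal_sub_truncTotal_mem_pow_idealOfVars hle le_rfl p)

variable [IsAdicComplete 𝔪 R]

/-- the evaluation map `k[[t]] → R`, `t_i ↦ b_i`. -/
noncomputable def evalHom (b : Fin d → R) (hb : ∀ i, b i ∈ 𝔪) :
    MvPowerSeries (Fin d) k →ₐ[k] R :=
  IsAdicComplete.liftAlgHom 𝔪 (evalTrunc 𝔪 b hb) (evalTrunc_compat 𝔪 b hb)

lemma evalHom_X (b : Fin d → R) (hb : ∀ i, b i ∈ 𝔪) (i : Fin d) :
    evalHom (k := k) 𝔪 b hb (X i) = b i := by
  have key : ∀ n, Ideal.Quotient.mk (𝔪 ^ n) (evalHom (k := k) 𝔪 b hb (X i)) =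
      Ideal.Quotient.mk (𝔪 ^ n) (b i) := by
    intro n
    rw [evalHom, IsAdicComplete.mk_liftAlgHom]
    have h1 : (X i : MvPowerSeries (Fin d) k) =
        algebraMap (MvPolynomial (Fin d) k) (MvPowerSeries (Fin d) k) (MvPolynomial.X i) := by
      rw [MvPowerSeries.algebraMap_apply']
      simp
    rw [h1, evalTrunc, AlgHom.comp_apply, AlgHom.restrictScalars_apply, AlgHom.commutes]
    rw [Ideal.Quotient.algebraMap_eq, Ideal.quotient_map_mkₐ]
    simp
  rw [← sub_eq_zero]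
  apply IsHausdorff.haus' (I := 𝔪)
  intro n
  rw [SModEq.zero, smul_eq_mul, Ideal.mul_top]
  exact Ideal.Quotient.eq.mp (key n)

/-- surjectivity criterion -/
theorem evalHom_surjective (b : Fin d → R) (hb : ∀ i, b i ∈ 𝔪)
    (hspan : Ideal.span (Set.range b) = 𝔪)
    (hk : Function.Surjective ((Ideal.Quotient.mk 𝔪).comp (algebraMap k R))) :
    Function.Surjective (evalHom (k := k) 𝔪 b hb) := by
  set ψ := evalHom (k := k) 𝔪 b hb with hψ
  have hmap : (Ideal.span (Set.range (X : Fin d → MvPowerSeries (Fin d) k))).map ψ.toRingHom =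
      𝔪 := by
    rw [Ideal.map_span, ← Set.range_comp, ← hspan]
    congr 2
    ext i
    exact evalHom_X 𝔪 b hb i
  haveI : IsHausdorff ((Ideal.span (Set.range (X : Fin d → MvPowerSeries (Fin d) k))).map
      ψ.toRingHom) R := by
    rw [hmap]; infer_instance
  have := surjective_of_mk_map_comp_surjective
    (I := Ideal.span (Set.range (X : Fin d → MvPowerSeries (Fin d) k))) ψ.toRingHom ?_
  · exact this
  · rw [hmap]
    intro y
    obtain ⟨c, hc⟩ := hk y
    refine ⟨algebraMap k _ c, ?_⟩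
    rw [← hc]
    simp only [RingHom.coe_comp, Function.comp_apply, AlgHom.toRingHom_eq_coe, RingHom.coe_coe,
      AlgHom.commutes]

end Groth.Agent.Helper5.EvalPS
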