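import Mathlib
import Groth.Agent.Lib.Lead.Hom10

/-! Regularity of power series rings over regular rings. -/

set_option autoImplicit false
set_option linter.style.haveILetI false
universe u

namespace Groth.Agent.Helper5.RegPS

open IsLocalRing PowerSeries

theorem isRegularLocalRing_atPrime_congr {R : Type u} [CommRing R] (I J : Ideal R) [I.IsPrime]
    [J.IsPrime] (h : I = J) (hI : IsRegularLocalRing (Localization.AtPrime I)) :
    IsRegularLocalRing (Localization.AtPrime J) := by
  subst h; exact hI

/-- A Noetherian ring is regular as soon as its localizations at maximal ideals are regular. -/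
theorem isRegularRing_of_maximal (R : Type u) [CommRing R] [IsNoetherianRing R]
    (h : ∀ (n : Ideal R) [n.IsMaximal], IsRegularLocalRing (Localization.AtPrime n)) :
    IsRegularRing R := by
  rw [isRegularRing_iff]
  intro P hP
  obtain ⟨n, hn, hPn⟩ := Ideal.exists_le_maximal P hP.ne_top
  haveI := hn
  haveI := h n
  have hdisj : Disjoint (n.primeCompl : Set R) (P : Set R) := by
    rw [Set.disjoint_left]; intro x hx hxP; exact hx (hPn hxP)
  let P' : Ideal (Localization.AtPrime n) := P.map (algebraMap R (Localization.AtPrime n))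
  haveI hP' : P'.IsPrime := IsLocalization.isPrime_of_isPrime_disjoint n.primeCompl _ P hP hdisj
  have hcomap : P'.comap (algebraMap R (Localization.AtPrime n)) = P :=
    IsLocalization.under_map_of_isPrime_disjoint n.primeCompl _ hP hdisj
  haveI := Groth.Agent.Lead.Hom.isRegularLocalRing_localization (R := Localization.AtPrime n) P'
  have e := IsLocalization.localizationLocalizationAtPrimeIsoLocalization n.primeCompl P'
  have h1 : IsRegularLocalRing
      (Localization.AtPrime (P'.comap (algebraMap R (Localization.AtPrime n)))) :=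
    IsRegularLocalRing.of_ringEquiv e.symm.toRingEquiv
  exact isRegularLocalRing_atPrime_congr _ _ hcomap h1

variable (A : Type u) [CommRing A]

/-- The ideal of power series with all coefficients in `p`. -/
noncomputable def coeffIdeal (p : Ideal A) : Ideal A⟦X⟧ :=
  RingHom.ker (PowerSeries.map (Ideal.Quotient.mk p))

variable {A}

lemma mem_coeffIdeal {p : Ideal A} {f : A⟦X⟧} : f ∈ coeffIdeal A p ↔ ∀ i, coeff i f ∈ p := by
  simp [coeffIdeal, RingHom.mem_ker, PowerSeries.ext_iff, Ideal.Quotient.eq_zero_iff_mem]

instance (p : Ideal A) [p.IsPrime] : (coeffIdeal A p).IsPrime := by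
  unfold coeffIdeal
  exact RingHom.ker_isPrime _

lemma comap_C_coeffIdeal (p : Ideal A) : (coeffIdeal A p).comap (C : A →+* A⟦X⟧) = p := by
  ext a
  simp only [Ideal.mem_comap, mem_coeffIdeal, coeff_C]
  constructor
  · intro h; simpa using h 0
  · intro h i; split_ifs
    · exact h
    · exact zero_mem _

lemma coeffIdeal_strictMono : StrictMono (fun p : PrimeSpectrum A =>
    (⟨coeffIdeal A p.asIdeal, inferInstance⟩ : PrimeSpectrum A⟦X⟧)) := by
  intro p q hpq
  have hle : p.asIdeal ≤ q.asIdeal := le_of_lt hpq
  refine lt_of_le_of_ne ?_ ?_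
  · intro f hf
    rw [mem_coeffIdeal] at hf ⊢
    exact fun i => hle (hf i)
  · intro h
    have h1 : coeffIdeal A p.asIdeal = coeffIdeal A q.asIdeal := congrArg PrimeSpectrum.asIdeal h
    have h2 : p.asIdeal = q.asIdeal := by
      rw [← comap_C_coeffIdeal p.asIdeal, ← comap_C_coeffIdeal q.asIdeal, h1]
    exact (ne_of_lt hpq) (PrimeSpectrum.ext h2)

lemma X_mem_of_isMaximal (n : Ideal A⟦X⟧) [hn : n.IsMaximal] : (X : A⟦X⟧) ∈ n := by
  by_contra hX
  obtain ⟨g, u, hu, hgu⟩ := hn.exists_inv hX
  -- g * X + u = 1
  have hunit : IsUnit u := by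
    have : u = 1 - g * X := by rw [← hgu]; ring
    rw [PowerSeries.isUnit_iff_constantCoeff, this]
    simp
  exact hn.ne_top (Ideal.eq_top_of_isUnit_mem _ hu hunit)

lemma mem_iff_constantCoeff_mem (n : Ideal A⟦X⟧) [n.IsMaximal] (f : A⟦X⟧) :
    f ∈ n ↔ constantCoeff f ∈ n.comap (C : A →+* A⟦X⟧) := by
  have hX := X_mem_of_isMaximal n
  rw [Ideal.mem_comap]
  have h := eq_X_mul_shift_add_const f
  constructor
  · intro hf
    have : C (constantCoeff f) = f - X * PowerSeries.mk fun p => coeff (p + 1) f := by
      rw [eq_sub_iff_add_eq']; exact h.symm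
    rw [this]
    exact n.sub_mem hf (n.mul_mem_right _ hX)
  · intro hc
    rw [h]
    exact n.add_mem (n.mul_mem_right _ hX) hc

lemma height_comap_C_add_one_le (n : Ideal A⟦X⟧) [n.IsMaximal] :
    (n.comap (C : A →+* A⟦X⟧)).height + 1 ≤ n.height := by
  set m := n.comap (C : A →+* A⟦X⟧) with hm
  haveI : m.IsPrime := Ideal.comap_isPrime _ _
  have h1 : m.height ≤ (coeffIdeal A m).height := by
    have := Order.height_le_height_apply_of_strictMono _ coeffIdeal_strictMono
      (⟨m, inferInstance⟩ : PrimeSpectrum A)
    rw [← PrimeSpectrum.height_eq_orderHeight, ← PrimeSpectrum.height_eq_orderHeight] at this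
    exact this
  have h2 : coeffIdeal A m < n := by
    refine lt_of_le_of_ne ?_ ?_
    · intro f hf
      rw [mem_iff_constantCoeff_mem]
      rw [mem_coeffIdeal] at hf
      have := hf 0
      rwa [coeff_zero_eq_constantCoeff_apply] at this
    · intro h
      have hX : (X : A⟦X⟧) ∈ coeffIdeal A m := h ▸ X_mem_of_isMaximal n
      rw [mem_coeffIdeal] at hX
      have := hX 1
      simp only [coeff_one_X] at this
      exact (inferInstance : m.IsPrime).ne_top ((Ideal.eq_top_iff_one _).mpr this)
  calc m.height + 1 ≤ (coeffIdeal A m).height + 1 := by gcongr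
    _ ≤ n.height := Ideal.height_add_one_le_of_lt_of_isPrime h2

theorem isRegularLocalRing_atPrime_of_isMaximal [IsRegularRing A] (n : Ideal A⟦X⟧)
    [n.IsMaximal] : IsRegularLocalRing (Localization.AtPrime n) := by
  set m := n.comap (C : A →+* A⟦X⟧) with hm
  haveI : m.IsPrime := Ideal.comap_isPrime _ _
  haveI : IsRegularLocalRing (Localization.AtPrime m) := inferInstance
  apply IsRegularLocalRing.of_spanFinrank_maximalIdeal_le
  let φ := Localization.localRingHom m n (C : A →+* A⟦X⟧) hm
  haveI : IsLocalHom φ := Localization.isLocalHom_localRingHom m n _ hm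
  set G := (maximalIdeal (Localization.AtPrime m)).generators with hG
  have hfg : (maximalIdeal (Localization.AtPrime m)).FG :=
    (maximalIdeal (Localization.AtPrime m)).fg_of_isNoetherianRing
  have hGfin : G.Finite := Submodule.FG.finite_generators hfg
  have hGspan : Ideal.span G = maximalIdeal (Localization.AtPrime m) :=
    (maximalIdeal (Localization.AtPrime m)).span_generators
  have hGcard : G.ncard = (maximalIdeal (Localization.AtPrime m)).spanFinrank :=
    Submodule.FG.generators_ncard hfg
  let T : Set (Localization.AtPrime n) :=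
    insert (algebraMap A⟦X⟧ (Localization.AtPrime n) X) (φ '' G)
  have hTfin : T.Finite := (hGfin.image _).insert _
  have hT : Ideal.span T = maximalIdeal (Localization.AtPrime n) := by
    apply le_antisymm
    · rw [Ideal.span_le]
      rintro y (rfl | ⟨g, hg, rfl⟩)
      · exact (IsLocalization.AtPrime.to_map_mem_maximal_iff _ n _).mpr (X_mem_of_isMaximal n)
      · have hgm : g ∈ maximalIdeal (Localization.AtPrime m) := by
          rw [← hGspan]; exact Ideal.subset_span hg
        rw [mem_maximalIdeal, mem_nonunits_iff] at hgm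
        rw [SetLike.mem_coe, mem_maximalIdeal, mem_nonunits_iff]
        exact fun h => hgm (IsLocalHom.map_nonunit g h)
    · rw [← Localization.AtPrime.map_eq_maximalIdeal, Ideal.map_le_iff_le_comap]
      intro f hf
      rw [Ideal.mem_comap]
      have hc : constantCoeff f ∈ m := (mem_iff_constantCoeff_mem n f).mp hf
      rw [eq_X_mul_shift_add_const f, map_add, map_mul]
      refine Ideal.add_mem _ (Ideal.mul_mem_right _ _ (Ideal.subset_span (Set.mem_insert _ _))) ?_
      have h1 : algebraMap A⟦X⟧ (Localization.AtPrime n) (C (constantCoeff f)) =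
          φ (algebraMap A (Localization.AtPrime m) (constantCoeff f)) :=
        (Localization.localRingHom_to_map m n _ hm _).symm
      rw [h1]
      have h2 : algebraMap A (Localization.AtPrime m) (constantCoeff f) ∈ Ideal.span G := by
        rw [hGspan]
        exact (IsLocalization.AtPrime.to_map_mem_maximal_iff _ m _).mpr hc
      have h3 := Ideal.mem_map_of_mem φ h2
      rw [Ideal.map_span] at h3
      exact Ideal.span_mono (Set.subset_insert _ _) h3
  have h1 : (maximalIdeal (Localization.AtPrime n)).spanFinrank ≤
      (maximalIdeal (Localization.AtPrime m)).spanFinrank + 1 := by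
    rw [← hT]
    calc (Ideal.span T).spanFinrank ≤ T.ncard :=
          Submodule.spanFinrank_span_le_ncard_of_finite hTfin
      _ ≤ (φ '' G).ncard + 1 := Set.ncard_insert_le _ _
      _ ≤ G.ncard + 1 := by gcongr; exact Set.ncard_image_le hGfin
      _ = _ := by rw [hGcard]
  have hdimA : ringKrullDim (Localization.AtPrime m) = m.height :=
    IsLocalization.AtPrime.ringKrullDim_eq_height m _
  have hdimB : ringKrullDim (Localization.AtPrime n) = n.height :=
    IsLocalization.AtPrime.ringKrullDim_eq_height n _
  have hreg := IsRegularLocalRing.spanFinrank_maximalIdeal (R := Localization.AtPrime m)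
  rw [hdimA] at hreg
  have hreg' : ((maximalIdeal (Localization.AtPrime m)).spanFinrank : ℕ∞) = m.height := by
    exact_mod_cast hreg
  have h2 := height_comap_C_add_one_le n
  rw [hdimB]
  have h3 : ((maximalIdeal (Localization.AtPrime n)).spanFinrank : ℕ∞) ≤ n.height := by
    calc ((maximalIdeal (Localization.AtPrime n)).spanFinrank : ℕ∞)
        ≤ ((maximalIdeal (Localization.AtPrime m)).spanFinrank + 1 : ℕ) := by exact_mod_cast h1
      _ = m.height + 1 := by rw [← hreg']; norm_cast
      _ ≤ n.height := h2
  exact_mod_cast h3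

instance isRegularRing_powerSeries [IsRegularRing A] : IsRegularRing A⟦X⟧ :=
  isRegularRing_of_maximal _ fun n _ => isRegularLocalRing_atPrime_of_isMaximal n

theorem isRegularRing_mvPowerSeries_fin (A : Type u) [CommRing A] [IsRegularRing A] (n : ℕ) :
    IsRegularRing (MvPowerSeries (Fin n) A) := by
  induction n with
  | zero => exact IsRegularRing.of_ringEquiv (MvPowerSeries.isEmptyEquiv (Fin 0) A).symm.toRingEquiv
  | succ n ih =>
    haveI := ih
    exact IsRegularRing.of_ringEquiv (MvPowerSeries.finSuccEquiv A n).symm.toRingEquiv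

end Groth.Agent.Helper5.RegPS
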