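import Mathlib
import Groth.Agent.Lib.Helper5.EvalPS
import Groth.Agent.Lib.Helper5.RegPS
import Groth.Agent.Lib.Lead.Hom14

/-! Adic completions of Noetherian rings: Noetherianity, maximal ideals, regularity. -/

set_option autoImplicit false
set_option linter.style.haveILetI false

namespace Groth.Agent.Helper5.CompReg

open IsLocalRing

universe u

section general

variable {A : Type u} [CommRing A] [IsNoetherianRing A] (J : Ideal A)

instance isAdicComplete_self : IsAdicComplete (J.map (algebraMap A (AdicCompletion J A)))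
    (AdicCompletion J A) :=
  AdicCompletion.isAdicComplete_self J J.fg_of_isNoetherianRing

lemma exists_sub_mem (y : AdicCompletion J A) :
    ∃ x : A, y - algebraMap A (AdicCompletion J A) x ∈ J.map (algebraMap A (AdicCompletion J A)) := by
  obtain ⟨x, hx⟩ := Ideal.Quotient.mk_surjective (AdicCompletion.evalOneₐ J y)
  refine ⟨x, ?_⟩
  rw [← AdicCompletion.ker_evalOneₐ_eq_map J J.fg_of_isNoetherianRing, RingHom.mem_ker]
  change AdicCompletion.evalOneₐ J (y - algebraMap A (AdicCompletion J A) x) = 0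
  rw [map_sub, ← hx, sub_eq_zero, AlgHom.commutes]
  rfl

theorem isNoetherianRing_adicCompletion : IsNoetherianRing (AdicCompletion J A) := by
  obtain ⟨n, a, ha⟩ := Submodule.fg_iff_exists_fin_generating_family.mp J.fg_of_isNoetherianRing
  set Jh := J.map (algebraMap A (AdicCompletion J A)) with hJh
  let b : Fin n → AdicCompletion J A := fun i => algebraMap A (AdicCompletion J A) (a i)
  have hspan : Ideal.span (Set.range b) = Jh := by
    have h1 : Jh = Ideal.map (algebraMap A (AdicCompletion J A)) (Ideal.span (Set.range a)) :=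
      congrArg (Ideal.map (algebraMap A (AdicCompletion J A))) ha.symm
    rw [h1, Ideal.map_span, ← Set.range_comp]
    rfl
  have hb : ∀ i, b i ∈ Jh := fun i => by
    rw [← hspan]; exact Ideal.subset_span ⟨i, rfl⟩
  have hk : Function.Surjective ((Ideal.Quotient.mk Jh).comp (algebraMap A (AdicCompletion J A))) := by
    intro y
    obtain ⟨z, rfl⟩ := Ideal.Quotient.mk_surjective y
    obtain ⟨x, hx⟩ := exists_sub_mem J z
    refine ⟨x, ?_⟩
    rw [RingHom.comp_apply, eq_comm, Ideal.Quotient.eq]
    exact hx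
  have hsurj := EvalPS.evalHom_surjective (k := A) Jh b hb hspan hk
  exact isNoetherianRing_of_surjective _ _ (EvalPS.evalHom (k := A) Jh b hb).toRingHom hsurj

instance : IsNoetherianRing (AdicCompletion J A) := isNoetherianRing_adicCompletion J

lemma map_le_of_isMaximal (𝔫 : Ideal (AdicCompletion J A)) [h𝔫 : 𝔫.IsMaximal] :
    J.map (algebraMap A (AdicCompletion J A)) ≤ 𝔫 :=
  (IsAdicComplete.le_jacobson_bot _).trans (sInf_le ⟨bot_le, h𝔫⟩)

theorem map_comap_eq_of_isMaximal (𝔫 : Ideal (AdicCompletion J A)) [h𝔫 : 𝔫.IsMaximal] :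
    (𝔫.comap (algebraMap A (AdicCompletion J A))).map (algebraMap A (AdicCompletion J A)) = 𝔫 := by
  apply le_antisymm Ideal.map_comap_le
  intro y hy
  obtain ⟨x, hx⟩ := exists_sub_mem J y
  have hJ𝔫 := map_le_of_isMaximal J 𝔫
  have hx𝔫 : algebraMap A (AdicCompletion J A) x ∈ 𝔫 := by
    have : algebraMap A (AdicCompletion J A) x = y - (y - algebraMap A (AdicCompletion J A) x) := by
      ring
    rw [this]
    exact 𝔫.sub_mem hy (hJ𝔫 hx)
  have hJle : J ≤ 𝔫.comap (algebraMap A (AdicCompletion J A)) := by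
    intro j hj
    exact hJ𝔫 (Ideal.mem_map_of_mem _ hj)
  have : y = algebraMap A (AdicCompletion J A) x + (y - algebraMap A (AdicCompletion J A) x) := by
    ring
  rw [this]
  exact Ideal.add_mem _ (Ideal.mem_map_of_mem _ hx𝔫) (Ideal.map_mono hJle hx)

end general

/-- ascent of regularity along a flat map with trivial closed fibre -/
theorem isRegularLocalRing_atPrime_of_flat {A B : Type u} [CommRing A] [CommRing B] [Algebra A B]
    [IsNoetherianRing A] [IsNoetherianRing B] [Module.Flat A B] (𝔫 : Ideal B) [𝔫.IsPrime] (𝔪 : Ideal A) [𝔪.IsPrime]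
    (h𝔪 : 𝔪 = 𝔫.comap (algebraMap A B)) (hmap : 𝔪.map (algebraMap A B) = 𝔫)
    [IsRegularLocalRing (Localization.AtPrime 𝔪)] :
    IsRegularLocalRing (Localization.AtPrime 𝔫) := by
  apply IsRegularLocalRing.of_spanFinrank_maximalIdeal_le
  let φ := Localization.localRingHom 𝔪 𝔫 (algebraMap A B) h𝔪
  set G := (maximalIdeal (Localization.AtPrime 𝔪)).generators with hG
  have hfg : (maximalIdeal (Localization.AtPrime 𝔪)).FG :=
    (maximalIdeal (Localization.AtPrime 𝔪)).fg_of_isNoetherianRing
  have hGfin : G.Finite := Submodule.FG.finite_generators hfg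
  have hGspan : Ideal.span G = maximalIdeal (Localization.AtPrime 𝔪) :=
    (maximalIdeal (Localization.AtPrime 𝔪)).span_generators
  have hGcard : G.ncard = (maximalIdeal (Localization.AtPrime 𝔪)).spanFinrank :=
    Submodule.FG.generators_ncard hfg
  have hT : Ideal.span (φ '' G) = maximalIdeal (Localization.AtPrime 𝔫) := by
    have h1 : maximalIdeal (Localization.AtPrime 𝔫) =
        (𝔪.map (algebraMap A B)).map (algebraMap B (Localization.AtPrime 𝔫)) :=
      (Localization.AtPrime.map_eq_maximalIdeal (I := 𝔫)).symm.trans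
        (congrArg (Ideal.map (algebraMap B (Localization.AtPrime 𝔫))) hmap.symm)
    rw [← Ideal.map_span, hGspan, h1, ← Localization.AtPrime.map_eq_maximalIdeal,
      Ideal.map_map, Ideal.map_map]
    congr 1
    ext x
    simp only [RingHom.comp_apply]
    exact Localization.localRingHom_to_map 𝔪 𝔫 _ h𝔪 x
  have h1 : (maximalIdeal (Localization.AtPrime 𝔫)).spanFinrank ≤
      (maximalIdeal (Localization.AtPrime 𝔪)).spanFinrank := by
    rw [← hT]
    calc (Ideal.span (φ '' G)).spanFinrank ≤ (φ '' G).ncard :=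
          Submodule.spanFinrank_span_le_ncard_of_finite (hGfin.image _)
      _ ≤ G.ncard := Set.ncard_image_le hGfin
      _ = _ := hGcard
  have hdimA : ringKrullDim (Localization.AtPrime 𝔪) = 𝔪.height :=
    IsLocalization.AtPrime.ringKrullDim_eq_height 𝔪 _
  have hdimB : ringKrullDim (Localization.AtPrime 𝔫) = 𝔫.height :=
    IsLocalization.AtPrime.ringKrullDim_eq_height 𝔫 _
  have hreg := IsRegularLocalRing.spanFinrank_maximalIdeal (R := Localization.AtPrime 𝔪)
  rw [hdimA] at hreg
  have hreg' : ((maximalIdeal (Localization.AtPrime 𝔪)).spanFinrank : ℕ∞) = 𝔪.height := by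
    exact_mod_cast hreg
  haveI : 𝔫.LiesOver 𝔪 := ⟨h𝔪⟩
  have h2 : 𝔪.height ≤ 𝔫.height := by
    rw [Ideal.height_eq_height_add_of_liesOver_of_hasGoingDown 𝔪 𝔫]
    exact le_self_add
  rw [hdimB]
  have h3 : ((maximalIdeal (Localization.AtPrime 𝔫)).spanFinrank : ℕ∞) ≤ 𝔫.height := by
    calc ((maximalIdeal (Localization.AtPrime 𝔫)).spanFinrank : ℕ∞)
        ≤ ((maximalIdeal (Localization.AtPrime 𝔪)).spanFinrank : ℕ) := by exact_mod_cast h1
      _ = 𝔪.height := hreg'
      _ ≤ 𝔫.height := h2
  exact_mod_cast h3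

theorem isRegularRing_adicCompletion (A : Type u) [CommRing A] [IsRegularRing A] (J : Ideal A) :
    IsRegularRing (AdicCompletion J A) := by
  haveI : IsNoetherianRing A := inferInstance
  apply RegPS.isRegularRing_of_maximal
  intro 𝔫 h𝔫
  exact isRegularLocalRing_atPrime_of_flat 𝔫 (𝔫.comap (algebraMap A (AdicCompletion J A))) rfl
    (map_comap_eq_of_isMaximal J 𝔫)

end Groth.Agent.Helper5.CompReg
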