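import Mathlib
import Groth.Agent.Lib.Helper5.RegPS

/-! Complete regular local rings with a coefficient field are power series rings. -/

set_option autoImplicit false
set_option linter.style.haveILetI false
universe u

namespace Groth.Agent.Helper5.PSR

open IsLocalRing MvPowerSeries

section span

variable {σ : Type*} {k : Type*} [CommRing k]

lemma mem_span_X_image [DecidableEq σ] (s : Finset σ) : ∀ (f : MvPowerSeries σ k),
    (∀ α : σ →₀ ℕ, (∀ i ∈ s, α i = 0) → coeff α f = 0) →
    f ∈ Ideal.span ((X : σ → MvPowerSeries σ k) '' (s : Set σ)) := by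
  induction s using Finset.induction_on with
  | empty =>
    intro f hf
    have : f = 0 := by
      ext α
      simpa using hf α (by simp)
    rw [this]; exact zero_mem _
  | insert a t hat ih =>
    intro f hf
    classical
    let f1 : MvPowerSeries σ k := fun α => if α a = 0 then 0 else coeff α f
    let f2 : MvPowerSeries σ k := fun α => if α a = 0 then coeff α f else 0
    have hsum : f = f1 + f2 := by
      ext α
      simp only [map_add]
      change coeff α f = (if α a = 0 then 0 else coeff α f) + (if α a = 0 then coeff α f else 0)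
      split_ifs <;> simp
    have h1 : f1 ∈ Ideal.span ((X : σ → MvPowerSeries σ k) '' ((insert a t : Finset σ) : Set σ)) := by
      have hdvd : (X a : MvPowerSeries σ k) ∣ f1 := by
        rw [X_dvd_iff]
        intro m hm
        change (if m a = 0 then 0 else coeff m f) = 0
        rw [if_pos hm]
      obtain ⟨g, hg⟩ := hdvd
      rw [hg]
      exact Ideal.mul_mem_right _ _ (Ideal.subset_span ⟨a, by simp, rfl⟩)
    have h2 : f2 ∈ Ideal.span ((X : σ → MvPowerSeries σ k) '' ((insert a t : Finset σ) : Set σ)) := by
      refine Ideal.span_mono (Set.image_mono ?_) (ih f2 ?_)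
      · intro x hx; simp only [Finset.coe_insert]; exact Set.mem_insert_of_mem _ hx
      · intro α hα
        change (if α a = 0 then coeff α f else 0) = 0
        split_ifs with h0
        · apply hf
          intro i hi
          rcases Finset.mem_insert.mp hi with rfl | hi
          · exact h0
          · exact hα i hi
        · rfl
    rw [hsum]
    exact Ideal.add_mem _ h1 h2

lemma mem_span_range_X_of_constantCoeff_eq_zero [Finite σ] (f : MvPowerSeries σ k)
    (hf : constantCoeff f = 0) : f ∈ Ideal.span (Set.range (X : σ → MvPowerSeries σ k)) := by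
  classical
  cases nonempty_fintype σ
  have := mem_span_X_image (Finset.univ : Finset σ) f (fun α hα => by
    have : α = 0 := by ext i; exact hα i (Finset.mem_univ i)
    rw [this]; exact hf)
  simpa using this

end span

variable {k : Type u} [Field k]

lemma maximalIdeal_eq_span_X (σ : Type*) [Finite σ] :
    maximalIdeal (MvPowerSeries σ k) = Ideal.span (Set.range (X : σ → MvPowerSeries σ k)) := by
  apply le_antisymm
  · intro f hf
    rw [mem_maximalIdeal, mem_nonunits_iff, MvPowerSeries.isUnit_iff_constantCoeff] at hf
    apply mem_span_range_X_of_constantCoeff_eq_zero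
    by_contra h
    exact hf (isUnit_iff_ne_zero.mpr h)
  · rw [Ideal.span_le]
    rintro _ ⟨i, rfl⟩
    rw [SetLike.mem_coe, mem_maximalIdeal, mem_nonunits_iff, MvPowerSeries.isUnit_iff_constantCoeff]
    simp

lemma ringKrullDim_mvPowerSeries_le (d : ℕ) :
    ringKrullDim (MvPowerSeries (Fin d) k) ≤ d := by
  refine (ringKrullDim_le_spanFinrank_maximalIdeal _).trans ?_
  rw [maximalIdeal_eq_span_X]
  have h1 := Submodule.spanFinrank_span_le_ncard_of_finite
    (R := MvPowerSeries (Fin d) k) (Set.finite_range (X : Fin d → MvPowerSeries (Fin d) k))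
  have h2 := Groth.Agent.Lead.RLR.ncard_range_le (X : Fin d → MvPowerSeries (Fin d) k)
  exact_mod_cast h1.trans h2

variable {R : Type u} [CommRing R] [IsLocalRing R] [IsNoetherianRing R] [Algebra k R] {d : ℕ}

theorem surjective_of_span_eq (hR : Function.Surjective ((residue R).comp (algebraMap k R)))
    (ψ : MvPowerSeries (Fin d) k →ₐ[k] R)
    (hspan : Ideal.span (Set.range fun i => ψ (X i)) = maximalIdeal R) :
    Function.Surjective ψ := by
  have hmap : (Ideal.span (Set.range (X : Fin d → MvPowerSeries (Fin d) k))).map ψ.toRingHom =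
      maximalIdeal R := by
    rw [Ideal.map_span, ← Set.range_comp, ← hspan]
    rfl
  haveI : IsHausdorff ((Ideal.span (Set.range (X : Fin d → MvPowerSeries (Fin d) k))).map
      ψ.toRingHom) R := by
    rw [hmap]; infer_instance
  have := surjective_of_mk_map_comp_surjective
    (I := Ideal.span (Set.range (X : Fin d → MvPowerSeries (Fin d) k))) ψ.toRingHom ?_
  · exact this
  · rw [hmap]
    intro y
    obtain ⟨c, hc⟩ := hR y
    refine ⟨algebraMap k _ c, ?_⟩
    rw [← hc]
    simp only [RingHom.coe_comp, Function.comp_apply, AlgHom.toRingHom_eq_coe, RingHom.coe_coe,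
      AlgHom.commutes]
    rfl
  
omit [IsLocalRing R] [IsNoetherianRing R] in
theorem injective_of_ringKrullDim_eq (hdim : ringKrullDim R = d)
    (ψ : MvPowerSeries (Fin d) k →ₐ[k] R) (hsurj : Function.Surjective ψ) :
    Function.Injective ψ := by
  rw [injective_iff_map_eq_zero]
  intro f hf
  by_contra hne
  have hnzd : f ∈ nonZeroDivisors (MvPowerSeries (Fin d) k) := mem_nonZeroDivisors_of_ne_zero hne
  have h1 := ringKrullDim_quotient_succ_le_of_nonZeroDivisor hnzd
  have h2 := ringKrullDim_mvPowerSeries_le (k := k) d
  let g : MvPowerSeries (Fin d) k ⧸ Ideal.span {f} →+* R :=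
    Ideal.Quotient.lift _ ψ.toRingHom (by
      intro a ha
      obtain ⟨b, rfl⟩ := Ideal.mem_span_singleton'.mp ha
      simp [hf])
  have hg : Function.Surjective g := Ideal.Quotient.lift_surjective_of_surjective _ _ hsurj
  have h3 := ringKrullDim_le_of_surjective g hg
  rw [hdim] at h3
  have h4 : ((d : WithBot ℕ∞) + 1) ≤ d := (add_le_add_left h3 1).trans (h1.trans h2)
  have h5 : ((d + 1 : ℕ) : WithBot ℕ∞) ≤ (d : ℕ) := by exact_mod_cast h4
  have h6 : d + 1 ≤ d := by exact_mod_cast h5
  omega

instance isRegularLocalRing_mvPowerSeries (d : ℕ) :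
    IsRegularLocalRing (MvPowerSeries (Fin d) k) := by
  haveI : IsRegularRing k := inferInstance
  haveI := Groth.Agent.Helper5.RegPS.isRegularRing_mvPowerSeries_fin k d
  exact IsRegularLocalRing.of_isRegularRing_of_isLocalRing _

omit [IsNoetherianRing R] [Algebra k R] in
theorem ideal_span_eq_of_cotangent_span {ι : Type*} (b : ι → R) (hb : ∀ i, b i ∈ maximalIdeal R)
    [IsNoetherianRing R]
    (hsp : Submodule.span (ResidueField R)
      (Set.range (fun i : ι => (maximalIdeal R).toCotangent ⟨b i, hb i⟩)) = ⊤) :
    Ideal.span (Set.range b) = maximalIdeal R := by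
  have h1 : Submodule.span R (Set.range (fun i : ι => (⟨b i, hb i⟩ : maximalIdeal R))) = ⊤ := by
    rw [← CotangentSpace.span_image_eq_top_iff, ← Set.range_comp]
    exact hsp
  have h3 := congrArg (Submodule.map (maximalIdeal R).subtype) h1
  rw [Submodule.map_span, Submodule.map_top, Submodule.range_subtype, ← Set.range_comp] at h3
  exact h3

theorem bijective_iff_regular [IsAdicComplete (maximalIdeal R) R]
    (hR : Function.Surjective ((residue R).comp (algebraMap k R)))
    (ψ : MvPowerSeries (Fin d) k →ₐ[k] R)
    (hψ : ∀ i : Fin d, ψ (MvPowerSeries.X i) ∈ maximalIdeal R)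
    (hb : LinearIndependent (ResidueField R)
      (fun i : Fin d => (maximalIdeal R).toCotangent ⟨ψ (MvPowerSeries.X i), hψ i⟩))
    (hsp : Submodule.span (ResidueField R)
      (Set.range (fun i : Fin d => (maximalIdeal R).toCotangent ⟨ψ (MvPowerSeries.X i), hψ i⟩)) = ⊤) :
    IsRegularLocalRing R ↔ Function.Bijective ψ := by
  have hspan := ideal_span_eq_of_cotangent_span (fun i => ψ (X i)) hψ hsp
  have hsurj := surjective_of_span_eq hR ψ hspan
  have hfr : Module.finrank (ResidueField R) (CotangentSpace R) = d := by
    have B := Module.Basis.mk hb (le_of_eq hsp.symm)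
    rw [Module.finrank_eq_card_basis B, Fintype.card_fin]
  constructor
  · intro hreg
    have hdim : ringKrullDim R = d := by
      rw [← hfr]; exact ((IsRegularLocalRing.iff_finrank_cotangentSpace R).mp hreg).symm
    exact ⟨injective_of_ringKrullDim_eq hdim ψ hsurj, hsurj⟩
  · intro hbij
    let e : MvPowerSeries (Fin d) k ≃+* R := RingEquiv.ofBijective ψ.toRingHom hbij
    exact IsRegularLocalRing.of_ringEquiv e

end Groth.Agent.Helper5.PSR
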