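import Mathlib
import Groth.Agent.Lib.Helper5.PSR
import Groth.Agent.Lib.Lead.Hom9

/-! Construction of the map from a power series ring to a complete local algebra. -/

set_option autoImplicit false
set_option linter.style.haveILetI false
universe u

namespace Groth.Agent.Helper5.PSR

open IsLocalRing MvPowerSeries

variable {k : Type u} [Field k] {R : Type u} [CommRing R] [IsLocalRing R] [Algebra k R] {d : ℕ}

lemma idealOfVars_pow_le (b : Fin d → R) (hb : ∀ i, b i ∈ maximalIdeal R) (n : ℕ) :
    MvPolynomial.idealOfVars (Fin d) k ^ n ≤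
      Ideal.comap (MvPolynomial.aeval b : MvPolynomial (Fin d) k →ₐ[k] R) (maximalIdeal R ^ n) := by
  refine le_trans (Ideal.pow_right_mono ?_ n) (Ideal.le_comap_pow _ n)
  rw [MvPolynomial.idealOfVars, Ideal.span_le]
  rintro _ ⟨i, rfl⟩
  simp [hb i]

/-- the truncated evaluation maps -/
noncomputable def evalTrunc (b : Fin d → R) (hb : ∀ i, b i ∈ maximalIdeal R) (n : ℕ) :
    MvPowerSeries (Fin d) k →ₐ[k] R ⧸ maximalIdeal R ^ n :=
  (Ideal.quotientMapₐ (maximalIdeal R ^ n) (MvPolynomial.aeval b) (idealOfVars_pow_le b hb n)).comp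
    ((truncTotalAlgHom (Fin d) k n).restrictScalars k)

lemma evalTrunc_apply (b : Fin d → R) (hb : ∀ i, b i ∈ maximalIdeal R) (n : ℕ)
    (p : MvPowerSeries (Fin d) k) :
    evalTrunc b hb n p = Ideal.Quotient.mk _ (MvPolynomial.aeval b (truncTotal n p)) := by
  rfl

lemma evalTrunc_compat (b : Fin d → R) (hb : ∀ i, b i ∈ maximalIdeal R) {m n : ℕ} (hle : m ≤ n) :
    (Ideal.Quotient.factorₐ k (Ideal.pow_le_pow_right hle)).comp (evalTrunc b hb n) =
      evalTrunc b hb m := by
  ext p
  simp only [AlgHom.comp_apply, evalTrunc_apply]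
  rw [Ideal.Quotient.factorₐ_apply_mk, Ideal.Quotient.eq, ← map_sub]
  exact idealOfVars_pow_le b hb m
    (truncTotal_sub_truncTotal_mem_pow_idealOfVars hle le_rfl p)

variable [IsNoetherianRing R] [IsAdicComplete (maximalIdeal R) R]

/-- the evaluation map `k[[t]] → R`, `t_i ↦ b_i`. -/
noncomputable def evalHom (b : Fin d → R) (hb : ∀ i, b i ∈ maximalIdeal R) :
    MvPowerSeries (Fin d) k →ₐ[k] R :=
  IsAdicComplete.liftAlgHom (maximalIdeal R) (evalTrunc b hb) (evalTrunc_compat b hb)

lemma evalHom_X (b : Fin d → R) (hb : ∀ i, b i ∈ maximalIdeal R) (i : Fin d) :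
    evalHom (k := k) b hb (X i) = b i := by
  have key : ∀ n, Ideal.Quotient.mk (maximalIdeal R ^ n) (evalHom (k := k) b hb (X i)) =
      Ideal.Quotient.mk (maximalIdeal R ^ n) (b i) := by
    intro n
    rw [evalHom, IsAdicComplete.mk_liftAlgHom]
    have h1 : (X i : MvPowerSeries (Fin d) k) =
        algebraMap (MvPolynomial (Fin d) k) (MvPowerSeries (Fin d) k) (MvPolynomial.X i) := by
      rw [MvPowerSeries.algebraMap_apply']
      simp
    rw [h1, evalTrunc, AlgHom.comp_apply, AlgHom.restrictScalars_apply, AlgHom.commutes]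
    rw [Ideal.Quotient.algebraMap_eq, Ideal.quotient_map_mkₐ]
    simp
  rw [← sub_eq_zero]
  apply IsHausdorff.haus' (I := maximalIdeal R)
  intro n
  rw [SModEq.zero, smul_eq_mul, Ideal.mul_top]
  exact Ideal.Quotient.eq.mp (key n)

end Groth.Agent.Helper5.PSR

namespace Groth.Agent.Helper5.PSR

open IsLocalRing MvPowerSeries

theorem exists_algEquiv {k : Type u} [Field k] {R : Type u} [CommRing R] [IsRegularLocalRing R]
    [Algebra k R] [IsAdicComplete (maximalIdeal R) R]
    (hk : Function.Bijective (algebraMap k (ResidueField R))) :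
    ∃ d : ℕ, Nonempty (R ≃ₐ[k] MvPowerSeries (Fin d) k) := by
  obtain ⟨b, hbspan⟩ := Groth.Agent.Lead.Hom.exists_generators_maximalIdeal (R := R)
  have hb : ∀ i, b i ∈ maximalIdeal R := fun i => by
    rw [← hbspan]; exact Ideal.subset_span ⟨i, rfl⟩
  let ψ := evalHom (k := k) b hb
  have hR : Function.Surjective ((residue R).comp (algebraMap k R)) := by
    intro y
    obtain ⟨c, hc⟩ := hk.2 y
    exact ⟨c, by rw [← hc]; rfl⟩
  have hspan : Ideal.span (Set.range fun i => ψ (X i)) = maximalIdeal R := by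
    have : (fun i => ψ (X i)) = b := funext fun i => evalHom_X b hb i
    rw [this, hbspan]
  have hsurj := surjective_of_span_eq hR ψ hspan
  have hdim : ringKrullDim R = ((maximalIdeal R).spanFinrank : ℕ) :=
    (IsRegularLocalRing.spanFinrank_maximalIdeal (R := R)).symm
  have hinj := injective_of_ringKrullDim_eq hdim ψ hsurj
  exact ⟨_, ⟨(AlgEquiv.ofBijective ψ ⟨hinj, hsurj⟩).symm⟩⟩

end Groth.Agent.Helper5.PSR
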