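import Mathlib.RingTheory.Length
import Mathlib.RingTheory.Support
import Mathlib.RingTheory.HopkinsLevitzki
import Mathlib.RingTheory.KrullDimension.Module
import Mathlib.RingTheory.Spectrum.Prime.Module
import Mathlib.RingTheory.Ideal.Quotient.Noetherian

/-!
# Length lemmas for Hilbert–Samuel functions
-/

namespace Groth.Agent.Helper5.HS

section Col

variable {A : Type*} [CommRing A] {M : Type*} [AddCommGroup M] [Module A M]

/-- colength of a submodule -/
noncomputable def col (N : Submodule A M) : ℕ∞ := Module.length A (M ⧸ N)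

theorem col_anti {N N' : Submodule A M} (h : N ≤ N') : col N' ≤ col N :=
  Module.length_le_of_surjective (Submodule.factor h) (Submodule.factor_surjective h)

/-- key exact sequence `0 → M/(Q ⊓ f⁻¹P) → M/Q × M/P → M/(P ⊔ fQ) → 0` -/
theorem col_inf_comap_add_col_sup_map (f : M →ₗ[A] M) (P Q : Submodule A M) :
    col (Q ⊓ P.comap f) + col (P ⊔ Q.map f) = col Q + col P := by
  let g : (M ⧸ (Q ⊓ P.comap f)) →ₗ[A] (M ⧸ Q) × (M ⧸ P) :=
    Submodule.liftQ _ (LinearMap.prod Q.mkQ (P.mkQ ∘ₗ f)) (by
      intro m hm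
      rw [LinearMap.mem_ker]
      change (Q.mkQ m, P.mkQ (f m)) = 0
      rw [Prod.mk_eq_zero]
      exact ⟨(Submodule.Quotient.mk_eq_zero _).mpr hm.1,
        (Submodule.Quotient.mk_eq_zero _).mpr hm.2⟩)
  let ψ₁ : (M ⧸ Q) →ₗ[A] M ⧸ (P ⊔ Q.map f) :=
    Submodule.liftQ _ ((P ⊔ Q.map f).mkQ ∘ₗ f) (by
      intro m hm
      rw [LinearMap.mem_ker, LinearMap.comp_apply, Submodule.mkQ_apply,
        Submodule.Quotient.mk_eq_zero]
      exact Submodule.mem_sup_right (Submodule.mem_map_of_mem hm))
  let ψ₂ : (M ⧸ P) →ₗ[A] M ⧸ (P ⊔ Q.map f) :=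
    Submodule.liftQ _ (P ⊔ Q.map f).mkQ (by
      intro m hm
      rw [LinearMap.mem_ker, Submodule.mkQ_apply, Submodule.Quotient.mk_eq_zero]
      exact Submodule.mem_sup_left hm)
  let ψ : (M ⧸ Q) × (M ⧸ P) →ₗ[A] M ⧸ (P ⊔ Q.map f) := ψ₁.coprod (-ψ₂)
  have hg : Function.Injective g := by
    rw [← LinearMap.ker_eq_bot, Submodule.ker_liftQ, ← le_bot_iff]
    rintro _ ⟨m, hm, rfl⟩
    rw [Submodule.mem_bot, Submodule.mkQ_apply, Submodule.Quotient.mk_eq_zero]
    rw [SetLike.mem_coe, LinearMap.mem_ker] at hm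
    change (Q.mkQ m, P.mkQ (f m)) = 0 at hm
    rw [Prod.mk_eq_zero] at hm
    exact ⟨(Submodule.Quotient.mk_eq_zero Q).mp hm.1, (Submodule.Quotient.mk_eq_zero P).mp hm.2⟩
  have hψ : Function.Surjective ψ := by
    intro y
    obtain ⟨m, rfl⟩ := Submodule.mkQ_surjective _ y
    refine ⟨(0, Submodule.Quotient.mk (-m)), ?_⟩
    simp [ψ, ψ₂]
  have hex : Function.Exact g ψ := by
    intro y
    constructor
    · intro hy
      obtain ⟨a, b⟩ := y
      obtain ⟨a, rfl⟩ := Submodule.mkQ_surjective _ a
      obtain ⟨b, rfl⟩ := Submodule.mkQ_surjective _ b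
      have h1 : f a - b ∈ P ⊔ Q.map f := by
        rw [← Submodule.Quotient.mk_eq_zero]
        simpa [ψ, ψ₁, ψ₂, sub_eq_add_neg] using hy
      obtain ⟨p, hp, _, ⟨q, hq, rfl⟩, hpq⟩ := Submodule.mem_sup.mp h1
      refine ⟨Submodule.Quotient.mk (a - q), ?_⟩
      change (Q.mkQ (a - q), P.mkQ (f (a - q))) = (Q.mkQ a, P.mkQ b)
      rw [Prod.mk.injEq, Submodule.mkQ_apply, Submodule.mkQ_apply, Submodule.mkQ_apply,
        Submodule.mkQ_apply]
      constructor
      · rw [Submodule.Quotient.eq]
        simpa using hq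
      · rw [Submodule.Quotient.eq]
        have : f (a - q) - b = p := by
          rw [map_sub]
          have := hpq
          rw [eq_sub_iff_add_eq] at *
          rw [← this]; abel
        rw [this]; exact hp
    · rintro ⟨z, rfl⟩
      obtain ⟨m, rfl⟩ := Submodule.mkQ_surjective _ z
      simp [g, ψ, ψ₁, ψ₂]
  have := Module.length_eq_add_of_exact g ψ hg hψ hex
  rw [Module.length_prod] at this
  exact this.symm

end Col

section FL

variable {A : Type*} [CommRing A] {M : Type*} [AddCommGroup M] [Module A M]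

theorem isMaximal_of_mem_support_of_isFiniteLength (h : IsFiniteLength A M) :
    ∀ p ∈ Module.support A M, p.asIdeal.IsMaximal := by
  induction h with
  | of_subsingleton =>
    intro p hp
    rw [Module.support_eq_empty] at hp
    exact absurd hp (Set.notMem_empty p)
  | @of_simple_quotient M _ _ N _ _ ih =>
    intro p hp
    rw [Module.support_of_exact (LinearMap.exact_subtype_mkQ N) N.injective_subtype
      N.mkQ_surjective] at hp
    rcases hp with hp | hp
    · exact ih p hp
    · have h1 := Module.annihilator_le_of_mem_support hp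
      have h2 : (Module.annihilator A (M ⧸ N)).IsMaximal :=
        IsSimpleModule.annihilator_isMaximal
      have h3 := h2.eq_of_le p.2.ne_top h1
      rw [← h3]; exact h2

theorem isFiniteLength_of_support [IsNoetherianRing A] [Module.Finite A M]
    (h : ∀ p ∈ Module.support A M, p.asIdeal.IsMaximal) : IsFiniteLength A M := by
  let _ : Module (A ⧸ Module.annihilator A M) M := Module.quotientAnnihilator
  have : IsScalarTower A (A ⧸ Module.annihilator A M) M :=
    ⟨fun a b m => by
      obtain ⟨b, rfl⟩ := Ideal.Quotient.mk_surjective b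
      rw [Algebra.smul_def, Ideal.Quotient.algebraMap_eq, ← map_mul]
      change (a * b) • m = a • (b • m)
      rw [mul_smul]⟩
  have : IsArtinianRing (A ⧸ Module.annihilator A M) := by
    rw [isArtinianRing_iff_krullDimLE_zero, Ring.krullDimLE_zero_iff]
    intro P hP
    have h1 : (P.comap (Ideal.Quotient.mk (Module.annihilator A M))).IsMaximal := by
      apply h ⟨P.comap (Ideal.Quotient.mk _), inferInstance⟩
      rw [Module.mem_support_iff_of_finite]
      intro a ha
      rw [Ideal.mem_comap, Ideal.Quotient.eq_zero_iff_mem.mpr ha]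
      exact zero_mem _
    have h2 := Ideal.map_eq_top_or_isMaximal_of_surjective
      (Ideal.Quotient.mk (Module.annihilator A M)) Ideal.Quotient.mk_surjective h1
    rw [Ideal.map_comap_of_surjective _ Ideal.Quotient.mk_surjective] at h2
    exact h2.resolve_left hP.ne_top
  have : Module.Finite (A ⧸ Module.annihilator A M) M :=
    Module.Finite.of_restrictScalars_finite A _ M
  have h1 : IsFiniteLength (A ⧸ Module.annihilator A M) M :=
    isFiniteLength_iff_isNoetherian_isArtinian.mpr ⟨inferInstance, inferInstance⟩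
  rw [← Module.length_ne_top_iff] at h1 ⊢
  rwa [Module.length_eq_of_surjective (S := A) (R := A ⧸ Module.annihilator A M)
    Ideal.Quotient.mk_surjective]

theorem isFiniteLength_iff_support [IsNoetherianRing A] [Module.Finite A M] :
    IsFiniteLength A M ↔ ∀ p ∈ Module.support A M, p.asIdeal.IsMaximal :=
  ⟨isMaximal_of_mem_support_of_isFiniteLength, isFiniteLength_of_support⟩

/-- finite length of `M/I^n M` from finite length of `M/IM` -/
theorem isFiniteLength_quotient_pow [IsNoetherianRing A] [Module.Finite A M] (I : Ideal A)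
    (h : IsFiniteLength A (M ⧸ (I • ⊤ : Submodule A M))) (n : ℕ) :
    IsFiniteLength A (M ⧸ (I ^ n • ⊤ : Submodule A M)) := by
  rcases Nat.eq_zero_or_pos n with rfl | hn
  · have : Subsingleton (M ⧸ (I ^ 0 • ⊤ : Submodule A M)) := by
      rw [pow_zero, Ideal.one_eq_top, Submodule.top_smul]
      exact Submodule.Quotient.subsingleton_iff.mpr rfl
    exact .of_subsingleton
  rw [isFiniteLength_iff_support] at h ⊢
  intro p hp
  apply h p
  rw [Module.support_quotient] at hp ⊢
  refine ⟨hp.1, ?_⟩
  have := hp.2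
  rw [PrimeSpectrum.zeroLocus_pow I hn.ne'] at this
  exact this

end FL

end Groth.Agent.Helper5.HS
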