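import Mathlib

/-! Height-one primes of a polynomial ring. -/

set_option autoImplicit false
universe u
open Polynomial

namespace Groth.Agent.Helper5.PolyHeight

variable {A : Type u} [CommRing A]

theorem mem_of_C_mem_map_C (q : Ideal A) (a : A) (h : (C a : A[X]) ∈ q.map C) : a ∈ q := by
  have := (Ideal.mem_map_C_iff (I := q) (f := C a)).mp h 0
  simpa using this

theorem comap_map_C (q : Ideal A) : (q.map (C : A →+* A[X])).comap C = q := by
  apply le_antisymm
  · intro a ha
    exact mem_of_C_mem_map_C q a ha
  · exact Ideal.le_comap_map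

theorem map_C_strictMono : StrictMono (fun q : Ideal A => q.map (C : A →+* A[X])) := by
  intro q q' h
  refine lt_of_le_of_ne (Ideal.map_mono h.le) ?_
  intro heq
  have := congrArg (Ideal.comap (C : A →+* A[X])) heq
  rw [comap_map_C, comap_map_C] at this
  exact h.ne this

theorem height_le_height_map_C (p : Ideal A) [p.IsPrime] :
    p.height ≤ (p.map (C : A →+* A[X])).height := by
  let f : PrimeSpectrum A → PrimeSpectrum A[X] := fun q =>
    ⟨q.asIdeal.map C, Ideal.isPrime_map_C_of_isPrime⟩
  have hf : StrictMono f := by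
    intro q q' h
    exact map_C_strictMono (show q.asIdeal < q'.asIdeal from h)
  have h1 := Order.height_le_height_apply_of_strictMono f hf ⟨p, inferInstance⟩
  rw [← PrimeSpectrum.height_eq_orderHeight, ← PrimeSpectrum.height_eq_orderHeight] at h1
  exact h1

/-- Height-one primes of `A[X]` over a Noetherian domain. -/
theorem height_one_prime [IsDomain A] [IsNoetherianRing A] (P : Ideal A[X]) [P.IsPrime]
    (hP : P.height = 1) :
    P.comap (C : A →+* A[X]) = ⊥ ∨
      ((P.comap (C : A →+* A[X])).height = 1 ∧ P = (P.comap (C : A →+* A[X])).map C) := by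
  by_cases hp : P.comap (C : A →+* A[X]) = ⊥
  · exact Or.inl hp
  right
  set p := P.comap (C : A →+* A[X]) with hp_def
  haveI : p.IsPrime := Ideal.comap_isPrime C P
  have hQP : p.map C ≤ P := Ideal.map_comap_le
  have hQne : p.map (C : A →+* A[X]) ≠ ⊥ := by
    intro h
    apply hp
    have := congrArg (Ideal.comap (C : A →+* A[X])) h
    rw [comap_map_C] at this
    rw [this]
    ext a
    simp [Ideal.mem_comap]
  have hQht : (1 : ℕ∞) ≤ (p.map (C : A →+* A[X])).height := by
    rw [Order.one_le_iff_pos, pos_iff_ne_zero, Ne, Ideal.height_eq_zero_iff_eq_bot]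
    exact hQne
  have hPQ : p.map C = P := by
    haveI : (p.map (C : A →+* A[X])).IsPrime := Ideal.isPrime_map_C_of_isPrime
    refine Ideal.eq_of_le_of_height_le (I := p.map (C : A →+* A[X])) (J := P) hQP ?_
    rw [hP]
    exact hQht
  refine ⟨?_, hPQ.symm⟩
  apply le_antisymm
  · have := height_le_height_map_C p
    rw [hPQ, hP] at this
    exact this
  · rw [Order.one_le_iff_pos, pos_iff_ne_zero, Ne, Ideal.height_eq_zero_iff_eq_bot]
    exact hp

end Groth.Agent.Helper5.PolyHeight
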