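import Mathlib
import Groth.Agent.Lib.Lead.RLR1
import Groth.Agent.Lib.Helper5.PolyHeight

/-! `A[X]` is regular in codimension one when `A` is. -/

set_option autoImplicit false
universe u
open Polynomial IsLocalRing Ideal

namespace Groth.Agent.Helper5.PolyHeight

/-- Localisations of `R[X]` at primes lying over `q` are regular when `R_q` is. -/
theorem isRegularLocalRing_localization_of_comap (R : Type u) [CommRing R] (p : Ideal R[X])
    [p.IsPrime] [IsRegularLocalRing (Localization.AtPrime (p.comap C))] :
    IsRegularLocalRing (Localization.AtPrime p) := by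
  let q := p.comap C
  let S := (Localization.AtPrime q)[X]
  let pc := Submonoid.map Polynomial.C.toMonoidHom q.primeCompl
  let : Algebra R[X] S := algebra R (Localization.AtPrime q)
  have : IsLocalization pc S := Polynomial.isLocalization _ _
  let pS := p.map (algebraMap R[X] S)
  have disj : Disjoint (pc : Set R[X]) (p : Set R[X]) := by
    simpa [pc, q] using! Set.disjoint_image_left.mpr
      (Set.disjoint_compl_left_iff_subset.mpr (fun _ a ↦ a))
  have : pS.IsPrime := IsLocalization.isPrime_of_isPrime_disjoint pc _ _ ‹_› disj
  have : IsLocalization.AtPrime (Localization.AtPrime pS) p := by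
    convert IsLocalization.isLocalization_isLocalization_atPrime_isLocalization pc
      (Localization.AtPrime pS) pS
    exact (IsLocalization.under_map_of_isPrime_disjoint pc _ ‹_› disj).symm
  have eq : comap C pS = maximalIdeal (Localization.AtPrime q) := by
    rw [← IsLocalization.map_under q.primeCompl _ (comap C pS),
      ← IsLocalization.map_under q.primeCompl _ (maximalIdeal (Localization.AtPrime q))]
    simp only [comap_comap, S, pS]
    rw [← Polynomial.algebraMap_eq (R := Localization.AtPrime q),
      ← IsScalarTower.algebraMap_eq R (Localization.AtPrime q) (Localization.AtPrime q)[X],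
      IsScalarTower.algebraMap_eq R R[X] (Localization.AtPrime q)[X], ← comap_comap,
      ← Ideal.under_def R[X], IsLocalization.under_map_of_isPrime_disjoint pc _ ‹_› disj]
    simp [q, IsLocalization.AtPrime.under_maximalIdeal (Localization.AtPrime q) q]
  have := isRegularLocalRing_localization_atPrime_of_comap_eq_maximalIdeal _ pS eq
  have e : Localization.AtPrime pS ≃+* Localization.AtPrime p :=
    (IsLocalization.algEquiv p.primeCompl
      (Localization.AtPrime pS) (Localization.AtPrime p)).toRingEquiv
  exact IsRegularLocalRing.of_ringEquiv (R := Localization.AtPrime pS) e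

/-- A regular local ring of dimension one is a discrete valuation ring. -/
theorem isDiscreteValuationRing_of_isRegularLocalRing (R : Type u) [CommRing R] [IsDomain R]
    [IsRegularLocalRing R] (hd : ringKrullDim R = 1) : IsDiscreteValuationRing R := by
  have hnf : ¬ IsField R := by
    intro hf
    rw [ringKrullDim_eq_zero_of_isField hf] at hd
    exact zero_ne_one hd
  have hfin : (maximalIdeal R).spanFinrank = 1 :=
    Groth.Agent.Lead.RLR.spanFinrank_maximalIdeal_eq_of_dim (n := 1) (by exact_mod_cast hd)
  have fg' := (maximalIdeal R).fg_of_isNoetherianRing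
  have hcard := Submodule.FG.generators_ncard fg'
  rw [hfin] at hcard
  obtain ⟨x, hx⟩ := Set.ncard_eq_one.mp hcard
  have hspan := (maximalIdeal R).span_generators
  rw [hx] at hspan
  have hprinc : (maximalIdeal R).IsPrincipal := ⟨⟨x, hspan.symm⟩⟩
  exact ((IsDiscreteValuationRing.TFAE R hnf).out 0 4).mpr hprinc

theorem isDiscreteValuationRing_localization (A : Type u) [CommRing A] [IsDomain A]
    [IsNoetherianRing A]
    (hR1 : ∀ (p : Ideal A) [p.IsPrime], p.height = 1 →
      IsDiscreteValuationRing (Localization.AtPrime p))
    (P : Ideal A[X]) [P.IsPrime] (hP : P.height = 1) :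
    IsDiscreteValuationRing (Localization.AtPrime P) := by
  haveI : (P.comap (C : A →+* A[X])).IsPrime := Ideal.comap_isPrime C P
  haveI : IsRegularLocalRing (Localization.AtPrime (P.comap (C : A →+* A[X]))) := by
    rcases height_one_prime P hP with h0 | ⟨h1, -⟩
    · -- the fraction field
      have hgen : ∀ (q : Ideal A) [q.IsPrime], q = ⊥ →
          maximalIdeal (Localization.AtPrime q) = ⊥ := by
        intro q _ hq
        rw [← Localization.AtPrime.map_eq_maximalIdeal]
        simp [hq]
      have hmax : maximalIdeal (Localization.AtPrime (P.comap (C : A →+* A[X]))) = ⊥ :=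
        hgen _ h0
      have hfield : IsField (Localization.AtPrime (P.comap (C : A →+* A[X]))) :=
        IsLocalRing.isField_iff_maximalIdeal_eq.mpr hmax
      haveI : IsPrincipalIdealRing (Localization.AtPrime (P.comap (C : A →+* A[X]))) :=
        hfield.isPrincipalIdealRing
      infer_instance
    · haveI := hR1 _ h1
      infer_instance
  haveI := isRegularLocalRing_localization_of_comap A P
  apply isDiscreteValuationRing_of_isRegularLocalRing
  rw [IsLocalization.AtPrime.ringKrullDim_eq_height P (Localization.AtPrime P), hP]
  rfl

end Groth.Agent.Helper5.PolyHeight
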