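import Groth.Prelude.Def_ARSys
import Mathlib.CategoryTheory.Abelian.Refinements
import Mathlib.Algebra.Homology.ShortComplex.ExactFunctor
import Mathlib.CategoryTheory.Limits.FunctorCategory.EpiMono

set_option autoImplicit false
set_option linter.style.haveILetI false

universe w v u

open CategoryTheory CategoryTheory.Limits Opposite ARSys

namespace Groth.Agent.Helper5.ARS

variable {C : Type u} [Category.{v} C]

/-! ### transition maps -/

theorem tr_comp (X : PS C) {n m k : ℕ} (h₁ : n ≤ m) (h₂ : m ≤ k) :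
    tr X h₂ ≫ tr X h₁ = tr X (h₁.trans h₂) := by
  unfold tr
  rw [← X.map_comp]
  rfl

theorem tr_refl (X : PS C) (n : ℕ) : tr X (le_refl n) = 𝟙 _ := by
  unfold tr
  have : (homOfLE (le_refl n)).op = 𝟙 (op n) := rfl
  rw [this, X.map_id]

theorem tr_eq (X : PS C) {n m : ℕ} (h h' : n ≤ m) : tr X h = tr X h' := rfl

theorem tr_naturality {X Y : PS C} (f : X ⟶ Y) {n m : ℕ} (h : n ≤ m) :
    tr X h ≫ f.app (op n) = f.app (op m) ≫ tr Y h :=
  f.naturality _

theorem shiftMap_eq (X : PS C) (r n : ℕ) : shiftMap X r n = tr X (Nat.le_add_right n r) := rfl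

theorem shift_tr (X : PS C) (r : ℕ) {n m : ℕ} (h : n ≤ m) :
    tr ((shift C r).obj X) h = tr X (Nat.add_le_add_right h r) := rfl

variable [Abelian C]

/-! ### images via refinements -/

theorem imageSubobject_epi_comp {A A' X : C} (π : A' ⟶ A) [Epi π] (f : A ⟶ X) :
    imageSubobject (π ≫ f) = imageSubobject f := by
  apply le_antisymm (imageSubobject_comp_le π f)
  haveI : IsIso (Subobject.ofLE _ _ (imageSubobject_comp_le π f)) := isIso_of_mono_of_epi _
  exact Subobject.le_of_comm (inv (Subobject.ofLE _ _ (imageSubobject_comp_le π f))) (by simp)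

theorem imageSubobject_le_of_fac {A A' B X : C} {f : A ⟶ X} {g : B ⟶ X} (π : A' ⟶ A) [Epi π]
    (y : A' ⟶ B) (h : π ≫ f = y ≫ g) : imageSubobject f ≤ imageSubobject g := by
  rw [← imageSubobject_epi_comp π f, h]
  exact imageSubobject_comp_le y g

theorem exists_fac_of_imageSubobject_le {A B X : C} {f : A ⟶ X} {g : B ⟶ X}
    (h : imageSubobject f ≤ imageSubobject g) :
    ∃ (A' : C) (π : A' ⟶ A) (_ : Epi π) (y : A' ⟶ B), π ≫ f = y ≫ g := by
  obtain ⟨A', π, hπ, y, fac⟩ := surjective_up_to_refinements_of_epi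
    (factorThruImageSubobject g) (factorThruImageSubobject f ≫ Subobject.ofLE _ _ h)
  refine ⟨A', π, hπ, y, ?_⟩
  have := fac =≫ (imageSubobject g).arrow
  simpa using this

theorem imageSubobject_le_iff {A B X : C} {f : A ⟶ X} {g : B ⟶ X} :
    imageSubobject f ≤ imageSubobject g ↔
      ∃ (A' : C) (π : A' ⟶ A) (_ : Epi π) (y : A' ⟶ B), π ≫ f = y ≫ g :=
  ⟨exists_fac_of_imageSubobject_le, fun ⟨_, π, _, y, h⟩ => imageSubobject_le_of_fac π y h⟩

theorem imageSubobject_comp_mono {A B X Y : C} {f : A ⟶ X} {g : B ⟶ X}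
    (h : imageSubobject f ≤ imageSubobject g) (k : X ⟶ Y) :
    imageSubobject (f ≫ k) ≤ imageSubobject (g ≫ k) := by
  obtain ⟨A', π, hπ, y, fac⟩ := exists_fac_of_imageSubobject_le h
  exact imageSubobject_le_of_fac π y (by rw [← Category.assoc, fac, Category.assoc])

theorem imageSubobject_comp_congr {A B X Y : C} {f : A ⟶ X} {g : B ⟶ X}
    (h : imageSubobject f = imageSubobject g) (k : X ⟶ Y) :
    imageSubobject (f ≫ k) = imageSubobject (g ≫ k) :=
  le_antisymm (imageSubobject_comp_mono h.le k) (imageSubobject_comp_mono h.ge k)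

theorem imageSubobject_le_of_comp_cokernel_π {A X Y : C} (x : A ⟶ Y) (u : X ⟶ Y)
    (h : x ≫ cokernel.π u = 0) : imageSubobject x ≤ imageSubobject u := by
  obtain ⟨A', π, hπ, x₁, fac⟩ :=
    (CokernelCofork.IsColimit.comp_π_eq_zero_iff_up_to_refinements
      (cokernelIsCokernel u) x).1 h
  exact imageSubobject_le_of_fac π x₁ fac

theorem comp_cokernel_π_of_imageSubobject_le {A X Y : C} (x : A ⟶ Y) (u : X ⟶ Y)
    (h : imageSubobject x ≤ imageSubobject u) : x ≫ cokernel.π u = 0 := by
  obtain ⟨A', π, hπ, y, fac⟩ := exists_fac_of_imageSubobject_le h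
  rw [← cancel_epi π, ← Category.assoc, fac, Category.assoc, cokernel.condition, comp_zero,
    comp_zero]

theorem epi_of_imageSubobject_le {A B X : C} (f : A ⟶ X) (m : B ⟶ X) [Mono m] (e : A ⟶ B)
    (hf : e ≫ m = f) (h : imageSubobject m ≤ imageSubobject f) : Epi e := by
  obtain ⟨A', π, hπ, y, fac⟩ := exists_fac_of_imageSubobject_le h
  have h1 : π = y ≫ e := by
    rw [← cancel_mono m, Category.assoc, hf, fac]
  exact epi_of_epi_fac h1.symm

/-! ### kernels and cokernels of morphisms of systems, termwise -/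

section Termwise

variable {D : Type*} [Category D] {X Y : D ⥤ C} (u : X ⟶ Y)

theorem kernel_ι_app_comp (n : D) : (kernel.ι u).app n ≫ u.app n = 0 := by
  rw [← NatTrans.comp_app, kernel.condition]; rfl

theorem app_comp_cokernel_π_app (n : D) : u.app n ≫ (cokernel.π u).app n = 0 := by
  rw [← NatTrans.comp_app, cokernel.condition]; rfl

theorem kernel_app_exact (n : D) :
    (ShortComplex.mk ((kernel.ι u).app n) (u.app n) (kernel_ι_app_comp u n)).Exact :=
  ((ShortComplex.mk (kernel.ι u) u (kernel.condition u)).exact_of_f_is_kernel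
    (kernelIsKernel u)).map ((evaluation _ _).obj n)

theorem cokernel_app_exact (n : D) :
    (ShortComplex.mk (u.app n) ((cokernel.π u).app n) (app_comp_cokernel_π_app u n)).Exact :=
  ((ShortComplex.mk u (cokernel.π u) (cokernel.condition u)).exact_of_g_is_cokernel
    (cokernelIsCokernel u)).map ((evaluation _ _).obj n)

instance mono_kernel_ι_app (n : D) : Mono ((kernel.ι u).app n) :=
  (NatTrans.mono_iff_mono_app _).1 inferInstance n

instance epi_cokernel_π_app (n : D) : Epi ((cokernel.π u).app n) :=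
  (NatTrans.epi_iff_epi_app _).1 inferInstance n

/-- A morphism killed by `u.app n` factors through the `n`-th term of the kernel. -/
theorem exists_lift_kernel_app {n : D} {T : C} (t : T ⟶ X.obj n) (ht : t ≫ u.app n = 0) :
    ∃ t' : T ⟶ (kernel u).obj n, t' ≫ (kernel.ι u).app n = t :=
  ⟨(kernel_app_exact u n).lift t ht, (kernel_app_exact u n).lift_f t ht⟩

/-- A morphism killing `u.app n` factors through the `n`-th term of the cokernel. -/
theorem exists_desc_cokernel_app {n : D} {T : C} (t : Y.obj n ⟶ T) (ht : u.app n ≫ t = 0) :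
    ∃ t' : (cokernel u).obj n ⟶ T, (cokernel.π u).app n ≫ t' = t :=
  ⟨(cokernel_app_exact u n).desc t ht, (cokernel_app_exact u n).g_desc t ht⟩

end Termwise

theorem isARNull_iff (X : PS C) :
    IsARNull X ↔ ∃ r : ℕ, ∀ n : ℕ, tr X (Nat.le_add_right n r) = 0 := Iff.rfl

/-- `kernel u` is null up to translation iff the kernels of the components are killed by
transition maps of a fixed length. -/
theorem isARNull_kernel_iff {X Y : PS C} (u : X ⟶ Y) :
    IsARNull (kernel u) ↔ ∃ r : ℕ, ∀ n : ℕ, ∀ (T : C) (t : T ⟶ X.obj (op (n + r))),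
      t ≫ u.app (op (n + r)) = 0 → t ≫ tr X (Nat.le_add_right n r) = 0 := by
  rw [isARNull_iff]
  constructor
  · rintro ⟨r, hr⟩
    refine ⟨r, fun n T t ht => ?_⟩
    obtain ⟨t', rfl⟩ := exists_lift_kernel_app u t ht
    rw [Category.assoc, ← tr_naturality (kernel.ι u), hr n, zero_comp, comp_zero]
  · rintro ⟨r, hr⟩
    refine ⟨r, fun n => ?_⟩
    rw [← cancel_mono ((kernel.ι u).app (op n)), zero_comp, tr_naturality (kernel.ι u)]
    exact hr n _ _ (kernel_ι_app_comp u _)

theorem isARNull_cokernel_iff {X Y : PS C} (u : X ⟶ Y) :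
    IsARNull (cokernel u) ↔ ∃ r : ℕ, ∀ n : ℕ,
      tr Y (Nat.le_add_right n r) ≫ cokernel.π (u.app (op n)) = 0 := by
  rw [isARNull_iff]
  constructor
  · rintro ⟨r, hr⟩
    refine ⟨r, fun n => ?_⟩
    obtain ⟨t', ht'⟩ := exists_desc_cokernel_app u (cokernel.π (u.app (op n)))
      (cokernel.condition _)
    rw [← ht', ← Category.assoc, tr_naturality (cokernel.π u), Category.assoc, hr n, zero_comp,
      comp_zero]
  · rintro ⟨r, hr⟩
    refine ⟨r, fun n => ?_⟩
    rw [← cancel_epi ((cokernel.π u).app (op (n + r))), comp_zero,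
      ← tr_naturality (cokernel.π u)]
    have h0 : u.app (op n) ≫ (cokernel.π u).app (op n) = 0 := app_comp_cokernel_π_app u _
    rw [← cokernel.π_desc (u.app (op n)) ((cokernel.π u).app (op n)) h0, ← Category.assoc, hr n,
      zero_comp]

end Groth.Agent.Helper5.ARS
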