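import Mathlib

/-!
# Left derived functors from functorial left resolutions
-/

set_option autoImplicit false
set_option linter.unusedSectionVars false
set_option linter.unusedVariables false
set_option linter.style.haveILetI false

open CategoryTheory CategoryTheory.Limits

namespace Groth.Agent.Helper5.LDer

universe v₁ v₂ v₃ u₁ u₂ u₃

variable {C : Type u₁} {D : Type u₂} {H : Type u₃} [Category.{v₁} C] [Category.{v₂} D]
  [Category.{v₃} H]
  (L : C ⥤ D) (W : MorphismProperty C) [L.IsLocalization W]
  (F : C ⥤ H) (P : C ⥤ C) (ψ : P ⟶ 𝟭 C)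
  (hψ : ∀ X, W (ψ.app X))
  (hPF : W.IsInvertedBy (P ⋙ F))
  (hF' : ∀ Y, IsIso (F.map (ψ.app (P.obj Y))))

/-- the candidate left derived functor -/
noncomputable def LF : D ⥤ H := Localization.lift (P ⋙ F) hPF L

/-- the defining isomorphism of the candidate -/
noncomputable def LFiso : L ⋙ LF L W F P hPF ≅ P ⋙ F := Localization.fac _ _ _

/-- the counit of the candidate -/
noncomputable def α : L ⋙ LF L W F P hPF ⟶ F where
  app X := (LFiso L W F P hPF).hom.app X ≫ F.map (ψ.app X)
  naturality X Y f := by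
    have h1 := (LFiso L W F P hPF).hom.naturality f
    have h2 := ψ.naturality f
    simp only [Functor.comp_map, Functor.id_map] at h1 h2 ⊢
    rw [reassoc_of% h1, Category.assoc, ← F.map_comp, ← F.map_comp, h2]

lemma α_app (X : C) :
    (α L W F P ψ hPF).app X = (LFiso L W F P hPF).hom.app X ≫ F.map (ψ.app X) := rfl

include hψ in
lemma isIso_L_ψ (X : C) : IsIso (L.map (ψ.app X)) := Localization.inverts L W _ (hψ X)

section Lift

variable (G : D ⥤ H) (β : L ⋙ G ⟶ F)

include hψ in
lemma isIso_GLψ (X : C) : IsIso (G.map (L.map (ψ.app X))) := by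
  haveI := isIso_L_ψ L W P ψ hψ X
  infer_instance

/-- the natural transformation `L ⋙ G ⟶ L ⋙ LF` inducing the lift -/
noncomputable def τ : L ⋙ G ⟶ L ⋙ LF L W F P hPF where
  app X :=
    haveI := isIso_GLψ L W P ψ hψ G X
    inv (G.map (L.map (ψ.app X))) ≫ β.app (P.obj X) ≫ (LFiso L W F P hPF).inv.app X
  naturality X Y f := by
    haveI := isIso_GLψ L W P ψ hψ G X
    haveI := isIso_GLψ L W P ψ hψ G Y
    have h1 := (LFiso L W F P hPF).inv.naturality f
    have h2 := ψ.naturality f
    have h3 := β.naturality (P.map f)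
    simp only [Functor.comp_map, Functor.id_map] at h1 h2 h3 ⊢
    have h4 : G.map (L.map f) ≫ inv (G.map (L.map (ψ.app Y))) =
        inv (G.map (L.map (ψ.app X))) ≫ G.map (L.map (P.map f)) := by
      rw [IsIso.comp_inv_eq, Category.assoc, ← G.map_comp, ← L.map_comp, h2, L.map_comp,
        G.map_comp, IsIso.inv_hom_id_assoc]
    rw [reassoc_of% h4, reassoc_of% h3, h1, Category.assoc, Category.assoc]

lemma τ_app (X : C) :
    haveI := isIso_GLψ L W P ψ hψ G X
    (τ L W F P ψ hψ hPF G β).app X =
      inv (G.map (L.map (ψ.app X))) ≫ β.app (P.obj X) ≫ (LFiso L W F P hPF).inv.app X := rfl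

/-- the lift -/
noncomputable def γ : G ⟶ LF L W F P hPF :=
  Localization.liftNatTrans L W (L ⋙ G) (L ⋙ LF L W F P hPF) G (LF L W F P hPF)
    (τ L W F P ψ hψ hPF G β)

lemma γ_app (X : C) :
    (γ L W F P ψ hψ hPF G β).app (L.obj X) = (τ L W F P ψ hψ hPF G β).app X := by
  rw [γ, Localization.liftNatTrans_app]
  simp [Localization.Lifting.iso]

lemma γ_fac (X : C) :
    (γ L W F P ψ hψ hPF G β).app (L.obj X) ≫ (α L W F P ψ hPF).app X = β.app X := by
  haveI := isIso_GLψ L W P ψ hψ G X
  rw [γ_app, τ_app, α_app, Category.assoc, Category.assoc, Iso.inv_hom_id_app_assoc,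
    IsIso.inv_comp_eq]
  exact (β.naturality (ψ.app X)).symm

end Lift

section Unique

include hψ in
lemma L_map_eq (X : C) : L.map (P.map (ψ.app X)) = L.map (ψ.app (P.obj X)) := by
  haveI := isIso_L_ψ L W P ψ hψ X
  rw [← cancel_mono (L.map (ψ.app X)), ← L.map_comp, ← L.map_comp]
  exact congrArg L.map (ψ.naturality (ψ.app X))

lemma LF_map_L (X Y : C) (f : X ⟶ Y) :
    (LF L W F P hPF).map (L.map f) =
      (LFiso L W F P hPF).hom.app X ≫ F.map (P.map f) ≫ (LFiso L W F P hPF).inv.app Y := by
  have h1 := (LFiso L W F P hPF).hom.naturality f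
  simp only [Functor.comp_map] at h1
  calc (LF L W F P hPF).map (L.map f)
      = (LF L W F P hPF).map (L.map f) ≫ (LFiso L W F P hPF).hom.app Y ≫
          (LFiso L W F P hPF).inv.app Y := by simp
    _ = _ := by rw [← Category.assoc, h1, Category.assoc]

include L W hψ hPF in
lemma FP_map_eq (X : C) :
    F.map (P.map (P.map (ψ.app X))) = F.map (P.map (ψ.app (P.obj X))) := by
  have h1 := LF_map_L L W F P hPF _ _ (P.map (ψ.app X))
  have h2 := LF_map_L L W F P hPF _ _ (ψ.app (P.obj X))
  rw [L_map_eq L W P ψ hψ X, h2] at h1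
  have h3 := congrArg (fun t => (LFiso L W F P hPF).inv.app _ ≫ t ≫
    (LFiso L W F P hPF).hom.app _) h1
  simpa using h3.symm

include L W hψ hPF hF' in
lemma F_map_eq (X : C) : F.map (P.map (ψ.app X)) = F.map (ψ.app (P.obj X)) := by
  haveI := hF' (P.obj X)
  rw [← cancel_epi (F.map (ψ.app (P.obj (P.obj X)))), ← F.map_comp, ← F.map_comp]
  have na := ψ.naturality (P.map (ψ.app X))
  have nb := ψ.naturality (ψ.app (P.obj X))
  simp only [Functor.id_map, Functor.id_obj] at na nb
  rw [← na, ← nb, F.map_comp, F.map_comp, FP_map_eq L W F P ψ hψ hPF X]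

variable (G : D ⥤ H) (β : L ⋙ G ⟶ F)

include hF' in
lemma γ_uniq (γ' : G ⟶ LF L W F P hPF)
    (h : ∀ X, γ'.app (L.obj X) ≫ (α L W F P ψ hPF).app X = β.app X) :
    γ' = γ L W F P ψ hψ hPF G β := by
  apply Localization.natTrans_ext L W
  intro X
  haveI := isIso_GLψ L W P ψ hψ G X
  rw [γ_app, τ_app, ← IsIso.inv_comp_eq, IsIso.inv_inv]
  have n1 := γ'.naturality (L.map (ψ.app X))
  simp only [Functor.id_obj] at n1
  rw [n1, ← h (P.obj X), α_app, LF_map_L, F_map_eq L W F P ψ hψ hPF hF' X]
  simp only [Category.assoc]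

end Unique

section Main

include hψ hF' in
theorem isLeftDerivedFunctor :
    (LF L W F P hPF).IsLeftDerivedFunctor (α L W F P ψ hPF) W := by
  constructor
  refine ⟨⟨IsTerminal.ofUniqueHom
    (fun E => CostructuredArrow.homMk (γ L W F P ψ hψ hPF E.left E.hom) ?_) ?_⟩⟩
  · ext X
    exact γ_fac L W F P ψ hψ hPF E.left E.hom X
  · intro E m
    apply CostructuredArrow.hom_ext
    refine γ_uniq L W F P ψ hψ hPF hF' E.left E.hom m.left ?_
    intro X
    exact congrArg (fun t => t.app X) (CostructuredArrow.w m)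

include L W hψ hPF hF' in
theorem hasLeftDerivedFunctor : F.HasLeftDerivedFunctor W := by
  haveI := isLeftDerivedFunctor L W F P ψ hψ hPF hF'
  exact Functor.HasLeftDerivedFunctor.mk' (LF L W F P hPF) (α L W F P ψ hPF)

include L W hψ hPF hF' in
/-- the counit of any left derived functor is an isomorphism at `X` as soon as `F` inverts the
resolution of `X` -/
theorem isIso_counit_app (LF' : D ⥤ H) (α' : L ⋙ LF' ⟶ F) [LF'.IsLeftDerivedFunctor α' W]
    (X : C) (hX : IsIso (F.map (ψ.app X))) : IsIso (α'.app X) := by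
  haveI := isLeftDerivedFunctor L W F P ψ hψ hPF hF'
  let e := Functor.leftDerivedNatIso LF' (LF L W F P hPF) α' (α L W F P ψ hPF) W (Iso.refl F)
  have h : e.hom.app (L.obj X) ≫ (α L W F P ψ hPF).app X = α'.app X := by
    have h0 := Functor.leftDerivedNatTrans_app LF' (LF L W F P hPF) α' (α L W F P ψ hPF) W
      (𝟙 F) X
    rw [NatTrans.id_app, Category.comp_id] at h0
    exact h0
  rw [← h, α_app]
  infer_instance

include L W hψ hPF hF' in
/-- a functor with a natural transformation to `F` which is an isomorphism on the resolutions is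
a left derived functor -/
theorem isLeftDerivedFunctor_of_isIso (G : D ⥤ H) (β : L ⋙ G ⟶ F)
    (hβ : ∀ X, IsIso (β.app (P.obj X))) : G.IsLeftDerivedFunctor β W := by
  haveI := isLeftDerivedFunctor L W F P ψ hψ hPF hF'
  rw [Functor.isLeftDerivedFunctor_iff_isIso_leftDerivedLift (LF L W F P hPF)
    (α L W F P ψ hPF) W G β]
  set g := (LF L W F P hPF).leftDerivedLift (α L W F P ψ hPF) W G β with hg
  have h1 : ∀ X, IsIso (g.app (L.obj (P.obj X))) := by
    intro X
    have hfac := Functor.leftDerived_fac_app (LF L W F P hPF) (α L W F P ψ hPF) W G β (P.obj X)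
    haveI := hβ X
    haveI : IsIso ((α L W F P ψ hPF).app (P.obj X)) := by
      rw [α_app]
      haveI := hF' X
      infer_instance
    have : g.app (L.obj (P.obj X)) = β.app (P.obj X) ≫ inv ((α L W F P ψ hPF).app (P.obj X)) := by
      rw [IsIso.eq_comp_inv]
      exact hfac
    rw [this]
    infer_instance
  have h2 : ∀ X, IsIso (g.app (L.obj X)) := by
    intro X
    haveI := isIso_L_ψ L W P ψ hψ X
    haveI := h1 X
    have n := g.naturality (L.map (ψ.app X))
    simp only [Functor.id_obj] at n
    have : g.app (L.obj X) = inv (G.map (L.map (ψ.app X))) ≫ g.app (L.obj (P.obj X)) ≫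
        (LF L W F P hPF).map (L.map (ψ.app X)) := by
      rw [IsIso.eq_inv_comp]
      exact n
    rw [this]
    infer_instance
  haveI : L.EssSurj := Localization.essSurj L W
  haveI : ∀ Y : D, IsIso (g.app Y) := by
    intro Y
    have e := L.objObjPreimageIso Y
    have n := g.naturality e.hom
    haveI := h2 (L.objPreimage Y)
    have : g.app Y = G.map e.inv ≫ g.app (L.obj (L.objPreimage Y)) ≫
        (LF L W F P hPF).map e.hom := by
      rw [← n, ← Category.assoc, ← G.map_comp, e.inv_hom_id, G.map_id, Category.id_comp]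
    rw [this]
    infer_instance
  exact NatIso.isIso_of_isIso_app g

end Main

end Groth.Agent.Helper5.LDer
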