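import Groth.Agent.Lib.Helper5.KFAbs1

/-!
# Abstract K-flatness: quasi-isomorphisms, cones
-/

set_option autoImplicit false
set_option linter.unusedSectionVars false
set_option linter.unusedVariables false
set_option linter.style.haveILetI false

universe v u

open CategoryTheory CategoryTheory.Limits HomologicalComplex

namespace Groth.Agent.Helper5.KFA

variable {𝒜 : Type u} [Category.{v} 𝒜] [Abelian 𝒜] (T : 𝒜 ⥤ 𝒜 ⥤ 𝒜) [T.Additive]
  [∀ X, (T.obj X).Additive]
  [∀ (K₁ K₂ : CochainComplex 𝒜 ℤ),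
    HomologicalComplex.HasMapBifunctor K₁ K₂ T (ComplexShape.up ℤ)]

/-- abstract K-flatness -/
def IsKFl (K : CochainComplex 𝒜 ℤ) : Prop :=
  ∀ L : CochainComplex 𝒜 ℤ, (∀ i : ℤ, IsZero (L.homology i)) →
    ∀ i : ℤ, IsZero ((tens T L K).homology i)

/-- two-out-of-three for acyclicity in a short exact sequence of complexes -/
theorem acyclic_of_shortExact (S : ShortComplex (CochainComplex 𝒜 ℤ)) (hS : S.ShortExact) :
    ((∀ i, IsZero (S.X₁.homology i)) → (∀ i, IsZero (S.X₂.homology i)) →
      ∀ i, IsZero (S.X₃.homology i)) ∧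
    ((∀ i, IsZero (S.X₁.homology i)) → (∀ i, IsZero (S.X₃.homology i)) →
      ∀ i, IsZero (S.X₂.homology i)) ∧
    ((∀ i, IsZero (S.X₂.homology i)) → (∀ i, IsZero (S.X₃.homology i)) →
      ∀ i, IsZero (S.X₁.homology i)) := by
  refine ⟨fun h1 h2 i => ?_, fun h1 h3 i => ?_, fun h2 h3 i => ?_⟩
  · exact (hS.homology_exact₃ i (i + 1) rfl).isZero_of_both_zeros
      ((h2 i).eq_of_src _ _) ((h1 (i + 1)).eq_of_tgt _ _)
  · exact (hS.homology_exact₂ i).isZero_of_both_zeros
      ((h1 i).eq_of_src _ _) ((h3 i).eq_of_tgt _ _)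
  · exact (hS.homology_exact₁ (i - 1) i (by simp)).isZero_of_both_zeros
      ((h3 (i - 1)).eq_of_src _ _) ((h2 i).eq_of_tgt _ _)

/-- in a short exact sequence of complexes with acyclic cokernel, the inclusion is a
quasi-isomorphism -/
theorem quasiIso_f_of_acyclic (S : ShortComplex (CochainComplex 𝒜 ℤ)) (hS : S.ShortExact)
    (h3 : ∀ i, IsZero (S.X₃.homology i)) : QuasiIso S.f := by
  rw [quasiIso_iff]
  intro i
  rw [quasiIsoAt_iff_isIso_homologyMap]
  haveI : Mono (HomologicalComplex.homologyMap S.f i) :=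
    (hS.homology_exact₁ (i - 1) i (by simp)).mono_g ((h3 (i - 1)).eq_of_src _ _)
  haveI : Epi (HomologicalComplex.homologyMap S.f i) :=
    (hS.homology_exact₂ i).epi_f ((h3 i).eq_of_tgt _ _)
  exact isIso_of_mono_of_epi _

/-- `- ⊗ K` preserves homotopies -/
noncomputable def tensRHomotopy (K : CochainComplex 𝒜 ℤ) {L L' : CochainComplex 𝒜 ℤ}
    {f g : L ⟶ L'} (h : Homotopy f g) : Homotopy (tensR T K f) (tensR T K g) :=
  mapBifunctorMapHomotopy₁ h (𝟙 K) T (ComplexShape.up ℤ)

/-- `L ⊗ -` preserves homotopies -/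
noncomputable def tensLHomotopy (L : CochainComplex 𝒜 ℤ) {K K' : CochainComplex 𝒜 ℤ}
    {f g : K ⟶ K'} (h : Homotopy f g) : Homotopy (tensL T L f) (tensL T L g) :=
  mapBifunctorMapHomotopy₂ (𝟙 L) h T (ComplexShape.up ℤ)

/-- `- ⊗ K` preserves homotopy equivalences -/
noncomputable def tensRHomotopyEquiv (K : CochainComplex 𝒜 ℤ) {L L' : CochainComplex 𝒜 ℤ}
    (e : HomotopyEquiv L L') : HomotopyEquiv (tens T L K) (tens T L' K) where
  hom := tensR T K e.hom
  inv := tensR T K e.inv
  homotopyHomInvId :=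
    (Homotopy.ofEq (tensR_comp T K e.hom e.inv).symm).trans
      ((tensRHomotopy T K e.homotopyHomInvId).trans (Homotopy.ofEq (tensR_id T L K)))
  homotopyInvHomId :=
    (Homotopy.ofEq (tensR_comp T K e.inv e.hom).symm).trans
      ((tensRHomotopy T K e.homotopyInvHomId).trans (Homotopy.ofEq (tensR_id T L' K)))

/-- `L ⊗ -` preserves homotopy equivalences -/
noncomputable def tensLHomotopyEquiv (L : CochainComplex 𝒜 ℤ) {K K' : CochainComplex 𝒜 ℤ}
    (e : HomotopyEquiv K K') : HomotopyEquiv (tens T L K) (tens T L K') where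
  hom := tensL T L e.hom
  inv := tensL T L e.inv
  homotopyHomInvId :=
    (Homotopy.ofEq (tensL_comp T L e.hom e.inv).symm).trans
      ((tensLHomotopy T L e.homotopyHomInvId).trans (Homotopy.ofEq (tensL_id T L K)))
  homotopyInvHomId :=
    (Homotopy.ofEq (tensL_comp T L e.inv e.hom).symm).trans
      ((tensLHomotopy T L e.homotopyInvHomId).trans (Homotopy.ofEq (tensL_id T L K')))

theorem IsKFl.of_homotopyEquiv {K K' : CochainComplex 𝒜 ℤ} (e : HomotopyEquiv K K')
    (h : IsKFl T K) : IsKFl T K' := by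
  intro L hL i
  exact IsZero.of_iso (h L hL i) ((tensLHomotopyEquiv T L e).toHomologyIso i).symm

/-- acyclicity of a shift -/
lemma isZero_homology_shift_iff (X : CochainComplex 𝒜 ℤ) (n : ℤ) :
    (∀ i : ℤ, IsZero ((X⟦n⟧).homology i)) ↔ ∀ i : ℤ, IsZero (X.homology i) := by
  constructor
  · intro h i
    exact IsZero.of_iso (h (i - n))
      ((CochainComplex.ShiftSequence.shiftIso 𝒜 n (i - n) i (by omega)).app X).symm
  · intro h i
    exact IsZero.of_iso (h (n + i))
      ((CochainComplex.ShiftSequence.shiftIso 𝒜 n i (n + i) rfl).app X)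

/-- the tensor product commutes with shifts in the second variable -/
noncomputable def tensShiftIso (L K : CochainComplex 𝒜 ℤ) (n : ℤ) :
    tens T L (K⟦n⟧) ≅ (tens T L K)⟦n⟧ :=
  CochainComplex.mapBifunctorShift₂Iso L K T n

theorem IsKFl.shift_iff (K : CochainComplex 𝒜 ℤ) (n : ℤ) : IsKFl T (K⟦n⟧) ↔ IsKFl T K := by
  constructor
  · intro h L hL
    rw [← isZero_homology_shift_iff (tens T L K) n]
    intro i
    exact IsZero.of_iso (h L hL i)
      ((HomologicalComplex.homologyFunctor _ _ i).mapIso (tensShiftIso T L K n)).symm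
  · intro h L hL i
    refine IsZero.of_iso ((isZero_homology_shift_iff (tens T L K) n).mpr (h L hL) i)
      ((HomologicalComplex.homologyFunctor _ _ i).mapIso (tensShiftIso T L K n))

/-! ### Mapping cones -/

section Cone

open CochainComplex

variable {K L : CochainComplex 𝒜 ℤ} (φ : K ⟶ L)

/-- the connecting map of the cone, with explicit type -/
noncomputable def coneδ : mappingCone φ ⟶ K⟦(1 : ℤ)⟧ := (mappingCone.triangle φ).mor₃

lemma inl_coneδ (p q : ℤ) (hpq : p + (-1) = q) :
    (mappingCone.inl φ).v p q hpq ≫ (coneδ φ).f q =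
      -(K.shiftFunctorObjXIso 1 q p (by omega)).inv :=
  mappingCone.inl_v_triangle_mor₃_f φ p q hpq

lemma inr_coneδ_f (p : ℤ) : (mappingCone.inr φ).f p ≫ (coneδ φ).f p = 0 :=
  mappingCone.inr_f_triangle_mor₃_f φ p

lemma inr_coneδ : mappingCone.inr φ ≫ coneδ φ = 0 := mappingCone.inr_triangleδ φ

/-- the termwise split short exact sequence `L → cone φ → K⟦1⟧` -/
noncomputable def coneSC : ShortComplex (CochainComplex 𝒜 ℤ) :=
  ShortComplex.mk (mappingCone.inr φ) (coneδ φ) (inr_coneδ φ)

lemma coneδ_f (q q' : ℤ) (h : q + 1 = q') :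
    (coneδ φ).f q =
      -((mappingCone.fst φ).1.v q q' h ≫ (K.shiftFunctorObjXIso 1 q q' h.symm).inv) := by
  apply mappingCone.ext_from φ q' q h
  · rw [inl_coneδ, Preadditive.comp_neg, mappingCone.inl_v_fst_v_assoc]
  · rw [inr_coneδ_f, Preadditive.comp_neg, mappingCone.inr_f_fst_v_assoc, zero_comp, neg_zero]

/-- the degreewise splitting of `coneSC` -/
noncomputable def coneSplitting : DSplit (coneSC φ) where
  r q := (mappingCone.snd φ).v q q (add_zero q)
  s q := -((K.shiftFunctorObjXIso 1 q (q + 1) rfl).hom ≫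
    (mappingCone.inl φ).v (q + 1) q (by omega))
  f_r q := mappingCone.inr_f_snd_v φ q
  s_g q := by
    change (-((K.shiftFunctorObjXIso 1 q (q + 1) rfl).hom ≫
      (mappingCone.inl φ).v (q + 1) q (by omega))) ≫ (coneδ φ).f q = 𝟙 _
    rw [Preadditive.neg_comp, Category.assoc, inl_coneδ,
      Preadditive.comp_neg, neg_neg, Iso.hom_inv_id]
  id q := by
    change (mappingCone.snd φ).v q q (add_zero q) ≫ (mappingCone.inr φ).f q +
      (coneδ φ).f q ≫ (-((K.shiftFunctorObjXIso 1 q (q + 1) rfl).hom ≫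
      (mappingCone.inl φ).v (q + 1) q (by omega))) = 𝟙 _
    rw [coneδ_f φ q (q + 1) rfl, Preadditive.neg_comp, Preadditive.comp_neg, neg_neg,
      Category.assoc, Iso.inv_hom_id_assoc, add_comm]
    exact mappingCone.id_X φ q (q + 1) rfl

theorem shortExact_tensSC_coneSC (M : CochainComplex 𝒜 ℤ) :
    (tensSC T M (coneSC φ)).ShortExact :=
  shortExact_tensSC T M (coneSC φ) (coneSplitting φ)

theorem IsKFl.cone (hK : IsKFl T K) (hL : IsKFl T L) : IsKFl T (mappingCone φ) := by
  intro M hM
  exact (acyclic_of_shortExact _ (shortExact_tensSC_coneSC T φ M)).2.1 (hL M hM)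
    (((IsKFl.shift_iff T K 1).mpr hK) M hM)

theorem IsKFl.of_cone_left (hK : IsKFl T K) (hC : IsKFl T (mappingCone φ)) : IsKFl T L := by
  intro M hM
  exact (acyclic_of_shortExact _ (shortExact_tensSC_coneSC T φ M)).2.2 (hC M hM)
    (((IsKFl.shift_iff T K 1).mpr hK) M hM)

theorem IsKFl.of_cone_right (hL : IsKFl T L) (hC : IsKFl T (mappingCone φ)) : IsKFl T K := by
  rw [← IsKFl.shift_iff T K 1]
  intro M hM
  exact (acyclic_of_shortExact _ (shortExact_tensSC_coneSC T φ M)).1 (hL M hM) (hC M hM)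

end Cone

/-! ### Factorization -/

section Fac

open CochainComplex

variable {X Y : CochainComplex 𝒜 ℤ} (f : X ⟶ Y)

/-- the middle object of the factorization of `f` as a degreewise split monomorphism followed
by a homotopy equivalence -/
noncomputable abbrev facObj (X Y : CochainComplex 𝒜 ℤ) : CochainComplex 𝒜 ℤ :=
  Y ⊞ mappingCone (𝟙 X)

noncomputable def facι : X ⟶ facObj X Y := biprod.lift f (mappingCone.inr (𝟙 X))

noncomputable def facπ (X Y : CochainComplex 𝒜 ℤ) : facObj X Y ⟶ Y := biprod.fst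

lemma facι_facπ : facι f ≫ facπ X Y = f := biprod.lift_fst _ _

/-- degreewise retraction of `facι` -/
noncomputable def facRetr (X Y : CochainComplex 𝒜 ℤ) (q : ℤ) : (facObj X Y).X q ⟶ X.X q :=
  (biprod.snd : facObj X Y ⟶ mappingCone (𝟙 X)).f q ≫ (mappingCone.snd (𝟙 X)).v q q (add_zero q)

lemma facι_facRetr (q : ℤ) : (facι f).f q ≫ facRetr X Y q = 𝟙 _ := by
  unfold facRetr
  rw [← Category.assoc, ← HomologicalComplex.comp_f, facι, biprod.lift_snd,
    mappingCone.inr_f_snd_v]

noncomputable def facEquiv (X Y : CochainComplex 𝒜 ℤ) : HomotopyEquiv (facObj X Y) Y where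
  hom := facπ X Y
  inv := biprod.inl
  homotopyHomInvId := by
    have h := mappingCone.homotopyToZeroOfId X
    have h0 : Homotopy ((biprod.snd : facObj X Y ⟶ _) ≫ 𝟙 _ ≫ (biprod.inr : _ ⟶ facObj X Y))
        ((biprod.snd : facObj X Y ⟶ _) ≫ 0 ≫ (biprod.inr : _ ⟶ facObj X Y)) :=
      (h.compRight biprod.inr).compLeft biprod.snd
    refine (Homotopy.ofEq ?_).trans (((Homotopy.refl (facπ X Y ≫ biprod.inl)).add h0.symm).trans
      (Homotopy.ofEq ?_))
    · rw [zero_comp, comp_zero, add_zero]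
    · simp only [Category.id_comp]
      exact biprod.total
  homotopyInvHomId := Homotopy.ofEq biprod.inl_fst

instance : Mono (facι f) := by
  apply HomologicalComplex.mono_of_mono_f
  intro q
  exact mono_of_mono_fac (facι_facRetr f q)

/-- the short exact sequence `X → facObj X Y → coker` -/
noncomputable def facSC : ShortComplex (CochainComplex 𝒜 ℤ) :=
  ShortComplex.mk (facι f) (cokernel.π (facι f)) (cokernel.condition _)

lemma facSC_shortExact : (facSC f).ShortExact :=
  { exact := ShortComplex.exact_cokernel _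
    mono_f := by dsimp [facSC]; infer_instance
    epi_g := by dsimp [facSC]; infer_instance }

/-- the degreewise splitting of a short exact sequence of complexes from degreewise retractions -/
noncomputable def splittingOfRetraction (S : ShortComplex (CochainComplex 𝒜 ℤ))
    (hS : S.ShortExact)
    (r : ∀ q : ℤ, S.X₂.X q ⟶ S.X₁.X q) (hr : ∀ q : ℤ, S.f.f q ≫ r q = 𝟙 _) : DSplit S :=
  DSplit.ofSplitting (fun q => ShortComplex.Splitting.ofExactOfRetraction _
    (hS.map_of_exact (HomologicalComplex.eval _ _ q)).exact (r q) (hr q)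
    (hS.map_of_exact (HomologicalComplex.eval _ _ q)).epi_g)

noncomputable def facSplitting : DSplit (facSC f) :=
  splittingOfRetraction (facSC f) (facSC_shortExact f) (facRetr X Y) (facι_facRetr f)

end Fac

/-- the cokernel in the factorization is acyclic when `f` is a quasi-isomorphism -/
lemma facSC_acyclic {X Y : CochainComplex 𝒜 ℤ} (f : X ⟶ Y) (hf : QuasiIso f) :
    ∀ i, IsZero ((facSC f).X₃.homology i) := by
  haveI : QuasiIso (facπ X Y) := (facEquiv X Y).quasiIso_hom
  haveI : QuasiIso (facι f ≫ facπ X Y) := by rw [facι_facπ]; exact hf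
  have h : QuasiIso (facι f) := quasiIso_of_comp_right (facι f) (facπ X Y)
  intro i
  exact (HomologicalComplex.exactAt_iff_isZero_homology _ _).mp
    ((facSC_shortExact f).acyclic_X₃ h i)

/-- Tensoring (on the right) with a K-flat complex preserves quasi-isomorphisms. -/
theorem IsKFl.quasiIso_tensR {K : CochainComplex 𝒜 ℤ} (hK : IsKFl T K)
    {L₁ L₂ : CochainComplex 𝒜 ℤ} (f : L₁ ⟶ L₂) (hf : QuasiIso f) : QuasiIso (tensR T K f) := by
  have hS : (tensSCR T K (facSC f)).ShortExact :=
    shortExact_tensSCR T K (facSC f) (facSplitting f)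
  have h1 : QuasiIso (tensR T K (facι f)) :=
    quasiIso_f_of_acyclic _ hS (hK _ (facSC_acyclic f hf))
  have h2 : QuasiIso (tensR T K (facπ L₁ L₂)) :=
    (tensRHomotopyEquiv T K (facEquiv L₁ L₂)).quasiIso_hom
  have : tensR T K f = tensR T K (facι f) ≫ tensR T K (facπ L₁ L₂) := by
    rw [← tensR_comp, facι_facπ]
  rw [this]
  infer_instance

end Groth.Agent.Helper5.KFA
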