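import Groth.Agent.Lib.Helper5.KRes3
import Groth.Agent.Lib.Helper5.SkyMod2
import Groth.Agent.Lib.Helper5.KFAbs2

/-!
# K-flat resolutions of complexes of `O_X`-modules: K-flatness and flatness of the terms
-/

set_option autoImplicit false
set_option linter.unusedSectionVars false
set_option linter.unusedVariables false
set_option linter.style.haveILetI false

universe u

open CategoryTheory CategoryTheory.Limits AlgebraicGeometry HomologicalComplex ZeroObject

namespace Groth.Agent.Helper5.KRes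

variable {X : Scheme.{u}}

lemma isFlat_of_iso {A B : X.Modules} (e : A ≅ B) (h : FlatMod.IsFlat A) : FlatMod.IsFlat B := by
  intro x
  haveI : Module.Flat (X.presheaf.stalk x) ((DerSch.stalkFunctor X x).obj A) := h x
  exact Module.Flat.of_linearEquiv ((DerSch.stalkFunctor X x).mapIso e).symm.toLinearEquiv

lemma isFlat_biprod (A B : X.Modules) (hA : FlatMod.IsFlat A) (hB : FlatMod.IsFlat B) :
    FlatMod.IsFlat (A ⊞ B) := by
  intro x
  haveI : Module.Flat (X.presheaf.stalk x) ((DerSch.stalkFunctor X x).obj A) := hA x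
  haveI : Module.Flat (X.presheaf.stalk x) ((DerSch.stalkFunctor X x).obj B) := hB x
  haveI := preservesBinaryBiproducts_of_preservesBiproducts (DerSch.stalkFunctor X x)
  have e1 : (DerSch.stalkFunctor X x).obj (A ⊞ B) ≅
      (DerSch.stalkFunctor X x).obj A ⊞ (DerSch.stalkFunctor X x).obj B :=
    (DerSch.stalkFunctor X x).mapBiprod A B
  have e2 := ModuleCat.biprodIsoProd ((DerSch.stalkFunctor X x).obj A)
    ((DerSch.stalkFunctor X x).obj B)
  haveI : Module.Flat (X.presheaf.stalk x)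
      (((DerSch.stalkFunctor X x).obj A) × ((DerSch.stalkFunctor X x).obj B)) :=
    KF.flat_prod _ _
  exact Module.Flat.of_linearEquiv (e1 ≪≫ e2).toLinearEquiv


lemma isFlat_mappingCone_X {K L : CochainComplex X.Modules ℤ} (φ : K ⟶ L)
    (hK : ∀ n, FlatMod.IsFlat (K.X n)) (hL : ∀ n, FlatMod.IsFlat (L.X n)) (n : ℤ) :
    FlatMod.IsFlat ((CochainComplex.mappingCone φ).X n) :=
  isFlat_of_iso (homotopyCofiber.XIsoBiprod φ n (n + 1) rfl).symm
    (isFlat_biprod _ _ (hK _) (hL _))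

section

variable {L M : CochainComplex X.Modules ℤ} (g : L ⟶ M)

lemma isFlat_cellCx_X (n : ℤ) : FlatMod.IsFlat ((cellCx (covX X) g).X n) :=
  FlatGen.isFlat_cover _

lemma isKFlat_cellCx : DCoh.IsKFlat (cellCx (covX X) g) := by
  apply StalkCx.isKFlat_of_stalks
  intro x
  exact KF.KFl.of_d_eq_zero _ (fun i j => (DerSch.stalkFunctor X x).map_zero _ _)
    (fun i => isFlat_cellCx_X g i x)

lemma isKFlat_stepL (hL : DCoh.IsKFlat L) : DCoh.IsKFlat (stepL (covX X) g) :=
  KFA.IsKFl.cone (DCoh.tensorBi (X := X)) (cellφ (covX X) g) (isKFlat_cellCx g) hL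

lemma isFlat_stepL_X (hL : ∀ n, FlatMod.IsFlat (L.X n)) (n : ℤ) :
    FlatMod.IsFlat ((stepL (covX X) g).X n) :=
  isFlat_mappingCone_X _ (isFlat_cellCx_X g) hL n

end

section

variable {M : CochainComplex X.Modules ℤ} (s₀ : Stage M)

lemma stage_isKFlat (h₀ : DCoh.IsKFlat s₀.L) : ∀ n : ℕ, DCoh.IsKFlat (stage s₀ n).L
  | 0 => h₀
  | n + 1 => isKFlat_stepL _ (stage_isKFlat h₀ n)

lemma stage_isFlat (h₀ : ∀ q : ℤ, FlatMod.IsFlat (s₀.L.X q)) :
    ∀ (n : ℕ) (q : ℤ), FlatMod.IsFlat ((stage s₀ n).L.X q)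
  | 0, q => h₀ q
  | n + 1, q => isFlat_stepL_X _ (stage_isFlat h₀ n) q

theorem resK_isKFlat (h₀ : DCoh.IsKFlat s₀.L) : DCoh.IsKFlat (resK s₀) := by
  apply StalkCx.isKFlat_of_stalks
  intro x
  exact KF.G.KFl.of_isColimit (resF s₀ ⋙ Sx x) ((Sx x).mapCocone (colimit.cocone (resF s₀)))
    (isColimitOfPreserves (Sx x) (colimit.isColimit (resF s₀)))
    (fun n => Sky.isKFlat_stalk x _ (stage_isKFlat s₀ h₀ n))

theorem resK_isFlat (h₀ : ∀ q : ℤ, FlatMod.IsFlat (s₀.L.X q)) (q : ℤ) :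
    FlatMod.IsFlat ((resK s₀).X q) := by
  intro x
  exact KF.G.flat_X_of_isColimit (resF s₀ ⋙ Sx x)
    ((Sx x).mapCocone (colimit.cocone (resF s₀)))
    (isColimitOfPreserves (Sx x) (colimit.isColimit (resF s₀)))
    (fun n q => stage_isFlat s₀ h₀ n q x) q

end


section Zero

lemma isFlat_of_isZero (A : X.Modules) (h : IsZero A) : FlatMod.IsFlat A := by
  intro x
  haveI := ModuleCat.subsingleton_of_isZero ((DerSch.stalkFunctor X x).map_isZero h)
  exact (inferInstance : Module.Flat (X.presheaf.stalk x) ((DerSch.stalkFunctor X x).obj A))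

lemma isFlat_zero_X (q : ℤ) : FlatMod.IsFlat ((0 : CochainComplex X.Modules ℤ).X q) :=
  isFlat_of_isZero _ ((HomologicalComplex.eval _ _ q).map_isZero (isZero_zero _))

lemma isKFlat_zero : DCoh.IsKFlat (0 : CochainComplex X.Modules ℤ) := by
  apply StalkCx.isKFlat_of_stalks
  intro x
  refine KF.KFl.of_d_eq_zero _ (fun i j => ?_) (fun i => isFlat_zero_X i x)
  have h : (0 : CochainComplex X.Modules ℤ).d i j = 0 :=
    ((HomologicalComplex.eval _ _ i).map_isZero (isZero_zero _)).eq_of_src _ _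
  change (DerSch.stalkFunctor X x).map ((0 : CochainComplex X.Modules ℤ).d i j) = 0
  rw [h, Functor.map_zero]

end Zero

/-- every complex has a K-flat resolution with flat terms which is degreewise epimorphic -/
theorem exists_kFlat_resolution (G : CochainComplex X.Modules ℤ) :
    ∃ (K : CochainComplex X.Modules ℤ) (q : K ⟶ G), DCoh.IsKFlat K ∧
      (∀ n : ℤ, FlatMod.IsFlat (K.X n)) ∧ QuasiIso q ∧ ∀ n : ℤ, Epi (q.f n) :=
  ⟨resK (⟨0, 0⟩ : Stage G), resf _, resK_isKFlat _ isKFlat_zero,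
    resK_isFlat _ (fun q => isFlat_zero_X q), resf_quasiIso _, fun n => resf_epi _ n⟩

/-- factorization of a morphism from a K-flat complex through a K-flat resolution -/
theorem factor_through_kFlat {K L : CochainComplex X.Modules ℤ} (a : K ⟶ L)
    (hK : DCoh.IsKFlat K) :
    ∃ (N : CochainComplex X.Modules ℤ) (b : K ⟶ N) (c : N ⟶ L), DCoh.IsKFlat N ∧ QuasiIso c ∧
      b ≫ c = a ∧ (∀ n : ℤ, Epi (c.f n)) ∧
      ((∀ n : ℤ, FlatMod.IsFlat (K.X n)) → ∀ n : ℤ, FlatMod.IsFlat (N.X n)) :=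
  ⟨resK (⟨K, a⟩ : Stage L), resι (⟨K, a⟩ : Stage L), resf (⟨K, a⟩ : Stage L),
    resK_isKFlat (⟨K, a⟩ : Stage L) hK, resf_quasiIso _, resι_resf (⟨K, a⟩ : Stage L),
    fun n => resf_epi _ n, fun h n => resK_isFlat (⟨K, a⟩ : Stage L) h n⟩

end Groth.Agent.Helper5.KRes
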