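import Groth.Agent.Lib.Helper5.LTen1
import Groth.Agent.Lib.Helper5.KRes4

/-!
# Bounded above complexes of flat modules are K-flat; flatness and pullback
-/

set_option autoImplicit false
set_option linter.unusedSectionVars false
set_option linter.unusedVariables false
set_option linter.style.haveILetI false

universe u

open CategoryTheory CategoryTheory.Limits AlgebraicGeometry MonoidalCategory

attribute [local instance] HasDerivedCategory.standard

namespace Groth.Agent.Helper5.KF

variable {R R' : Type u} [CommRing R] [CommRing R'] (φ : R →+* R')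

/-- extension of scalars preserves flatness -/
theorem flat_extendScalars (M : ModuleCat.{u} R) [Module.Flat R M] :
    Module.Flat R' ((ModuleCat.extendScalars φ).obj M) := by
  letI := φ.toAlgebra
  exact (inferInstance : Module.Flat R' (TensorProduct R R' M))

/-- a bounded above complex of flat modules is K-flat -/
theorem KFl.of_flat_bddAbove (P : DRing.Cx R) (b : ℤ) (hb : ∀ i : ℤ, b < i → IsZero (P.X i))
    (hP : ∀ i : ℤ, Module.Flat R (P.X i)) : KFl P := by
  intro L hL n
  rw [← HomologicalComplex.exactAt_iff_isZero_homology]
  exact exactAt_tensor_of_flat_bddAbove L P b hb hP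
    (fun i => (HomologicalComplex.exactAt_iff_isZero_homology _ _).mpr (hL i)) n

end Groth.Agent.Helper5.KF

namespace Groth.Agent.Helper5.LDer

open Groth.Agent.Helper5.StalkCx

variable {X Y : Scheme.{u}}

/-- a bounded above complex of flat modules is K-flat -/
theorem isKFlat_of_flat_bddAbove (E : CochainComplex X.Modules ℤ) (b : ℤ)
    (hb : ∀ i : ℤ, b < i → IsZero (E.X i)) (hE : ∀ i : ℤ, FlatMod.IsFlat (E.X i)) :
    DCoh.IsKFlat E := by
  apply isKFlat_of_stalks
  intro x
  exact KF.KFl.of_flat_bddAbove (stalkCx x E) b
    (fun i hi => (DerSch.stalkFunctor X x).map_isZero (hb i hi)) (fun i => hE i x)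

/-- the pullback of a flat module is flat -/
theorem isFlat_pullback (f : X ⟶ Y) (M : Y.Modules) (hM : FlatMod.IsFlat M) :
    FlatMod.IsFlat ((Scheme.Modules.pullback f).obj M) := by
  intro x
  haveI : Module.Flat (Y.presheaf.stalk (f.base x)) ((DerSch.stalkFunctor Y (f.base x)).obj M) :=
    hM (f.base x)
  haveI : Module.Flat (X.presheaf.stalk x) ((DerSch.stalkFunctor Y (f.base x) ⋙
      ModuleCat.extendScalars (Sky.φst f x)).obj M) :=
    KF.flat_extendScalars (Sky.φst f x) ((DerSch.stalkFunctor Y (f.base x)).obj M)
  exact Module.Flat.of_linearEquiv ((Sky.pullbackStalkIso f x).app M).toLinearEquiv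

end Groth.Agent.Helper5.LDer
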