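import Mathlib
import Groth.Prelude.Def_DRing2

/-!
# Component calculus for the tensor product of cochain complexes of modules

For `K L : DRing.Cx A`, the term `(K ⊗ L).X n` is the coproduct of the `K.X p ⊗ L.X q` with
`p + q = n`.  We introduce the inclusions `ι`, projections `pr`, and elementwise principles.
-/

set_option autoImplicit false
set_option linter.unusedSectionVars false
set_option linter.unusedVariables false
set_option linter.style.haveILetI false

universe u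

open CategoryTheory CategoryTheory.Limits MonoidalCategory HomologicalComplex

namespace Groth.Agent.Helper5.KF

variable {A : Type u} [CommRing A] (K L : DRing.Cx A)

/-- inclusion of a summand -/
noncomputable abbrev ι (p q n : ℤ) (h : p + q = n) : K.X p ⊗ L.X q ⟶ (K ⊗ L).X n :=
  ιTensorObj K L p q n h

/-- projection onto a summand -/
noncomputable def pr (p q n : ℤ) : (K ⊗ L).X n ⟶ K.X p ⊗ L.X q :=
  mapBifunctorDesc (fun p' q' _ =>
    if h : p' = p ∧ q' = q then eqToHom (by obtain ⟨rfl, rfl⟩ := h; rfl) else 0)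

@[reassoc]
lemma ι_pr (p q n : ℤ) (h : p + q = n) : ι K L p q n h ≫ pr K L p q n = 𝟙 _ := by
  unfold pr ι
  rw [ι_mapBifunctorDesc]
  simp

@[reassoc]
lemma ι_pr_ne (p q p' q' n : ℤ) (h : p' + q' = n) (hne : ¬ (p' = p ∧ q' = q)) :
    ι K L p' q' n h ≫ pr K L p q n = 0 := by
  unfold pr ι
  rw [ι_mapBifunctorDesc]
  simp [hne]

lemma hom_ext' {n : ℤ} {Y : ModuleCat.{u} A} {f g : (K ⊗ L).X n ⟶ Y}
    (h : ∀ (p q : ℤ) (hpq : p + q = n), ι K L p q n hpq ≫ f = ι K L p q n hpq ≫ g) : f = g :=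
  HomologicalComplex.mapBifunctor.hom_ext (fun p q hpq => h p q hpq)

lemma app {M N : ModuleCat.{u} A} {f g : M ⟶ N} (h : f = g) (x : M) : f x = g x := by rw [h]

lemma pr_ι_apply (p q n : ℤ) (h : p + q = n) (x : (K.X p ⊗ L.X q : ModuleCat.{u} A)) :
    pr K L p q n (ι K L p q n h x) = x :=
  app (ι_pr K L p q n h) x

lemma pr_ι_ne_apply (p q p' q' n : ℤ) (h : p' + q' = n) (hne : ¬ (p' = p ∧ q' = q))
    (x : (K.X p' ⊗ L.X q' : ModuleCat.{u} A)) :
    pr K L p q n (ι K L p' q' n h x) = 0 :=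
  app (ι_pr_ne K L p q p' q' n h hne) x

/-- the images of the inclusions span everything -/
lemma iSup_range_ι (n : ℤ) :
    (⨆ (i : {i : ℤ × ℤ // i.1 + i.2 = n}),
      LinearMap.range (ι K L i.1.1 i.1.2 n i.2).hom) = ⊤ := by
  set S := (⨆ (i : {i : ℤ × ℤ // i.1 + i.2 = n}),
      LinearMap.range (ι K L i.1.1 i.1.2 n i.2).hom) with hS
  let f : (K ⊗ L).X n ⟶ ModuleCat.of A (((K ⊗ L).X n) ⧸ S) := ModuleCat.ofHom S.mkQ
  have h0 : f = 0 := by
    apply hom_ext'
    intro p q hpq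
    ext x
    change S.mkQ (ι K L p q n hpq x) = 0
    rw [Submodule.mkQ_apply, Submodule.Quotient.mk_eq_zero]
    exact Submodule.mem_iSup_of_mem ⟨(p, q), hpq⟩ ⟨x, rfl⟩
  rw [← Submodule.ker_mkQ S]
  have : S.mkQ = 0 := by
    ext x
    exact app h0 x
  rw [this, LinearMap.ker_zero]

/-- Induction principle: an element lies in a submodule as soon as all its components do. -/
theorem mem_of_components {n : ℤ} (S : Submodule A ((K ⊗ L).X n)) (z : (K ⊗ L).X n)
    (h : ∀ (p q : ℤ) (hpq : p + q = n), ι K L p q n hpq (pr K L p q n z) ∈ S) : z ∈ S := by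
  classical
  have hz : z ∈ (⨆ (i : {i : ℤ × ℤ // i.1 + i.2 = n}),
      LinearMap.range (ι K L i.1.1 i.1.2 n i.2).hom) := by
    rw [iSup_range_ι]; trivial
  obtain ⟨f, hf, hsum⟩ := (Submodule.mem_iSup_iff_exists_finsupp _ _).mp hz
  have key : ∀ j : {i : ℤ × ℤ // i.1 + i.2 = n},
      f j = ι K L j.1.1 j.1.2 n j.2 (pr K L j.1.1 j.1.2 n z) := by
    intro j
    obtain ⟨t, ht⟩ := hf j
    have hpr : pr K L j.1.1 j.1.2 n z = t := by
      rw [← hsum, Finsupp.sum, map_sum]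
      rw [Finset.sum_eq_single j]
      · rw [← ht]
        exact pr_ι_apply K L _ _ n j.2 t
      · intro i _ hij
        obtain ⟨s, hs⟩ := hf i
        rw [← hs]
        apply pr_ι_ne_apply
        intro hh
        apply hij
        apply Subtype.ext
        exact Prod.ext hh.1 hh.2
      · intro hj
        rw [Finsupp.notMem_support_iff.mp hj, map_zero]
    rw [hpr]
    exact ht.symm
  rw [← hsum, Finsupp.sum]
  refine sum_mem (fun j _ => ?_)
  rw [key j]
  exact h _ _ j.2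

/-- An element all of whose components vanish is zero. -/
theorem eq_zero_of_components {n : ℤ} (z : (K ⊗ L).X n)
    (h : ∀ (p q : ℤ), p + q = n → pr K L p q n z = 0) : z = 0 := by
  have := mem_of_components K L ⊥ z (fun p q hpq => by rw [h p q hpq, map_zero]; exact zero_mem _)
  simpa using this

/-! ### The differential -/

@[reassoc]
lemma ι_d (p q n : ℤ) (hpq : p + q = n) (n' : ℤ) (hn : n + 1 = n')
    (p' q' : ℤ) (hp' : p + 1 = p') (hq' : q + 1 = q') :
    ι K L p q n hpq ≫ (K ⊗ L).d n n' =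
      (K.d p p' ▷ L.X q) ≫ ι K L p' q n' (by omega) +
      p.negOnePow • ((K.X p ◁ L.d q q') ≫ ι K L p q' n' (by omega)) := by
  subst hp' hq'
  have h1 := mapBifunctor.d₁_eq K L (curriedTensor (ModuleCat.{u} A)) (ComplexShape.up ℤ)
    (show (ComplexShape.up ℤ).Rel p (p + 1) from rfl) q n' (by dsimp; omega)
  have h2 := mapBifunctor.d₂_eq K L (curriedTensor (ModuleCat.{u} A)) (ComplexShape.up ℤ) p
    (show (ComplexShape.up ℤ).Rel q (q + 1) from rfl) n' (by dsimp; omega)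
  erw [mapBifunctor.d_eq, Preadditive.comp_add, mapBifunctor.ι_D₁, mapBifunctor.ι_D₂, h1, h2]
  congr 1
  exact one_smul _ _

/-- components of the differential -/
lemma d_pr (n n' : ℤ) (hn : n + 1 = n') (p q p' q' : ℤ) (hp : p + 1 = p') (hq : q + 1 = q') :
    (K ⊗ L).d n n' ≫ pr K L p' q' n' =
      pr K L p q' n ≫ (K.d p p' ▷ L.X q') +
        p'.negOnePow • (pr K L p' q n ≫ (K.X p' ◁ L.d q q')) := by
  subst hp hq hn
  apply hom_ext'
  intro a b hab
  rw [ι_d_assoc K L a b n hab (n + 1) rfl (a + 1) (b + 1) rfl rfl, Preadditive.add_comp,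
    Preadditive.comp_add, Category.assoc, Linear.units_smul_comp, Category.assoc,
    Linear.comp_units_smul]
  by_cases h1 : a = p ∧ b = q + 1
  · obtain ⟨rfl, rfl⟩ := h1
    rw [ι_pr, ι_pr_ne K L (a + 1) (q + 1) a (q + 1 + 1) (n + 1) (by omega) (by omega),
      ι_pr_assoc, ι_pr_ne_assoc K L (a + 1) q a (q + 1) n hab (by omega)]
    simp
  · by_cases h2 : a = p + 1 ∧ b = q
    · obtain ⟨rfl, rfl⟩ := h2
      rw [ι_pr_ne K L (p + 1) (b + 1) (p + 1 + 1) b (n + 1) (by omega) (by omega), ι_pr,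
        ι_pr_ne_assoc K L p (b + 1) (p + 1) b n hab (by omega), ι_pr_assoc]
      simp
    · rw [ι_pr_ne K L (p + 1) (q + 1) (a + 1) b (n + 1) (by omega) (by omega),
        ι_pr_ne K L (p + 1) (q + 1) a (b + 1) (n + 1) (by omega) (by omega),
        ι_pr_ne_assoc K L p (q + 1) a b n hab h1, ι_pr_ne_assoc K L (p + 1) q a b n hab h2]
      simp

lemma whiskerRight_hom_apply {X Y : ModuleCat.{u} A} (f : X ⟶ Y) (Z : ModuleCat.{u} A)
    (x : X) (z : Z) : (f ▷ Z) (x ⊗ₜ[A] z) = f x ⊗ₜ[A] z := rfl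

lemma whiskerLeft_hom_apply {X Y : ModuleCat.{u} A} (Z : ModuleCat.{u} A) (f : X ⟶ Y)
    (x : X) (z : Z) : (Z ◁ f) (z ⊗ₜ[A] x) = z ⊗ₜ[A] f x := rfl

lemma pr_d_apply (n n' : ℤ) (hn : n + 1 = n') (p q p' q' : ℤ) (hp : p + 1 = p')
    (hq : q + 1 = q') (z : (K ⊗ L).X n) :
    pr K L p' q' n' ((K ⊗ L).d n n' z) =
      (K.d p p' ▷ L.X q') (pr K L p q' n z) +
        p'.negOnePow • (K.X p' ◁ L.d q q') (pr K L p' q n z) := by
  have := app (d_pr K L n n' hn p q p' q' hp hq) z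
  simpa using this

/-! ### Whiskering -/

@[reassoc]
lemma ι_whiskerLeft {L' : DRing.Cx A} (f : L ⟶ L') (p q n : ℤ) (h : p + q = n) :
    ι K L p q n h ≫ (K ◁ f).f n = (K.X p ◁ f.f q) ≫ ι K L' p q n h := by
  have := ι_mapBifunctorMap (𝟙 K) f (curriedTensor (ModuleCat.{u} A)) (ComplexShape.up ℤ) p q n h
  simp only [HomologicalComplex.id_f, CategoryTheory.Functor.map_id, NatTrans.id_app,
    Category.id_comp, curriedTensor_obj_map] at this
  exact this

@[reassoc]
lemma ι_whiskerRight {K' : DRing.Cx A} (g : K ⟶ K') (p q n : ℤ) (h : p + q = n) :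
    ι K L p q n h ≫ (g ▷ L).f n = (g.f p ▷ L.X q) ≫ ι K' L p q n h := by
  have := ι_mapBifunctorMap g (𝟙 L) (curriedTensor (ModuleCat.{u} A)) (ComplexShape.up ℤ) p q n h
  simp only [HomologicalComplex.id_f, CategoryTheory.Functor.map_id,
    Category.id_comp, curriedTensor_map_app] at this
  exact this

lemma whiskerLeft_pr {L' : DRing.Cx A} (f : L ⟶ L') (p q n : ℤ) :
    (K ◁ f).f n ≫ pr K L' p q n = pr K L p q n ≫ (K.X p ◁ f.f q) := by
  apply hom_ext'
  intro a b hab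
  rw [ι_whiskerLeft_assoc]
  by_cases h : a = p ∧ b = q
  · obtain ⟨rfl, rfl⟩ := h
    rw [ι_pr, ι_pr_assoc, Category.comp_id]
  · rw [ι_pr_ne K L' p q a b n hab h, ι_pr_ne_assoc K L p q a b n hab h, comp_zero, zero_comp]

lemma whiskerRight_pr {K' : DRing.Cx A} (g : K ⟶ K') (p q n : ℤ) :
    (g ▷ L).f n ≫ pr K' L p q n = pr K L p q n ≫ (g.f p ▷ L.X q) := by
  apply hom_ext'
  intro a b hab
  rw [ι_whiskerRight_assoc]
  by_cases h : a = p ∧ b = q
  · obtain ⟨rfl, rfl⟩ := h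
    rw [ι_pr, ι_pr_assoc, Category.comp_id]
  · rw [ι_pr_ne K' L p q a b n hab h, ι_pr_ne_assoc K L p q a b n hab h, comp_zero, zero_comp]

lemma whiskerLeft_ι_apply {L' : DRing.Cx A} (f : L ⟶ L') (p q n : ℤ) (h : p + q = n)
    (x : (K.X p ⊗ L.X q : ModuleCat.{u} A)) :
    (K ◁ f).f n (ι K L p q n h x) = ι K L' p q n h ((K.X p ◁ f.f q) x) :=
  app (ι_whiskerLeft K L f p q n h) x

lemma whiskerRight_ι_apply {K' : DRing.Cx A} (g : K ⟶ K') (p q n : ℤ) (h : p + q = n)
    (x : (K.X p ⊗ L.X q : ModuleCat.{u} A)) :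
    (g ▷ L).f n (ι K L p q n h x) = ι K' L p q n h ((g.f p ▷ L.X q) x) :=
  app (ι_whiskerRight K L g p q n h) x

lemma pr_whiskerLeft_apply {L' : DRing.Cx A} (f : L ⟶ L') (p q n : ℤ) (z : (K ⊗ L).X n) :
    pr K L' p q n ((K ◁ f).f n z) = (K.X p ◁ f.f q) (pr K L p q n z) :=
  app (whiskerLeft_pr K L f p q n) z

lemma pr_whiskerRight_apply {K' : DRing.Cx A} (g : K ⟶ K') (p q n : ℤ) (z : (K ⊗ L).X n) :
    pr K' L p q n ((g ▷ L).f n z) = (g.f p ▷ L.X q) (pr K L p q n z) :=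
  app (whiskerRight_pr K L g p q n) z

end Groth.Agent.Helper5.KF
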