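import Groth.Agent.Lib.Helper5.KFlat3

/-!
# K-flatness: homotopy invariance, shifts, mapping cones
-/

set_option autoImplicit false
set_option linter.unusedSectionVars false
set_option linter.unusedVariables false
set_option linter.style.haveILetI false

universe u

open CategoryTheory CategoryTheory.Limits MonoidalCategory HomologicalComplex

namespace Groth.Agent.Helper5.KF

variable {A : Type u} [CommRing A]

/-- K-flatness of a complex. -/
def KFl (K : DRing.Cx A) : Prop :=
  ∀ L : DRing.Cx A, (∀ i : ℤ, IsZero (L.homology i)) → ∀ i : ℤ, IsZero ((L ⊗ K).homology i)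

/-- `L ⊗ -` preserves homotopies -/
noncomputable def whiskerLeftHomotopy (L : DRing.Cx A) {K K' : DRing.Cx A} {f g : K ⟶ K'}
    (h : Homotopy f g) : Homotopy (L ◁ f) (L ◁ g) :=
  mapBifunctorMapHomotopy₂ (𝟙 L) h (curriedTensor (ModuleCat.{u} A)) (ComplexShape.up ℤ)

/-- `L ⊗ -` preserves homotopy equivalences -/
noncomputable def whiskerLeftHomotopyEquiv (L : DRing.Cx A) {K K' : DRing.Cx A}
    (e : HomotopyEquiv K K') : HomotopyEquiv (L ⊗ K) (L ⊗ K') where
  hom := L ◁ e.hom
  inv := L ◁ e.inv
  homotopyHomInvId :=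
    (Homotopy.ofEq (MonoidalCategory.whiskerLeft_comp L e.hom e.inv).symm).trans
      ((whiskerLeftHomotopy L e.homotopyHomInvId).trans
        (Homotopy.ofEq (MonoidalCategory.whiskerLeft_id L K)))
  homotopyInvHomId :=
    (Homotopy.ofEq (MonoidalCategory.whiskerLeft_comp L e.inv e.hom).symm).trans
      ((whiskerLeftHomotopy L e.homotopyInvHomId).trans
        (Homotopy.ofEq (MonoidalCategory.whiskerLeft_id L K')))

theorem KFl.of_homotopyEquiv {K K' : DRing.Cx A} (e : HomotopyEquiv K K') (h : KFl K) :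
    KFl K' := by
  intro L hL i
  exact IsZero.of_iso (h L hL i) ((whiskerLeftHomotopyEquiv L e).toHomologyIso i).symm

theorem KFl.iff_of_homotopyEquiv {K K' : DRing.Cx A} (e : HomotopyEquiv K K') :
    KFl K ↔ KFl K' :=
  ⟨KFl.of_homotopyEquiv e, KFl.of_homotopyEquiv e.symm⟩

/-- acyclicity of a shift -/
lemma isZero_homology_shift_iff (X : DRing.Cx A) (n : ℤ) :
    (∀ i : ℤ, IsZero ((X⟦n⟧).homology i)) ↔ ∀ i : ℤ, IsZero (X.homology i) := by
  constructor
  · intro h i
    exact IsZero.of_iso (h (i - n))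
      ((CochainComplex.ShiftSequence.shiftIso (ModuleCat.{u} A) n (i - n) i (by omega)).app X).symm
  · intro h i
    exact IsZero.of_iso (h (n + i))
      ((CochainComplex.ShiftSequence.shiftIso (ModuleCat.{u} A) n i (n + i) rfl).app X)

/-- the tensor product commutes with shifts in the second variable -/
noncomputable def tensorShiftIso (L K : DRing.Cx A) (n : ℤ) : L ⊗ (K⟦n⟧) ≅ (L ⊗ K)⟦n⟧ :=
  CochainComplex.mapBifunctorShift₂Iso L K (curriedTensor (ModuleCat.{u} A)) n

theorem KFl.shift_iff (K : DRing.Cx A) (n : ℤ) : KFl (K⟦n⟧) ↔ KFl K := by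
  constructor
  · intro h L hL
    rw [← isZero_homology_shift_iff (L ⊗ K) n]
    intro i
    exact IsZero.of_iso (h L hL i)
      ((HomologicalComplex.homologyFunctor _ _ i).mapIso (tensorShiftIso L K n)).symm
  · intro h L hL i
    refine IsZero.of_iso ((isZero_homology_shift_iff (L ⊗ K) n).mpr (h L hL) i)
      ((HomologicalComplex.homologyFunctor _ _ i).mapIso (tensorShiftIso L K n))

/-! ### Mapping cones -/

section Cone

open CochainComplex

variable {K L : DRing.Cx A} (φ : K ⟶ L)

/-- the connecting map of the cone, with explicit type -/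
noncomputable def coneδ : mappingCone φ ⟶ K⟦(1 : ℤ)⟧ := (mappingCone.triangle φ).mor₃

lemma inl_coneδ (p q : ℤ) (hpq : p + (-1) = q) :
    (mappingCone.inl φ).v p q hpq ≫ (coneδ φ).f q =
      -(K.shiftFunctorObjXIso 1 q p (by omega)).inv :=
  mappingCone.inl_v_triangle_mor₃_f φ p q hpq

lemma inr_coneδ_f (p : ℤ) : (mappingCone.inr φ).f p ≫ (coneδ φ).f p = 0 :=
  mappingCone.inr_f_triangle_mor₃_f φ p

lemma inr_coneδ : mappingCone.inr φ ≫ coneδ φ = 0 := mappingCone.inr_triangleδ φ

/-- the termwise split short exact sequence `L → cone φ → K⟦1⟧` -/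
noncomputable def coneSC : ShortComplex (DRing.Cx A) :=
  ShortComplex.mk (mappingCone.inr φ) (coneδ φ) (inr_coneδ φ)

lemma coneδ_f (q q' : ℤ) (h : q + 1 = q') :
    (coneδ φ).f q =
      -((mappingCone.fst φ).1.v q q' h ≫ (K.shiftFunctorObjXIso 1 q q' h.symm).inv) := by
  apply mappingCone.ext_from φ q' q h
  · rw [inl_coneδ, Preadditive.comp_neg, mappingCone.inl_v_fst_v_assoc]
  · rw [inr_coneδ_f, Preadditive.comp_neg, mappingCone.inr_f_fst_v_assoc, zero_comp, neg_zero]

/-- the degreewise splitting of `coneSC` -/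
noncomputable def coneSplitting (q : ℤ) :
    ((coneSC φ).map (HomologicalComplex.eval _ _ q)).Splitting where
  r := (mappingCone.snd φ).v q q (add_zero q)
  s := -((K.shiftFunctorObjXIso 1 q (q + 1) rfl).hom ≫
    (mappingCone.inl φ).v (q + 1) q (by omega))
  f_r := mappingCone.inr_f_snd_v φ q
  s_g := by
    change (-((K.shiftFunctorObjXIso 1 q (q + 1) rfl).hom ≫
      (mappingCone.inl φ).v (q + 1) q (by omega))) ≫ (coneδ φ).f q = 𝟙 _
    rw [Preadditive.neg_comp, Category.assoc, inl_coneδ,
      Preadditive.comp_neg, neg_neg, Iso.hom_inv_id]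
  id := by
    change (mappingCone.snd φ).v q q (add_zero q) ≫ (mappingCone.inr φ).f q +
      (coneδ φ).f q ≫ (-((K.shiftFunctorObjXIso 1 q (q + 1) rfl).hom ≫
      (mappingCone.inl φ).v (q + 1) q (by omega))) = 𝟙 _
    rw [coneδ_f φ q (q + 1) rfl, Preadditive.neg_comp, Preadditive.comp_neg, neg_neg,
      Category.assoc, Iso.inv_hom_id_assoc, add_comm]
    exact mappingCone.id_X φ q (q + 1) rfl

theorem shortExact_tensorSC_coneSC (M : DRing.Cx A) : (tensorSC M (coneSC φ)).ShortExact := by
  have key : ∀ p q : ℤ, (((coneSC φ).map (HomologicalComplex.eval _ _ q)).map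
      (tensorLeft (M.X p))).ShortExact := fun p q =>
    { exact := ((coneSplitting φ q).map (tensorLeft (M.X p))).exact
      mono_f := ((coneSplitting φ q).map (tensorLeft (M.X p))).mono_f
      epi_g := ((coneSplitting φ q).map (tensorLeft (M.X p))).epi_g }
  apply shortExact_tensorSC
  · intro p q
    exact (key p q).moduleCat_injective_f
  · intro p q
    exact (key p q).moduleCat_surjective_g
  · intro p q
    exact (ShortComplex.ShortExact.moduleCat_exact_iff_function_exact _).mp (key p q).exact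

theorem KFl.cone (hK : KFl K) (hL : KFl L) : KFl (mappingCone φ) := by
  intro M hM
  exact (acyclic_of_shortExact _ (shortExact_tensorSC_coneSC φ M)).2.1 (hL M hM)
    (((KFl.shift_iff K 1).mpr hK) M hM)

theorem KFl.of_cone_left (hK : KFl K) (hC : KFl (mappingCone φ)) : KFl L := by
  intro M hM
  exact (acyclic_of_shortExact _ (shortExact_tensorSC_coneSC φ M)).2.2 (hC M hM)
    (((KFl.shift_iff K 1).mpr hK) M hM)

theorem KFl.of_cone_right (hL : KFl L) (hC : KFl (mappingCone φ)) : KFl K := by
  rw [← KFl.shift_iff K 1]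
  intro M hM
  exact (acyclic_of_shortExact _ (shortExact_tensorSC_coneSC φ M)).1 (hL M hM) (hC M hM)

end Cone

end Groth.Agent.Helper5.KF
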