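import Mathlib
import Groth.Agent.Lib.Helper5.EvalPS

/-! Formal inverse function theorem for power series rings. -/

set_option autoImplicit false
set_option linter.style.haveILetI false

namespace Groth.Agent.Helper5.InvFun

open MvPowerSeries

section ord

variable {σ : Type*} {k : Type*} [CommRing k]

/-- the ideal of power series of order at least `N`. -/
def ordIdeal (σ : Type*) (k : Type*) [CommRing k] (N : ℕ) : Ideal (MvPowerSeries σ k) where
  carrier := {f | (N : ℕ∞) ≤ f.order}
  add_mem' := by
    intro a b ha hb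
    exact le_trans (le_min ha hb) min_order_le_add
  zero_mem' := by simp
  smul_mem' := by
    intro c x hx
    rw [smul_eq_mul]
    refine le_trans ?_ le_order_mul
    exact le_trans hx le_add_self

lemma mem_ordIdeal {N : ℕ} {f : MvPowerSeries σ k} :
    f ∈ ordIdeal σ k N ↔ (N : ℕ∞) ≤ f.order := Iff.rfl

lemma mem_ordIdeal_iff {N : ℕ} {f : MvPowerSeries σ k} :
    f ∈ ordIdeal σ k N ↔ ∀ m : σ →₀ ℕ, m.degree < N → coeff m f = 0 := by
  rw [mem_ordIdeal]
  constructor
  · intro h m hm
    apply coeff_of_lt_order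
    exact lt_of_lt_of_le (by exact_mod_cast hm) h
  · intro h
    exact nat_le_order h

lemma ordIdeal_mul_le (M N : ℕ) : ordIdeal σ k M * ordIdeal σ k N ≤ ordIdeal σ k (M + N) := by
  rw [Ideal.mul_le]
  intro r hr s hs
  rw [mem_ordIdeal] at hr hs ⊢
  refine le_trans ?_ le_order_mul
  push_cast
  exact add_le_add hr hs

lemma X_mem_ordIdeal (a : σ) : (X a : MvPowerSeries σ k) ∈ ordIdeal σ k 1 := by
  classical
  rw [mem_ordIdeal_iff]
  intro m hm
  have : m = 0 := by
    have : m.degree = 0 := by omega
    exact (Finsupp.degree_eq_zero_iff m).mp this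
  rw [this]
  exact coeff_zero_X a

lemma span_X_pow_le (N : ℕ) :
    Ideal.span (Set.range (X : σ → MvPowerSeries σ k)) ^ N ≤ ordIdeal σ k N := by
  induction N with
  | zero =>
    intro f _
    rw [mem_ordIdeal]
    simp
  | succ N ih =>
    rw [pow_succ]
    refine le_trans (Ideal.mul_mono ih ?_) (ordIdeal_mul_le N 1)
    rw [Ideal.span_le]
    rintro _ ⟨a, rfl⟩
    exact X_mem_ordIdeal a

lemma mem_mul_aux [DecidableEq σ] (J : Ideal (MvPowerSeries σ k)) (N : ℕ)
    (hJ : ordIdeal σ k N ≤ J) (s : Finset σ) :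
    ∀ f : MvPowerSeries σ k, (∀ m : σ →₀ ℕ, (∀ i ∈ s, m i = 0) → coeff m f = 0) →
      f ∈ ordIdeal σ k (N + 1) →
      f ∈ Ideal.span ((X : σ → MvPowerSeries σ k) '' (s : Set σ)) * J := by
  induction s using Finset.induction_on with
  | empty =>
    intro f hf _
    have : f = 0 := by
      ext α
      simpa using hf α (by simp)
    rw [this]; exact zero_mem _
  | insert a t hat ih =>
    intro f hf hN
    rw [mem_ordIdeal_iff] at hN
    let g : MvPowerSeries σ k := fun m => coeff (m + Finsupp.single a 1) f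
    have hg : ∀ m, coeff m (X a * g) = if m a = 0 then 0 else coeff m f := by
      intro m
      rw [X_def, coeff_monomial_mul, one_mul]
      by_cases h : m a = 0
      · rw [if_neg, if_pos h]
        intro hle
        have := hle a
        simp only [Finsupp.single_eq_same] at this
        omega
      · have hle : Finsupp.single a 1 ≤ m := by
          rw [Finsupp.single_le_iff]
          omega
        rw [if_pos hle, if_neg h]
        change coeff (m - Finsupp.single a 1 + Finsupp.single a 1) f = _
        rw [tsub_add_cancel_of_le hle]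
    have h1 : X a * g ∈ Ideal.span ((X : σ → MvPowerSeries σ k) ''
        ((insert a t : Finset σ) : Set σ)) * J := by
      refine Ideal.mul_mem_mul (Ideal.subset_span ⟨a, by simp, rfl⟩) (hJ ?_)
      rw [mem_ordIdeal_iff]
      intro m hm
      change coeff (m + Finsupp.single a 1) f = 0
      apply hN
      rw [map_add, Finsupp.degree_single]
      omega
    have h2 : f - X a * g ∈ Ideal.span ((X : σ → MvPowerSeries σ k) '' (t : Set σ)) * J := by
      apply ih
      · intro m hm
        rw [map_sub, hg]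
        split_ifs with h0
        · rw [sub_zero]
          apply hf
          intro i hi
          rcases Finset.mem_insert.mp hi with rfl | hi
          · exact h0
          · exact hm i hi
        · rw [sub_self]
      · rw [mem_ordIdeal_iff]
        intro m hm
        rw [map_sub, hg]
        split_ifs with h0
        · rw [sub_zero]; exact hN m hm
        · rw [sub_self]
    have h3 : f = X a * g + (f - X a * g) := by ring
    rw [h3]
    refine add_mem h1 (Ideal.mul_mono_left (Ideal.span_mono (Set.image_mono ?_)) h2)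
    intro x hx
    simp only [Finset.coe_insert]
    exact Set.mem_insert_of_mem _ hx

lemma ordIdeal_le [Finite σ] (N : ℕ) :
    ordIdeal σ k N ≤ Ideal.span (Set.range (X : σ → MvPowerSeries σ k)) ^ N := by
  classical
  cases nonempty_fintype σ
  induction N with
  | zero => simp
  | succ N ih =>
    intro f hf
    rw [pow_succ']
    have := mem_mul_aux _ N ih (Finset.univ : Finset σ) f (fun m hm => by
      have h0 : m = 0 := by ext i; exact hm i (Finset.mem_univ i)
      rw [h0]
      rw [mem_ordIdeal_iff] at hf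
      exact hf 0 (by simp)) hf
    simpa using this

lemma span_X_pow_eq [Finite σ] (N : ℕ) :
    Ideal.span (Set.range (X : σ → MvPowerSeries σ k)) ^ N = ordIdeal σ k N :=
  le_antisymm (span_X_pow_le N) (ordIdeal_le N)

lemma sub_truncTotal_mem [Finite σ] (N : ℕ) (f : MvPowerSeries σ k) :
    f - ((truncTotal N f : MvPolynomial σ k) : MvPowerSeries σ k) ∈
      Ideal.span (Set.range (X : σ → MvPowerSeries σ k)) ^ N := by
  rw [span_X_pow_eq, mem_ordIdeal_iff]
  intro m hm
  rw [map_sub, MvPolynomial.coeff_coe, coeff_truncTotal _ hm, sub_self]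

end ord

section main

variable {R : Type*} [CommRing R] {n : ℕ}

/-- the ideal of variables -/
noncomputable abbrev XI (R : Type*) [CommRing R] (n : ℕ) : Ideal (MvPowerSeries (Fin n) R) :=
  Ideal.span (Set.range (X : Fin n → MvPowerSeries (Fin n) R))

lemma eq_zero_or_single_of_degree_lt_two {σ : Type*} (m : σ →₀ ℕ) (h : m.degree < 2) :
    m = 0 ∨ ∃ l, m = Finsupp.single l 1 := by
  classical
  by_cases hm : m = 0
  · exact Or.inl hm
  · right
    obtain ⟨l, hl⟩ : ∃ l, m l ≠ 0 := by
      by_contra hcon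
      push Not at hcon
      exact hm (Finsupp.ext hcon)
    refine ⟨l, ?_⟩
    have hle : Finsupp.single l 1 ≤ m := by
      rw [Finsupp.single_le_iff]
      omega
    have h1 : m = (m - Finsupp.single l 1) + Finsupp.single l 1 := (tsub_add_cancel_of_le hle).symm
    have h2 : m.degree = (m - Finsupp.single l 1).degree + 1 := by
      conv_lhs => rw [h1]
      rw [map_add, Finsupp.degree_single]
    have h3 : (m - Finsupp.single l 1).degree = 0 := by omega
    rw [Finsupp.degree_eq_zero_iff] at h3
    rw [h1, h3, zero_add]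

lemma mem_XI_of_constantCoeff {f : MvPowerSeries (Fin n) R} (hf : constantCoeff f = 0) :
    f ∈ XI R n := by
  have := ordIdeal_le (σ := Fin n) (k := R) 1
  rw [pow_one] at this
  apply this
  rw [mem_ordIdeal_iff]
  intro m hm
  have : m = 0 := by
    have : m.degree = 0 := by omega
    exact (Finsupp.degree_eq_zero_iff m).mp this
  rw [this]
  exact hf

lemma constantCoeff_of_mem_XI {f : MvPowerSeries (Fin n) R} (hf : f ∈ XI R n) :
    constantCoeff f = 0 := by
  have := span_X_pow_le (σ := Fin n) (k := R) 1 (by rwa [pow_one])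
  rw [mem_ordIdeal_iff] at this
  exact this 0 (by simp)

lemma coeff_single_of_mem_sq {f : MvPowerSeries (Fin n) R} (hf : f ∈ XI R n ^ 2) (l : Fin n) :
    coeff (Finsupp.single l 1) f = 0 := by
  have := span_X_pow_le (σ := Fin n) (k := R) 2 hf
  rw [mem_ordIdeal_iff] at this
  exact this _ (by rw [Finsupp.degree_single]; omega)

lemma sub_lin_mem {f : MvPowerSeries (Fin n) R} (hf : constantCoeff f = 0) :
    f - ∑ j, C (coeff (Finsupp.single j 1) f) * X j ∈ XI R n ^ 2 := by
  classical
  rw [span_X_pow_eq, mem_ordIdeal_iff]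
  intro m hm
  rcases eq_zero_or_single_of_degree_lt_two m hm with rfl | ⟨l, rfl⟩
  · rw [map_sub, map_sum]
    have : coeff 0 f = 0 := hf
    rw [this, zero_sub, neg_eq_zero]
    apply Finset.sum_eq_zero
    intro j _
    rw [coeff_C_mul, coeff_zero_X, mul_zero]
  · rw [map_sub, map_sum, sub_eq_zero]
    rw [Finset.sum_eq_single l]
    · rw [coeff_C_mul, coeff_index_single_self_X, mul_one]
    · intro j _ hj
      rw [coeff_C_mul, coeff_index_single_X, if_neg (Ne.symm hj), mul_zero]
    · intro h; exact absurd (Finset.mem_univ l) h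

lemma map_mem_pow {A : Type*} [CommRing A] [Algebra R A] (𝔪 : Ideal A)
    (φ : MvPowerSeries (Fin n) R →ₐ[R] A) (h0 : ∀ i, φ (X i) ∈ 𝔪) (N : ℕ)
    {f : MvPowerSeries (Fin n) R} (hf : f ∈ XI R n ^ N) : φ f ∈ 𝔪 ^ N := by
  have h1 : Ideal.map φ (XI R n) ≤ 𝔪 := by
    rw [Ideal.map_span, Ideal.span_le]
    rintro _ ⟨_, ⟨i, rfl⟩, rfl⟩
    exact h0 i
  have h2 : Ideal.map φ (XI R n ^ N) ≤ 𝔪 ^ N := by
    rw [Ideal.map_pow]
    exact Ideal.pow_right_mono h1 N
  exact h2 (Ideal.mem_map_of_mem _ hf)

lemma algHom_ext_of_X {A : Type*} [CommRing A] [Algebra R A] (𝔪 : Ideal A) [IsHausdorff 𝔪 A]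
    (φ ψ : MvPowerSeries (Fin n) R →ₐ[R] A) (h0 : ∀ i, φ (X i) ∈ 𝔪)
    (h : ∀ i, φ (X i) = ψ (X i)) : φ = ψ := by
  have hpoly : ∀ p : MvPolynomial (Fin n) R, φ (p : MvPowerSeries (Fin n) R) = ψ p := by
    intro p
    have : φ.comp (MvPolynomial.coeToMvPowerSeries.algHom R) =
        ψ.comp (MvPolynomial.coeToMvPowerSeries.algHom R) := by
      apply MvPolynomial.algHom_ext
      intro i
      simp [h i]
    exact congrArg (fun θ => θ p) this
  ext f
  rw [← sub_eq_zero]
  apply IsHausdorff.haus' (I := 𝔪)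
  intro N
  rw [SModEq.zero, smul_eq_mul, Ideal.mul_top]
  have he := sub_truncTotal_mem N f
  have : φ f - ψ f = φ (f - (truncTotal N f : MvPolynomial (Fin n) R)) -
      ψ (f - (truncTotal N f : MvPolynomial (Fin n) R)) := by
    rw [map_sub, map_sub, hpoly]; ring
  rw [this]
  exact sub_mem (map_mem_pow 𝔪 φ h0 N he) (map_mem_pow 𝔪 ψ (fun i => h i ▸ h0 i) N he)

lemma sum_lin_eq (K J : Matrix (Fin n) (Fin n) R) (hK : K * J = 1) (l : Fin n) :
    ∑ i, C (K l i) * ∑ j, C (J i j) * (X j : MvPowerSeries (Fin n) R) = X l := by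
  classical
  simp_rw [Finset.mul_sum]
  rw [Finset.sum_comm]
  have : ∀ j : Fin n, ∑ i, C (K l i) * (C (J i j) * (X j : MvPowerSeries (Fin n) R)) =
      C ((K * J) l j) * X j := by
    intro j
    rw [Matrix.mul_apply, map_sum, Finset.sum_mul]
    apply Finset.sum_congr rfl
    intro i _
    rw [map_mul, mul_assoc]
  simp_rw [this, hK]
  rw [Finset.sum_eq_single l]
  · simp
  · intro j _ hj
    rw [Matrix.one_apply_ne (Ne.symm hj), map_zero, zero_mul]
  · intro h; exact absurd (Finset.mem_univ l) h

theorem surjective_of_leftInv (φ : MvPowerSeries (Fin n) R →ₐ[R] MvPowerSeries (Fin n) R)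
    (h0 : ∀ i, constantCoeff (φ (X i)) = 0) (K : Matrix (Fin n) (Fin n) R)
    (hK : K * (Matrix.of fun i j => coeff (Finsupp.single j 1) (φ (X i))) = 1) :
    Function.Surjective φ := by
  classical
  have hI : ∀ i, φ (X i) ∈ XI R n := fun i => mem_XI_of_constantCoeff (h0 i)
  have hmap_le : Ideal.map φ (XI R n) ≤ XI R n := by
    rw [Ideal.map_span, Ideal.span_le]
    rintro _ ⟨_, ⟨i, rfl⟩, rfl⟩
    exact hI i
  have hX : ∀ l, (X l : MvPowerSeries (Fin n) R) ∈ Ideal.map φ (XI R n) ⊔ XI R n • XI R n := by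
    intro l
    have h1 := sum_lin_eq K (Matrix.of fun i j => coeff (Finsupp.single j 1) (φ (X i))) hK l
    have h2 : (X l : MvPowerSeries (Fin n) R) = ∑ i, C (K l i) * φ (X i) -
        ∑ i, C (K l i) * (φ (X i) - ∑ j, C (coeff (Finsupp.single j 1) (φ (X i))) * X j) := by
      rw [← Finset.sum_sub_distrib, ← h1]
      apply Finset.sum_congr rfl
      intro i _
      simp only [Matrix.of_apply]
      ring
    rw [h2]
    refine Submodule.sub_mem _ (Submodule.mem_sup_left ?_) (Submodule.mem_sup_right ?_)
    · refine Ideal.sum_mem _ fun i _ => Ideal.mul_mem_left _ _ ?_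
      exact Ideal.mem_map_of_mem _ (Ideal.subset_span ⟨i, rfl⟩)
    · refine Ideal.sum_mem _ fun i _ => Ideal.mul_mem_left _ _ ?_
      have := sub_lin_mem (h0 i)
      rwa [pow_two] at this
  have hle : XI R n ≤ Ideal.map φ (XI R n) := by
    apply Submodule.le_of_le_smul_of_le_jacobson_bot (I := XI R n)
    · exact Submodule.fg_span (Set.finite_range _)
    · exact IsAdicComplete.le_jacobson_bot (XI R n)
    · rw [Ideal.span_le]
      rintro _ ⟨l, rfl⟩
      exact hX l
  have heq : Ideal.map φ.toRingHom (XI R n) = XI R n := le_antisymm hmap_le hle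
  haveI : IsHausdorff ((XI R n).map φ.toRingHom) (MvPowerSeries (Fin n) R) := by
    rw [heq]; infer_instance
  have := surjective_of_mk_map_comp_surjective (I := XI R n) φ.toRingHom ?_
  · exact this
  · rw [heq]
    intro y
    obtain ⟨s, rfl⟩ := Ideal.Quotient.mk_surjective y
    refine ⟨C (constantCoeff s), ?_⟩
    simp only [RingHom.coe_comp, Function.comp_apply, AlgHom.toRingHom_eq_coe, RingHom.coe_coe]
    have : φ (C (constantCoeff s)) = C (constantCoeff s) := by
      rw [c_eq_algebraMap, AlgHom.commutes]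
    rw [this, Ideal.Quotient.eq]
    apply mem_XI_of_constantCoeff
    simp

theorem bijective_of_isUnit_det (φ : MvPowerSeries (Fin n) R →ₐ[R] MvPowerSeries (Fin n) R)
    (h0 : ∀ i, constantCoeff (φ (X i)) = 0)
    (hJ : IsUnit (Matrix.det (Matrix.of fun i j : Fin n =>
      coeff (Finsupp.single j 1) (φ (X i))))) :
    Function.Bijective φ := by
  classical
  set J : Matrix (Fin n) (Fin n) R := Matrix.of fun i j : Fin n =>
      coeff (Finsupp.single j 1) (φ (X i)) with hJdef
  have hsurj : Function.Surjective φ :=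
    surjective_of_leftInv φ h0 J⁻¹ (Matrix.nonsing_inv_mul J hJ)
  choose g hg using fun i => hsurj (X i)
  have hI : ∀ i, φ (X i) ∈ XI R n := fun i => mem_XI_of_constantCoeff (h0 i)
  have hgI : ∀ i, g i ∈ XI R n := by
    intro i
    apply mem_XI_of_constantCoeff
    set c := constantCoeff (g i) with hc
    have h1 : g i - C c ∈ XI R n := mem_XI_of_constantCoeff (by simp [hc])
    have h2 : φ (g i - C c) ∈ XI R n := by
      have := map_mem_pow (XI R n) φ hI 1 (by rwa [pow_one])
      rwa [pow_one] at this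
    have h3 : φ (g i - C c) = X i - C c := by
      rw [map_sub, hg, c_eq_algebraMap, AlgHom.commutes]
    rw [h3] at h2
    have h4 := constantCoeff_of_mem_XI h2
    simpa using h4
  set ψ := EvalPS.evalHom (k := R) (XI R n) g hgI with hψ
  have hψX : ∀ i, ψ (X i) = g i := fun i => EvalPS.evalHom_X (XI R n) g hgI i
  have hφψ : φ.comp ψ = AlgHom.id R _ := by
    apply algHom_ext_of_X (XI R n)
    · intro i
      rw [AlgHom.comp_apply, hψX, hg]
      exact Ideal.subset_span ⟨i, rfl⟩
    · intro i
      rw [AlgHom.comp_apply, hψX, hg]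
      rfl
  set G : Matrix (Fin n) (Fin n) R := Matrix.of fun i j : Fin n =>
      coeff (Finsupp.single j 1) (ψ (X i)) with hGdef
  have hGJ : G * J = 1 := by
    ext i l
    have h1 := sub_lin_mem (constantCoeff_of_mem_XI (hgI i))
    have h2 := map_mem_pow (XI R n) φ hI 2 h1
    have h3 := coeff_single_of_mem_sq h2 l
    rw [map_sub, map_sub, hg, map_sum, map_sum, sub_eq_zero] at h3
    rw [Matrix.mul_apply, Matrix.one_apply]
    have h4 : coeff (Finsupp.single l 1) (X i : MvPowerSeries (Fin n) R) =
        if i = l then 1 else 0 := by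
      rw [coeff_index_single_X]
      simp only [eq_comm]
    rw [← h4, h3]
    apply Finset.sum_congr rfl
    intro j _
    rw [map_mul, c_eq_algebraMap, AlgHom.commutes, ← c_eq_algebraMap, coeff_C_mul]
    simp only [hGdef, hJdef, Matrix.of_apply, hψX]
  have hJG : J * G = 1 := mul_eq_one_comm.mp hGJ
  have hψsurj : Function.Surjective ψ :=
    surjective_of_leftInv ψ (fun i => by rw [hψX]; exact constantCoeff_of_mem_XI (hgI i)) J hJG
  refine ⟨?_, hsurj⟩
  intro a b hab
  obtain ⟨a', rfl⟩ := hψsurj a
  obtain ⟨b', rfl⟩ := hψsurj b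
  have ha : φ (ψ a') = a' := congrArg (fun θ => θ a') hφψ
  have hb : φ (ψ b') = b' := congrArg (fun θ => θ b') hφψ
  rw [ha, hb] at hab
  rw [hab]

end main

end Groth.Agent.Helper5.InvFun
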