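import Mathlib
import Groth.Agent.Lib.Helper5.InvFun

/-! Linear coefficients of power series; automorphisms from images of variables. -/

set_option autoImplicit false
set_option linter.style.haveILetI false

namespace Groth.Agent.Helper5.InvFun

open MvPowerSeries

variable {R : Type*} [CommRing R] {n : ℕ}

lemma coeff_single_mul {σ : Type*} (j : σ) (u v : MvPowerSeries σ R) :
    coeff (Finsupp.single j 1) (u * v) =
      coeff 0 u * coeff (Finsupp.single j 1) v + coeff (Finsupp.single j 1) u * coeff 0 v := by
  classical
  rw [coeff_mul, Finsupp.antidiagonal_single]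
  simp [Finset.Nat.antidiagonal_succ]

lemma coeff_single_C {σ : Type*} (j : σ) (r : R) :
    coeff (Finsupp.single j 1) (C r : MvPowerSeries σ R) = 0 := by
  classical
  rw [coeff_C, if_neg]
  intro h
  have := congrArg (fun f => f j) h
  simp at this

lemma coeff_single_pow_of_constantCoeff {σ : Type*} (j : σ) (u : MvPowerSeries σ R)
    (hu : coeff 0 u = 0) (k : ℕ) (hk : 2 ≤ k) :
    coeff (Finsupp.single j 1) (u ^ k) = 0 := by
  obtain ⟨k, rfl⟩ := Nat.exists_eq_add_of_le hk
  rw [pow_add, pow_two, coeff_single_mul, coeff_single_mul]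
  have : coeff 0 (u * u) = 0 := by
    have : constantCoeff (u * u) = 0 := by
      rw [map_mul]
      have : constantCoeff u = 0 := hu
      rw [this, mul_zero]
    exact this
  rw [this, hu]
  ring

/-- the algebra endomorphism of `R[[x_1..x_n]]` with prescribed images of the variables. -/
noncomputable def substHom (g : Fin n → MvPowerSeries (Fin n) R)
    (hg : ∀ i, constantCoeff (g i) = 0) :
    MvPowerSeries (Fin n) R →ₐ[R] MvPowerSeries (Fin n) R :=
  EvalPS.evalHom (k := R) (XI R n) g (fun i => mem_XI_of_constantCoeff (hg i))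

lemma substHom_X (g : Fin n → MvPowerSeries (Fin n) R)
    (hg : ∀ i, constantCoeff (g i) = 0) (i : Fin n) : substHom g hg (X i) = g i :=
  EvalPS.evalHom_X (XI R n) g _ i

/-- the automorphism with prescribed images of the variables -/
noncomputable def substEquiv (g : Fin n → MvPowerSeries (Fin n) R)
    (hg : ∀ i, constantCoeff (g i) = 0)
    (hJ : IsUnit (Matrix.det (Matrix.of fun i j : Fin n =>
      coeff (Finsupp.single j 1) (g i)))) :
    MvPowerSeries (Fin n) R ≃ₐ[R] MvPowerSeries (Fin n) R :=
  AlgEquiv.ofBijective (substHom g hg) (by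
    apply bijective_of_isUnit_det
    · intro i; rw [substHom_X]; exact hg i
    · simp only [substHom_X]; exact hJ)

lemma substEquiv_X (g : Fin n → MvPowerSeries (Fin n) R)
    (hg : ∀ i, constantCoeff (g i) = 0)
    (hJ : IsUnit (Matrix.det (Matrix.of fun i j : Fin n =>
      coeff (Finsupp.single j 1) (g i)))) (i : Fin n) :
    substEquiv g hg hJ (X i) = g i := substHom_X g hg i

end Groth.Agent.Helper5.InvFun
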