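import Mathlib

/-! The identity `q(a + b) = q(a) + Σ ∂_l q(a) b_l + q(b)` for a quadratic form `q`. -/

set_option autoImplicit false
universe u v
open MvPolynomial

namespace Groth.Agent.Helper5.Morse

variable {k : Type u} [CommRing k] {σ : Type*} [Fintype σ] [DecidableEq σ]

theorem exists_add_single_of_degree_succ (m : σ →₀ ℕ) (d : ℕ) (hm : m.degree = d + 1) :
    ∃ (i : σ) (m' : σ →₀ ℕ), m = m' + Finsupp.single i 1 ∧ m'.degree = d := by
  have hne : m ≠ 0 := by
    rintro rfl
    simp at hm
  obtain ⟨i, hi⟩ : ∃ i, m i ≠ 0 := by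
    by_contra hcon
    push Not at hcon
    exact hne (Finsupp.ext hcon)
  refine ⟨i, m - Finsupp.single i 1, ?_, ?_⟩
  · ext j
    by_cases hj : j = i
    · subst hj
      simp only [Finsupp.coe_add, Finsupp.coe_tsub, Pi.add_apply, Pi.sub_apply,
        Finsupp.single_eq_same]
      omega
    · simp [Finsupp.single_eq_of_ne hj, Finsupp.single_eq_of_ne (Ne.symm hj)]
  · have h1 : m = (m - Finsupp.single i 1) + Finsupp.single i 1 := by
      ext j
      by_cases hj : j = i
      · subst hj
        simp only [Finsupp.coe_add, Finsupp.coe_tsub, Pi.add_apply, Pi.sub_apply,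
          Finsupp.single_eq_same]
        omega
      · simp [Finsupp.single_eq_of_ne hj, Finsupp.single_eq_of_ne (Ne.symm hj)]
    have h2 := congrArg Finsupp.degree h1
    rw [map_add, Finsupp.degree_single, hm] at h2
    omega

theorem exists_of_degree_two (m : σ →₀ ℕ) (hm : m.degree = 2) :
    ∃ i j : σ, m = Finsupp.single i 1 + Finsupp.single j 1 := by
  obtain ⟨i, m', rfl, hm'⟩ := exists_add_single_of_degree_succ m 1 hm
  obtain ⟨j, m'', rfl, hm''⟩ := exists_add_single_of_degree_succ m' 0 hm'
  rw [Finsupp.degree_eq_zero_iff] at hm''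
  subst hm''
  exact ⟨j, i, by simp⟩

variable {R : Type v} [CommRing R] [Algebra k R]

/-- The defect of the quadratic Taylor identity, as a linear map in `q`. -/
noncomputable def Φ (a b : σ → R) : MvPolynomial σ k →ₗ[k] R :=
  (aeval (a + b)).toLinearMap - (aeval a).toLinearMap
    - ∑ l, (LinearMap.mulRight k (b l)) ∘ₗ (aeval a).toLinearMap ∘ₗ (pderiv l).toLinearMap
    - (aeval b).toLinearMap

theorem Φ_apply (a b : σ → R) (q : MvPolynomial σ k) :
    Φ a b q = aeval (a + b) q - aeval a q - ∑ l, aeval a (pderiv l q) * b l - aeval b q := by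
  simp [Φ, LinearMap.sum_apply]

theorem Φ_monomial (a b : σ → R) (i j : σ) (c : k) :
    Φ a b (monomial (Finsupp.single i 1 + Finsupp.single j 1) c) = 0 := by
  have hmon : (monomial (Finsupp.single i 1 + Finsupp.single j 1) c : MvPolynomial σ k) =
      C c * X i * X j := by
    rw [X, X, C_mul_monomial, monomial_mul, mul_one, mul_one]
  rw [hmon, Φ_apply]
  have hp : ∀ l, pderiv l (C c * X i * X j : MvPolynomial σ k) =
      C c * ((if i = l then 1 else 0) * X j + X i * (if j = l then 1 else 0)) := by
    intro l
    rw [mul_assoc, pderiv_C_mul, pderiv_mul, pderiv_X, pderiv_X]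
    simp only [Pi.single_apply]
  simp only [hp, map_mul, map_add, aeval_C, aeval_X, Pi.add_apply]
  have hsum : ∑ l, algebraMap k R c * ((aeval a) (if i = l then (1 : MvPolynomial σ k) else 0) * a j +
      a i * (aeval a) (if j = l then (1 : MvPolynomial σ k) else 0)) * b l =
      algebraMap k R c * (a j * b i + a i * b j) := by
    have e : ∀ l, algebraMap k R c * ((aeval a) (if i = l then (1 : MvPolynomial σ k) else 0) * a j +
        a i * (aeval a) (if j = l then (1 : MvPolynomial σ k) else 0)) * b l =
        (if i = l then algebraMap k R c * a j * b l else 0) +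
          (if j = l then algebraMap k R c * a i * b l else 0) := by
      intro l
      by_cases h1 : i = l <;> by_cases h2 : j = l <;> simp [h1, h2] <;> ring
    simp only [e, Finset.sum_add_distrib, Finset.sum_ite_eq, Finset.mem_univ, if_true]
    ring
  rw [hsum]
  ring

theorem Φ_eq_zero (a b : σ → R) (q : MvPolynomial σ k) (hq : q.IsHomogeneous 2) : Φ a b q = 0 := by
  rw [← q.support_sum_monomial_coeff, map_sum]
  refine Finset.sum_eq_zero fun m hm => ?_
  have hdeg : m.degree = 2 := by
    have := hq (mem_support_iff.mp hm)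
    rwa [Finsupp.degree_eq_weight_one]
  obtain ⟨i, j, rfl⟩ := exists_of_degree_two m hdeg
  exact Φ_monomial a b i j _

/-- Taylor's formula for a quadratic form. -/
theorem aeval_add_of_isHomogeneous_two (a b : σ → R) (q : MvPolynomial σ k)
    (hq : q.IsHomogeneous 2) :
    aeval (a + b) q = aeval a q + ∑ l, aeval a (pderiv l q) * b l + aeval b q := by
  have := Φ_eq_zero a b q hq
  rw [Φ_apply] at this
  linear_combination this

end Groth.Agent.Helper5.Morse
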