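import Mathlib

/-! Order bookkeeping and a linear "division by the variables" for multivariate power series. -/

set_option autoImplicit false
universe u
open MvPowerSeries Finsupp

namespace Groth.Agent.Helper5.Morse

section Order

variable {k : Type u} [CommRing k] {σ : Type*}

theorem le_order_add' {f g : MvPowerSeries σ k} {d : ℕ∞} (hf : d ≤ f.order) (hg : d ≤ g.order) :
    d ≤ (f + g).order := le_trans (le_min hf hg) (min_order_le_add)

theorem le_order_neg' {f : MvPowerSeries σ k} {d : ℕ∞} (hf : d ≤ f.order) : d ≤ (-f).order := by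
  rwa [order_neg]

theorem le_order_sub' {f g : MvPowerSeries σ k} {d : ℕ∞} (hf : d ≤ f.order) (hg : d ≤ g.order) :
    d ≤ (f - g).order := by
  rw [sub_eq_add_neg]
  exact le_order_add' hf (le_order_neg' hg)

theorem le_order_sum' {ι : Type*} (s : Finset ι) (f : ι → MvPowerSeries σ k) {d : ℕ∞}
    (hf : ∀ i ∈ s, d ≤ (f i).order) : d ≤ (∑ i ∈ s, f i).order := by
  classical
  induction s using Finset.induction_on with
  | empty => simp
  | insert a s ha ih =>
    rw [Finset.sum_insert ha]
    exact le_order_add' (hf a (Finset.mem_insert_self a s))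
      (ih fun i hi => hf i (Finset.mem_insert_of_mem hi))

theorem le_order_mul' {f g : MvPowerSeries σ k} {d e : ℕ∞} (hf : d ≤ f.order) (hg : e ≤ g.order) :
    d + e ≤ (f * g).order := (add_le_add hf hg).trans le_order_mul

theorem le_order_mul_left' {f g : MvPowerSeries σ k} {d : ℕ∞} (hg : d ≤ g.order) :
    d ≤ (f * g).order := by
  have := le_order_mul' (zero_le (a := f.order)) hg
  rwa [zero_add] at this

theorem le_order_mul_right' {f g : MvPowerSeries σ k} {d : ℕ∞} (hf : d ≤ f.order) :
    d ≤ (f * g).order := by
  rw [mul_comm]; exact le_order_mul_left' hf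

theorem coeff_eq_zero_of_le_order {f : MvPowerSeries σ k} {d : ℕ} (hf : (d : ℕ∞) ≤ f.order)
    (m : σ →₀ ℕ) (hm : m.degree < d) : coeff m f = 0 :=
  coeff_of_lt_order (lt_of_lt_of_le (by exact_mod_cast hm) hf)

theorem eq_zero_of_forall_le_order {f : MvPowerSeries σ k} (h : ∀ d : ℕ, (d : ℕ∞) ≤ f.order) :
    f = 0 := by
  rw [← order_eq_top_iff, ENat.eq_top_iff_forall_ge]
  exact h

theorem one_le_order_X (s : σ) : (1 : ℕ∞) ≤ (X s : MvPowerSeries σ k).order := by
  rw [one_le_order_iff_constCoeff_eq_zero]
  exact coeff_zero_X s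

theorem le_order_of_le {f : MvPowerSeries σ k} {d e : ℕ∞} (h : d ≤ e) (hf : e ≤ f.order) :
    d ≤ f.order := h.trans hf

end Order

section Div

variable {k : Type u} [CommRing k] {n : ℕ}

/-- Division by `X j` of the part of `g` whose monomials have least variable `j`. -/
noncomputable def D (j : Fin n) : MvPowerSeries (Fin n) k →ₗ[k] MvPowerSeries (Fin n) k where
  toFun g := fun m' => if ∀ i, i < j → m' i = 0 then coeff (m' + single j 1) g else 0
  map_add' g h := by
    funext m'
    show (if ∀ i, i < j → m' i = 0 then coeff (m' + single j 1) (g + h) else 0) =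
      (if ∀ i, i < j → m' i = 0 then coeff (m' + single j 1) g else 0) +
      (if ∀ i, i < j → m' i = 0 then coeff (m' + single j 1) h else 0)
    split_ifs
    · exact map_add _ _ _
    · simp
  map_smul' c g := by
    funext m'
    show (if ∀ i, i < j → m' i = 0 then coeff (m' + single j 1) (c • g) else 0) =
      c • (if ∀ i, i < j → m' i = 0 then coeff (m' + single j 1) g else 0)
    split_ifs
    · exact map_smul _ _ _
    · simp

theorem coeff_D (j : Fin n) (g : MvPowerSeries (Fin n) k) (m' : Fin n →₀ ℕ) :
    coeff m' (D j g) = if ∀ i, i < j → m' i = 0 then coeff (m' + single j 1) g else 0 := rfl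

theorem le_order_D (j : Fin n) (g : MvPowerSeries (Fin n) k) (d : ℕ)
    (hg : ((d + 1 : ℕ) : ℕ∞) ≤ g.order) : (d : ℕ∞) ≤ (D j g).order := by
  apply nat_le_order
  intro m' hm'
  rw [coeff_D]
  split_ifs
  · apply coeff_eq_zero_of_le_order hg
    rw [map_add, degree_single]
    omega
  · rfl

theorem sum_X_mul_D (g : MvPowerSeries (Fin n) k) (hg : constantCoeff g = 0) :
    ∑ j, X j * D j g = g := by
  classical
  ext m
  rw [map_sum]
  have hterm : ∀ j : Fin n, coeff m (X j * D j g) =
      if (m j ≠ 0 ∧ ∀ i, i < j → m i = 0) then coeff m g else 0 := by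
    intro j
    rw [X_def, coeff_monomial_mul, one_mul]
    by_cases hj : m j = 0
    · have : ¬ single j 1 ≤ m := by
        intro hle
        have := hle j
        simp [hj] at this
      rw [if_neg this, if_neg (by simp [hj])]
    · have hle : single j 1 ≤ m := by
        intro i
        by_cases hi : i = j
        · subst hi; simp; omega
        · simp [Finsupp.single_eq_of_ne hi]
      rw [if_pos hle, coeff_D]
      have hadd : m - single j 1 + single j 1 = m := tsub_add_cancel_of_le hle
      rw [hadd]
      have hiff : (∀ i, i < j → (m - (single j 1 : Fin n →₀ ℕ)) i = 0) ↔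
          (∀ i, i < j → m i = 0) := by
        refine forall_congr' fun i => imp_congr_right fun hi => ?_
        have : i ≠ j := ne_of_lt hi
        rw [Finsupp.tsub_apply, Finsupp.single_eq_of_ne this, Nat.sub_zero]
      by_cases hall : ∀ i, i < j → m i = 0
      · rw [if_pos (hiff.mpr hall), if_pos ⟨hj, hall⟩]
      · rw [if_neg (fun h => hall (hiff.mp h)), if_neg (fun h => hall h.2)]
  simp only [hterm]
  by_cases hm : m = 0
  · subst hm
    have : coeff (0 : Fin n →₀ ℕ) g = 0 := hg
    simp [this]
  · have hne : m.support.Nonempty := Finsupp.support_nonempty_iff.mpr hm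
    set j0 := m.support.min' hne with hj0
    have hj0mem : j0 ∈ m.support := Finset.min'_mem _ hne
    rw [Finset.sum_eq_single j0]
    · rw [if_pos]
      refine ⟨Finsupp.mem_support_iff.mp hj0mem, fun i hi => ?_⟩
      by_contra hmi
      have : i ∈ m.support := Finsupp.mem_support_iff.mpr hmi
      exact absurd (Finset.min'_le _ i this) (not_le.mpr hi)
    · intro j _ hjne
      rw [if_neg]
      rintro ⟨hmj, hall⟩
      have hjmem : j ∈ m.support := Finsupp.mem_support_iff.mpr hmj
      have hle : j0 ≤ j := Finset.min'_le _ j hjmem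
      rcases lt_or_eq_of_le hle with hlt | heq
      · exact (Finsupp.mem_support_iff.mp hj0mem) (hall j0 hlt)
      · exact hjne heq.symm
    · intro h; exact absurd (Finset.mem_univ _) h

end Div

end Groth.Agent.Helper5.Morse
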