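import Mathlib
import Groth.Agent.Lib.Helper5.MorseB
import Groth.Agent.Lib.Helper5.MorseA

/-! Formal Morse lemma over a commutative ring: the fixed point iteration. -/

set_option autoImplicit false
universe u
open MvPowerSeries Finsupp

namespace Groth.Agent.Helper5.QMorse

open Groth.Agent.Helper5.Morse

variable {k : Type u} [CommRing k] {n : ℕ}

/-- The linear forms `∂_i q`. -/
noncomputable def L (q : MvPolynomial (Fin n) k) (i : Fin n) : MvPowerSeries (Fin n) k :=
  ((MvPolynomial.pderiv i q : MvPolynomial (Fin n) k) : MvPowerSeries (Fin n) k)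

/-- The linear solution operator: `∑ L_i E_i(g) = g`. -/
noncomputable def E (c : Fin n → Fin n → k) (i : Fin n) :
    MvPowerSeries (Fin n) k →ₗ[k] MvPowerSeries (Fin n) k :=
  ∑ j, c j i • D j

theorem E_apply (c : Fin n → Fin n → k) (i : Fin n) (g : MvPowerSeries (Fin n) k) :
    E c i g = ∑ j, C (c j i) * D j g := by
  simp [E, LinearMap.sum_apply, smul_eq_C_mul]

theorem le_order_E (c : Fin n → Fin n → k) (i : Fin n) (g : MvPowerSeries (Fin n) k) (d : ℕ)
    (hg : ((d + 1 : ℕ) : ℕ∞) ≤ g.order) : (d : ℕ∞) ≤ (E c i g).order := by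
  rw [E_apply]
  apply le_order_sum'
  intro j _
  exact le_order_mul_left' (le_order_D j g d hg)

theorem sum_L_mul_E (q : MvPolynomial (Fin n) k) (c : Fin n → Fin n → k)
    (hc : ∀ j, (X j : MvPowerSeries (Fin n) k) = ∑ i, C (c j i) * L q i)
    (g : MvPowerSeries (Fin n) k) (hg : constantCoeff g = 0) :
    ∑ i, L q i * E c i g = g := by
  conv_rhs => rw [← sum_X_mul_D g hg]
  simp only [E_apply, Finset.mul_sum]
  rw [Finset.sum_comm]
  apply Finset.sum_congr rfl
  intro j _
  rw [hc j, Finset.sum_mul]
  apply Finset.sum_congr rfl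
  intro i _
  ring

section Aeval

variable (q : MvPolynomial (Fin n) k)

theorem le_order_aeval_two (hq : q.IsHomogeneous 2) (ε : Fin n → MvPowerSeries (Fin n) k) (d : ℕ∞)
    (hε : ∀ i, d ≤ (ε i).order) : d + d ≤ (MvPolynomial.aeval ε q).order := by
  rw [← q.support_sum_monomial_coeff, map_sum]
  apply le_order_sum'
  intro m hm
  have hdeg : m.degree = 2 := by
    have := hq (MvPolynomial.mem_support_iff.mp hm)
    rwa [Finsupp.degree_eq_weight_one]
  obtain ⟨i, j, rfl⟩ := exists_of_degree_two m hdeg
  have hmon : (MvPolynomial.monomial (single i 1 + single j 1) (MvPolynomial.coeff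
      (single i 1 + single j 1) q) : MvPolynomial (Fin n) k) =
      MvPolynomial.C (MvPolynomial.coeff (single i 1 + single j 1) q) *
        MvPolynomial.X i * MvPolynomial.X j := by
    rw [MvPolynomial.X, MvPolynomial.X, MvPolynomial.C_mul_monomial, MvPolynomial.monomial_mul,
      mul_one, mul_one]
  rw [hmon, map_mul, map_mul, MvPolynomial.aeval_X, MvPolynomial.aeval_X, mul_assoc]
  exact le_order_mul_left' (le_order_mul' (hε i) (hε j))

theorem le_order_aeval_one (p : MvPolynomial (Fin n) k) (hp : p.IsHomogeneous 1)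
    (ε : Fin n → MvPowerSeries (Fin n) k)
    (d : ℕ∞) (hε : ∀ i, d ≤ (ε i).order) : d ≤ (MvPolynomial.aeval ε p).order := by
  rw [← p.support_sum_monomial_coeff, map_sum]
  apply le_order_sum'
  intro m hm
  have hdeg : m.degree = 1 := by
    have := hp (MvPolynomial.mem_support_iff.mp hm)
    rwa [Finsupp.degree_eq_weight_one]
  obtain ⟨i, m', rfl, hm'⟩ := exists_add_single_of_degree_succ m 0 hdeg
  rw [Finsupp.degree_eq_zero_iff] at hm'
  subst hm'
  rw [zero_add]
  have hmon : (MvPolynomial.monomial (single i 1) (MvPolynomial.coeff (single i 1) p) :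
      MvPolynomial (Fin n) k) = MvPolynomial.C (MvPolynomial.coeff (single i 1) p) *
        MvPolynomial.X i := by
    rw [MvPolynomial.X, MvPolynomial.C_mul_monomial, mul_one]
  rw [hmon, map_mul, MvPolynomial.aeval_X]
  exact le_order_mul_left' (hε i)

/-- The difference `q(ε') - q(ε)` has large order when `ε' - ε` does. -/
theorem le_order_aeval_sub (hq : q.IsHomogeneous 2) (ε ε' : Fin n → MvPowerSeries (Fin n) k)
    (hε : ∀ i, (2 : ℕ∞) ≤ (ε i).order) (d : ℕ) (hd : 2 ≤ d)
    (hδ : ∀ i, (d : ℕ∞) ≤ (ε' i - ε i).order) :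
    ((d + 2 : ℕ) : ℕ∞) ≤ (MvPolynomial.aeval ε' q - MvPolynomial.aeval ε q).order := by
  have hε' : ε' = ε + (ε' - ε) := by abel
  rw [hε', aeval_add_of_isHomogeneous_two ε (ε' - ε) q hq]
  have : MvPolynomial.aeval ε q + ∑ l, MvPolynomial.aeval ε (MvPolynomial.pderiv l q) *
      (ε' - ε) l + MvPolynomial.aeval (ε' - ε) q - MvPolynomial.aeval ε q =
      ∑ l, MvPolynomial.aeval ε (MvPolynomial.pderiv l q) * (ε' - ε) l +
        MvPolynomial.aeval (ε' - ε) q := by ring
  rw [this]
  apply le_order_add'
  · apply le_order_sum'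
    intro l _
    have h1 := le_order_aeval_one (MvPolynomial.pderiv l q) hq.pderiv ε 2 hε
    have h2 := le_order_mul' h1 (hδ l)
    refine le_trans ?_ h2
    push_cast
    rw [add_comm]
  · have h1 := le_order_aeval_two q hq (ε' - ε) d hδ
    refine le_trans ?_ h1
    have : d + 2 ≤ d + d := by omega
    exact_mod_cast this

end Aeval

section Iter

variable (q : MvPolynomial (Fin n) k) (G : MvPowerSeries (Fin n) k) (c : Fin n → Fin n → k)

/-- The contraction. -/
noncomputable def T (ε : Fin n → MvPowerSeries (Fin n) k) : Fin n → MvPowerSeries (Fin n) k :=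
  fun i => E c i (G - MvPolynomial.aeval ε q)

theorem T_sub (ε ε' : Fin n → MvPowerSeries (Fin n) k) (i : Fin n) :
    T q G c ε' i - T q G c ε i =
      - E c i (MvPolynomial.aeval ε' q - MvPolynomial.aeval ε q) := by
  unfold T
  rw [← map_sub, ← map_neg]
  congr 1
  ring

variable (hq : q.IsHomogeneous 2) (m : ℕ) (hm : 2 ≤ m) (hG : ((m + 1 : ℕ) : ℕ∞) ≤ G.order)

include hq hm hG

theorem le_order_T (ε : Fin n → MvPowerSeries (Fin n) k) (hε : ∀ i, (m : ℕ∞) ≤ (ε i).order)
    (i : Fin n) : (m : ℕ∞) ≤ (T q G c ε i).order := by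
  unfold T
  have h4 := le_order_aeval_two q hq ε m hε
  have : ((m + 1 : ℕ) : ℕ∞) ≤ (G - MvPolynomial.aeval ε q).order := by
    apply le_order_sub' hG
    refine le_trans ?_ h4
    have : m + 1 ≤ m + m := by omega
    exact_mod_cast this
  exact le_order_E c i _ m this

omit hG in
theorem le_order_T_sub (ε ε' : Fin n → MvPowerSeries (Fin n) k)
    (hε : ∀ i, (m : ℕ∞) ≤ (ε i).order) (d : ℕ)
    (hd : 2 ≤ d) (hδ : ∀ i, (d : ℕ∞) ≤ (ε' i - ε i).order) (i : Fin n) :
    ((d + 1 : ℕ) : ℕ∞) ≤ (T q G c ε' i - T q G c ε i).order := by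
  rw [T_sub, order_neg]
  have hε2 : ∀ i, (2 : ℕ∞) ≤ (ε i).order := fun i => le_trans (by exact_mod_cast hm) (hε i)
  exact le_order_E c i _ (d + 1) (le_order_aeval_sub q hq ε ε' hε2 d hd hδ)

/-- The iterates. -/
noncomputable def iter (q : MvPolynomial (Fin n) k) (G : MvPowerSeries (Fin n) k)
    (c : Fin n → Fin n → k) : ℕ → Fin n → MvPowerSeries (Fin n) k
  | 0 => fun _ => 0
  | t + 1 => T q G c (iter q G c t)

omit hq hm hG in
theorem iter_succ (t : ℕ) : iter q G c (t + 1) = T q G c (iter q G c t) := rfl

theorem le_order_iter (t : ℕ) (i : Fin n) : (m : ℕ∞) ≤ (iter q G c t i).order := by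
  induction t generalizing i with
  | zero => simp [iter]
  | succ t ih => exact le_order_T q G c hq m hm hG _ ih i

theorem le_order_iter_succ_sub (t : ℕ) (i : Fin n) :
    ((t + m : ℕ) : ℕ∞) ≤ (iter q G c (t + 1) i - iter q G c t i).order := by
  induction t generalizing i with
  | zero =>
    have : iter q G c (0 + 1) i - iter q G c 0 i = T q G c (iter q G c 0) i := by
      simp [iter]
    rw [this, zero_add]
    exact le_order_T q G c hq m hm hG _ (le_order_iter q G c hq m hm hG 0) i
  | succ t ih =>
    rw [iter_succ q G c (t + 1), iter_succ q G c t]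
    have := le_order_T_sub q G c hq m hm (iter q G c t) (iter q G c (t + 1))
      (le_order_iter q G c hq m hm hG t) (t + m) (by omega) ih i
    have h2 : t + 1 + m = t + m + 1 := by omega
    rw [h2]
    exact this

theorem le_order_iter_sub (r s : ℕ) (hrs : r ≤ s) (i : Fin n) :
    ((r + m : ℕ) : ℕ∞) ≤ (iter q G c s i - iter q G c r i).order := by
  induction s, hrs using Nat.le_induction with
  | base => simp
  | succ s hrs ih =>
    have : iter q G c (s + 1) i - iter q G c r i =
        (iter q G c (s + 1) i - iter q G c s i) + (iter q G c s i - iter q G c r i) := by ring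
    rw [this]
    apply le_order_add' _ ih
    refine le_trans ?_ (le_order_iter_succ_sub q G c hq m hm hG s i)
    have : r + m ≤ s + m := by omega
    exact_mod_cast this

/-- The limit. -/
noncomputable def lim (q : MvPolynomial (Fin n) k) (G : MvPowerSeries (Fin n) k)
    (c : Fin n → Fin n → k) : Fin n → MvPowerSeries (Fin n) k :=
  fun i e => coeff e (iter q G c e.degree i)

omit hq hm hG in
theorem coeff_lim (i : Fin n) (e : Fin n →₀ ℕ) :
    coeff e (lim q G c i) = coeff e (iter q G c e.degree i) := rfl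

theorem le_order_lim_sub (t : ℕ) (i : Fin n) :
    ((t + m : ℕ) : ℕ∞) ≤ (lim q G c i - iter q G c t i).order := by
  apply nat_le_order
  intro e he
  rw [map_sub, coeff_lim, ← map_sub]
  rcases le_or_gt e.degree t with hle | hgt
  · have := le_order_iter_sub q G c hq m hm hG e.degree t hle i
    have h0 := coeff_eq_zero_of_le_order this e (by omega)
    rw [map_sub] at h0 ⊢
    rw [← neg_sub, h0, neg_zero]
  · have := le_order_iter_sub q G c hq m hm hG t e.degree hgt.le i
    exact coeff_eq_zero_of_le_order this e he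

theorem le_order_lim (i : Fin n) : (m : ℕ∞) ≤ (lim q G c i).order := by
  have h1 := le_order_lim_sub q G c hq m hm hG 0 i
  have h2 := le_order_iter q G c hq m hm hG 0 i
  have : lim q G c i = (lim q G c i - iter q G c 0 i) + iter q G c 0 i := by ring
  rw [this]
  refine le_order_add' ?_ h2
  rw [zero_add] at h1
  exact h1

theorem T_lim : T q G c (lim q G c) = lim q G c := by
  funext i
  rw [← sub_eq_zero]
  apply eq_zero_of_forall_le_order
  intro d
  have hsplit : T q G c (lim q G c) i - lim q G c i =
      (T q G c (lim q G c) i - T q G c (iter q G c d) i) -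
        (lim q G c i - iter q G c (d + 1) i) := by
    rw [iter_succ]; ring
  rw [hsplit]
  apply le_order_sub'
  · have := le_order_T_sub q G c hq m hm (iter q G c d) (lim q G c)
      (le_order_iter q G c hq m hm hG d) (d + m)
      (by omega) (fun i => le_order_lim_sub q G c hq m hm hG d i) i
    refine le_trans ?_ this
    have : d ≤ d + m + 1 := by omega
    exact_mod_cast this
  · refine le_trans ?_ (le_order_lim_sub q G c hq m hm hG (d + 1) i)
    have : d ≤ d + 1 + m := by omega
    exact_mod_cast this

end Iter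

/-- The formal Morse lemma over a commutative ring. -/
theorem morse (q : MvPolynomial (Fin n) k) (hq : q.IsHomogeneous 2) (G : MvPowerSeries (Fin n) k)
    (c : Fin n → Fin n → k)
    (hc : ∀ j, (X j : MvPowerSeries (Fin n) k) = ∑ i, C (c j i) * L q i)
    (m : ℕ) (hm : 2 ≤ m) (hG : ((m + 1 : ℕ) : ℕ∞) ≤ G.order) :
    ∃ (ε : Fin n → MvPowerSeries (Fin n) k), (∀ i, (m : ℕ∞) ≤ (ε i).order) ∧
      (q : MvPowerSeries (Fin n) k) + G =
        MvPolynomial.aeval (fun i : Fin n => (X i : MvPowerSeries (Fin n) k) + ε i) q := by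
  classical
  refine ⟨lim q G c, le_order_lim q G c hq m hm hG, ?_⟩
  have hfix := T_lim q G c hq m hm hG
  have h2 := le_order_lim q G c hq m hm hG
  set g := G - MvPolynomial.aeval (lim q G c) q with hg
  have hg0 : constantCoeff g = 0 := by
    rw [← one_le_order_iff_constCoeff_eq_zero]
    apply le_order_sub'
    · refine le_trans ?_ hG
      have : 1 ≤ m + 1 := by omega
      exact_mod_cast this
    · have h4 := le_order_aeval_two q hq (lim q G c) m h2
      refine le_trans ?_ h4
      have : 1 ≤ m + m := by omega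
      exact_mod_cast this
  have hsum : ∑ i, L q i * lim q G c i = g := by
    have := sum_L_mul_E q c hc g hg0
    have hE : ∀ i, E c i g = lim q G c i := fun i => congrFun hfix i
    simpa only [hE] using this
  have hX : ∀ p : MvPolynomial (Fin n) k,
      MvPolynomial.aeval (fun i : Fin n => (X i : MvPowerSeries (Fin n) k)) p =
        (p : MvPowerSeries (Fin n) k) := by
    intro p
    have : MvPolynomial.aeval (fun i : Fin n => (X i : MvPowerSeries (Fin n) k)) =
        MvPolynomial.coeToMvPowerSeries.algHom (R := k) k := by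
      apply MvPolynomial.algHom_ext
      intro i
      simp
    rw [this]
    simp
  have htaylor := aeval_add_of_isHomogeneous_two
    (fun i : Fin n => (X i : MvPowerSeries (Fin n) k)) (lim q G c) q hq
  have hfun : (fun i : Fin n => (X i : MvPowerSeries (Fin n) k) + lim q G c i) =
      (fun i : Fin n => (X i : MvPowerSeries (Fin n) k)) + lim q G c := rfl
  rw [hfun, htaylor, hX]
  have hL : ∀ l, MvPolynomial.aeval (fun i : Fin n => (X i : MvPowerSeries (Fin n) k))
      (MvPolynomial.pderiv l q) = L q l := fun l => hX _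
  simp only [hL, hsum, hg]
  ring

end Groth.Agent.Helper5.QMorse
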