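import Mathlib
import Groth.Agent.Lib.Helper5.QMorse1
import Groth.Agent.Lib.Helper5.InvFun2
import Groth.Prelude.Def_QuadSing

/-! Formal Morse lemma over a commutative ring: quadratic forms given by coefficient tables. -/

set_option autoImplicit false
set_option linter.style.haveILetI false
universe u
open MvPowerSeries Finsupp

namespace Groth.Agent.Helper5.QMorse

open Groth.Agent.Helper5.Morse Groth.Agent.Helper5.InvFun

variable {A : Type u} [CommRing A] {n : ℕ}

theorem quadPoly_isHomogeneous (q : Fin n → Fin n → A) :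
    (VanCyc.quadPoly q).IsHomogeneous 2 := by
  unfold VanCyc.quadPoly
  apply MvPolynomial.IsHomogeneous.sum
  intro i _
  apply MvPolynomial.IsHomogeneous.sum
  intro j _
  split_ifs
  · have := ((MvPolynomial.isHomogeneous_C (Fin n) (q i j)).mul
      (MvPolynomial.isHomogeneous_X A i)).mul (MvPolynomial.isHomogeneous_X A j)
    simpa using this
  · exact MvPolynomial.isHomogeneous_zero _ _ _

theorem polarMatrix_apply (q : Fin n → Fin n → A) (i j : Fin n) :
    VanCyc.polarMatrix q i j = if i = j then 2 * q i i else if i < j then q i j else q j i := rfl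

theorem pderiv_quadPoly (q : Fin n → Fin n → A) (i : Fin n) :
    MvPolynomial.pderiv i (VanCyc.quadPoly q) =
      ∑ j, MvPolynomial.C (VanCyc.polarMatrix q i j) * MvPolynomial.X j := by
  classical
  unfold VanCyc.quadPoly
  have hp : ∀ (c : A) (a b : Fin n), MvPolynomial.pderiv i
      (MvPolynomial.C c * MvPolynomial.X a * MvPolynomial.X b : MvPolynomial (Fin n) A) =
      MvPolynomial.C c * ((if a = i then 1 else 0) * MvPolynomial.X b +
        MvPolynomial.X a * (if b = i then 1 else 0)) := by
    intro c a b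
    rw [mul_assoc, MvPolynomial.pderiv_C_mul, MvPolynomial.pderiv_mul, MvPolynomial.pderiv_X,
      MvPolynomial.pderiv_X]
    simp only [Pi.single_apply]
  have hterm : ∀ a b : Fin n, MvPolynomial.pderiv i
      (if a ≤ b then MvPolynomial.C (q a b) * MvPolynomial.X a * MvPolynomial.X b else 0 :
        MvPolynomial (Fin n) A) =
      (if a = i then (if a ≤ b then MvPolynomial.C (q a b) * MvPolynomial.X b else 0) else 0) +
      (if b = i then (if a ≤ b then MvPolynomial.C (q a b) * MvPolynomial.X a else 0) else 0) := by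
    intro a b
    by_cases hab : a ≤ b
    · rw [if_pos hab, hp, if_pos hab, if_pos hab]
      by_cases h1 : a = i <;> by_cases h2 : b = i <;> simp [h1, h2, mul_add]
    · rw [if_neg hab, map_zero, if_neg hab, if_neg hab]
      simp
  simp only [map_sum, hterm, Finset.sum_add_distrib]
  have h1 : ∑ a : Fin n, ∑ b : Fin n,
      (if a = i then (if a ≤ b then MvPolynomial.C (q a b) * MvPolynomial.X b else 0) else 0 :
        MvPolynomial (Fin n) A) =
      ∑ b : Fin n, (if i ≤ b then MvPolynomial.C (q i b) * MvPolynomial.X b else 0) := by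
    rw [Finset.sum_comm]
    apply Finset.sum_congr rfl
    intro b _
    rw [Finset.sum_ite_eq' Finset.univ i]
    simp
  have h2 : ∑ a : Fin n, ∑ b : Fin n,
      (if b = i then (if a ≤ b then MvPolynomial.C (q a b) * MvPolynomial.X a else 0) else 0 :
        MvPolynomial (Fin n) A) =
      ∑ a : Fin n, (if a ≤ i then MvPolynomial.C (q a i) * MvPolynomial.X a else 0) := by
    apply Finset.sum_congr rfl
    intro a _
    rw [Finset.sum_ite_eq' Finset.univ i]
    simp
  rw [h1, h2, ← Finset.sum_add_distrib]
  apply Finset.sum_congr rfl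
  intro j _
  rw [polarMatrix_apply]
  rcases lt_trichotomy i j with h | h | h
  · rw [if_pos h.le, if_neg (not_le.mpr h), if_neg (ne_of_lt h), if_pos h, add_zero]
  · subst h
    simp only [le_refl, if_true]
    rw [map_mul]
    have : (MvPolynomial.C (2 : A) : MvPolynomial (Fin n) A) = 2 := by
      rw [map_ofNat]
    rw [this]
    ring
  · rw [if_neg (not_le.mpr h), if_pos h.le, if_neg (ne_of_gt h), if_neg (not_lt.mpr h.le),
      zero_add]

theorem L_quadPoly (q : Fin n → Fin n → A) (i : Fin n) :
    L (VanCyc.quadPoly q) i = ∑ j, C (VanCyc.polarMatrix q i j) * (X j : MvPowerSeries (Fin n) A) := by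
  unfold L
  rw [pderiv_quadPoly]
  change MvPolynomial.coeToMvPowerSeries.ringHom _ = _
  rw [map_sum]
  apply Finset.sum_congr rfl
  intro j _
  rw [map_mul, MvPolynomial.coeToMvPowerSeries.ringHom_apply,
    MvPolynomial.coeToMvPowerSeries.ringHom_apply, MvPolynomial.coe_C, MvPolynomial.coe_X]

theorem exists_coeffs (q : Fin n → Fin n → A) (hq : VanCyc.QuadNondeg q) :
    ∃ c : Fin n → Fin n → A, ∀ j, (X j : MvPowerSeries (Fin n) A) =
      ∑ i, C (c j i) * L (VanCyc.quadPoly q) i := by
  classical
  refine ⟨fun j i => (VanCyc.polarMatrix q)⁻¹ j i, fun j => ?_⟩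
  have hK : (VanCyc.polarMatrix q)⁻¹ * VanCyc.polarMatrix q = 1 :=
    Matrix.nonsing_inv_mul _ hq
  have := sum_lin_eq (VanCyc.polarMatrix q)⁻¹ (VanCyc.polarMatrix q) hK j
  simp only [L_quadPoly]
  exact this.symm

end Groth.Agent.Helper5.QMorse
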