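import Mathlib
import Groth.Agent.Lib.Helper5.QMorse2

/-! Formal Morse lemma over a commutative ring: the substitution statement. -/

set_option autoImplicit false
set_option linter.style.haveILetI false
universe u
open MvPowerSeries Finsupp

namespace Groth.Agent.Helper5.QMorse

open Groth.Agent.Helper5.Morse Groth.Agent.Helper5.InvFun

variable {A : Type u} [CommRing A] {n : ℕ}

/-- an algebra endomorphism on polynomials is evaluation -/
theorem algHom_coe (φ : MvPowerSeries (Fin n) A →ₐ[A] MvPowerSeries (Fin n) A)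
    (p : MvPolynomial (Fin n) A) :
    φ (p : MvPowerSeries (Fin n) A) = MvPolynomial.aeval (fun i => φ (X i)) p := by
  have : φ.comp (MvPolynomial.coeToMvPowerSeries.algHom A) =
      MvPolynomial.aeval (fun i => φ (X i)) := by
    apply MvPolynomial.algHom_ext
    intro i
    simp
  exact congrArg (fun θ => θ p) this

theorem le_order_map (ψ : MvPowerSeries (Fin n) A →ₐ[A] MvPowerSeries (Fin n) A)
    (h0 : ∀ i, constantCoeff (ψ (X i)) = 0) (d : ℕ) (f : MvPowerSeries (Fin n) A)
    (hf : (d : ℕ∞) ≤ f.order) : (d : ℕ∞) ≤ (ψ f).order := by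
  have h1 : f ∈ XI A n ^ d := by
    rw [span_X_pow_eq]
    exact hf
  have h2 := map_mem_pow (XI A n) ψ (fun i => mem_XI_of_constantCoeff (h0 i)) d h1
  rw [span_X_pow_eq] at h2
  exact h2

theorem constantCoeff_symm_X (φ : MvPowerSeries (Fin n) A ≃ₐ[A] MvPowerSeries (Fin n) A)
    (h0 : ∀ i, constantCoeff (φ (X i)) = 0) (i : Fin n) :
    constantCoeff (φ.symm (X i)) = 0 := by
  set g := φ.symm (X i) with hg
  set c := constantCoeff g with hc
  have h1 : g - C c ∈ XI A n := mem_XI_of_constantCoeff (by simp [hc])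
  have h2 : φ (g - C c) ∈ XI A n := by
    have := map_mem_pow (XI A n) φ.toAlgHom (fun i => mem_XI_of_constantCoeff (h0 i)) 1
      (by rwa [pow_one])
    rwa [pow_one] at this
  have h3 : φ (g - C c) = X i - C c := by
    rw [map_sub, hg, AlgEquiv.apply_symm_apply, c_eq_algebraMap, AlgEquiv.commutes]
  rw [h3] at h2
  have h4 := constantCoeff_of_mem_XI h2
  simpa using h4

theorem exists_subst (m : ℕ) (hm : 2 ≤ m) (q : Fin n → Fin n → A) (hq : VanCyc.QuadNondeg q)
    (a : A) (F : MvPowerSeries (Fin n) A)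
    (hF : ∀ e : Fin n →₀ ℕ, e.degree ≤ m → coeff e F =
      coeff e ((VanCyc.quadPoly q + MvPolynomial.C a : MvPolynomial (Fin n) A) :
        MvPowerSeries (Fin n) A)) :
    ∃ h : Fin n → MvPowerSeries (Fin n) A,
      (∀ (i : Fin n) (e : Fin n →₀ ℕ), e.degree < m → coeff e (h i) = 0) ∧
      HasSubst (fun i => X i + h i) ∧
      subst (fun i => X i + h i) F =
        ((VanCyc.quadPoly q + MvPolynomial.C a : MvPolynomial (Fin n) A) :
          MvPowerSeries (Fin n) A) ∧
      Nonempty ((MvPowerSeries (Fin n) A ⧸ Ideal.span {F}) ≃ₐ[A]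
        (MvPowerSeries (Fin n) A ⧸ Ideal.span
          {((VanCyc.quadPoly q + MvPolynomial.C a : MvPolynomial (Fin n) A) :
            MvPowerSeries (Fin n) A)})) := by
  classical
  set Q := VanCyc.quadPoly q with hQ
  set T : MvPowerSeries (Fin n) A :=
    ((Q + MvPolynomial.C a : MvPolynomial (Fin n) A) : MvPowerSeries (Fin n) A) with hT
  set G := F - T with hGdef
  have hG : ((m + 1 : ℕ) : ℕ∞) ≤ G.order := by
    apply nat_le_order
    intro e he
    rw [hGdef, map_sub, hF e (by omega), sub_self]
  obtain ⟨c, hc⟩ := exists_coeffs q hq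
  obtain ⟨ε, hε, hmorse⟩ := morse Q (quadPoly_isHomogeneous q) G c hc m hm hG
  have hε0 : ∀ i, constantCoeff (ε i) = 0 := by
    intro i
    rw [← one_le_order_iff_constCoeff_eq_zero]
    refine le_trans ?_ (hε i)
    have : 1 ≤ m := by omega
    exact_mod_cast this
  let g : Fin n → MvPowerSeries (Fin n) A := fun i => X i + ε i
  have hg0 : ∀ i, constantCoeff (g i) = 0 := by
    intro i
    simp [g, hε0 i]
  have hJ1 : (Matrix.of fun i j : Fin n => coeff (Finsupp.single j 1) (g i)) = 1 := by
    ext i j
    simp only [Matrix.of_apply, g, map_add]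
    rw [coeff_eq_zero_of_le_order (hε i) _ (by rw [Finsupp.degree_single]; omega), add_zero,
      coeff_index_single_X, Matrix.one_apply]
    by_cases hij : i = j
    · subst hij; simp
    · rw [if_neg (Ne.symm hij), if_neg hij]
  have hJ : IsUnit (Matrix.det (Matrix.of fun i j : Fin n =>
      coeff (Finsupp.single j 1) (g i))) := by
    rw [hJ1, Matrix.det_one]
    exact isUnit_one
  let φ := substEquiv g hg0 hJ
  have hφX : ∀ i, φ (X i) = g i := substEquiv_X g hg0 hJ
  have hφT : φ T = F := by
    have h1 := algHom_coe φ.toAlgHom (Q + MvPolynomial.C a)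
    have h2 : (fun i => φ.toAlgHom (X i)) = g := by
      funext i
      exact hφX i
    rw [h2, map_add, MvPolynomial.aeval_C] at h1
    change φ T = _ at h1
    rw [h1, ← hmorse, hGdef, hT, MvPolynomial.coe_add, MvPolynomial.coe_C, c_eq_algebraMap]
    ring
  let ψ := φ.symm
  have hψF : ψ F = T := by
    rw [← hφT]
    exact φ.symm_apply_apply T
  have hψ0 : ∀ i, constantCoeff (ψ (X i)) = 0 :=
    constantCoeff_symm_X φ (fun i => by rw [hφX]; exact hg0 i)
  let h : Fin n → MvPowerSeries (Fin n) A := fun i => ψ (X i) - X i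
  have hh : ∀ i, h i = - ψ (ε i) := by
    intro i
    have h1 : ψ (φ (X i)) = X i := φ.symm_apply_apply _
    rw [hφX] at h1
    simp only [g, map_add] at h1
    simp only [h]
    linear_combination h1
  have hXh' : ∀ i, (X i : MvPowerSeries (Fin n) A) + h i = ψ (X i) := by
    intro i
    simp [h]
  have hXh : (fun i => (X i : MvPowerSeries (Fin n) A) + h i) = fun i => ψ (X i) :=
    funext hXh'
  have hsub : HasSubst (fun i => (X i : MvPowerSeries (Fin n) A) + h i) := by
    rw [hXh]
    exact hasSubst_of_constantCoeff_zero hψ0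
  refine ⟨h, ?_, hsub, ?_, ?_⟩
  · intro i e he
    rw [hh i]
    have := le_order_map ψ.toAlgHom hψ0 m (ε i) (hε i)
    rw [map_neg]
    have h0 := coeff_eq_zero_of_le_order this e he
    change coeff e (ψ (ε i)) = 0 at h0
    rw [h0, neg_zero]
  · have hsa : substAlgHom hsub = ψ.toAlgHom := by
      apply algHom_ext_of_X (XI A n)
      · intro i
        rw [substAlgHom_X]
        apply mem_XI_of_constantCoeff
        rw [hXh' i]
        exact hψ0 i
      · intro i
        rw [substAlgHom_X]
        exact hXh' i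
    rw [← coe_substAlgHom hsub, hsa]
    exact hψF
  · refine ⟨Ideal.quotientEquivAlg _ _ ψ ?_⟩
    rw [Ideal.map_span, Set.image_singleton]
    congr 2
    exact hψF.symm

end Groth.Agent.Helper5.QMorse
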