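import Groth.Agent.Lib.Helper5.KFlat4

/-!
# Filtered colimits of K-flat complexes (universe-general index category)
-/

set_option autoImplicit false
set_option linter.unusedSectionVars false
set_option linter.unusedVariables false
set_option linter.style.haveILetI false

universe w w' u

open CategoryTheory CategoryTheory.Limits MonoidalCategory HomologicalComplex

namespace Groth.Agent.Helper5.KF.G

open Groth.Agent.Helper5.KF

variable {A : Type u} [CommRing A] {J : Type w} [Category.{w'} J] [IsFiltered J]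
  [PreservesColimitsOfShape J (forget (ModuleCat.{u} A))] [HasColimitsOfShape J (ModuleCat.{u} A)]
  (F : J ⥤ DRing.Cx A) (c : Cocone F) (hc : IsColimit c) (L : DRing.Cx A)

lemma whiskerLeft_comp_f_apply {X Y Z : DRing.Cx A} (f : X ⟶ Y) (g : Y ⟶ Z) (n : ℤ)
    (y : (L ⊗ X).X n) : (L ◁ g).f n ((L ◁ f).f n y) = (L ◁ (f ≫ g)).f n y := by
  rw [MonoidalCategory.whiskerLeft_comp]
  rfl

lemma whiskerLeft_w_apply {j k : J} (u : j ⟶ k) (n : ℤ) (y : (L ⊗ F.obj j).X n) :
    (L ◁ c.ι.app k).f n ((L ◁ F.map u).f n y) = (L ◁ c.ι.app j).f n y := by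
  rw [whiskerLeft_comp_f_apply, c.w]

/-- the componentwise colimit cocone -/
noncomputable def compIsColimit (p q : ℤ) :
    IsColimit ((tensorLeft (L.X p)).mapCocone ((HomologicalComplex.eval _ _ q).mapCocone c)) :=
  isColimitOfPreserves (tensorLeft (L.X p)) (isColimitOfPreserves (HomologicalComplex.eval _ _ q) hc)

include hc in
lemma comp_exists_rep (p q : ℤ) (t : (L.X p ⊗ c.pt.X q : ModuleCat.{u} A)) :
    ∃ (j : J) (t' : (L.X p ⊗ (F.obj j).X q : ModuleCat.{u} A)),
      (L.X p ◁ (c.ι.app j).f q) t' = t :=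
  Concrete.isColimit_exists_rep _ (compIsColimit F c hc L p q) t

include hc in
lemma comp_ker (p q : ℤ) (j : J) (t' : (L.X p ⊗ (F.obj j).X q : ModuleCat.{u} A))
    (h : (L.X p ◁ (c.ι.app j).f q) t' = 0) :
    ∃ (k : J) (u : j ⟶ k), (L.X p ◁ (F.map u).f q) t' = 0 := by
  obtain ⟨k, f, g, hfg⟩ := Concrete.isColimit_exists_of_rep_eq _ (compIsColimit F c hc L p q)
    (i := j) (j := j) t' 0 (by rw [map_zero]; exact h)
  refine ⟨k, f, ?_⟩
  rw [map_zero] at hfg
  exact hfg

include hc in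
/-- every element of `L ⊗ colim` comes from a finite stage -/
theorem exists_lift (n : ℤ) (z : (L ⊗ c.pt).X n) :
    ∃ (j : J) (z' : (L ⊗ F.obj j).X n), (L ◁ c.ι.app j).f n z' = z := by
  let T : Submodule A ((L ⊗ c.pt).X n) :=
    { carrier := {z | ∃ (j : J) (z' : (L ⊗ F.obj j).X n), (L ◁ c.ι.app j).f n z' = z}
      add_mem' := by
        rintro x y ⟨j, x', rfl⟩ ⟨j', y', rfl⟩
        refine ⟨IsFiltered.max j j', (L ◁ F.map (IsFiltered.leftToMax j j')).f n x' +
          (L ◁ F.map (IsFiltered.rightToMax j j')).f n y', ?_⟩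
        rw [map_add, whiskerLeft_w_apply, whiskerLeft_w_apply]
      zero_mem' := by
        obtain ⟨j⟩ := IsFiltered.nonempty (C := J)
        exact ⟨j, 0, map_zero _⟩
      smul_mem' := by
        rintro a x ⟨j, x', rfl⟩
        exact ⟨j, a • x', map_smul _ _ _⟩ }
  change z ∈ T
  apply mem_of_components
  intro p q hpq
  obtain ⟨j, t', ht'⟩ := comp_exists_rep F c hc L p q (pr L c.pt p q n z)
  refine ⟨j, ι L (F.obj j) p q n hpq t', ?_⟩
  rw [whiskerLeft_ι_apply, ht']
  rfl

include hc in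
/-- an element of a finite stage dying in the colimit dies at a finite stage -/
theorem exists_ker (n : ℤ) (j : J) (y : (L ⊗ F.obj j).X n)
    (hy : (L ◁ c.ι.app j).f n y = 0) :
    ∃ (k : J) (u : j ⟶ k), (L ◁ F.map u).f n y = 0 := by
  let T : Submodule A ((L ⊗ F.obj j).X n) :=
    { carrier := {y | ∃ (k : J) (u : j ⟶ k), (L ◁ F.map u).f n y = 0}
      add_mem' := by
        rintro x y ⟨k, u, hx⟩ ⟨k', u', hy⟩
        obtain ⟨l, v, v', hvv'⟩ := IsFilteredOrEmpty.cocone_objs k k'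
        obtain ⟨m, w, hw⟩ := IsFilteredOrEmpty.cocone_maps (u ≫ v) (u' ≫ v')
        refine ⟨m, u ≫ v ≫ w, ?_⟩
        rw [map_add]
        have e1 : (L ◁ F.map (u ≫ v ≫ w)).f n x = 0 := by
          rw [F.map_comp, ← whiskerLeft_comp_f_apply, hx, map_zero]
        have e2 : (L ◁ F.map (u ≫ v ≫ w)).f n y = 0 := by
          have : u ≫ v ≫ w = u' ≫ v' ≫ w := by
            rw [← Category.assoc, hw, Category.assoc]
          rw [this, F.map_comp, ← whiskerLeft_comp_f_apply, hy, map_zero]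
        rw [e1, e2, add_zero]
      zero_mem' := ⟨j, 𝟙 j, map_zero _⟩
      smul_mem' := by
        rintro a x ⟨k, u, hx⟩
        exact ⟨k, u, by rw [map_smul, hx, smul_zero]⟩ }
  change y ∈ T
  apply mem_of_components
  intro p q hpq
  have h1 : (L.X p ◁ (c.ι.app j).f q) (pr L (F.obj j) p q n y) = 0 := by
    rw [← pr_whiskerLeft_apply, hy, map_zero]
  obtain ⟨k, u, hu⟩ := comp_ker F c hc L p q j _ h1
  refine ⟨k, u, ?_⟩
  rw [whiskerLeft_ι_apply, hu, map_zero]

include hc in
theorem KFl.of_isColimit (hF : ∀ j, KFl (F.obj j)) : KFl c.pt := by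
  intro L hL i
  rw [← HomologicalComplex.exactAt_iff_isZero_homology]
  apply exactAt_of_elements
  intro z hz
  obtain ⟨j, z', rfl⟩ := exists_lift F c hc L i z
  have h1 : (L ◁ c.ι.app j).f (i + 1) ((L ⊗ F.obj j).d i (i + 1) z') = 0 := by
    rw [← hz]
    exact app ((L ◁ c.ι.app j).comm i (i + 1)).symm z'
  obtain ⟨k, u, hu⟩ := exists_ker F c hc L (i + 1) j _ h1
  set z'' := (L ◁ F.map u).f i z' with hz''
  have hz''d : (L ⊗ F.obj k).d i (i + 1) z'' = 0 := by
    rw [← hu]
    exact app ((L ◁ F.map u).comm i (i + 1)) z'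
  have hex : (L ⊗ F.obj k).ExactAt i :=
    (HomologicalComplex.exactAt_iff_isZero_homology _ _).mpr (hF k L hL i)
  obtain ⟨w, hw⟩ := elements_of_exactAt _ i hex z'' hz''d
  refine ⟨(L ◁ c.ι.app k).f (i - 1) w, ?_⟩
  have := app ((L ◁ c.ι.app k).comm (i - 1) i) w
  rw [← whiskerLeft_w_apply F c L u i z', ← hz'', ← hw]
  exact this

end Groth.Agent.Helper5.KF.G
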