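import Mathlib
import Groth.Prelude.Def_Koszul

/-!
# Elementwise description of mapping cones in `ModuleCat` and low-degree structure of the
mapping-cone Koszul complex `Koszul.koszul A l`.
-/

set_option autoImplicit false
universe u
open CategoryTheory CochainComplex HomComplex

namespace Groth.Agent.Helper5.KR

section Cone
variable {A : Type u} [CommRing A] {F G : CochainComplex (ModuleCat.{u} A) ℤ} (φ : F ⟶ G)

/-- first projection of the mapping cone, on elements -/
noncomputable def cfst (p q : ℤ) (h : p + 1 = q) : (mappingCone φ).X p →ₗ[A] F.X q :=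
  ((mappingCone.fst φ).1.v p q h).hom

/-- second projection of the mapping cone, on elements -/
noncomputable def csnd (p : ℤ) : (mappingCone φ).X p →ₗ[A] G.X p :=
  ((mappingCone.snd φ).v p p (add_zero p)).hom

/-- first inclusion of the mapping cone, on elements -/
noncomputable def cinl (p q : ℤ) (h : p + 1 = q) : F.X q →ₗ[A] (mappingCone φ).X p :=
  ((mappingCone.inl φ).v q p (by lia)).hom

/-- second inclusion of the mapping cone, on elements -/
noncomputable def cinr (p : ℤ) : G.X p →ₗ[A] (mappingCone φ).X p :=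
  ((mappingCone.inr φ).f p).hom

lemma cfst_cinl (p q : ℤ) (h : p + 1 = q) (x : F.X q) : cfst φ p q h (cinl φ p q h x) = x := by
  have := mappingCone.inl_v_fst_v φ q p h
  exact congrArg (fun f => f.hom x) this

lemma csnd_cinl (p q : ℤ) (h : p + 1 = q) (x : F.X q) : csnd φ p (cinl φ p q h x) = 0 := by
  have := mappingCone.inl_v_snd_v φ q p (by lia)
  exact congrArg (fun f => f.hom x) this

lemma cfst_cinr (p q : ℤ) (h : p + 1 = q) (y : G.X p) : cfst φ p q h (cinr φ p y) = 0 := by
  have := mappingCone.inr_f_fst_v φ p q h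
  exact congrArg (fun f => f.hom y) this

lemma csnd_cinr (p : ℤ) (y : G.X p) : csnd φ p (cinr φ p y) = y := by
  have := mappingCone.inr_f_snd_v φ p
  exact congrArg (fun f => f.hom y) this

lemma cinl_add_cinr (p q : ℤ) (h : p + 1 = q) (z : (mappingCone φ).X p) :
    cinl φ p q h (cfst φ p q h z) + cinr φ p (csnd φ p z) = z := by
  have := mappingCone.id_X φ p q h
  have h2 := congrArg (fun f => f.hom z) this
  simpa [cinl, cinr, cfst, csnd] using h2

lemma cone_ext (p q : ℤ) (h : p + 1 = q) {z z' : (mappingCone φ).X p}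
    (h1 : cfst φ p q h z = cfst φ p q h z') (h2 : csnd φ p z = csnd φ p z') : z = z' := by
  rw [← cinl_add_cinr φ p q h z, ← cinl_add_cinr φ p q h z', h1, h2]

lemma cfst_d (p q r : ℤ) (hpq : p + 1 = q) (hqr : q + 1 = r) (z : (mappingCone φ).X p) :
    cfst φ q r hqr ((mappingCone φ).d p q z) = - F.d q r (cfst φ p q hpq z) := by
  have := mappingCone.d_fst_v φ p q r hpq hqr
  have h2 := congrArg (fun f => f.hom z) this
  simpa [cfst] using h2

lemma csnd_d (p q : ℤ) (hpq : p + 1 = q) (z : (mappingCone φ).X p) :
    csnd φ q ((mappingCone φ).d p q z) = φ.f q (cfst φ p q hpq z) + G.d p q (csnd φ p z) := by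
  have := mappingCone.d_snd_v φ p q hpq
  have h2 := congrArg (fun f => f.hom z) this
  simpa [cfst, csnd] using h2

/-- the terms of the cone as a product, as a linear equivalence -/
noncomputable def coneEquiv (p q : ℤ) (h : p + 1 = q) :
    (mappingCone φ).X p ≃ₗ[A] (F.X q × G.X p) where
  toFun z := (cfst φ p q h z, csnd φ p z)
  map_add' := by intro x y; simp
  map_smul' := by intro a x; simp
  invFun w := cinl φ p q h w.1 + cinr φ p w.2
  left_inv z := cinl_add_cinr φ p q h z
  right_inv w := by
    ext
    · simp [cfst_cinl, cfst_cinr]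
    · simp [csnd_cinl, csnd_cinr]

end Cone

section Kos
variable (A : Type u) [CommRing A]

open Koszul

lemma koszul_cons (f : A) (l : List A) :
    koszul A (f :: l) = mappingCone (f • 𝟙 (koszul A l)) := rfl

/-- vanishing of the Koszul complex in positive degrees -/
lemma isZero_koszul_X_pos : ∀ (l : List A) (n : ℤ), 0 < n → Limits.IsZero ((koszul A l).X n)
  | [], n, hn => by
    change Limits.IsZero (((CochainComplex.singleFunctor (ModuleCat.{u} A) 0).obj _).X n)
    exact HomologicalComplex.isZero_single_obj_X _ _ _ _ (by lia)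
  | f :: l, n, hn => by
    rw [koszul_cons, mappingCone.isZero_X_iff]
    exact ⟨isZero_koszul_X_pos l (n + 1) (by lia), isZero_koszul_X_pos l n hn⟩

variable {A}

/-- Low-degree presentation of a complex looking like the Koszul complex of `l`: degree `0` is `A`,
degree `-1` is `A^r`, the differential `d^{-1}` is `a ↦ ∑ a_i f_i`, and the coordinates of
boundaries lie in the ideal. -/
structure PresC (K : CochainComplex (ModuleCat.{u} A) ℤ) (l : List A) where
  e0 : K.X 0 ≃ₗ[A] A
  e1 : K.X (-1) ≃ₗ[A] (Fin l.length → A)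
  d0 : ∀ z, e0 (K.d (-1) 0 z) = ∑ i, e1 z i * l.get i
  d1 : ∀ w i, e1 (K.d (-2) (-1) w) i ∈ Ideal.ofList l

/-- the induction step -/
noncomputable def presCone (K : CochainComplex (ModuleCat.{u} A) ℤ) (l : List A) (f : A)
    (P : PresC K l) (hz1 : Limits.IsZero (K.X 1)) : PresC (mappingCone (f • 𝟙 K)) (f :: l) := by
  haveI : Subsingleton (K.X 1) := ModuleCat.subsingleton_of_isZero hz1
  have hφ : ∀ (n : ℤ) (x : K.X n), (f • 𝟙 K : K ⟶ K).f n x = f • x := by
    intro n x
    simp
  -- degree zero
  let e0' : (mappingCone (f • 𝟙 K)).X 0 ≃ₗ[A] A :=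
    { toFun := fun z => P.e0 (csnd (f • 𝟙 K) 0 z)
      map_add' := by intro x y; simp only [map_add]
      map_smul' := by intro a x; simp only [map_smul, RingHom.id_apply]
      invFun := fun a => cinr (f • 𝟙 K) 0 (P.e0.symm a)
      left_inv := by
        intro z
        apply cone_ext (f • 𝟙 K) 0 1 (by lia)
        · exact Subsingleton.elim _ _
        · simp only [csnd_cinr, LinearEquiv.symm_apply_apply]
      right_inv := by
        intro a
        simp only [csnd_cinr, LinearEquiv.apply_symm_apply] }
  let e1' : (mappingCone (f • 𝟙 K)).X (-1) ≃ₗ[A] (Fin (f :: l).length → A) :=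
    { toFun := fun z => Fin.cons (P.e0 (cfst (f • 𝟙 K) (-1) 0 (by lia) z))
        (P.e1 (csnd (f • 𝟙 K) (-1) z))
      map_add' := by
        intro x y
        ext i
        refine Fin.cases ?_ (fun j => ?_) i
        · simp only [map_add, Fin.cons_zero, Pi.add_apply]
        · simp only [map_add, Fin.cons_succ, Pi.add_apply]
      map_smul' := by
        intro a x
        ext i
        refine Fin.cases ?_ (fun j => ?_) i
        · simp only [map_smul, Fin.cons_zero, Pi.smul_apply, RingHom.id_apply]
        · simp only [map_smul, Fin.cons_succ, Pi.smul_apply, RingHom.id_apply]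
      invFun := fun v => cinl (f • 𝟙 K) (-1) 0 (by lia) (P.e0.symm (v 0)) +
        cinr (f • 𝟙 K) (-1) (P.e1.symm (Fin.tail v))
      left_inv := by
        intro z
        apply cone_ext (f • 𝟙 K) (-1) 0 (by lia)
        · simp only [map_add, cfst_cinl, cfst_cinr, Fin.cons_zero, LinearEquiv.symm_apply_apply,
            add_zero]
        · simp only [map_add, csnd_cinl, csnd_cinr, Fin.tail_cons, LinearEquiv.symm_apply_apply,
            zero_add]
      right_inv := by
        intro v
        ext i
        refine Fin.cases ?_ (fun j => ?_) i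
        · simp only [map_add, cfst_cinl, cfst_cinr, Fin.cons_zero, LinearEquiv.apply_symm_apply,
            add_zero]
        · simp only [map_add, csnd_cinl, csnd_cinr, Fin.cons_succ, LinearEquiv.apply_symm_apply,
            zero_add, Fin.tail] }
  refine { e0 := e0', e1 := e1', d0 := ?_, d1 := ?_ }
  · intro z
    change P.e0 (csnd (f • 𝟙 K) 0 ((mappingCone (f • 𝟙 K)).d (-1) 0 z)) = _
    rw [csnd_d (f • 𝟙 K) (-1) 0 (by lia), hφ, map_add, map_smul, P.d0]
    change _ = ∑ i : Fin (l.length + 1), e1' z i * (f :: l).get i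
    rw [Fin.sum_univ_succ]
    congr 1
    change _ = P.e0 (cfst (f • 𝟙 K) (-1) 0 (by lia) z) * f
    rw [smul_eq_mul, mul_comm]
  · intro w i
    have hle : Ideal.ofList l ≤ Ideal.ofList (f :: l) := by
      rw [Ideal.ofList_cons]
      exact le_sup_right
    have hf : f ∈ Ideal.ofList (f :: l) := by
      rw [Ideal.ofList_cons]
      exact Ideal.mem_sup_left (Ideal.mem_span_singleton_self f)
    refine Fin.cases ?_ (fun j => ?_) i
    · change P.e0 (cfst (f • 𝟙 K) (-1) 0 (by lia) ((mappingCone (f • 𝟙 K)).d (-2) (-1) w)) ∈ _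
      rw [cfst_d (f • 𝟙 K) (-2) (-1) 0 (by lia) (by lia), map_neg, P.d0]
      refine neg_mem (sum_mem (fun k _ => ?_))
      refine Ideal.mul_mem_left _ _ (hle ?_)
      exact Ideal.subset_span (List.get_mem _ _)
    · change P.e1 (csnd (f • 𝟙 K) (-1) ((mappingCone (f • 𝟙 K)).d (-2) (-1) w)) j ∈ _
      rw [csnd_d (f • 𝟙 K) (-2) (-1) (by lia), hφ, map_add, map_smul]
      refine add_mem ?_ (hle (P.d1 _ j))
      exact Ideal.mul_mem_right _ _ hf

theorem nonempty_pres : ∀ l : List A, Nonempty (PresC (koszul A l) l)
  | [] => by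
    have hz : Limits.IsZero ((koszul A []).X (-1)) := by
      change Limits.IsZero (((CochainComplex.singleFunctor (ModuleCat.{u} A) 0).obj _).X (-1))
      exact HomologicalComplex.isZero_single_obj_X _ _ _ _ (by lia)
    haveI : Subsingleton ((koszul A []).X (-1)) := ModuleCat.subsingleton_of_isZero hz
    haveI : Subsingleton (Fin ([] : List A).length → A) :=
      (inferInstance : Subsingleton (Fin 0 → A))
    let e0 : (koszul A []).X 0 ≃ₗ[A] A :=
      (HomologicalComplex.singleObjXSelf (ComplexShape.up ℤ) 0 (ModuleCat.of A A)).toLinearEquiv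
    refine ⟨{ e0 := e0, e1 := LinearEquiv.ofSubsingleton _ _, d0 := ?_, d1 := ?_ }⟩
    · intro z
      have h0 : (koszul A []).d (-1) 0 z = 0 := by
        rw [Subsingleton.elim z 0, map_zero]
      rw [h0]
      exact (map_zero e0).trans (Finset.sum_eq_zero (fun i _ => i.elim0)).symm
    · intro w i
      exact i.elim0
  | f :: l => by
    obtain ⟨P⟩ := nonempty_pres l
    exact ⟨presCone (koszul A l) l f P (isZero_koszul_X_pos A l 1 (by lia))⟩

/-- If `H^{-1}` of the Koszul complex vanishes, every relation among the `f_i` has its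
coefficients in the ideal `(f)`. -/
theorem coeff_mem_of_relation (l : List A)
    (h : Limits.IsZero ((koszul A l).homology (-1)))
    (c : Fin l.length → A) (hc : ∑ i, c i * l.get i = 0) (i : Fin l.length) :
    c i ∈ Ideal.ofList l := by
  obtain ⟨P⟩ := nonempty_pres l
  have hz : (koszul A l).d (-1) 0 (P.e1.symm c) = 0 := by
    apply P.e0.injective
    rw [P.d0, map_zero, LinearEquiv.apply_symm_apply]
    exact hc
  have hex : (koszul A l).ExactAt (-1) :=
    (HomologicalComplex.exactAt_iff_isZero_homology _ _).mpr h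
  rw [HomologicalComplex.exactAt_iff' _ (-2) (-1) 0 (by simp) (by simp),
    ShortComplex.moduleCat_exact_iff] at hex
  obtain ⟨w, hw⟩ := hex (P.e1.symm c) hz
  have hmem := P.d1 w i
  have hw' : (koszul A l).d (-2) (-1) w = P.e1.symm c := hw
  rw [hw', LinearEquiv.apply_symm_apply] at hmem
  exact hmem

/-- Version for a family indexed by `Fin r`. -/
theorem coeff_mem_of_relation_ofFn {r : ℕ} (f : Fin r → A)
    (h : Limits.IsZero ((koszul A (List.ofFn f)).homology (-1)))
    (c : Fin r → A) (hc : ∑ i, c i * f i = 0) (i : Fin r) :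
    c i ∈ Ideal.span (Set.range f) := by
  have hlen : (List.ofFn f).length = r := List.length_ofFn
  have hI : Ideal.ofList (List.ofFn f) = Ideal.span (Set.range f) := by
    unfold Ideal.ofList
    congr 1
    ext x
    simp [List.mem_ofFn]
  rw [← hI]
  have key := coeff_mem_of_relation (List.ofFn f) h (fun j => c (Fin.cast hlen j)) ?_
    (Fin.cast hlen.symm i)
  · simpa using key
  · rw [← hc]
    refine Fintype.sum_equiv (finCongr hlen) _ _ (fun j => ?_)
    simp only [List.get_eq_getElem, List.getElem_ofFn, finCongr_apply]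
    rfl

end Kos

end Groth.Agent.Helper5.KR
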