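import Groth.Agent.Lib.Helper5.KFlat11
import Groth.Agent.Lib.Helper5.KFlat5b
import Groth.Agent.Lib.Helper5.KosReg1

/-!
# Tools for K-flat resolutions: complexes with zero differential, an elementwise criterion for
quasi-isomorphisms, flatness of filtered colimits
-/

set_option autoImplicit false
set_option linter.unusedSectionVars false
set_option linter.unusedVariables false
set_option linter.style.haveILetI false

universe w w' u

open CategoryTheory CategoryTheory.Limits MonoidalCategory HomologicalComplex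

namespace Groth.Agent.Helper5.KF

variable {A : Type u} [CommRing A]

/-- A complex of flat modules with zero differentials is K-flat. -/
theorem KFl.of_d_eq_zero (Z : DRing.Cx A) (hd : ∀ i j, Z.d i j = 0)
    (hfl : ∀ i, Module.Flat A (Z.X i)) : KFl Z := by
  intro L hL n
  rw [← HomologicalComplex.exactAt_iff_isZero_homology]
  apply exactAt_of_elements
  intro z hz
  let T : Submodule A ((L ⊗ Z).X n) := LinearMap.range ((L ⊗ Z).d (n - 1) n).hom
  change z ∈ T
  apply mem_of_components
  intro p q hpq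
  set c := pr L Z p q n z with hc
  have h1 := pr_d_apply L Z n (n + 1) rfl p (q - 1) (p + 1) q rfl (by omega) z
  rw [hz, map_zero, hd, whiskerLeft_zero_apply, smul_zero, add_zero] at h1
  have hex : Function.Exact (L.d (p - 1) p).hom (L.d p (p + 1)).hom := by
    have := (HomologicalComplex.exactAt_iff_isZero_homology _ _).mpr (hL p)
    rw [HomologicalComplex.exactAt_iff' L (p - 1) p (p + 1) (by simp) (by simp),
      ShortComplex.moduleCat_exact_iff_range_eq_ker] at this
    exact (LinearMap.exact_iff.mpr this.symm)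
  haveI := hfl q
  have hex' := Module.Flat.rTensor_exact (Z.X q) hex
  obtain ⟨s, hs⟩ := (hex' c).mp h1.symm
  refine ⟨ι L Z (p - 1) q (n - 1) (by omega) s, ?_⟩
  change (L ⊗ Z).d (n - 1) n (ι L Z (p - 1) q (n - 1) (by omega) s) = _
  rw [d_ι_apply L Z (p - 1) q (n - 1) (by omega) n (by omega) p (q + 1) (by omega) rfl s, hd,
    whiskerLeft_zero_apply, map_zero, smul_zero, add_zero]
  erw [hs]

open Groth.Agent.Helper5.KR in
/-- elementwise criterion for a morphism of complexes of modules to be a quasi-isomorphism -/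
theorem quasiIso_of_elements {K M : DRing.Cx A} (f : K ⟶ M)
    (hinj : ∀ (n n' : ℤ) (_ : n + 1 = n') (x : K.X n') (m : M.X n), K.d n' (n' + 1) x = 0 →
      f.f n' x = M.d n n' m → ∃ y : K.X n, K.d n n' y = x)
    (hsurj : ∀ (n n' : ℤ) (_ : n + 1 = n') (m : M.X n'), M.d n' (n' + 1) m = 0 →
      ∃ (x : K.X n') (m' : M.X n), K.d n' (n' + 1) x = 0 ∧ f.f n' x = m + M.d n n' m') :
    QuasiIso f := by
  rw [quasiIso_iff_acyclic_mappingCone]
  intro n
  apply exactAt_of_elements
  intro z hz
  set x := cfst f n (n + 1) rfl z with hx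
  set m := csnd f n z with hm
  have h1 : K.d (n + 1) (n + 1 + 1) x = 0 := by
    have := cfst_d f n (n + 1) (n + 1 + 1) rfl rfl z
    rw [hz, map_zero] at this
    exact neg_eq_zero.mp this.symm
  have h2 : f.f (n + 1) x + M.d n (n + 1) m = 0 := by
    have := csnd_d f n (n + 1) rfl z
    rw [hz, map_zero] at this
    exact this.symm
  obtain ⟨y₀, hy₀⟩ := hinj n (n + 1) rfl x (-m) h1 (by
    rw [map_neg]
    exact eq_neg_of_add_eq_zero_left h2)
  set u := f.f n y₀ + m with hu
  have hdu : M.d n (n + 1) u = 0 := by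
    rw [hu, map_add, ← h2, ← hy₀]
    congr 1
    change (f.f n ≫ M.d n (n + 1)) y₀ = (K.d n (n + 1) ≫ f.f (n + 1)) y₀
    exact app (f.comm n (n + 1)) y₀
  obtain ⟨x', m'', hx', hfx'⟩ := hsurj (n - 1) n (by omega) u hdu
  refine ⟨cinl f (n - 1) n (by omega) (-y₀ + x') + cinr f (n - 1) (-m''), ?_⟩
  apply cone_ext f n (n + 1) rfl
  · rw [cfst_d f (n - 1) n (n + 1) (by omega) rfl, map_add, cfst_cinl, cfst_cinr, add_zero,
      map_add, map_neg, hy₀, hx', add_zero, neg_neg]
  · rw [csnd_d f (n - 1) n (by omega), map_add (cfst f (n - 1) n (by omega)),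
      map_add (csnd f (n - 1)), cfst_cinl, cfst_cinr, add_zero,
      csnd_cinl, csnd_cinr, zero_add, map_add, map_neg, map_neg, hfx', hu]
    abel

namespace G

variable {J : Type w} [Category.{w'} J] [IsFiltered J]
  [PreservesColimitsOfShape J (forget (ModuleCat.{u} A))] [HasColimitsOfShape J (ModuleCat.{u} A)]
  (F : J ⥤ DRing.Cx A) (c : Cocone F) (hc : IsColimit c)

include hc in
/-- elements of a term of the colimit come from a stage -/
lemma X_exists_rep (q : ℤ) (x : c.pt.X q) :
    ∃ (j : J) (x' : (F.obj j).X q), (c.ι.app j).f q x' = x :=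
  Concrete.isColimit_exists_rep _ (isColimitOfPreserves (HomologicalComplex.eval _ _ q) hc) x

include hc in
lemma X_ker (q : ℤ) (j : J) (x' : (F.obj j).X q) (h : (c.ι.app j).f q x' = 0) :
    ∃ (k : J) (u : j ⟶ k), (F.map u).f q x' = 0 := by
  obtain ⟨k, f, g, hfg⟩ := Concrete.isColimit_exists_of_rep_eq _
    (isColimitOfPreserves (HomologicalComplex.eval _ _ q) hc) (i := j) (j := j) x' 0
    (by rw [map_zero]; exact h)
  refine ⟨k, f, ?_⟩
  rw [map_zero] at hfg
  exact hfg

/-- the colimit cocone tensored with a module -/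
noncomputable def modIsColimit (N : ModuleCat.{u} A) (q : ℤ) :
    IsColimit ((tensorLeft N).mapCocone ((HomologicalComplex.eval _ _ q).mapCocone c)) :=
  isColimitOfPreserves (tensorLeft N) (isColimitOfPreserves (HomologicalComplex.eval _ _ q) hc)

include hc in
lemma mod_exists_rep (N : ModuleCat.{u} A) (q : ℤ) (t : (N ⊗ c.pt.X q : ModuleCat.{u} A)) :
    ∃ (j : J) (t' : (N ⊗ (F.obj j).X q : ModuleCat.{u} A)), (N ◁ (c.ι.app j).f q) t' = t :=
  Concrete.isColimit_exists_rep _ (modIsColimit F c hc N q) t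

include hc in
lemma mod_ker (N : ModuleCat.{u} A) (q : ℤ) (j : J)
    (t' : (N ⊗ (F.obj j).X q : ModuleCat.{u} A)) (h : (N ◁ (c.ι.app j).f q) t' = 0) :
    ∃ (k : J) (u : j ⟶ k), (N ◁ (F.map u).f q) t' = 0 := by
  obtain ⟨k, f, g, hfg⟩ := Concrete.isColimit_exists_of_rep_eq _ (modIsColimit F c hc N q)
    (i := j) (j := j) t' 0 (by rw [map_zero]; exact h)
  refine ⟨k, f, ?_⟩
  rw [map_zero] at hfg
  exact hfg

include hc in
/-- the terms of a filtered colimit of termwise flat complexes are flat -/
theorem flat_X_of_isColimit (hF : ∀ j q, Module.Flat A ((F.obj j).X q)) (q : ℤ) :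
    Module.Flat A (c.pt.X q) := by
  rw [Module.Flat.iff_rTensor_preserves_injective_linearMap]
  intro N N' _ _ _ _ f hf
  rw [injective_iff_map_eq_zero]
  intro t ht
  obtain ⟨j, t', rfl⟩ := mod_exists_rep F c hc (ModuleCat.of A N) q t
  have h1 : (ModuleCat.of A N' ◁ (c.ι.app j).f q)
      ((ModuleCat.ofHom f ▷ (F.obj j).X q) t') = 0 := by
    rw [← whisker_exchange_apply]
    exact ht
  obtain ⟨k, u, hu⟩ := mod_ker F c hc (ModuleCat.of A N') q j _ h1
  rw [← whisker_exchange_apply] at hu
  haveI := hF k q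
  have hinj : Function.Injective (f.rTensor ((F.obj k).X q)) :=
    Module.Flat.rTensor_preserves_injective_linearMap f hf
  have h2 : (ModuleCat.of A N ◁ (F.map u).f q) t' = 0 := hinj (by rw [map_zero]; exact hu)
  have h3 : (ModuleCat.of A N ◁ (c.ι.app j).f q) t' =
      (ModuleCat.of A N ◁ (c.ι.app k).f q) ((ModuleCat.of A N ◁ (F.map u).f q) t') := by
    rw [whiskerLeft_comp_apply, ← HomologicalComplex.comp_f, c.w]
  rw [h3, h2, map_zero]

end G

end Groth.Agent.Helper5.KF
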