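import Groth.Agent.Lib.Helper5.PCM2

/-!
# Modules of finite type / finite presentation as pseudo-coherent objects, III
-/

set_option autoImplicit false
set_option linter.unusedSectionVars false
set_option linter.unusedVariables false
set_option linter.style.haveILetI false

universe u

open CategoryTheory CategoryTheory.Limits AlgebraicGeometry HomologicalComplex

attribute [local instance] HasDerivedCategory.standard

namespace Groth.Agent.Helper5.PCM

open Groth.Agent.Helper5.RT Groth.Agent.Helper13.LocFree Groth.Agent.Helper5.LDer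
  Groth.Agent.Helper5.FPC Groth.Agent.Helper5.PC Groth.Agent.Helper13.FinType
  Groth.Agent.Helper5.LOC

section Abelian

variable {𝒜 : Type*} [Category 𝒜] [Abelian 𝒜]

/-- transport of a cokernel cofork along isomorphisms of the source and target -/
def isColimitCokernelCoforkOfIso {A B A' B' F : 𝒜} (φ : A ⟶ B) (ε : B ⟶ F) (w : φ ≫ ε = 0)
    (hc : IsColimit (CokernelCofork.ofπ ε w)) (a : A' ≅ A) (b : B' ≅ B) (φ' : A' ⟶ B')
    (hφ' : φ' = a.hom ≫ φ ≫ b.inv) (w' : φ' ≫ (b.hom ≫ ε) = 0) :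
    IsColimit (CokernelCofork.ofπ (b.hom ≫ ε) w') := by
  have h1 : φ ≫ b.inv = a.inv ≫ φ' := by rw [hφ', Iso.inv_hom_id_assoc]
  have key : ∀ {Z : 𝒜} (x : B' ⟶ Z), φ' ≫ x = 0 → φ ≫ (b.inv ≫ x) = 0 := by
    intro Z x hx
    rw [reassoc_of% h1, hx, comp_zero]
  refine CokernelCofork.IsColimit.ofπ _ _
    (fun x hx => hc.desc (CokernelCofork.ofπ (b.inv ≫ x) (key x hx))) ?_ ?_
  · intro Z x hx
    have h2 : ε ≫ hc.desc (CokernelCofork.ofπ (b.inv ≫ x) (key x hx)) = b.inv ≫ x :=
      hc.fac (CokernelCofork.ofπ (b.inv ≫ x) (key x hx)) WalkingParallelPair.one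
    rw [Category.assoc, h2, Iso.hom_inv_id_assoc]
  · intro Z x hx m hm
    apply Cofork.IsColimit.hom_ext hc
    have h2 : ε ≫ hc.desc (CokernelCofork.ofπ (b.inv ≫ x) (key x hx)) = b.inv ≫ x :=
      hc.fac (CokernelCofork.ofπ (b.inv ≫ x) (key x hx)) WalkingParallelPair.one
    change ε ≫ m = ε ≫ hc.desc (CokernelCofork.ofπ (b.inv ≫ x) (key x hx))
    rw [h2, ← hm, Category.assoc, Iso.inv_hom_id_assoc]

end Abelian

variable {X : Scheme.{u}}

/-- the restriction to an open of a complex representing a module placed in degree `0` -/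
noncomputable def restrictInDIso (V : X.Opens) (F : X.Modules) (G : CochainComplex X.Modules ℤ)
    (eG : DCoh.toD X G ≅ DCoh.inD X F) :
    DerivedCategory.Q.obj ((DCoh.restrictCx V).obj G) ≅
      DerivedCategory.Q.obj ((single (V : Scheme.{u}).Modules (ComplexShape.up ℤ) 0).obj
        (F.restrict V.ι)) :=
  restrictQIso V.ι (eG ≪≫ inDIso F) ≪≫ DerivedCategory.Q.mapIso
    ((HomologicalComplex.singleMapHomologicalComplex (Scheme.Modules.restrictFunctor V.ι)
      (ComplexShape.up ℤ) 0).app F)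

/-- a module of finite type is `0`-pseudo-coherent -/
theorem isPseudoCoherentD_zero_of_isFiniteType (F : X.Modules) [hF : CohB1.IsFT F] :
    DCoh.IsPseudoCoherentD 0 (DCoh.inD X F) := by
  intro x
  obtain ⟨V, hxV, B, hB, π, hπ⟩ := exists_epi_of_isFiniteType F x
  refine ⟨V, hxV, fun G ⟨eG⟩ => ?_⟩
  have hz : ∀ (M : (V : Scheme.{u}).Modules) (i : ℤ), 0 < i →
      IsZero (((single (V : Scheme.{u}).Modules (ComplexShape.up ℤ) 0).obj M).X i) :=
    fun M i hi => isZero_single_obj_X (ComplexShape.up ℤ) 0 M i (by omega)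
  have hepi : Epi (HomologicalComplex.homologyMap
      ((single (V : Scheme.{u}).Modules (ComplexShape.up ℤ) 0).map π) 0) :=
    ((MorphismProperty.epimorphisms _).arrow_mk_iso_iff
      (Arrow.isoOfNatIso (homologyFunctorSingleIso (V : Scheme.{u}).Modules (ComplexShape.up ℤ) 0)
        (Arrow.mk π))).mpr hπ
  have hβ := isConn_of_epi ((single (V : Scheme.{u}).Modules (ComplexShape.up ℤ) 0).map π) 0
    (hz B) (hz _) hepi
  have hP : DCoh.IsStrictlyPerfect ((single (V : Scheme.{u}).Modules (ComplexShape.up ℤ) 0).obj B) := by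
    refine ⟨⟨0, 0, fun i hi => isZero_single_obj_X (ComplexShape.up ℤ) 0 B i (by omega)⟩, fun i => ?_⟩
    by_cases hi : i = 0
    · subst hi
      exact isFinLocFree_of_iso (singleObjXSelf (ComplexShape.up ℤ) 0 B).symm hB
    · exact isFinLocFree_of_isZero (isZero_single_obj_X (ComplexShape.up ℤ) 0 B i hi)
  have h2 := hβ.of_arrow_iso (β := DerivedCategory.Q.map
    ((single (V : Scheme.{u}).Modules (ComplexShape.up ℤ) 0).map π) ≫ (restrictInDIso V F G eG).inv)
    (Arrow.isoMk (Iso.refl _) (restrictInDIso V F G eG).symm (by simp <;> rfl))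
  exact ⟨_, _, hP, h2.1, h2.2⟩

/-- a module of finite presentation is `(-1)`-pseudo-coherent -/
theorem isPseudoCoherentD_neg_one_of_isFinitePresentation (F : X.Modules) [hF : CohB1.IsFP F] :
    DCoh.IsPseudoCoherentD (-1) (DCoh.inD X F) := by
  intro x
  obtain ⟨V, hxV, A, B, hA, hB, φ, ε, w, ⟨hc⟩⟩ := exists_presentation_of_isFinitePresentation F x
  refine ⟨V, hxV, fun G ⟨eG⟩ => ?_⟩
  have hrel : (ComplexShape.up ℤ).Rel (-1) 0 := by simp
  have hne : (-1 : ℤ) ≠ 0 := by decide
  set P := HomologicalComplex.double φ hrel with hPdef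
  let a : P.X (-1) ≅ A := doubleXIso₀ φ hrel
  let b : P.X 0 ≅ B := doubleXIso₁ φ hrel hne
  have hd : P.d (-1) 0 = a.hom ≫ φ ≫ b.inv := double_d φ hrel hne
  have w' : P.d (-1) 0 ≫ (b.hom ≫ ε) = 0 := by
    rw [hd]
    simp [w]
  have hc' := isColimitCokernelCoforkOfIso φ ε w hc a b (P.d (-1) 0) hd w'
  have hε' : ∀ (i : ℤ), (ComplexShape.up ℤ).Rel i 0 → P.d i 0 ≫ (b.hom ≫ ε) = 0 := by
    intro i hi
    obtain rfl : i = -1 := by simp at hi; omega
    exact w'
  have hzP : ∀ i : ℤ, i ≠ -1 → i ≠ 0 → IsZero (P.X i) := fun i h1 h2 =>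
    isZero_double_X φ hrel i h1 h2
  have hq := quasiIsoAt_mkHomToSingle P (F.restrict V.ι) (hzP 1 (by decide) (by decide))
    (b.hom ≫ ε) w' hc' hε'
  have hβ := isConn_of_quasiIsoAt (HomologicalComplex.mkHomToSingle (b.hom ≫ ε) hε') (-1) 0
    (by norm_num) (fun i hi => hzP i (by omega) (by omega))
    (fun i hi => isZero_single_obj_X (ComplexShape.up ℤ) 0 _ i (by omega))
    (isZero_single_obj_X (ComplexShape.up ℤ) 0 _ (-1) (by decide)) hq
  have hP : DCoh.IsStrictlyPerfect P := by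
    refine ⟨⟨-1, 0, fun i hi => hzP i (by omega) (by omega)⟩, fun i => ?_⟩
    by_cases h1 : i = -1
    · subst h1
      exact isFinLocFree_of_iso a.symm hA
    · by_cases h2 : i = 0
      · subst h2
        exact isFinLocFree_of_iso b.symm hB
      · exact isFinLocFree_of_isZero (hzP i h1 h2)
  have h2 := hβ.of_arrow_iso (β := DerivedCategory.Q.map
    (HomologicalComplex.mkHomToSingle (b.hom ≫ ε) hε') ≫ (restrictInDIso V F G eG).inv)
    (Arrow.isoMk (Iso.refl _) (restrictInDIso V F G eG).symm (by simp <;> rfl))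
  exact ⟨_, _, hP, h2.1, h2.2⟩

end Groth.Agent.Helper5.PCM
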