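import Groth.Agent.Lib.Helper5.LRes1
import Groth.Agent.Lib.Helper13.PbUnit

/-!
# Restriction to opens and derived pullback; perfect complexes pull back to perfect complexes
-/

set_option autoImplicit false
set_option linter.unusedSectionVars false
set_option linter.unusedVariables false
set_option linter.style.haveILetI false

universe u

open CategoryTheory CategoryTheory.Limits AlgebraicGeometry MonoidalCategory Opposite

attribute [local instance] HasDerivedCategory.standard

namespace Groth.Agent.Helper5.LDer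

open Groth.Agent.Helper5.StalkCx Groth.Agent.Helper5.KRes Groth.Agent.Helper5.FlatGen

variable {X Y : Scheme.{u}}

section RestrictQ

variable {U : Scheme.{u}} (j : U ⟶ X) [IsOpenImmersion j]

instance : PreservesFiniteLimits (Scheme.Modules.restrictFunctor j) := inferInstance

instance : PreservesFiniteColimits (Scheme.Modules.restrictFunctor j) := inferInstance

/-- `Q (F|_U)` only depends on `Q F` -/
noncomputable def restrictQIso {F F' : CochainComplex X.Modules ℤ}
    (e : DerivedCategory.Q.obj F ≅ DerivedCategory.Q.obj F') :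
    DerivedCategory.Q.obj (((Scheme.Modules.restrictFunctor j).mapHomologicalComplex
      (ComplexShape.up ℤ)).obj F) ≅
    DerivedCategory.Q.obj (((Scheme.Modules.restrictFunctor j).mapHomologicalComplex
      (ComplexShape.up ℤ)).obj F') :=
  ((Scheme.Modules.restrictFunctor j).mapDerivedCategoryFactors.app F).symm ≪≫
    (Scheme.Modules.restrictFunctor j).mapDerivedCategory.mapIso e ≪≫
    (Scheme.Modules.restrictFunctor j).mapDerivedCategoryFactors.app F'

end RestrictQ

/-- restriction commutes with pullback -/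
noncomputable def pullbackRestrictIso (f : X ⟶ Y) (V : Y.Opens) :
    Scheme.Modules.pullback f ⋙ Scheme.Modules.restrictFunctor (f ⁻¹ᵁ V).ι ≅
      Scheme.Modules.restrictFunctor V.ι ⋙ Scheme.Modules.pullback (f ∣_ V) :=
  Functor.isoWhiskerLeft _ (Scheme.Modules.restrictFunctorIsoPullback _) ≪≫
    Scheme.Modules.pullbackComp (f ⁻¹ᵁ V).ι f ≪≫
    Scheme.Modules.pullbackCongr (morphismRestrict_ι f V).symm ≪≫
    (Scheme.Modules.pullbackComp (f ∣_ V) V.ι).symm ≪≫
    Functor.isoWhiskerRight (Scheme.Modules.restrictFunctorIsoPullback V.ι).symm _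

/-- the pullback of a free module is free -/
noncomputable def pullbackFreeModIso (f : X ⟶ Y) (n : ℕ) :
    (Scheme.Modules.pullback f).obj (FlatMod.freeMod Y n) ≅ FlatMod.freeMod X n :=
  PreservesCoproduct.iso (Scheme.Modules.pullback f) (fun _ : Fin n => Coh.structureModule Y) ≪≫
    Sigma.mapIso (fun _ => Groth.Agent.Helper13.PbUnit.pullbackUnitIso f)

/-- the pullback of a finite locally free module is finite locally free -/
theorem isFinLocFree_pullback (f : X ⟶ Y) (M : Y.Modules) (h : FlatMod.IsFinLocFree M) :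
    FlatMod.IsFinLocFree ((Scheme.Modules.pullback f).obj M) := by
  intro x
  obtain ⟨W, n, hx, ⟨e⟩⟩ := h (f.base x)
  refine ⟨f ⁻¹ᵁ W, n, hx, ⟨?_⟩⟩
  exact (pullbackRestrictIso f W).app M ≪≫ (Scheme.Modules.pullback (f ∣_ W)).mapIso e ≪≫
    pullbackFreeModIso (f ∣_ W) n

/-- a strictly perfect complex is K-flat -/
theorem isKFlat_of_isStrictlyPerfect (E : CochainComplex X.Modules ℤ)
    (hE : DCoh.IsStrictlyPerfect E) : DCoh.IsKFlat E := by
  obtain ⟨⟨a, b, hv⟩, hfl⟩ := hE
  exact isKFlat_of_flat_bddAbove E b (fun i hi => hv i (Or.inr hi))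
    (fun i => isFlat_of_isFinLocFree _ (hfl i))

/-- the pullback of a strictly perfect complex is strictly perfect -/
theorem isStrictlyPerfect_pullback (f : X ⟶ Y) (E : CochainComplex Y.Modules ℤ)
    (hE : DCoh.IsStrictlyPerfect E) :
    DCoh.IsStrictlyPerfect (((Scheme.Modules.pullback f).mapHomologicalComplex
      (ComplexShape.up ℤ)).obj E) := by
  obtain ⟨⟨a, b, hv⟩, hfl⟩ := hE
  exact ⟨⟨a, b, fun i hi => (Scheme.Modules.pullback f).map_isZero (hv i hi)⟩,
    fun i => isFinLocFree_pullback f _ (hfl i)⟩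

/-- a K-flat representative of an object of the derived category -/
theorem exists_kflat_repr (E : DCoh.D Y) :
    ∃ G : CochainComplex Y.Modules ℤ, DCoh.IsKFlat G ∧ Nonempty (DerivedCategory.Q.obj G ≅ E) := by
  haveI := Kψ_quasiIso (DerivedCategory.Q.objPreimage E)
  exact ⟨(KP Y).obj (DerivedCategory.Q.objPreimage E), KP_isKFlat _,
    ⟨asIso (DerivedCategory.Q.map ((Kψ Y).app _)) ≪≫ DerivedCategory.Q.objObjPreimageIso E⟩⟩

/-- the derived pullback of a perfect object is perfect -/
theorem isPerfect_Lpull (f : X ⟶ Y) [DCoh.HasLpull f] (E : DCoh.D Y) (hE : DCoh.IsPerfect E) :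
    DCoh.IsPerfect ((DCoh.Lpull f).obj E) := by
  intro x
  obtain ⟨V, hxV, hV⟩ := hE (f.base x)
  refine ⟨f ⁻¹ᵁ V, hxV, ?_⟩
  rintro F ⟨eF⟩
  obtain ⟨G, hG, ⟨eG⟩⟩ := exists_kflat_repr E
  obtain ⟨E₁, hE₁, ⟨e₁⟩⟩ := hV G ⟨eG⟩
  have eF' : DerivedCategory.Q.obj F ≅ DerivedCategory.Q.obj
      (((Scheme.Modules.pullback f).mapHomologicalComplex (ComplexShape.up ℤ)).obj G) :=
    eF ≪≫ (DCoh.Lpull f).mapIso eG.symm ≪≫ LpullObjIso f G hG
  have r1 := restrictQIso (f ⁻¹ᵁ V).ι eF'
  have r2 := (NatIso.mapHomologicalComplex (pullbackRestrictIso f V) (ComplexShape.up ℤ)).app G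
  have hGV := isKFlat_restrict V.ι G hG
  have hE₁K := isKFlat_of_isStrictlyPerfect E₁ hE₁
  haveI := hasLpull (f ∣_ V)
  have r3 := (LpullObjIso (f ∣_ V) _ hGV).symm ≪≫ (DCoh.Lpull (f ∣_ V)).mapIso e₁ ≪≫
    LpullObjIso (f ∣_ V) E₁ hE₁K
  exact ⟨_, isStrictlyPerfect_pullback (f ∣_ V) E₁ hE₁,
    ⟨r1 ≪≫ DerivedCategory.Q.mapIso r2 ≪≫ r3⟩⟩

end Groth.Agent.Helper5.LDer
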