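import Groth.Agent.Lib.Helper5.KRes1

/-!
# Left resolutions of an object from covering data (abstract)
-/

set_option autoImplicit false
set_option linter.unusedSectionVars false
set_option linter.unusedVariables false
set_option linter.style.haveILetI false

universe v u

open CategoryTheory CategoryTheory.Limits

namespace Groth.Agent.Helper5.KRes

variable {𝒜 : Type u} [Category.{v} 𝒜] [Abelian 𝒜] (cov : Cov 𝒜)

/-- the covering of the kernel, mapped to the source -/
noncomputable def dK {X Y : 𝒜} (f : X ⟶ Y) : cov.obj (kernel f) ⟶ X := cov.π (kernel f) ≫ kernel.ι f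

@[reassoc (attr := simp)]
lemma dK_comp {X Y : 𝒜} (f : X ⟶ Y) : dK cov f ≫ f = 0 := by
  simp [dK]

theorem exact_dK_f {X Y : 𝒜} (f : X ⟶ Y) :
    (ShortComplex.mk (dK cov f) f (dK_comp cov f)).Exact := by
  haveI := cov.epi (kernel f)
  let α : ShortComplex.mk (dK cov f) f (dK_comp cov f) ⟶
      ShortComplex.mk (kernel.ι f) f (by simp) :=
    { τ₁ := cov.π _
      τ₂ := 𝟙 _
      τ₃ := 𝟙 _
      comm₁₂ := by simp [dK] }
  haveI : Epi α.τ₁ := cov.epi _
  haveI : IsIso α.τ₂ := inferInstanceAs (IsIso (𝟙 _))
  haveI : Mono α.τ₃ := inferInstanceAs (Mono (𝟙 _))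
  rw [ShortComplex.exact_iff_of_epi_of_isIso_of_mono α]
  apply ShortComplex.exact_of_f_is_kernel
  apply kernelIsKernel

variable (Z : 𝒜)

set_option backward.isDefEq.respectTransparency.types false in
/-- the resolution, as a chain complex -/
noncomputable def resComplex : ChainComplex 𝒜 ℕ :=
  ChainComplex.mk' (cov.obj Z) (cov.obj (kernel (cov.π Z))) (dK cov (cov.π Z))
    (fun f => ⟨_, dK cov f, dK_comp cov f⟩)

lemma resComplex_d_1_0 : (resComplex cov Z).d 1 0 = dK cov (cov.π Z) := by
  simp [resComplex]

set_option backward.isDefEq.respectTransparency.types false in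
lemma resComplex_exactAt_succ (n : ℕ) : (resComplex cov Z).ExactAt (n + 1) := by
  rw [HomologicalComplex.exactAt_iff' _ (n + 1 + 1) (n + 1) n (by simp) (by simp)]
  simp only [HomologicalComplex.sc', HomologicalComplex.shortComplexFunctor', resComplex,
    ChainComplex.mk', ChainComplex.mk, ChainComplex.of_d]
  match n with
  | 0 => apply exact_dK_f
  | n + 1 => apply exact_dK_f

set_option backward.isDefEq.respectTransparency.types false in
lemma resComplex_X (P : 𝒜 → Prop) (hP : ∀ A, P (cov.obj A)) (n : ℕ) :
    P ((resComplex cov Z).X n) := by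
  obtain (_ | _ | _ | n) := n <;> apply hP

/-- the augmentation -/
noncomputable def resπ : resComplex cov Z ⟶ (ChainComplex.single₀ 𝒜).obj Z :=
  (ChainComplex.toSingle₀Equiv _ _).symm ⟨cov.π Z, by
    rw [resComplex_d_1_0]
    exact dK_comp cov (cov.π Z)⟩

set_option backward.defeqAttrib.useBackward true in
set_option backward.isDefEq.respectTransparency false in
instance quasiIso_resπ : QuasiIso (resπ cov Z) := ⟨fun n => by
  cases n
  · rw [ChainComplex.quasiIsoAt₀_iff, ShortComplex.quasiIso_iff_of_zeros']
    · dsimp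
      haveI := cov.epi Z
      refine (ShortComplex.exact_and_epi_g_iff_of_iso ?_).2
        ⟨exact_dK_f cov (cov.π Z), by dsimp; infer_instance⟩
      exact ShortComplex.isoMk (Iso.refl _) (Iso.refl _) (Iso.refl _)
        (by simp [resComplex]) (by simp [resπ])
    all_goals rfl
  · rw [quasiIsoAt_iff_exactAt']
    · apply resComplex_exactAt_succ
    · apply ChainComplex.exactAt_succ_single_obj⟩

/-- the resolution, as a cochain complex -/
noncomputable def resCochain : CochainComplex 𝒜 ℤ :=
  (resComplex cov Z).extend ComplexShape.embeddingDownNat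

/-- the terms of the resolution -/
noncomputable def resCochainXIso (n : ℤ) (k : ℕ) (h : -k = n := by lia) :
    (resCochain cov Z).X n ≅ (resComplex cov Z).X k :=
  HomologicalComplex.extendXIso _ _ h

instance : (resCochain cov Z).IsStrictlyLE 0 := by
  dsimp [resCochain]
  infer_instance

lemma resCochain_X (P : 𝒜 → Prop) (hP : ∀ A, P (cov.obj A)) (hP0 : ∀ A, IsZero A → P A)
    (hPiso : ∀ A B : 𝒜, (A ≅ B) → P A → P B) (n : ℤ) : P ((resCochain cov Z).X n) := by
  by_cases hn : n ≤ 0
  · obtain ⟨k, rfl⟩ := Int.exists_eq_neg_ofNat hn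
    exact hPiso _ _ (resCochainXIso cov Z (-k) k).symm (resComplex_X cov Z P hP k)
  · exact hP0 _ (CochainComplex.isZero_of_isStrictlyLE _ 0 _)

/-- the augmentation of the cochain complex -/
noncomputable def resCochainπ : resCochain cov Z ⟶ (CochainComplex.singleFunctor 𝒜 0).obj Z :=
  (ComplexShape.embeddingDownNat.extendFunctor 𝒜).map (resπ cov Z) ≫
    (HomologicalComplex.extendSingleIso _ _ _ _ (by simp)).hom

set_option backward.defeqAttrib.useBackward true in
set_option backward.isDefEq.respectTransparency false in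
instance : QuasiIso (resCochainπ cov Z) := by dsimp [resCochainπ]; infer_instance

end Groth.Agent.Helper5.KRes
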