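import Groth.Agent.Lib.Helper5.LTen8
import Groth.Agent.Lib.Helper5.FlatRes1

/-!
# Flat resolutions of modules; flatness and Tor₁
-/

set_option autoImplicit false
set_option linter.unusedSectionVars false
set_option linter.unusedVariables false
set_option linter.style.haveILetI false

universe u

open CategoryTheory CategoryTheory.Limits AlgebraicGeometry MonoidalCategory

attribute [local instance] HasDerivedCategory.standard

namespace Groth.Agent.Helper5.LDer

open Groth.Agent.Helper5.StalkCx Groth.Agent.Helper5.KRes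

variable {X : Scheme.{u}}

/-- every module has a flat resolution -/
theorem exists_flat_resolution (F : X.Modules) :
    ∃ (P : CochainComplex X.Modules ℤ)
      (π : P ⟶ (CochainComplex.singleFunctor X.Modules 0).obj F),
      P.IsStrictlyLE 0 ∧ (∀ i : ℤ, FlatMod.IsFlat (P.X i)) ∧ QuasiIso π :=
  ⟨resCochain (covX X) F, resCochainπ (covX X) F, inferInstance,
    resCochain_X (covX X) F FlatMod.IsFlat (fun A => FlatGen.isFlat_cover A)
      (fun A hA => isFlat_of_isZero A hA) (fun A B e h => isFlat_of_iso e h),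
    inferInstance⟩

/-- the module in degree `0`, as an object of the derived category -/
noncomputable def inDIso (F : X.Modules) :
    DCoh.inD X F ≅ DerivedCategory.Q.obj ((CochainComplex.singleFunctor X.Modules 0).obj F) :=
  (DerivedCategory.singleFunctorIsoCompQ X.Modules 0).app F

lemma isFlat_single_X (F : X.Modules) (hF : FlatMod.IsFlat F) (i : ℤ) :
    FlatMod.IsFlat (((CochainComplex.singleFunctor X.Modules 0).obj F).X i) := by
  by_cases hi : i = 0
  · subst hi
    exact isFlat_of_iso (HomologicalComplex.singleObjXSelf (ComplexShape.up ℤ) 0 F).symm hF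
  · exact isFlat_of_isZero _ (HomologicalComplex.isZero_single_obj_X (ComplexShape.up ℤ) 0 F i hi)

/-- a flat module has tor amplitude in `[0, 0]` -/
theorem hasTorAmplitudeIn_inD_of_isFlat (F : X.Modules) (hF : FlatMod.IsFlat F) :
    DCoh.HasTorAmplitudeIn 0 0 (DCoh.inD X F) := by
  refine hasTorAmplitudeIn_of_iso (inDIso F).symm
    (hasTorAmplitudeIn_Q_of_flat _ 0 0 ?_ (isFlat_single_X F hF))
  intro i hi
  exact HomologicalComplex.isZero_single_obj_X (ComplexShape.up ℤ) 0 F i (by omega)

/-- a module whose `Tor₁` against all skyscraper modules vanish is flat -/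
theorem isFlat_of_tor_one (F : X.Modules)
    (h : ∀ (x : X) (N : ModuleCat.{u} (X.presheaf.stalk x)) [DCoh.HasLTensorMod (Sky.sky x N)],
      IsZero (DCoh.HD ((DCoh.LTensorMod (Sky.sky x N)).obj (DCoh.inD X F)) (-1))) :
    FlatMod.IsFlat F := by
  obtain ⟨P, π, hP, hfl, hπ⟩ := exists_flat_resolution F
  have hK : DCoh.IsKFlat P :=
    isKFlat_of_flat_bddAbove P 0 (fun i hi => P.isZero_of_isStrictlyLE 0 i hi) hfl
  have e : DerivedCategory.Q.obj P ≅ DCoh.inD X F :=
    asIso (DerivedCategory.Q.map π) ≪≫ (inDIso F).symm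
  have hT0 : SkyTorVanishing P (-1) := by
    intro x N _
    exact IsZero.of_iso (h x N) ((DerivedCategory.homologyFunctor X.Modules (-1)).mapIso
      ((DCoh.LTensorMod (Sky.sky x N)).mapIso e))
  have hT : SkyTorVanishing P (0 - 1) := by
    rw [show (0 : ℤ) - 1 = -1 by norm_num]
    exact hT0
  have h1 := isFlat_cokernel_d P hK 0 (hfl 0) (fun x N _ => hT x N)
  have hd : P.d 0 1 = 0 := (P.isZero_of_isStrictlyLE 0 1 (by omega)).eq_of_tgt _ _
  have e2 : cokernel (P.d (0 - 1) 0) ≅ F :=
    (P.sc' (0 - 1) 0 (0 + 1)).opcyclesIsoCokernel.symm ≪≫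
      (P.opcyclesIsoSc' (0 - 1) 0 (0 + 1) (by simp) (by simp)).symm ≪≫
      (P.isoHomologyι 0 1 (by simp) hd).symm ≪≫
      asIso (HomologicalComplex.homologyMap π 0) ≪≫
      HomologicalComplex.singleObjHomologySelfIso (ComplexShape.up ℤ) 0 F
  exact isFlat_of_iso e2 h1

end Groth.Agent.Helper5.LDer
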