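import Groth.Agent.Lib.Helper5.PCT4

/-!
# Pseudo-coherence in distinguished triangles
-/

set_option autoImplicit false
set_option linter.unusedSectionVars false
set_option linter.unusedVariables false
set_option linter.style.haveILetI false

universe u

open CategoryTheory CategoryTheory.Limits AlgebraicGeometry Pretriangulated CochainComplex

attribute [local instance] HasDerivedCategory.standard

namespace Groth.Agent.Helper5.PCT

open Groth.Agent.Helper5.PC Groth.Agent.Helper5.RT Groth.Agent.Helper5.LDer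
  Groth.Agent.Helper5.FPC Groth.Agent.Helper5.BP Groth.Agent.Helper13.LocFree DerivedCategory

variable {X : Scheme.{u}}

lemma isPseudoCoherentD_of_iso {m : ℤ} {K K' : DCoh.D X} (e : K ≅ K')
    (h : DCoh.IsPseudoCoherentD m K) : DCoh.IsPseudoCoherentD m K' := by
  intro x
  obtain ⟨V, hxV, hV⟩ := h x
  exact ⟨V, hxV, fun F ⟨eF⟩ => hV F ⟨eF ≪≫ e.symm⟩⟩

lemma isPseudoCoherentD_of_eq {m m' : ℤ} (hm : m = m') {K : DCoh.D X}
    (h : DCoh.IsPseudoCoherentD m K) : DCoh.IsPseudoCoherentD m' K := hm ▸ h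

/-- the shift of a connected morphism -/
lemma isConn_shift {A B : DCoh.D X} (α : A ⟶ B) (m n : ℤ) (h : IsConn m α) :
    IsConn (m - n) (α⟦n⟧') := by
  have key : ∀ i : ℤ, Arrow.mk ((DerivedCategory.homologyFunctor X.Modules i).map (α⟦n⟧')) ≅
      Arrow.mk ((DerivedCategory.homologyFunctor X.Modules (n + i)).map α) := fun i =>
    Arrow.isoMk (((DerivedCategory.homologyFunctor X.Modules 0).shiftIso n i (n + i) rfl).app A)
      (((DerivedCategory.homologyFunctor X.Modules 0).shiftIso n i (n + i) rfl).app B)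
      ((DerivedCategory.homologyFunctor X.Modules 0).shiftIso_hom_naturality n i (n + i) rfl α).symm
  refine ⟨fun i hi => ?_, ?_⟩
  · exact ((MorphismProperty.isomorphisms X.Modules).arrow_mk_iso_iff (key i)).mpr
      (h.1 (n + i) (by omega))
  · have h2 : Epi ((DerivedCategory.homologyFunctor X.Modules (n + (m - n))).map α) :=
      h.epi _ (by omega)
    exact ((MorphismProperty.epimorphisms X.Modules).arrow_mk_iso_iff (key (m - n))).mpr h2

/-- pseudo-coherence and shifts -/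
theorem isPseudoCoherentD_shift (K : DCoh.D X) (m n : ℤ) (h : DCoh.IsPseudoCoherentD m K) :
    DCoh.IsPseudoCoherentD (m - n) (K⟦n⟧) := by
  intro x
  obtain ⟨V, hxV, hV⟩ := h x
  refine ⟨V, hxV, ?_⟩
  rintro F ⟨eF⟩
  have e0 : DerivedCategory.Q.obj (F⟦-n⟧) ≅ K :=
    (DerivedCategory.Q.commShiftIso (-n)).app F ≪≫
      (CategoryTheory.shiftFunctor _ (-n)).mapIso eF ≪≫ (shiftShiftNeg K n)
  obtain ⟨P, α, hP, hα1, hα2⟩ := hV (F⟦-n⟧) ⟨e0⟩
  have hα : IsConn m α := ⟨hα1, hα2⟩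
  have c1 : (DCoh.restrictCx V).obj F ≅ ((DCoh.restrictCx V).obj (F⟦-n⟧))⟦n⟧ :=
    (DCoh.restrictCx V).mapIso (shiftNegShift F n).symm ≪≫
      ((Scheme.Modules.restrictFunctor V.ι).mapCochainComplexShiftIso n).app (F⟦-n⟧)
  have hα' : IsConn (m - n) (((DerivedCategory.Q.commShiftIso n).app P).hom ≫ α⟦n⟧' ≫
      ((DerivedCategory.Q.commShiftIso n).app _).inv ≫ (DerivedCategory.Q.mapIso c1).inv) :=
    IsConn.comp (isConn_iso_hom _ _) (IsConn.comp (isConn_shift α m n hα)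
      (IsConn.comp (isConn_iso_inv _ _) (isConn_iso_inv _ _)))
  exact ⟨P⟦n⟧, _, isStrictlyPerfect_shift P n hP, hα'.1, hα'.2⟩

/-- in a distinguished triangle `K ⟶ L ⟶ M ⟶ K[1]`, if `K` is `(m + 1)`-pseudo-coherent and `L` is
`m`-pseudo-coherent, then `M` is `m`-pseudo-coherent -/
theorem isPseudoCoherentD_obj₃ (T : Triangle (DCoh.D X)) (hT : T ∈ distTriang (DCoh.D X)) (m : ℤ)
    (h₁ : DCoh.IsPseudoCoherentD (m + 1) T.obj₁) (h₂ : DCoh.IsPseudoCoherentD m T.obj₂) :
    DCoh.IsPseudoCoherentD m T.obj₃ := by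
  obtain ⟨A, B, φ, ⟨e⟩⟩ := (DerivedCategory.mem_distTriang_iff T).mp hT
  have hA := isPseudoCoherentD_of_iso (Triangle.π₁.mapIso e) h₁
  have hB := isPseudoCoherentD_of_iso (Triangle.π₂.mapIso e) h₂
  exact isPseudoCoherentD_of_iso (Triangle.π₃.mapIso e).symm
    (isPseudoCoherentD_Q_mappingCone φ m hA hB)

theorem isPseudoCoherentD_obj₂ (T : Triangle (DCoh.D X)) (hT : T ∈ distTriang (DCoh.D X)) (m : ℤ)
    (h₁ : DCoh.IsPseudoCoherentD m T.obj₁) (h₃ : DCoh.IsPseudoCoherentD m T.obj₃) :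
    DCoh.IsPseudoCoherentD m T.obj₂ :=
  isPseudoCoherentD_obj₃ T.invRotate (inv_rot_of_distTriang T hT) m
    (isPseudoCoherentD_of_eq (by omega) (isPseudoCoherentD_shift _ m (-1) h₃)) h₁

theorem isPseudoCoherentD_obj₁ (T : Triangle (DCoh.D X)) (hT : T ∈ distTriang (DCoh.D X)) (m : ℤ)
    (h₂ : DCoh.IsPseudoCoherentD (m + 1) T.obj₂) (h₃ : DCoh.IsPseudoCoherentD m T.obj₃) :
    DCoh.IsPseudoCoherentD (m + 1) T.obj₁ := by
  have h := isPseudoCoherentD_obj₃ T.rotate (rot_of_distTriang T hT) m h₂ h₃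
  exact isPseudoCoherentD_of_iso (shiftShiftNeg T.obj₁ (1 : ℤ))
    (isPseudoCoherentD_of_eq (by omega) (isPseudoCoherentD_shift _ m (-1) h))

end Groth.Agent.Helper5.PCT
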