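import Groth.Agent.Lib.Helper5.COHP4

/-!
# Pseudo-coherence on Noetherian schemes in terms of cohomology sheaves
-/

set_option autoImplicit false
set_option linter.unusedSectionVars false
set_option linter.unusedVariables false
set_option linter.style.haveILetI false

universe u

open CategoryTheory CategoryTheory.Limits AlgebraicGeometry

attribute [local instance] HasDerivedCategory.standard

namespace Groth.Agent.Helper5.COHP

open Groth.Agent.Helper5.FPC Groth.Agent.Helper5.PCH Groth.Agent.Helper5.LDer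
  Groth.Agent.Helper5.RT Groth.Agent.Helper5.LOC Groth.Agent.Helper5.PCT Groth.Agent.Helper5.PC
  Groth.Agent.Helper5.PCM

variable {X : Scheme.{u}}

/-- coherence is invariant under isomorphism -/
lemma isCoh_of_iso {M N : X.Modules} (e : M ≅ N) (h : Coh.IsCoh M) : Coh.IsCoh N := by
  haveI := h.1
  haveI := h.2
  exact ⟨Groth.Agent.Helper13.QCohLocal.isQuasicoherent_of_iso e,
    Groth.Agent.Helper13.FinType.isFiniteType_of_epi e.hom⟩

/-- bounded above with coherent cohomology in degrees `≥ m` implies `m`-pseudo-coherent: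
induction on the length -/
theorem isPseudoCoherentD_of_isCoh_aux [IsLocallyNoetherian X] (m : ℤ) : ∀ (k : ℕ) (E : DCoh.D X),
    E.IsLE (m + k - 1) → (∀ i : ℤ, m ≤ i → i ≤ m + k - 1 → Coh.IsCoh (DCoh.HD E i)) →
    DCoh.IsPseudoCoherentD m E := by
  intro k
  induction k with
  | zero =>
    intro E hE _ x
    haveI := hE
    exact pcAt_of_isZero_HD E m x ⊤ trivial (fun i hi =>
      isZero_HD_restrictD _ _ i (DerivedCategory.isZero_of_isLE E (m + (0 : ℕ) - 1) i
        (by push_cast; omega)))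
  | succ k ih =>
    intro E hE hc
    have hb : m + ((k + 1 : ℕ) : ℤ) - 1 = m + k := by push_cast; ring
    haveI : E.IsLE (m + k) := hb ▸ hE
    obtain ⟨A, Y, f, g, h, hT, hA, ⟨eY⟩, hf⟩ := exists_trunc_triangle E (m + k)
    have hA' : DCoh.IsPseudoCoherentD m A := by
      refine ih A hA (fun i hi1 hi2 => ?_)
      haveI := hf i (by omega)
      exact isCoh_of_iso (asIso ((DerivedCategory.homologyFunctor X.Modules i).map f)).symm
        (hc i hi1 (by rw [hb]; omega))
    have hY : Coh.IsCoh Y := isCoh_of_iso eY.symm (hc (m + k) (by omega) (by rw [hb]))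
    exact isPseudoCoherentD_obj₂ _ hT m hA' (isPseudoCoherentD_single_of_isCoh Y hY (m + k) m)

/-- bounded above with coherent cohomology in degrees `≥ m` implies `m`-pseudo-coherent -/
theorem isPseudoCoherentD_of_isCoh [IsLocallyNoetherian X] (m : ℤ) (E : DCoh.D X) (b : ℤ)
    [hE : E.IsLE b] (hc : ∀ i : ℤ, m ≤ i → Coh.IsCoh (DCoh.HD E i)) :
    DCoh.IsPseudoCoherentD m E := by
  refine isPseudoCoherentD_of_isCoh_aux m (b - m + 1).toNat E ?_ (fun i hi _ => hc i hi)
  exact DerivedCategory.TStructure.t.isLE_of_le E b _ (by omega)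

/-- local model of the cohomology of an `m`-pseudo-coherent object -/
theorem exists_local_model_pc (E : DCoh.D X) (m : ℤ) (x : X) (hE : PCAt m E x) :
    ∃ (V : X.Opens) (P : CochainComplex (V : Scheme.{u}).Modules ℤ), x ∈ V ∧
      DCoh.IsStrictlyPerfect P ∧
      ∀ i : ℤ, m ≤ i → ∃ φ : P.homology i ⟶ (DCoh.HD E i).restrict V.ι, Epi φ ∧
        (m < i → IsIso φ) := by
  obtain ⟨V, hxV, hV⟩ := hE
  let F := DerivedCategory.Q.objPreimage E
  let eF : DerivedCategory.Q.obj F ≅ E := DerivedCategory.Q.objObjPreimageIso E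
  obtain ⟨P, α, hP, hα1, hα2⟩ := hV F ⟨eF⟩
  refine ⟨V, P, hxV, hP, fun i hi => ?_⟩
  let e : DCoh.HD (DerivedCategory.Q.obj ((DCoh.restrictCx V).obj F)) i ≅
      (DCoh.HD E i).restrict V.ι :=
    HDQIso _ i ≪≫ restrictHomologyIso V.ι F i ≪≫
      (Scheme.Modules.restrictFunctor V.ι).mapIso
        ((HDQIso F i).symm ≪≫ (DerivedCategory.homologyFunctor X.Modules i).mapIso eF)
  refine ⟨(HDQIso P i).inv ≫ (DerivedCategory.homologyFunctor _ i).map α ≫ e.hom, ?_, ?_⟩
  · haveI : Epi ((DerivedCategory.homologyFunctor _ i).map α) := by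
      rcases hi.lt_or_eq with h | h
      · haveI := hα1 i h
        infer_instance
      · subst h
        exact hα2
    infer_instance
  · intro h
    haveI := hα1 i h
    infer_instance

/-- the cohomology sheaves of an `m`-pseudo-coherent object on a locally Noetherian scheme are of
finite type in degrees `≥ m` -/
theorem isFiniteType_HD_of_isPseudoCoherentD [IsLocallyNoetherian X] (E : DCoh.D X) (m : ℤ)
    (hE : DCoh.IsPseudoCoherentD m E) (i : ℤ) (hi : m ≤ i) :
    SheafOfModules.IsFiniteType (R := X.ringCatSheaf) (DCoh.HD E i) := by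
  apply isFiniteType_of_local
  intro x
  obtain ⟨V, P, hxV, hP, h⟩ := exists_local_model_pc E m x (hE x)
  obtain ⟨φ, hφ, -⟩ := h i hi
  haveI := (isCoh_homology_of_isFinLocFree P hP.2 i).2
  exact ⟨V, hxV, Groth.Agent.Helper13.FinType.isFiniteType_of_epi φ⟩

/-- an `m`-pseudo-coherent object on a quasi-compact scheme is bounded above -/
theorem exists_isLE_of_isPseudoCoherentD [CompactSpace X] (E : DCoh.D X) (m : ℤ)
    (hE : DCoh.IsPseudoCoherentD m E) : ∃ b : ℤ, E.IsLE b := by
  have key : ∀ x : X, ∃ (V : X.Opens) (b : ℤ), x ∈ V ∧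
      ∀ i : ℤ, b < i → IsZero ((DCoh.HD E i).restrict V.ι) := by
    intro x
    obtain ⟨V, P, hxV, hP, h⟩ := exists_local_model_pc E m x (hE x)
    obtain ⟨a, b, hab⟩ := hP.1
    refine ⟨V, max b m, hxV, fun i hi => ?_⟩
    obtain ⟨φ, -, hφ⟩ := h i (by omega)
    haveI := hφ (by omega)
    exact IsZero.of_iso ((HomologicalComplex.ExactAt.of_isZero
      (hab i (Or.inr (by omega)))).isZero_homology) (asIso φ).symm
  choose V b hxV hV using key
  obtain ⟨t, ht⟩ := CompactSpace.elim_nhds_subcover (fun x => ((V x : X.Opens) : Set X))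
    (fun x => (V x).isOpen.mem_nhds (hxV x))
  obtain ⟨B, hB⟩ := Finset.exists_le (t.image b)
  refine ⟨B, ?_⟩
  rw [DerivedCategory.isLE_iff]
  intro i hi
  apply isZero_of_local
  intro y
  have hy : y ∈ ⋃ x ∈ t, ((V x : X.Opens) : Set X) := by rw [ht]; trivial
  simp only [Set.mem_iUnion] at hy
  obtain ⟨x, hxt, hyx⟩ := hy
  refine ⟨V x, hyx, hV x i ?_⟩
  have h2 : b x ≤ B := hB _ (Finset.mem_image_of_mem _ hxt)
  omega

end Groth.Agent.Helper5.COHP
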