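import Groth.Agent.Lib.Helper5.LTen7

/-!
# Tor amplitude gives a flat representative: truncations
-/

set_option autoImplicit false
set_option linter.unusedSectionVars false
set_option linter.unusedVariables false
set_option linter.style.haveILetI false

universe u

open CategoryTheory CategoryTheory.Limits AlgebraicGeometry MonoidalCategory

attribute [local instance] HasDerivedCategory.standard

namespace Groth.Agent.Helper5.LDer

open Groth.Agent.Helper5.StalkCx Groth.Agent.Helper5.KRes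

variable {X : Scheme.{u}}

/-- tor vanishing of a complex in skyscraper form -/
def SkyTorVanishing (K : CochainComplex X.Modules ℤ) (j : ℤ) : Prop :=
  ∀ (x : X) (N : ModuleCat.{u} (X.presheaf.stalk x)) [DCoh.HasLTensorMod (Sky.sky x N)],
    IsZero (DCoh.HD ((DCoh.LTensorMod (Sky.sky x N)).obj (DerivedCategory.Q.obj K)) j)

lemma SkyTorVanishing.of_iso {K L : CochainComplex X.Modules ℤ} {j : ℤ}
    (e : DerivedCategory.Q.obj K ≅ DerivedCategory.Q.obj L) (h : SkyTorVanishing K j) :
    SkyTorVanishing L j := by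
  intro x N _
  exact IsZero.of_iso (h x N) ((DerivedCategory.homologyFunctor X.Modules j).mapIso
    ((DCoh.LTensorMod (Sky.sky x N)).mapIso e.symm))

lemma skyTorVanishing_of_hasTorAmplitudeIn {K : CochainComplex X.Modules ℤ} {a b : ℤ}
    (h : DCoh.HasTorAmplitudeIn a b (DerivedCategory.Q.obj K)) (j : ℤ) (hj : j < a ∨ b < j) :
    SkyTorVanishing K j :=
  fun x N _ => h (Sky.sky x N) j hj

/-- the truncation `τ_{≤ b}` of a K-flat complex with flat terms and tor vanishing above `b` has
flat terms -/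
theorem isFlat_truncLE_X (K : CochainComplex X.Modules ℤ) (hK : DCoh.IsKFlat K)
    (hfl : ∀ i : ℤ, FlatMod.IsFlat (K.X i)) (b : ℤ) (hE : ∀ j : ℤ, b < j → SkyTorVanishing K j)
    (i : ℤ) : FlatMod.IsFlat ((K.truncLE b).X i) := by
  rcases lt_trichotomy i b with hi | hi | hi
  · exact isFlat_of_iso (K.truncLEXIso b i hi).symm (hfl i)
  · subst hi
    exact isFlat_of_iso (K.truncLEXIsoCycles i).symm
      (isFlat_cycles K hK hfl i (fun x N _ j hj => hE j hj x N))
  · exact isFlat_of_isZero _ ((K.truncLE b).isZero_of_isStrictlyLE b i hi)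

/-- the truncation `τ_{≥ a}` of a K-flat complex with flat terms and tor vanishing at `a - 1` has
flat terms -/
theorem isFlat_truncGE_X (K : CochainComplex X.Modules ℤ) (hK : DCoh.IsKFlat K)
    (hfl : ∀ i : ℤ, FlatMod.IsFlat (K.X i)) (a : ℤ) (hE : SkyTorVanishing K (a - 1))
    (i : ℤ) : FlatMod.IsFlat ((K.truncGE a).X i) := by
  rcases lt_trichotomy i a with hi | hi | hi
  · exact isFlat_of_isZero _ ((K.truncGE a).isZero_of_isStrictlyGE a i hi)
  · subst hi
    have h1 := isFlat_cokernel_d K hK i (hfl i) (fun x N _ => hE x N)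
    exact isFlat_of_iso ((K.truncGEXIsoOpcycles i ≪≫
      K.opcyclesIsoSc' (i - 1) i (i + 1) (by simp) (by simp) ≪≫
      (K.sc' (i - 1) i (i + 1)).opcyclesIsoCokernel)).symm h1
  · exact isFlat_of_iso (K.truncGEXIso a i hi).symm (hfl i)

theorem hasFlatAmplitudeIn_of_hasTorAmplitudeIn (E : DCoh.D X) (a b : ℤ) (hab : a ≤ b)
    (h : DCoh.HasTorAmplitudeIn a b E) : DCoh.HasFlatAmplitudeIn a b E := by
  obtain ⟨K, q, hK, hfl, hq, -⟩ :=
    KRes.exists_kFlat_resolution (DerivedCategory.Q.objPreimage E)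
  have e0 : DerivedCategory.Q.obj K ≅ E :=
    asIso (DerivedCategory.Q.map q) ≪≫ DerivedCategory.Q.objObjPreimageIso E
  have hT : ∀ j : ℤ, (j < a ∨ b < j) → SkyTorVanishing K j :=
    fun j hj => skyTorVanishing_of_hasTorAmplitudeIn (hasTorAmplitudeIn_of_iso e0.symm h) j hj
  have hex : ∀ j : ℤ, (j < a ∨ b < j) → K.ExactAt j :=
    fun j hj => exactAt_of_isZero_HD K hK j (fun x N _ => hT j hj x N)
  haveI : K.IsLE b := by
    rw [CochainComplex.isLE_iff]
    exact fun i hi => hex i (Or.inr hi)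
  haveI : K.IsGE a := by
    rw [CochainComplex.isGE_iff]
    exact fun i hi => hex i (Or.inl hi)
  -- first truncation
  have hfl2 : ∀ i : ℤ, FlatMod.IsFlat ((K.truncLE b).X i) :=
    isFlat_truncLE_X K hK hfl b (fun j hj => hT j (Or.inr hj))
  have hK2 : DCoh.IsKFlat (K.truncLE b) :=
    isKFlat_of_flat_bddAbove _ b (fun i hi => (K.truncLE b).isZero_of_isStrictlyLE b i hi) hfl2
  have e1 : DerivedCategory.Q.obj (K.truncLE b) ≅ DerivedCategory.Q.obj K :=
    asIso (DerivedCategory.Q.map (K.ιTruncLE b))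
  haveI : (K.truncLE b).IsGE a :=
    (HomologicalComplex.isSupported_iff_of_quasiIso (K.ιTruncLE b) _).mpr inferInstance
  have hT2 : SkyTorVanishing (K.truncLE b) (a - 1) :=
    SkyTorVanishing.of_iso e1.symm (hT (a - 1) (Or.inl (by omega)))
  -- second truncation
  have hfl3 : ∀ i : ℤ, FlatMod.IsFlat (((K.truncLE b).truncGE a).X i) :=
    isFlat_truncGE_X _ hK2 hfl2 a hT2
  have e2 : DerivedCategory.Q.obj (K.truncLE b) ≅ DerivedCategory.Q.obj ((K.truncLE b).truncGE a) :=
    asIso (DerivedCategory.Q.map ((K.truncLE b).πTruncGE a))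
  refine ⟨(K.truncLE b).truncGE a, ?_, hfl3, ⟨e2.symm ≪≫ e1 ≪≫ e0⟩⟩
  intro i hi
  rcases hi with hi | hi
  · exact ((K.truncLE b).truncGE a).isZero_of_isStrictlyGE a i hi
  · exact IsZero.of_iso ((K.truncLE b).isZero_of_isStrictlyLE b i hi)
      ((K.truncLE b).truncGEXIso a i (by omega))

end Groth.Agent.Helper5.LDer
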