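import Groth.Agent.Lib.Helper5.LRes2
import Groth.Agent.Lib.Helper13.LocFree4

/-!
# Restriction toolkit: null-homotopic maps and restriction to smaller opens
-/

set_option autoImplicit false
set_option linter.unusedSectionVars false
set_option linter.unusedVariables false
set_option linter.style.haveILetI false

universe u

open CategoryTheory CategoryTheory.Limits AlgebraicGeometry HomologicalComplex ZeroObject

namespace Groth.Agent.Helper5.RT

section Null

variable {𝒜 ℬ : Type*} [Category 𝒜] [Category ℬ] [Preadditive 𝒜] [Preadditive ℬ]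

/-- a chain map is null-homotopic -/
def IsNull {E F : CochainComplex 𝒜 ℤ} (α : E ⟶ F) : Prop :=
  (HomotopyCategory.quotient 𝒜 (ComplexShape.up ℤ)).map α = 0

lemma isNull_iff {E F : CochainComplex 𝒜 ℤ} (α : E ⟶ F) : IsNull α ↔ Nonempty (Homotopy α 0) := by
  constructor
  · intro h
    refine ⟨HomotopyCategory.homotopyOfEq _ _ ?_⟩
    rw [h, Functor.map_zero]
  · rintro ⟨h⟩
    exact (HomotopyCategory.eq_of_homotopy _ _ h).trans (Functor.map_zero _ _ _)

lemma isNull_zero {E F : CochainComplex 𝒜 ℤ} : IsNull (0 : E ⟶ F) := Functor.map_zero _ _ _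

lemma IsNull.add {E F : CochainComplex 𝒜 ℤ} {α β : E ⟶ F} (h1 : IsNull α) (h2 : IsNull β) :
    IsNull (α + β) := by
  unfold IsNull at *
  rw [Functor.map_add, h1, h2, add_zero]

lemma IsNull.comp_left {E F G : CochainComplex 𝒜 ℤ} {α : E ⟶ F} (h : IsNull α) (β : G ⟶ E) :
    IsNull (β ≫ α) := by
  unfold IsNull at *
  rw [Functor.map_comp, h, comp_zero]

lemma IsNull.comp_right {E F G : CochainComplex 𝒜 ℤ} {α : E ⟶ F} (h : IsNull α) (β : F ⟶ G) :
    IsNull (α ≫ β) := by
  unfold IsNull at *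
  rw [Functor.map_comp, h, zero_comp]

lemma IsNull.map {E F : CochainComplex 𝒜 ℤ} {α : E ⟶ F} (h : IsNull α) (Φ : 𝒜 ⥤ ℬ) [Φ.Additive] :
    IsNull ((Φ.mapHomologicalComplex (ComplexShape.up ℤ)).map α) := by
  rw [isNull_iff] at h ⊢
  obtain ⟨h⟩ := h
  refine ⟨(Φ.mapHomotopy h).trans (Homotopy.ofEq ?_)⟩
  exact Functor.map_zero _ _ _

lemma IsNull.of_natIso {E F : CochainComplex 𝒜 ℤ} {α : E ⟶ F} {Φ Ψ : 𝒜 ⥤ ℬ} [Φ.Additive]
    [Ψ.Additive] (e : Φ ≅ Ψ)
    (h : IsNull ((Φ.mapHomologicalComplex (ComplexShape.up ℤ)).map α)) :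
    IsNull ((Ψ.mapHomologicalComplex (ComplexShape.up ℤ)).map α) := by
  have nat := (NatIso.mapHomologicalComplex e (ComplexShape.up ℤ)).hom.naturality α
  have e1 : (Ψ.mapHomologicalComplex (ComplexShape.up ℤ)).map α =
      (NatIso.mapHomologicalComplex e (ComplexShape.up ℤ)).inv.app E ≫
        (Φ.mapHomologicalComplex (ComplexShape.up ℤ)).map α ≫
        (NatIso.mapHomologicalComplex e (ComplexShape.up ℤ)).hom.app F := by
    rw [nat, Iso.inv_hom_id_app_assoc]
  rw [e1]
  exact (h.comp_right _).comp_left _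

end Null

section Sch

open Groth.Agent.Helper5.LDer

variable {X : Scheme.{u}}

/-- restriction of complexes along an open immersion -/
noncomputable abbrev rCx {U : Scheme.{u}} (j : U ⟶ X) [IsOpenImmersion j] :
    CochainComplex X.Modules ℤ ⥤ CochainComplex U.Modules ℤ :=
  (Scheme.Modules.restrictFunctor j).mapHomologicalComplex (ComplexShape.up ℤ)

lemma isNull_restrict_comp {U V : Scheme.{u}} (i : U ⟶ V) (j : V ⟶ X) [IsOpenImmersion i]
    [IsOpenImmersion j] {E F : CochainComplex X.Modules ℤ} (α : E ⟶ F)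
    (h : IsNull ((rCx i).map ((rCx j).map α))) : IsNull ((rCx (i ≫ j)).map α) := by
  have h' : IsNull (((Scheme.Modules.restrictFunctor j ⋙
      Scheme.Modules.restrictFunctor i).mapHomologicalComplex (ComplexShape.up ℤ)).map α) := h
  exact h'.of_natIso (Scheme.Modules.restrictFunctorComp i j).symm

lemma isNull_restrict_opensRange {U : Scheme.{u}} (j : U ⟶ X) [IsOpenImmersion j]
    {E F : CochainComplex X.Modules ℤ} (α : E ⟶ F) (h : IsNull ((rCx j).map α)) :
    IsNull ((DCoh.restrictCx j.opensRange).map α) := by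
  have h1 := isNull_restrict_comp j.isoOpensRange.inv j α
    (h.map (Scheme.Modules.restrictFunctor j.isoOpensRange.inv))
  exact h1.of_natIso (Scheme.Modules.restrictFunctorCongr (Scheme.Hom.isoOpensRange_inv_comp j))

theorem isFinLocFree_restrict {U : Scheme.{u}} (j : U ⟶ X) [IsOpenImmersion j] (M : X.Modules)
    (h : FlatMod.IsFinLocFree M) :
    FlatMod.IsFinLocFree ((Scheme.Modules.restrictFunctor j).obj M) :=
  Groth.Agent.Helper13.LocFree.isFinLocFree_of_iso
    ((Scheme.Modules.restrictFunctorIsoPullback j).app M).symm (isFinLocFree_pullback j M h)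

theorem isStrictlyPerfect_restrict {U : Scheme.{u}} (j : U ⟶ X) [IsOpenImmersion j]
    (E : CochainComplex X.Modules ℤ) (hE : DCoh.IsStrictlyPerfect E) :
    DCoh.IsStrictlyPerfect ((rCx j).obj E) := by
  obtain ⟨⟨a, b, hv⟩, hfl⟩ := hE
  exact ⟨⟨a, b, fun i hi => (Scheme.Modules.restrictFunctor j).map_isZero (hv i hi)⟩,
    fun i => isFinLocFree_restrict j _ (hfl i)⟩

lemma exactAt_restrict {U : Scheme.{u}} (j : U ⟶ X) [IsOpenImmersion j]
    (F : CochainComplex X.Modules ℤ) (i : ℤ) (h : F.ExactAt i) : ((rCx j).obj F).ExactAt i := by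
  have h' : (F.sc i).Exact := h
  exact h'.map (Scheme.Modules.restrictFunctor j)

lemma isZero_homology_restrict {U : Scheme.{u}} (j : U ⟶ X) [IsOpenImmersion j]
    (F : CochainComplex X.Modules ℤ) (i : ℤ) (h : IsZero (F.homology i)) :
    IsZero (((rCx j).obj F).homology i) := by
  rw [← HomologicalComplex.exactAt_iff_isZero_homology] at h ⊢
  exact exactAt_restrict j F i h

end Sch

end Groth.Agent.Helper5.RT
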