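import Groth.Agent.Lib.Helper5.LRes2
import Groth.Agent.Lib.Helper5.LTen8
import Groth.Agent.Lib.Helper5.RT1

/-!
# Locality of vanishing, flatness; restriction and cycles / cokernels
-/

set_option autoImplicit false
set_option linter.unusedSectionVars false
set_option linter.unusedVariables false
set_option linter.style.haveILetI false

universe u

open CategoryTheory CategoryTheory.Limits AlgebraicGeometry HomologicalComplex

attribute [local instance] HasDerivedCategory.standard

namespace Groth.Agent.Helper5.KF

variable {R R' : Type u} [CommRing R] [CommRing R']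

/-- vanishing descends along extension of scalars by a bijective ring homomorphism -/
theorem isZero_of_isZero_extendScalars_of_bijective (φ : R →+* R') (hφ : Function.Bijective φ)
    (N : ModuleCat.{u} R) (h : IsZero ((ModuleCat.extendScalars φ).obj N)) : IsZero N := by
  let e := RingEquiv.ofBijective φ hφ
  let ψ : R' →+* R := e.symm.toRingHom
  have hψ : ψ.comp φ = RingHom.id R := by
    ext r
    exact e.symm_apply_apply r
  have h2 := (ModuleCat.extendScalars ψ).map_isZero h
  have i : (ModuleCat.extendScalars ψ).obj ((ModuleCat.extendScalars φ).obj N) ≅ N :=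
    ((ModuleCat.extendScalarsComp φ ψ).app N).symm ≪≫ (extendScalarsOfEqId _ hψ).app N
  exact IsZero.of_iso h2 i.symm

end Groth.Agent.Helper5.KF

namespace Groth.Agent.Helper5.LOC

open Groth.Agent.Helper5.LDer Groth.Agent.Helper5.RT Groth.Agent.Helper5.StalkCx
  Groth.Agent.Helper5.KRes

variable {X : Scheme.{u}}

/-- vanishing of an `O_X`-module is local -/
theorem isZero_of_local (M : X.Modules)
    (h : ∀ x : X, ∃ V : X.Opens, x ∈ V ∧ IsZero ((Scheme.Modules.restrictFunctor V.ι).obj M)) :
    IsZero M := by
  apply isZero_of_stalks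
  intro x
  obtain ⟨V, hxV, hV⟩ := h x
  obtain ⟨y, rfl⟩ : ∃ y : (V : Scheme.{u}), V.ι.base y = x := ⟨⟨x, hxV⟩, rfl⟩
  have h1 : IsZero ((Scheme.Modules.restrictFunctor V.ι ⋙
      DerSch.stalkFunctor (V : Scheme.{u}) y).obj M) :=
    (DerSch.stalkFunctor (V : Scheme.{u}) y).map_isZero hV
  have h2 := IsZero.of_iso h1 ((restrictStalkIso V.ι y).app M).symm
  exact KF.isZero_of_isZero_extendScalars_of_bijective _ (bijective_φst V.ι y) _ h2

/-- flatness of an `O_X`-module is local -/
theorem isFlat_of_local (M : X.Modules)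
    (h : ∀ x : X, ∃ V : X.Opens, x ∈ V ∧
      FlatMod.IsFlat ((Scheme.Modules.restrictFunctor V.ι).obj M)) : FlatMod.IsFlat M := by
  intro x
  obtain ⟨V, hxV, hV⟩ := h x
  obtain ⟨y, rfl⟩ : ∃ y : (V : Scheme.{u}), V.ι.base y = x := ⟨⟨x, hxV⟩, rfl⟩
  exact isFlatAt_of_isFlat_restrict V.ι M hV y

section

variable {U : Scheme.{u}} (j : U ⟶ X) [IsOpenImmersion j] (K : CochainComplex X.Modules ℤ)

/-- restriction commutes with homology -/
noncomputable def restrictHomologyIso (i : ℤ) :
    ((rCx j).obj K).homology i ≅ (Scheme.Modules.restrictFunctor j).obj (K.homology i) :=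
  (K.sc i).mapHomologyIso (Scheme.Modules.restrictFunctor j)

/-- restriction commutes with cycles -/
noncomputable def restrictCyclesIso (i : ℤ) :
    ((rCx j).obj K).cycles i ≅ (Scheme.Modules.restrictFunctor j).obj (K.cycles i) :=
  (K.sc i).mapCyclesIso (Scheme.Modules.restrictFunctor j)

/-- restriction commutes with the cokernel of the differential -/
noncomputable def restrictCokernelIso (i k : ℤ) :
    cokernel (((rCx j).obj K).d i k) ≅
      (Scheme.Modules.restrictFunctor j).obj (cokernel (K.d i k)) :=
  (PreservesCokernel.iso (Scheme.Modules.restrictFunctor j) (K.d i k)).symm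

end

/-- exactness of a complex is local -/
theorem exactAt_of_local (K : CochainComplex X.Modules ℤ) (i : ℤ)
    (h : ∀ x : X, ∃ V : X.Opens, x ∈ V ∧ ((rCx V.ι).obj K).ExactAt i) : K.ExactAt i := by
  rw [HomologicalComplex.exactAt_iff_isZero_homology]
  apply isZero_of_local
  intro x
  obtain ⟨V, hxV, hV⟩ := h x
  rw [HomologicalComplex.exactAt_iff_isZero_homology] at hV
  exact ⟨V, hxV, IsZero.of_iso hV (restrictHomologyIso V.ι K i).symm⟩

end Groth.Agent.Helper5.LOC
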