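import Groth.Agent.Lib.Helper5.CHP7

/-!
# Relative pseudo-coherence in chart form versus the ring-level notion, part 8: from one family of
charts to all affine pairs, and back
-/

set_option autoImplicit false
set_option linter.unusedSectionVars false
set_option linter.unusedVariables false
set_option linter.style.haveILetI false

universe u

open CategoryTheory CategoryTheory.Limits AlgebraicGeometry TopologicalSpace Opposite

attribute [local instance] HasDerivedCategory.standard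

namespace Groth.Agent.Helper5.CHP

open Groth.Agent.Helper5.TB Groth.Agent.Helper5.RPR Groth.Agent.Helper11
  Groth.Agent.Helper5.TBA Groth.Agent.Helper5.RT Groth.Agent.Helper5.PCT Groth.Agent.Helper5.TT
  Groth.Agent.Helper5.KF Groth.Agent.Helper9.RelPC Groth.Agent.Helper11.TA
  Groth.Agent.Helper5.LDer Groth.Agent.Helper11.MPC

variable {X S : Scheme.{u}} (f : X ⟶ S) (E : DCoh.D X) (m : ℤ)

section

variable [LocallyOfFiniteType f]

/-- the ring-level condition on an affine pair may be checked locally on the source, on pairs of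
principal opens -/
theorem relPC_of_local {U : X.Opens} (hU : IsAffineOpen U) {V : S.Opens} (hV : IsAffineOpen V)
    (hUV : U ≤ f ⁻¹ᵁ V)
    (H : ∀ x ∈ U, ∃ (a : Γ(X, U)) (r : Γ(S, V)) (hle : X.basicOpen a ≤ f ⁻¹ᵁ S.basicOpen r),
      x ∈ X.basicOpen a ∧ RelPC f E m (hU.basicOpen a) (hV.basicOpen r) hle) :
    RelPC f E m hU hV hUV := by
  let s : Set Γ(X, U) := {a | ∃ (r : Γ(S, V)) (hle : X.basicOpen a ≤ f ⁻¹ᵁ S.basicOpen r),
    RelPC f E m (hU.basicOpen a) (hV.basicOpen r) hle}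
  have hs : Ideal.span s = ⊤ := by
    rw [← hU.self_le_iSup_basicOpen_iff]
    intro x hx
    obtain ⟨a, r, hle, hxa, HH⟩ := H x hx
    exact TopologicalSpace.Opens.mem_iSup.mpr ⟨⟨a, ⟨r, hle, HH⟩⟩, hxa⟩
  obtain ⟨s', hs's, hs'⟩ := (Ideal.span_eq_top_iff_finite s).mp hs
  let a : Fin s'.card → Γ(X, U) := fun i => (s'.equivFin.symm i).1
  have hrange : Set.range a = (s' : Set Γ(X, U)) := by
    ext y
    constructor
    · rintro ⟨i, rfl⟩
      exact (s'.equivFin.symm i).2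
    · intro hy
      exact ⟨s'.equivFin ⟨y, hy⟩, by simp [a]⟩
  have hmem : ∀ i, a i ∈ s := fun i => hs's (s'.equivFin.symm i).2
  choose r hle HH using hmem
  exact relPC_glue f E m hU hV hUV a (hrange ▸ hs') r hle HH

/-- transfer of the ring-level condition from one affine pair to a neighbourhood of a point in
another affine pair -/
theorem relPC_transfer (hE : DCoh.IsQCohD E) {U₁ U₂ : X.Opens} (hU₁ : IsAffineOpen U₁)
    (hU₂ : IsAffineOpen U₂) {V₁ V₂ : S.Opens} (hV₁ : IsAffineOpen V₁) (hV₂ : IsAffineOpen V₂)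
    (e₁ : U₁ ≤ f ⁻¹ᵁ V₁) (e₂ : U₂ ≤ f ⁻¹ᵁ V₂) (H : RelPC f E m hU₂ hV₂ e₂)
    (x : X) (hx₁ : x ∈ U₁) (hx₂ : x ∈ U₂) :
    ∃ (a : Γ(X, U₁)) (r : Γ(S, V₁)) (hle : X.basicOpen a ≤ f ⁻¹ᵁ S.basicOpen r),
      x ∈ X.basicOpen a ∧ RelPC f E m (hU₁.basicOpen a) (hV₁.basicOpen r) hle := by
  obtain ⟨r, r', hBrr', hBfx⟩ := exists_basicOpen_le_affine_inter hV₁ hV₂ (f x)
    ⟨e₁ hx₁, e₂ hx₂⟩
  have ha : IsAffineOpen (X.basicOpen (f.appLE V₂ U₂ e₂ r')) := hU₂.basicOpen _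
  have hxa : x ∈ X.basicOpen (f.appLE V₂ U₂ e₂ r') := by
    simpa [Scheme.Hom.appLE, ← Scheme.preimage_basicOpen] using And.intro hx₂ (hBrr' ▸ hBfx)
  obtain ⟨s, s', hBss', hBx⟩ := exists_basicOpen_le_affine_inter hU₁ ha x ⟨hx₁, hxa⟩
  obtain ⟨s'', hs''⟩ := hU₂.basicOpen_basicOpen_is_basicOpen _ s'
  have hle' : X.basicOpen (f.appLE V₂ U₂ e₂ r') ≤ f ⁻¹ᵁ S.basicOpen r' := by
    simp [Scheme.Hom.appLE]
  have ers : X.basicOpen s ≤ f ⁻¹ᵁ S.basicOpen r := by
    rw [hBss', hBrr']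
    exact le_trans (X.basicOpen_le _) hle'
  have ers'' : X.basicOpen s'' ≤ f ⁻¹ᵁ S.basicOpen r' := by
    rw [hs'']
    exact le_trans (X.basicOpen_le _) hle'
  refine ⟨s, r, ers, hBx, ?_⟩
  have h1 := relPC_restrict f E m hU₂ hV₂ e₂ hE s'' r' ers'' H
  exact relPC_congr f E m (hU₂.basicOpen s'') (hU₁.basicOpen s) (hV₂.basicOpen r')
    (hV₁.basicOpen r) ers'' ers (hs''.trans hBss'.symm) hBrr'.symm h1

end

/-- the chart-form relative pseudo-coherence in terms of the ring-level condition on all affine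
pairs -/
theorem rel_iff_relPC [LocallyOfFiniteType f] (hE : DCoh.IsQCohD E) :
    DerSch.IsPseudoCoherentRel f m E ↔
      ∀ (U : X.Opens) (hU : IsAffineOpen U) (V : S.Opens) (hV : IsAffineOpen V)
        (hUV : U ≤ f ⁻¹ᵁ V), RelPC f E m hU hV hUV := by
  constructor
  · rintro ⟨_, 𝒱, h𝒱, H⟩ U hU V hV hUV
    refine relPC_of_local f E m hU hV hUV (fun x hx => ?_)
    have hfx : f x ∈ (⨆ W ∈ 𝒱, (W : S.Opens)) := by rw [h𝒱]; trivial
    simp only [TopologicalSpace.Opens.mem_iSup] at hfx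
    obtain ⟨W, hW, hfxW⟩ := hfx
    obtain ⟨𝒰, h𝒰, HW⟩ := H W hW
    have hx' : x ∈ (⨆ T ∈ 𝒰, (T : X.Opens)) := by rw [h𝒰]; exact hfxW
    simp only [TopologicalSpace.Opens.mem_iSup] at hx'
    obtain ⟨T, hT, hxT⟩ := hx'
    have hTW : (T : X.Opens) ≤ f ⁻¹ᵁ (W : S.Opens) := by
      rw [← h𝒰]
      exact le_iSup₂ (f := fun (T : X.affineOpens) (_ : T ∈ 𝒰) => (T : X.Opens)) T hT
    obtain ⟨n, φ, hφ, hpc⟩ := HW T hT hTW
    have h2 := relPC_of_chart f E m T.2 W.2 hTW φ hφ hpc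
    exact relPC_transfer f E m hE hU T.2 hV W.2 hUV hTW h2 x hx hxT
  · intro H
    refine ⟨inferInstance, Set.univ, ?_, fun V _ => ⟨{U : X.affineOpens | U.1 ≤ f ⁻¹ᵁ V.1}, ?_, ?_⟩⟩
    · simpa using iSup_affineOpens_eq_top S
    · apply le_antisymm
      · exact iSup₂_le (fun U hU => hU)
      · intro x hx
        obtain ⟨W, hW, hxW, hWi⟩ :=
          (TopologicalSpace.Opens.isBasis_iff_nbhd.mp X.isBasis_affineOpens) hx
        simp only [TopologicalSpace.Opens.mem_iSup]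
        exact ⟨⟨W, hW⟩, hWi, hxW⟩
    · intro U _ h
      exact chart_of_relPC f E m hE U.2 V.2 h (H U.1 U.2 V.1 V.2 h)

end Groth.Agent.Helper5.CHP
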