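import Groth.Agent.Lib.Helper5.FLF3

/-!
# The locus where the cohomology sheaves of a perfect object are finite free
-/

set_option autoImplicit false
set_option linter.unusedSectionVars false
set_option linter.unusedVariables false
set_option linter.style.haveILetI false

universe u

open CategoryTheory CategoryTheory.Limits AlgebraicGeometry

attribute [local instance] HasDerivedCategory.standard

namespace Groth.Agent.Helper5.FLF

open Groth.Agent.Helper13.LocFree Groth.Agent.Helper5.RT Groth.Agent.Helper5.FPC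
  Groth.Agent.Helper5.PCH Groth.Agent.Helper5.PRF Groth.Agent.Helper5.COHP

variable {X : Scheme.{u}}

/-- transfer of finite local freeness from an open subscheme to the ambient scheme -/
theorem flfOn_image_of_restrict (M : X.Modules) (V : X.Opens) (O' : (V : Scheme.{u}).Opens)
    (h : FLFOn (M.restrict V.ι) O') : FLFOn M (V.ι ''ᵁ O') := by
  rintro z ⟨w, hw, rfl⟩
  obtain ⟨U', n, hU', hwU', hU'O', ⟨b'⟩⟩ := h w hw
  exact ⟨V.ι ''ᵁ U', n, hU'.image_of_isOpenImmersion V.ι, ⟨w, hwU', rfl⟩,
    V.ι.image_mono hU'O', ⟨basisOfRestrict V.ι M U' b'⟩⟩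

/-- the cohomology sheaves of a perfect object are quasi-coherent -/
theorem isQuasicoherent_HD_of_isPerfect (E : DCoh.D X) (hE : DCoh.IsPerfect E) (i : ℤ) :
    (DCoh.HD E i).IsQuasicoherent := by
  apply Groth.Agent.Helper13.Ext.isQuasicoherent_of_forall_exists_restrict
  intro x
  obtain ⟨V, P, hxV, hP, h⟩ := exists_local_model E hE x
  obtain ⟨e⟩ := h i
  have hq : ∀ i : ℤ, (P.X i).IsQuasicoherent := fun i => isQuasicoherent_of_isFinLocFree _ (hP.2 i)
  haveI := isQuasicoherent_homology P hq i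
  exact ⟨V, hxV, Groth.Agent.Helper13.QCohLocal.isQuasicoherent_of_iso e.symm⟩

/-- near a point where the stalks of all the cohomology sheaves of a perfect object are free, the
cohomology sheaves are finite locally free -/
theorem exists_flfOn_HD (E : DCoh.D X) (hE : DCoh.IsPerfect E) (x : X)
    (hx : ∀ i : ℤ, Module.Free (X.presheaf.stalk x) ((DCoh.HD E i).presheaf.stalk x)) :
    ∃ O : X.Opens, x ∈ O ∧ ∀ i : ℤ, FLFOn (DCoh.HD E i) O := by
  obtain ⟨V, P, hxV, hP, h⟩ := exists_local_model E hE x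
  set y : (V : Scheme.{u}) := ⟨x, hxV⟩ with hy
  have hproj : ∀ i : ℤ, Projective ((DerSch.stalkFunctor (V : Scheme.{u}) y).obj (P.homology i)) := by
    intro i
    obtain ⟨e⟩ := h i
    haveI := hx i
    have h1 : Projective ((DerSch.stalkFunctor X x).obj (DCoh.HD E i)) :=
      (IsProjective.iff_projective (R := X.presheaf.stalk x)
        ((DCoh.HD E i).presheaf.stalk x)).mp inferInstance
    have h2 : Projective ((DerSch.stalkFunctor (V : Scheme.{u}) y).obj
        ((DCoh.HD E i).restrict V.ι)) := by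
      rw [projective_iff_hasProjectiveDimensionLT_one] at h1 ⊢
      exact hasProjectiveDimensionLT_stalk_restrict V.ι y (DCoh.HD E i) 0 h1
    exact Projective.of_iso ((DerSch.stalkFunctor (V : Scheme.{u}) y).mapIso e) h2
  obtain ⟨a, b, hab⟩ := hP.1
  obtain ⟨O', hyO', hO'⟩ := exists_flfOn_homology P b (fun i hi => hab i (Or.inr hi)) hP.2 y hproj a
    (fun i hi => hab i (Or.inl hi))
  refine ⟨V.ι ''ᵁ O', ⟨y, hyO', rfl⟩, fun i => ?_⟩
  obtain ⟨e⟩ := h i
  exact flfOn_image_of_restrict _ V O' ((hO' i).of_iso e.symm)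

/-- the locus where all the cohomology sheaves of a perfect object have finite free stalks -/
theorem exists_freeLocus (E : DCoh.D X) (hE : DCoh.IsPerfect E) :
    ∃ U : X.Opens,
      (U : Set X) = {x : X | ∀ i : ℤ,
        Module.Free (X.presheaf.stalk x) ((DCoh.HD E i).presheaf.stalk x) ∧
        Module.Finite (X.presheaf.stalk x) ((DCoh.HD E i).presheaf.stalk x)} ∧
      (∀ i : ℤ, FlatMod.IsFinLocFree ((DCoh.HD E i).restrict U.ι)) ∧
      ∀ W : X.Opens, (∀ i : ℤ, FlatMod.IsFinLocFree ((DCoh.HD E i).restrict W.ι)) → W ≤ U := by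
  have hq := isQuasicoherent_HD_of_isPerfect E hE
  set S : Set X := {x : X | ∀ i : ℤ,
    Module.Free (X.presheaf.stalk x) ((DCoh.HD E i).presheaf.stalk x) ∧
    Module.Finite (X.presheaf.stalk x) ((DCoh.HD E i).presheaf.stalk x)} with hS
  have key : ∀ x ∈ S, ∃ O : X.Opens, x ∈ O ∧ (O : Set X) ⊆ S ∧ ∀ i : ℤ, FLFOn (DCoh.HD E i) O := by
    intro x hx
    obtain ⟨O, hxO, hO⟩ := exists_flfOn_HD E hE x (fun i => (hx i).1)
    refine ⟨O, hxO, fun z hz i => ?_, hO⟩
    haveI := hq i
    exact (hO i).free_finite_stalk z hz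
  have hopen : IsOpen S := by
    rw [isOpen_iff_forall_mem_open]
    intro x hx
    obtain ⟨O, hxO, hOS, -⟩ := key x hx
    exact ⟨O, hOS, O.2, hxO⟩
  refine ⟨⟨S, hopen⟩, rfl, fun i => ?_, fun W hW x hxW i => ?_⟩
  · haveI := hq i
    apply isFinLocFree_restrict_of_flfOn
    intro x hx
    obtain ⟨O, hxO, hOS, hO⟩ := key x hx
    obtain ⟨U, n, hU, hxU, hUO, hb⟩ := hO i x hxO
    exact ⟨U, n, hU, hxU, fun z hz => hOS (hUO hz), hb⟩
  · haveI := hq i
    exact (flfOn_of_isFinLocFree_restrict _ W (hW i)).free_finite_stalk x hxW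

end Groth.Agent.Helper5.FLF
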