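import Groth.Agent.Lib.Helper5.HS2
import Mathlib.RingTheory.KrullDimension.Regular
import Mathlib.RingTheory.Ideal.MinimalPrime.Noetherian
import Mathlib.RingTheory.Jacobson.Ideal
import Mathlib.RingTheory.Spectrum.Maximal.Basic

/-!
# `s(M) = dim M` for finitely generated modules over semilocal Noetherian rings
-/

open PrimeSpectrum

namespace Groth.Agent.Helper5.HS

variable {A : Type*} [CommRing A]

theorem isMaximal_of_jacobson_le [Finite (MaximalSpectrum A)] (p : Ideal A) [hp : p.IsPrime]
    (h : Ring.jacobson A ≤ p) : p.IsMaximal := by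
  have hfin : {J : Ideal A | J.IsMaximal}.Finite := by
    have : {J : Ideal A | J.IsMaximal} = Set.range (fun m : MaximalSpectrum A => m.asIdeal) := by
      ext J
      constructor
      · intro hJ; exact ⟨⟨J, hJ⟩, rfl⟩
      · rintro ⟨m, rfl⟩; exact m.isMaximal
    rw [this]; exact Set.finite_range _
  rw [← Ideal.jacobson_bot, Ideal.jacobson] at h
  have h1 : hfin.toFinset.inf id ≤ p := by
    rw [Finset.inf_id_eq_sInf]
    refine le_trans (le_of_eq ?_) h
    congr 1
    ext J
    simp
  obtain ⟨m, hm, hmp⟩ := (Ideal.IsPrime.inf_le' hp).mp h1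
  have hm' : m.IsMaximal := by simpa using hm
  have : m = p := hm'.eq_of_le hp.ne_top hmp
  exact this ▸ hm'

theorem mem_zeroLocus_range_cons {n : ℕ} (y : A) (x : Fin n → A) (p : PrimeSpectrum A) :
    p ∈ zeroLocus (Set.range (Fin.cons y x : Fin (n + 1) → A)) ↔
      p ∈ zeroLocus {y} ∧ p ∈ zeroLocus (Set.range x) := by
  simp only [mem_zeroLocus, Set.range_subset_iff, Set.singleton_subset_iff]
  constructor
  · intro h
    exact ⟨by simpa using h 0, fun i => by simpa using h i.succ⟩
  · rintro ⟨h0, h1⟩ i
    refine Fin.cases ?_ (fun i => ?_) i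
    · simpa using h0
    · simpa using h1 i

section

variable [IsNoetherianRing A]

theorem supportDim_le_of_forall_isMaximal : ∀ (n : ℕ) (M : Type*) [AddCommGroup M] [Module A M]
    [Module.Finite A M] (x : Fin n → A), (∀ i, x i ∈ Ring.jacobson A) →
    (∀ p ∈ Module.support A M ∩ zeroLocus (Set.range x), p.asIdeal.IsMaximal) →
    Module.supportDim A M ≤ n := by
  intro n
  induction n with
  | zero =>
    intro M _ _ _ x _ h
    rw [Module.supportDim, Nat.cast_zero, Order.krullDim_nonpos_iff_forall_isMax]
    rintro ⟨p, hp⟩ ⟨q, hq⟩ hpq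
    have hmax : p.asIdeal.IsMaximal := h p ⟨hp, by simp [Set.range_eq_empty]⟩
    have hpq' : p.asIdeal ≤ q.asIdeal := hpq
    have : p.asIdeal = q.asIdeal := hmax.eq_of_le q.2.ne_top hpq'
    change q.asIdeal ≤ p.asIdeal
    exact this.ge
  | succ n ih =>
    intro M _ _ _ x hx h
    have hy : x 0 ∈ (Module.annihilator A M).jacobson := Ideal.ringJacobson_le_jacobson (hx 0)
    have h1 := Module.supportDim_le_supportDim_quotSMulTop_succ_of_mem_jacobson hy
    have h2 : Module.supportDim A (QuotSMulTop (x 0) M) ≤ n := by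
      apply ih (QuotSMulTop (x 0) M) (Fin.tail x) (fun i => hx _)
      rintro p ⟨hp1, hp2⟩
      rw [Module.support_quotSMulTop] at hp1
      apply h p
      refine ⟨hp1.1, ?_⟩
      have : x = Fin.cons (x 0) (Fin.tail x) := (Fin.cons_self_tail x).symm
      rw [this, mem_zeroLocus_range_cons]
      exact ⟨hp1.2, hp2⟩
    refine h1.trans ?_
    rw [Nat.cast_succ]
    exact add_le_add_left h2 1

variable [Finite (MaximalSpectrum A)]

theorem exists_params : ∀ (d : ℕ) (M : Type*) [AddCommGroup M] [Module A M]
    [Module.Finite A M], Module.supportDim A M ≤ d →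
    ∃ x : Fin d → A, (∀ i, x i ∈ Ring.jacobson A) ∧
      ∀ p ∈ Module.support A M ∩ zeroLocus (Set.range x), p.asIdeal.IsMaximal := by
  intro d
  induction d with
  | zero =>
    intro M _ _ _ h
    refine ⟨Fin.elim0, fun i => i.elim0, ?_⟩
    rintro p ⟨hp, -⟩
    rw [Module.supportDim, Nat.cast_zero, Order.krullDim_nonpos_iff_forall_isMax] at h
    obtain ⟨m, hm, hpm⟩ := Ideal.exists_le_maximal p.asIdeal p.2.ne_top
    have hm' : (⟨m, hm.isPrime⟩ : PrimeSpectrum A) ∈ Module.support A M :=
      Module.mem_support_mono (p := p) hpm hp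
    have := h ⟨p, hp⟩ (b := ⟨⟨m, hm.isPrime⟩, hm'⟩) hpm
    have h2 : m ≤ p.asIdeal := this
    have : p.asIdeal = m := le_antisymm hpm h2
    rw [this]; exact hm
  | succ d ih =>
    intro M _ _ _ h
    classical
    -- prime avoidance
    have hfin := Ideal.finite_minimalPrimes_of_isNoetherianRing A (Module.annihilator A M)
    let S : Finset (Ideal A) := hfin.toFinset.filter (fun q => ¬ q.IsMaximal)
    have hS : ∀ q ∈ S, q.IsPrime := by
      intro q hq
      have : q ∈ (Module.annihilator A M).minimalPrimes := by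
        have := (Finset.mem_filter.mp hq).1
        simpa using this
      exact this.1.1
    have havoid : ¬ ((Ring.jacobson A : Set A) ⊆ ⋃ q ∈ (S : Set (Ideal A)), (q : Set A)) := by
      intro hsub
      obtain ⟨q, hq, hJq⟩ := (Ideal.subset_union_prime (f := id) ⊥ ⊥
        (fun i hi _ _ => hS i hi)).mp hsub
      have hq' := hS q hq
      exact (Finset.mem_filter.mp hq).2 (isMaximal_of_jacobson_le q hJq)
    obtain ⟨y, hyJ, hy⟩ := Set.not_subset.mp havoid
    have hy' : ∀ q ∈ (Module.annihilator A M).minimalPrimes, y ∈ q → q.IsMaximal := by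
      intro q hq hyq
      by_contra hmax
      apply hy
      simp only [Set.mem_iUnion]
      exact ⟨q, Finset.mem_coe.mpr (Finset.mem_filter.mpr ⟨by simpa using hq, hmax⟩), hyq⟩
    -- dimension drops
    have hdim : Module.supportDim A (QuotSMulTop y M) ≤ d := by
      rw [Module.supportDim, Order.krullDim]
      apply iSup_le
      intro p
      rcases Nat.eq_zero_or_pos p.length with h0 | hpos
      · rw [h0]; exact_mod_cast Nat.zero_le d
      have hle : Module.support A (QuotSMulTop y M) ⊆ Module.support A M := by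
        rw [Module.support_quotSMulTop]; exact Set.inter_subset_left
      let q : LTSeries (Module.support A M) :=
        p.map (Set.MapsTo.restrict id _ _ hle) (fun _ _ h ↦ h)
      have hhead : p.head.1 ∈ Module.support A M ∩ zeroLocus {y} := by
        rw [← Module.support_quotSMulTop]; exact p.head.2
      obtain ⟨r, hrm, hr⟩ := Ideal.exists_minimalPrimes_le
        (Module.mem_support_iff_of_finite.mp q.head.2)
      let r' : Module.support A M :=
        ⟨⟨r, hrm.1.1⟩, Module.mem_support_iff_of_finite.mpr hrm.1.2⟩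
      have hne : r ≠ q.head.1.asIdeal := by
        intro heq
        have hyr : y ∈ r := by
          rw [heq]
          have := hhead.2
          simpa [q] using this
        have hmax := hy' r hrm hyr
        -- p.head < p 1
        have hlt : p ⟨0, by omega⟩ < p ⟨1, by omega⟩ := p.strictMono (by simp [Fin.lt_def])
        have hlt' : (p ⟨0, by omega⟩).1.asIdeal < (p ⟨1, by omega⟩).1.asIdeal := hlt
        have h0 : (p ⟨0, by omega⟩).1.asIdeal = r := by
          rw [heq]; rfl
        rw [h0] at hlt'
        exact hlt'.ne (hmax.eq_of_le (p ⟨1, by omega⟩).1.2.ne_top hlt'.le)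
      have hr' : r' < q.head := lt_of_le_of_ne hr (fun h => hne (congrArg
        (fun z : Module.support A M => z.1.asIdeal) h))
      have h3 := Order.LTSeries.length_le_krullDim (q.cons r' hr')
      have h4 : ((q.cons r' hr').length : WithBot ℕ∞) ≤ ((d + 1 : ℕ) : WithBot ℕ∞) :=
        h3.trans h
      have h5 : (q.cons r' hr').length = p.length + 1 := by simp [q]
      rw [h5] at h4
      have h6 : p.length + 1 ≤ d + 1 := by exact_mod_cast h4
      exact_mod_cast Nat.le_of_succ_le_succ h6
    obtain ⟨x', hx', hx''⟩ := ih (QuotSMulTop y M) hdim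
    refine ⟨Fin.cons y x', fun i => ?_, ?_⟩
    · refine Fin.cases ?_ (fun i => ?_) i
      · simpa using hyJ
      · simpa using hx' i
    · rintro p ⟨hp1, hp2⟩
      rw [mem_zeroLocus_range_cons] at hp2
      apply hx'' p
      rw [Module.support_quotSMulTop]
      exact ⟨⟨hp1, hp2.1⟩, hp2.2⟩

end

end Groth.Agent.Helper5.HS
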