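import Groth.Agent.Lib.Helper5.HS1
import Groth.Agent.Lib.Helper5.HS2
import Mathlib.RingTheory.Filtration

/-!
# Hilbert–Samuel: `n ↦ length (M / I^n M)` is eventually polynomial
-/

open Polynomial

namespace Groth.Agent.Helper5.HS

variable {A : Type*} [CommRing A] {M : Type*} [AddCommGroup M] [Module A M]

/-- colength as a natural number -/
noncomputable def colN (N : Submodule A M) : ℕ := (col N).toNat

/-- multiplication by `a` as a linear map -/
noncomputable abbrev μ (a : A) : M →ₗ[A] M := LinearMap.lsmul A M a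

theorem μ_comm (a b : A) : (μ a : M →ₗ[A] M) ∘ₗ μ b = μ b ∘ₗ μ a := by
  ext m
  simp [smul_comm a b m]

theorem map_μ_map_μ (a b : A) (N : Submodule A M) :
    (N.map (μ a)).map (μ b) = (N.map (μ b)).map (μ a) := by
  rw [← Submodule.map_comp, ← Submodule.map_comp, μ_comm]

theorem span_smul_le {s : ℕ} (x : Fin s → A) (N K : Submodule A M)
    (h : ∀ i, N.map (μ (x i)) ≤ K) : Ideal.span (Set.range x) • N ≤ K := by
  rw [Submodule.smul_le]
  intro r hr n hn
  induction hr using Submodule.span_induction with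
  | mem r hr =>
    obtain ⟨i, rfl⟩ := hr
    exact h i (Submodule.mem_map_of_mem (f := μ (x i)) hn)
  | zero => rw [zero_smul]; exact zero_mem _
  | add a b _ _ ha hb => rw [add_smul]; exact add_mem ha hb
  | smul a b _ hb => rw [smul_eq_mul, mul_smul]; exact K.smul_mem a hb

theorem map_μ_le_smul {I : Ideal A} {a : A} (ha : a ∈ I) (N : Submodule A M) :
    N.map (μ a) ≤ I • N := by
  rintro _ ⟨n, hn, rfl⟩
  exact Submodule.smul_mem_smul ha hn

section

variable (I : Ideal A)

theorem col_ne_top_of_le (hfl : ∀ n, IsFiniteLength A (M ⧸ (I ^ n • ⊤ : Submodule A M)))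
    {N : Submodule A M} {m : ℕ} (h : I ^ m • ⊤ ≤ N) : col N ≠ ⊤ := by
  have h1 := col_anti h
  have h2 : col (I ^ m • ⊤ : Submodule A M) ≠ ⊤ := Module.length_ne_top_iff.mpr (hfl m)
  exact ne_top_of_le_ne_top h2 h1

theorem colN_anti (hfl : ∀ n, IsFiniteLength A (M ⧸ (I ^ n • ⊤ : Submodule A M)))
    {N N' : Submodule A M} {m : ℕ} (h : I ^ m • ⊤ ≤ N) (h' : N ≤ N') : colN N' ≤ colN N :=
  ENat.toNat_le_toNat (col_anti h') (col_ne_top_of_le I hfl h)

variable [IsNoetherianRing A] [Module.Finite A M]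

theorem hs_aux {s : ℕ} (x : Fin s → A) (hx : Ideal.span (Set.range x) = I)
    (hfl : ∀ n, IsFiniteLength A (M ⧸ (I ^ n • ⊤ : Submodule A M))) (k : ℕ) (hk : k ≤ s) :
    ∀ (P Q : ℕ → Submodule A M),
      (∀ n, I ^ (n + 1) • ⊤ ≤ P n) → (∀ n, P n ≤ Q n) → (∀ n, Q n ≤ I ^ n • ⊤) →
      (∀ i n, (P n).map (μ (x i)) ≤ P (n + 1)) → (∀ i n, (Q n).map (μ (x i)) ≤ Q (n + 1)) →
      (∀ i : Fin s, k ≤ i.val → ∀ n, (Q n).map (μ (x i)) ≤ P (n + 1)) →
      ∃ p : ℚ[X], p.degree < k ∧ ∃ N : ℕ, ∀ n, N ≤ n →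
        ((colN (P n) : ℚ) - colN (Q n)) = p.eval (n : ℚ) := by
  induction k with
  | zero =>
    intro P Q hbot hPQ htop hP hQ hkill
    refine ⟨0, by simp, ?_⟩
    let F : I.Filtration M :=
      { N := Q
        mono := fun n => ((htop (n + 1)).trans (hbot n)).trans (hPQ n)
        smul_le := fun n => by
          rw [← hx]
          exact span_smul_le x _ _ (fun i => hQ i n) }
    have hF : F ≤ I.stableFiltration ⊤ := fun n => htop n
    obtain ⟨n₀, hn₀⟩ := (I.stableFiltration_stable ⊤).of_le hF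
    refine ⟨n₀ + 1, fun n hn => ?_⟩
    obtain ⟨m, rfl⟩ : ∃ m, n = m + 1 := ⟨n - 1, by omega⟩
    have h1 : Q (m + 1) ≤ P (m + 1) := by
      have := hn₀ m (by omega)
      change I • Q m = Q (m + 1) at this
      rw [← this, ← hx]
      exact span_smul_le x _ _ (fun i => hkill i (Nat.zero_le _) m)
    have h2 : P (m + 1) = Q (m + 1) := le_antisymm (hPQ _) h1
    rw [h2]; simp
  | succ k ih =>
    intro P Q hbot hPQ htop hP hQ hkill
    have hk' : k ≤ s := by omega
    set i₀ : Fin s := ⟨k, by omega⟩ with hi₀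
    set f : M →ₗ[A] M := μ (x i₀) with hf
    let Q' : ℕ → Submodule A M := fun n => Q n ⊓ (P (n + 1)).comap f
    let P'' : ℕ → Submodule A M := fun n =>
      match n with
      | 0 => P 0
      | n + 1 => P (n + 1) ⊔ (Q n).map f
    have hP''le : ∀ n, P n ≤ P'' n := by
      intro n
      cases n with
      | zero => exact le_rfl
      | succ n => exact le_sup_left
    have hP''Q : ∀ n, P'' n ≤ Q n := by
      intro n
      cases n with
      | zero => exact hPQ 0
      | succ n => exact sup_le (hPQ _) (hQ i₀ n)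
    -- the pair (P, Q')
    obtain ⟨p₁, hp₁, N₁, hN₁⟩ := ih hk' P Q' hbot
      (fun n => le_inf (hPQ n) (Submodule.map_le_iff_le_comap.mp (hP i₀ n)))
      (fun n => inf_le_left.trans (htop n)) hP
      (fun i n => by
        refine le_inf ((Submodule.map_mono inf_le_left).trans (hQ i n)) ?_
        rw [← Submodule.map_le_iff_le_comap, map_μ_map_μ]
        refine (Submodule.map_mono ?_).trans (hP i (n + 1))
        rw [Submodule.map_le_iff_le_comap]
        exact inf_le_right)
      (fun i hi n => by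
        rcases Nat.eq_or_lt_of_le hi with h | h
        · have : i = i₀ := Fin.ext h.symm
          subst this
          rw [Submodule.map_le_iff_le_comap]
          exact inf_le_right
        · exact (Submodule.map_mono inf_le_left).trans (hkill i h n))
    -- the pair (P'', Q)
    obtain ⟨p₂, hp₂, N₂, hN₂⟩ := ih hk' P'' Q
      (fun n => (hbot n).trans (hP''le n)) hP''Q htop
      (fun i n => by
        cases n with
        | zero => exact (hP i 0).trans (hP''le 1)
        | succ n =>
          change (P (n + 1) ⊔ (Q n).map f).map (μ (x i)) ≤ P (n + 2) ⊔ (Q (n + 1)).map f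
          rw [Submodule.map_sup]
          refine sup_le_sup (hP i (n + 1)) ?_
          rw [map_μ_map_μ]
          exact Submodule.map_mono (hQ i n))
      hQ
      (fun i hi n => by
        rcases Nat.eq_or_lt_of_le hi with h | h
        · have : i = i₀ := Fin.ext h.symm
          subst this
          exact le_sup_right
        · exact (hkill i h n).trans (hP''le (n + 1)))
    -- combine
    have key : ∀ n, colN (Q' n) + colN (P'' (n + 1)) = colN (Q n) + colN (P (n + 1)) := by
      intro n
      have h1 := col_inf_comap_add_col_sup_map f (P (n + 1)) (Q n)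
      have hfin1 : col (Q n ⊓ (P (n + 1)).comap f) ≠ ⊤ :=
        col_ne_top_of_le I hfl (m := n + 1)
          ((hbot n).trans (le_inf (hPQ n) (Submodule.map_le_iff_le_comap.mp (hP i₀ n))))
      have hfin2 : col (P (n + 1) ⊔ (Q n).map f) ≠ ⊤ :=
        col_ne_top_of_le I hfl (m := n + 2) ((hbot (n + 1)).trans le_sup_left)
      have hfin3 : col (Q n) ≠ ⊤ :=
        col_ne_top_of_le I hfl (m := n + 1) ((hbot n).trans (hPQ n))
      have hfin4 : col (P (n + 1)) ≠ ⊤ := col_ne_top_of_le I hfl (m := n + 2) (hbot (n + 1))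
      change (col (Q n ⊓ (P (n + 1)).comap f)).toNat + (col (P (n + 1) ⊔ (Q n).map f)).toNat =
        (col (Q n)).toNat + (col (P (n + 1))).toNat
      rw [← ENat.toNat_add hfin1 hfin2, ← ENat.toNat_add hfin3 hfin4, h1]
    have hdiff : ∀ n, max N₁ N₂ ≤ n →
        ((colN (P (n + 1)) : ℚ) - colN (Q (n + 1))) - ((colN (P n) : ℚ) - colN (Q n)) =
          (sh 1 p₂ - p₁).eval (n : ℚ) := by
      intro n hn
      have h1 := hN₁ n (by omega)
      have h2 := hN₂ (n + 1) (by omega)
      have h3 : ((colN (Q' n) : ℚ) + colN (P'' (n + 1))) = colN (Q n) + colN (P (n + 1)) := by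
        exact_mod_cast key n
      rw [eval_sub, eval_sh, ← h1, ← h2]
      linarith
    have hdeg : (sh 1 p₂ - p₁).degree < k := by
      refine lt_of_le_of_lt (degree_sub_le _ _) (max_lt ?_ hp₁)
      rw [degree_sh]; exact hp₂
    obtain ⟨G, hG, hG'⟩ := exists_poly_of_diff
      (fun n => (colN (P n) : ℚ) - colN (Q n)) _ k (max N₁ N₂) hdeg hdiff
    exact ⟨G, hG, max N₁ N₂, hG'⟩

/-- **Hilbert–Samuel**: if `I` is generated by `s` elements and `M/IM` has finite length then
`n ↦ length (M/I^n M)` is eventually a polynomial of degree at most `s`. -/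
theorem exists_poly_colN {s : ℕ} (x : Fin s → A) (hx : Ideal.span (Set.range x) = I)
    (hfl : IsFiniteLength A (M ⧸ (I • ⊤ : Submodule A M))) :
    ∃ p : ℚ[X], p.natDegree ≤ s ∧ IsEP (fun n => colN (I ^ n • ⊤ : Submodule A M)) p := by
  have hfl' := isFiniteLength_quotient_pow I hfl
  have hxI : ∀ i, x i ∈ I := fun i => hx ▸ Ideal.subset_span ⟨i, rfl⟩
  have hstep : ∀ i n, ((I ^ n • ⊤ : Submodule A M)).map (μ (x i)) ≤ I ^ (n + 1) • ⊤ := by
    intro i n
    refine (map_μ_le_smul (hxI i) _).trans ?_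
    rw [← mul_smul, ← pow_succ']
  obtain ⟨p, hp, N, hN⟩ := hs_aux I x hx hfl' s le_rfl
    (fun n => (I ^ (n + 1) • ⊤ : Submodule A M)) (fun n => (I ^ n • ⊤ : Submodule A M))
    (fun n => le_rfl)
    (fun n => by
      rw [pow_succ', mul_smul]
      exact Submodule.smul_le_right)
    (fun n => le_rfl) (fun i n => hstep i (n + 1)) hstep
    (fun i hi => absurd i.2 (by omega))
  obtain ⟨G, hG, hG'⟩ := exists_poly_of_diff
    (fun n => (colN (I ^ n • ⊤ : Submodule A M) : ℚ)) p s N hp hN
  refine ⟨G, ?_, N, hG'⟩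
  by_cases hG0 : G = 0
  · rw [hG0]; simp
  · have := (natDegree_lt_iff_degree_lt hG0).mpr hG
    omega

end

end Groth.Agent.Helper5.HS
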