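import Groth.Agent.Lib.Helper5.HS5
import Mathlib.RingTheory.Ideal.AssociatedPrime.Localization

/-!
# The degree of the Hilbert–Samuel polynomial is the dimension
-/

open Polynomial PrimeSpectrum

namespace Groth.Agent.Helper5.HS

universe u

variable (A : Type u) [CommRing A] [IsNoetherianRing A] [Finite (MaximalSpectrum A)]

theorem le_natDegree_of_ltSeries : ∀ (e : ℕ) (M : Type u) [AddCommGroup M] [Module A M]
    [Module.Finite A M] (p : ℚ[X]), IsEP (sam A M) p →
    ∀ c : LTSeries (Module.support A M), c.length = e → e ≤ p.natDegree := by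
  intro e
  induction e with
  | zero => intros; exact Nat.zero_le _
  | succ e ih =>
    intro M _ _ _ p hp c hc
    have hlt : c ⟨0, by omega⟩ < c ⟨1, by omega⟩ := c.strictMono (by simp [Fin.lt_def])
    obtain ⟨q, hqm, hq⟩ := Ideal.exists_minimalPrimes_le
      (Module.mem_support_iff_of_finite.mp (c ⟨0, by omega⟩).2)
    have hqprime : q.IsPrime := hqm.1.1
    have hass : IsAssociatedPrime q M :=
      Module.associatedPrimes.minimalPrimes_annihilator_subset_associatedPrimes A M hqm
    obtain ⟨-, ι, hι⟩ := (isAssociatedPrime_iff_exists_injective_linearMap q M).mp hass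
    have hlt' : (c ⟨0, by omega⟩).1.asIdeal < (c ⟨1, by omega⟩).1.asIdeal := hlt
    obtain ⟨x, hx1, hx0⟩ := SetLike.exists_of_lt hlt'
    have hxq : x ∉ q := fun h => hx0 (hq h)
    have hreg : IsSMulRegular (A ⧸ q) x := by
      intro a b hab
      obtain ⟨a, rfl⟩ := Ideal.Quotient.mk_surjective a
      obtain ⟨b, rfl⟩ := Ideal.Quotient.mk_surjective b
      have h1 : Ideal.Quotient.mk q (x * a) = Ideal.Quotient.mk q (x * b) := by
        simpa [Algebra.smul_def] using hab
      rw [Ideal.Quotient.eq, ← mul_sub] at h1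
      rw [Ideal.Quotient.eq]
      exact (hqprime.mem_or_mem h1).resolve_left hxq
    obtain ⟨pB, hpB⟩ := exists_sam_poly A (A ⧸ q)
    obtain ⟨pC, hpC⟩ := exists_sam_poly A (QuotSMulTop x (A ⧸ q))
    have hsuppC : ∀ i : Fin (c.length + 1), 1 ≤ i.val →
        (c i).1 ∈ Module.support A (QuotSMulTop x (A ⧸ q)) := by
      intro i hi
      rw [Module.support_quotSMulTop, Module.support_eq_zeroLocus, Ideal.annihilator_quotient]
      have h1 : c ⟨1, by omega⟩ ≤ c i := c.monotone (by rw [Fin.le_def]; exact hi)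
      have h1' : (c ⟨1, by omega⟩).1.asIdeal ≤ (c i).1.asIdeal := h1
      refine ⟨?_, ?_⟩
      · exact fun a ha => h1' (hlt'.le (hq ha))
      · simp only [mem_zeroLocus, Set.singleton_subset_iff]
        exact h1' hx1
    let c' : LTSeries (Module.support A (QuotSMulTop x (A ⧸ q))) :=
      { length := e
        toFun := fun i => ⟨(c ⟨i.val + 1, by omega⟩).1, hsuppC _ (by simp)⟩
        step := by exact fun i => c.strictMono (by simp [Fin.lt_def]) }
    have h1 := ih (QuotSMulTop x (A ⧸ q)) pC hpC c' rfl
    obtain ⟨k, hk⟩ := sam_quotSMulTop_add_le A x hreg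
    obtain ⟨hz, hnz⟩ := IsEP.natDegree_succ_le hpC hpB k 0 (fun n _ => hk n)
    by_cases hd : pB.natDegree = 0
    · exfalso
      obtain ⟨N', hN'⟩ := hz hd
      have := subsingleton_of_sam_eq_zero A (max N' 1) (by omega) (hN' _ (le_max_left _ _))
      have h2 : (c' 0).1 ∈ (∅ : Set (PrimeSpectrum A)) := by
        rw [← Module.support_eq_empty (R := A) (M := QuotSMulTop x (A ⧸ q))]
        exact (c' 0).2
      exact h2
    · have h2 := hnz hd
      obtain ⟨k', hk'⟩ := sam_le_of_injective A ι hι
      have h3 := IsEP.natDegree_le hpB hp k' 0 (fun n _ => hk' n)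
      omega

theorem exists_nat_supportDim (M : Type*) [AddCommGroup M] [Module A M]
    [Module.Finite A M] [Nontrivial M] : ∃ d : ℕ, Module.supportDim A M = d := by
  obtain ⟨m, g, hg⟩ := Submodule.fg_iff_exists_fin_generating_family.mp
    (IsNoetherian.noetherian (Ring.jacobson A))
  have hgJ : ∀ i, g i ∈ Ring.jacobson A := fun i => hg ▸ Ideal.subset_span ⟨i, rfl⟩
  have hbound : Module.supportDim A M ≤ m := by
    apply supportDim_le_of_forall_isMaximal m M g hgJ
    rintro p ⟨hp1, hp2⟩
    apply isMaximal_of_jacobson_le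
    rw [← hg]
    exact Ideal.span_le.mpr hp2
  have hne : Module.supportDim A M ≠ ⊥ := Module.supportDim_ne_bot_of_nontrivial A M
  induction h : Module.supportDim A M using WithBot.recBotCoe with
  | bot => exact absurd h hne
  | coe e =>
    rw [h] at hbound
    have h1 : e ≤ (m : ℕ∞) := by exact_mod_cast hbound
    have h2 : e ≠ ⊤ := ne_top_of_le_ne_top (ENat.natCast_ne_top m) h1
    obtain ⟨d, rfl⟩ := ENat.ne_top_iff_exists.mp h2
    exact ⟨d, rfl⟩

/-- **Hilbert–Samuel polynomial**, with degree equal to the dimension of the module. -/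
theorem exists_hilbertSamuel (M : Type u) [AddCommGroup M] [Module A M]
    [Module.Finite A M] [Nontrivial M] :
    ∃ P : ℚ[X], IsEP (sam A M) P ∧ (P.natDegree : WithBot ℕ∞) = Module.supportDim A M := by
  obtain ⟨P, hP⟩ := exists_sam_poly A M
  refine ⟨P, hP, le_antisymm ?_ ?_⟩
  · obtain ⟨d, hd⟩ := exists_nat_supportDim A M
    obtain ⟨x, hx, hx'⟩ := exists_params d M hd.le
    set q : Ideal A := Ideal.span (Set.range x) with hq
    have hqJ : q ≤ Ring.jacobson A := Ideal.span_le.mpr (by rintro _ ⟨i, rfl⟩; exact hx i)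
    have hflq : IsFiniteLength A (M ⧸ (q • ⊤ : Submodule A M)) := by
      rw [isFiniteLength_iff_support, Module.support_quotient, PrimeSpectrum.zeroLocus_span]
      exact hx'
    obtain ⟨pq, hdeg, hpq⟩ := exists_poly_colN (M := M) q x rfl hflq
    have hfl' := isFiniteLength_quotient_pow q hflq
    have h1 := IsEP.natDegree_le hP hpq 0 0 (fun n _ =>
      colN_anti q hfl' (m := n) le_rfl
        (Submodule.smul_mono (Ideal.pow_right_mono hqJ n) le_rfl))
    rw [hd]
    exact_mod_cast h1.trans hdeg
  · rw [Module.supportDim, Order.krullDim]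
    apply iSup_le
    intro c
    exact_mod_cast le_natDegree_of_ltSeries A c.length M P hP c rfl

end Groth.Agent.Helper5.HS
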