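import Groth.Agent.Lib.Helper5.HS2
import Mathlib.Data.Sym.Card
import Mathlib.Data.Nat.Choose.Bounds
import Mathlib.Analysis.SpecificLimits.Basic

/-!
# `length (R / I^n) ≤ length (R / I) * choose (n + d - 1) d` for `I` generated by `d` elements
-/

open Filter Topology

namespace Groth.Agent.Helper5.MB

variable {R : Type*} [CommRing R]

/-- a module killed by `I` and spanned by finitely many elements has bounded length -/
theorem length_le_card_mul {M : Type*} [AddCommGroup M] [Module R M] (I : Ideal R)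
    (hI : ∀ r ∈ I, ∀ m : M, r • m = 0) {ι : Type*} [Fintype ι] (v : ι → M)
    (hv : Submodule.span R (Set.range v) = ⊤) :
    Module.length R M ≤ Fintype.card ι * Module.length R (R ⧸ I) := by
  classical
  let φ : ι → (R ⧸ I) →ₗ[R] M := fun i =>
    Submodule.liftQ I (LinearMap.toSpanSingleton R M (v i)) (by
      intro r hr
      rw [LinearMap.mem_ker, LinearMap.toSpanSingleton_apply]
      exact hI r hr _)
  let F : (ι → R ⧸ I) →ₗ[R] M := ∑ i, (φ i) ∘ₗ (LinearMap.proj i)
  have hF : Function.Surjective F := by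
    intro m
    have hm : m ∈ Submodule.span R (Set.range v) := hv ▸ Submodule.mem_top
    obtain ⟨c, rfl⟩ := (Submodule.mem_span_range_iff_exists_fun R).mp hm
    refine ⟨fun i => Ideal.Quotient.mk I (c i), ?_⟩
    simp only [F, LinearMap.sum_apply, LinearMap.comp_apply, LinearMap.proj_apply]
    refine Finset.sum_congr rfl fun i _ => ?_
    change Submodule.liftQ I _ _ (Submodule.Quotient.mk (c i)) = _
    rw [Submodule.liftQ_apply, LinearMap.toSpanSingleton_apply]
  have h1 := Module.length_le_of_surjective F hF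
  rw [Module.length_pi_of_fintype] at h1
  simpa using h1

variable {d : ℕ} (g : Fin d → R)

/-- the monomial attached to a multiset of indices -/
noncomputable def mono {j : ℕ} (s : Sym (Fin d) j) : R := (s.1.map g).prod

theorem mono_cons {j : ℕ} (a : Fin d) (s : Sym (Fin d) j) :
    mono g (a ::ₛ s) = g a * mono g s := by
  simp [mono, Sym.cons]

theorem pow_eq_span_mono (j : ℕ) :
    Ideal.span (Set.range g) ^ j = Ideal.span (Set.range (mono g (j := j))) := by
  induction j with
  | zero =>
    rw [pow_zero, Ideal.one_eq_top]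
    symm
    rw [Ideal.eq_top_iff_one]
    apply Ideal.subset_span
    exact ⟨Sym.nil, by simp [mono]⟩
  | succ j ih =>
    rw [pow_succ', ih, Ideal.span_mul_span']
    apply le_antisymm
    · rw [Ideal.span_le]
      rintro _ ⟨_, ⟨a, rfl⟩, _, ⟨s, rfl⟩, rfl⟩
      apply Ideal.subset_span
      exact ⟨a ::ₛ s, mono_cons g a s⟩
    · rw [Ideal.span_le]
      rintro _ ⟨s', rfl⟩
      obtain ⟨a, s, rfl⟩ := Sym.exists_eq_cons_of_succ s'
      apply Ideal.subset_span
      exact ⟨g a, ⟨a, rfl⟩, mono g s, ⟨s, rfl⟩, (mono_cons g a s).symm⟩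

/-- one step: `length(R/I^(j+1)) ≤ length(R/I^j) + multichoose d j * length(R/I)` -/
theorem length_quot_pow_succ_le (j : ℕ) :
    Module.length R (R ⧸ Ideal.span (Set.range g) ^ (j + 1)) ≤
      Module.length R (R ⧸ Ideal.span (Set.range g) ^ j) +
        Nat.multichoose d j * Module.length R (R ⧸ Ideal.span (Set.range g)) := by
  set I := Ideal.span (Set.range g) with hI
  have hle : I ^ (j + 1) ≤ I ^ j := Ideal.pow_le_pow_right (Nat.le_succ j)
  let π : (R ⧸ I ^ (j + 1)) →ₗ[R] (R ⧸ I ^ j) := Submodule.factor hle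
  have hπ : Function.Surjective π := Submodule.factor_surjective hle
  have hex := Module.length_eq_add_of_exact (LinearMap.ker π).subtype π
    (Submodule.injective_subtype _) hπ (LinearMap.exact_subtype_ker_map π)
  rw [hex, add_comm]
  refine add_le_add le_rfl ?_
  -- the kernel is killed by `I` and spanned by monomials
  have hker : ∀ y : LinearMap.ker π, ∃ r ∈ I ^ j, (y : R ⧸ I ^ (j + 1)) = Submodule.Quotient.mk r := by
    intro y
    obtain ⟨r, hr⟩ := Submodule.mkQ_surjective _ (y : R ⧸ I ^ (j + 1))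
    refine ⟨r, ?_, hr.symm⟩
    have := y.2
    rw [LinearMap.mem_ker, ← hr] at this
    change Submodule.Quotient.mk r = 0 at this
    exact (Submodule.Quotient.mk_eq_zero _).mp this
  have hkill : ∀ r ∈ I, ∀ m : LinearMap.ker π, r • m = 0 := by
    intro r hr m
    obtain ⟨a, ha, hm⟩ := hker m
    apply Subtype.ext
    rw [Submodule.coe_smul, hm, ← Submodule.Quotient.mk_smul, ZeroMemClass.coe_zero,
      Submodule.Quotient.mk_eq_zero, smul_eq_mul, pow_succ']
    exact Ideal.mul_mem_mul hr ha
  have hmem : ∀ s : Sym (Fin d) j,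
      (Submodule.Quotient.mk (mono g s) : R ⧸ I ^ (j + 1)) ∈ LinearMap.ker π := by
    intro s
    rw [LinearMap.mem_ker]
    change Submodule.Quotient.mk (mono g s) = 0
    rw [Submodule.Quotient.mk_eq_zero, hI, pow_eq_span_mono]
    exact Ideal.subset_span ⟨s, rfl⟩
  let v : Sym (Fin d) j → LinearMap.ker π := fun s => ⟨_, hmem s⟩
  have hv : Submodule.span R (Set.range v) = ⊤ := by
    rw [eq_top_iff]
    rintro y -
    obtain ⟨a, ha, hy⟩ := hker y
    rw [hI, pow_eq_span_mono] at ha
    have h1 : ∀ a ∈ Ideal.span (Set.range (mono g (j := j))),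
        ∀ y : LinearMap.ker π, (y : R ⧸ I ^ (j + 1)) = Submodule.Quotient.mk a →
          y ∈ Submodule.span R (Set.range v) := by
      intro a ha
      induction ha using Submodule.span_induction with
      | mem x hx =>
        obtain ⟨s, rfl⟩ := hx
        intro y hy
        have : y = v s := Subtype.ext hy
        rw [this]
        exact Submodule.subset_span ⟨s, rfl⟩
      | zero =>
        intro y hy
        have : y = 0 := Subtype.ext (by rw [hy]; rfl)
        rw [this]; exact zero_mem _
      | add x z hx hz ihx ihz =>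
        intro y hy
        have hxm : (Submodule.Quotient.mk x : R ⧸ I ^ (j + 1)) ∈ LinearMap.ker π := by
          rw [LinearMap.mem_ker]
          change Submodule.Quotient.mk x = 0
          rw [Submodule.Quotient.mk_eq_zero, hI, pow_eq_span_mono]
          exact hx
        have hzm : (Submodule.Quotient.mk z : R ⧸ I ^ (j + 1)) ∈ LinearMap.ker π := by
          rw [LinearMap.mem_ker]
          change Submodule.Quotient.mk z = 0
          rw [Submodule.Quotient.mk_eq_zero, hI, pow_eq_span_mono]
          exact hz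
        have : y = ⟨_, hxm⟩ + ⟨_, hzm⟩ := Subtype.ext (by rw [hy]; rfl)
        rw [this]
        exact add_mem (ihx _ rfl) (ihz _ rfl)
      | smul c x hx ihx =>
        intro y hy
        have hxm : (Submodule.Quotient.mk x : R ⧸ I ^ (j + 1)) ∈ LinearMap.ker π := by
          rw [LinearMap.mem_ker]
          change Submodule.Quotient.mk x = 0
          rw [Submodule.Quotient.mk_eq_zero, hI, pow_eq_span_mono]
          exact hx
        have : y = c • ⟨_, hxm⟩ := Subtype.ext (by rw [hy]; rfl)
        rw [this]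
        exact Submodule.smul_mem _ c (ihx _ rfl)
    exact h1 a ha y hy
  have h2 := length_le_card_mul I hkill v hv
  rwa [Sym.card_sym_eq_multichoose, Fintype.card_fin] at h2

theorem sum_multichoose (d n : ℕ) :
    ∑ j ∈ Finset.range (n + 1), Nat.multichoose d j = Nat.multichoose (d + 1) n := by
  induction n with
  | zero => simp
  | succ n ih =>
    rw [Finset.sum_range_succ, ih, Nat.multichoose_succ_succ, add_comm]

theorem length_quot_pow_le (n : ℕ) :
    Module.length R (R ⧸ Ideal.span (Set.range g) ^ n) ≤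
      (∑ j ∈ Finset.range n, Nat.multichoose d j : ℕ) *
        Module.length R (R ⧸ Ideal.span (Set.range g)) := by
  induction n with
  | zero =>
    rw [pow_zero, Ideal.one_eq_top]
    have : Subsingleton (R ⧸ (⊤ : Ideal R)) := Submodule.Quotient.subsingleton_iff.mpr rfl
    rw [Module.length_eq_zero]
    exact zero_le
  | succ n ih =>
    refine (length_quot_pow_succ_le g n).trans ?_
    rw [Finset.sum_range_succ, Nat.cast_add, add_mul]
    exact add_le_add ih le_rfl

theorem le_length_of_tendsto (e : ℕ)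
    (he : Tendsto (fun n : ℕ => (d.factorial : ℝ) *
      ((Module.length R (R ⧸ Ideal.span (Set.range g) ^ n)).toNat : ℝ) / (n : ℝ) ^ d)
      atTop (nhds (e : ℝ))) :
    (e : ℕ∞) ≤ Module.length R (R ⧸ Ideal.span (Set.range g)) := by
  by_cases htop : Module.length R (R ⧸ Ideal.span (Set.range g)) = ⊤
  · rw [htop]; exact le_top
  obtain ⟨L, hL⟩ := ENat.ne_top_iff_exists.mp htop
  rw [← hL]
  have hbound : ∀ n : ℕ, 1 ≤ n →
      (d.factorial : ℝ) * ((Module.length R (R ⧸ Ideal.span (Set.range g) ^ n)).toNat : ℝ) /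
        (n : ℝ) ^ d ≤ (L : ℝ) * (1 + ((d : ℝ) - 1) / n) ^ d := by
    intro n hn
    obtain ⟨m, rfl⟩ : ∃ m, n = m + 1 := ⟨n - 1, by omega⟩
    have h1 := length_quot_pow_le g (m + 1)
    rw [sum_multichoose, ← hL] at h1
    have h2 : (Module.length R (R ⧸ Ideal.span (Set.range g) ^ (m + 1))).toNat ≤
        Nat.multichoose (d + 1) m * L := by
      have : (Module.length R (R ⧸ Ideal.span (Set.range g) ^ (m + 1))) ≤
          ((Nat.multichoose (d + 1) m * L : ℕ) : ℕ∞) := by
        rw [Nat.cast_mul]; exact h1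
      exact ENat.toNat_le_of_le_natCast this
    have h3 : Nat.multichoose (d + 1) m = (d + m).choose d := by
      rw [Nat.multichoose_eq]
      have : d + 1 + m - 1 = d + m := by omega
      rw [this, Nat.add_comm d m, Nat.choose_symm_add]
    have h4 : ((d + m).choose d : ℝ) ≤ ((d + m : ℕ) : ℝ) ^ d / (d.factorial : ℝ) :=
      Nat.choose_le_pow_div d (d + m)
    have hfac : (0 : ℝ) < (d.factorial : ℝ) := by exact_mod_cast Nat.factorial_pos d
    have hn0 : (0 : ℝ) < ((m + 1 : ℕ) : ℝ) := by positivity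
    have h5 : ((Module.length R (R ⧸ Ideal.span (Set.range g) ^ (m + 1))).toNat : ℝ) ≤
        ((d + m).choose d : ℝ) * L := by
      rw [← h3]; exact_mod_cast h2
    have h6 : (d.factorial : ℝ) *
        ((Module.length R (R ⧸ Ideal.span (Set.range g) ^ (m + 1))).toNat : ℝ) ≤
        (L : ℝ) * ((d + m : ℕ) : ℝ) ^ d := by
      calc (d.factorial : ℝ) *
          ((Module.length R (R ⧸ Ideal.span (Set.range g) ^ (m + 1))).toNat : ℝ)
          ≤ (d.factorial : ℝ) * (((d + m).choose d : ℝ) * L) :=
            mul_le_mul_of_nonneg_left h5 hfac.le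
        _ ≤ (d.factorial : ℝ) * ((((d + m : ℕ) : ℝ) ^ d / (d.factorial : ℝ)) * L) := by
            gcongr
        _ = (L : ℝ) * ((d + m : ℕ) : ℝ) ^ d := by
            field_simp
    rw [div_le_iff₀ (pow_pos hn0 d)]
    have h7 : (1 + ((d : ℝ) - 1) / ((m + 1 : ℕ) : ℝ)) * ((m + 1 : ℕ) : ℝ) = ((d + m : ℕ) : ℝ) := by
      field_simp
      push_cast
      ring
    calc (d.factorial : ℝ) *
          ((Module.length R (R ⧸ Ideal.span (Set.range g) ^ (m + 1))).toNat : ℝ)
        ≤ (L : ℝ) * ((d + m : ℕ) : ℝ) ^ d := h6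
      _ = (L : ℝ) * (1 + ((d : ℝ) - 1) / ((m + 1 : ℕ) : ℝ)) ^ d * ((m + 1 : ℕ) : ℝ) ^ d := by
          rw [mul_assoc, ← mul_pow, h7]
  have hw : Tendsto (fun n : ℕ => (L : ℝ) * (1 + ((d : ℝ) - 1) / n) ^ d) atTop (nhds (L : ℝ)) := by
    have h1 : Tendsto (fun n : ℕ => ((d : ℝ) - 1) / n) atTop (nhds 0) :=
      tendsto_const_div_atTop_nhds_zero_nat _
    have h2 := ((tendsto_const_nhds (x := (1 : ℝ))).add h1).pow d
    have h3 := h2.const_mul (L : ℝ)
    simpa using h3
  have hle : (e : ℝ) ≤ (L : ℝ) :=
    le_of_tendsto_of_tendsto he hw (eventually_atTop.mpr ⟨1, hbound⟩)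
  exact_mod_cast hle

end Groth.Agent.Helper5.MB
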