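import Mathlib
import Groth.Agent.Lib.Helper5.MultBound

/-! Graded pieces `I^j / I^(j+1)` and monomials in generators. -/

set_option autoImplicit false
set_option linter.style.haveILetI false

namespace Groth.Agent.Helper5.GrReg

variable {A : Type*} [CommRing A] {r : ℕ} (x : Fin r → A)

/-- monomial in the `x i` -/
noncomputable def xx (γ : Fin r →₀ ℕ) : A := γ.prod fun i e => x i ^ e

lemma xx_add (α β : Fin r →₀ ℕ) : xx x (α + β) = xx x α * xx x β :=
  Finsupp.prod_add_index' (by simp) (by intros; rw [pow_add])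

lemma xx_zero : xx x 0 = 1 := Finsupp.prod_zero_index

/-- exponents of total degree `j` -/
noncomputable def D (r j : ℕ) : Finset (Fin r →₀ ℕ) :=
  (Finset.univ : Finset (Fin r)).finsuppAntidiag j

lemma mem_D {γ : Fin r →₀ ℕ} {j : ℕ} : γ ∈ D r j ↔ ∑ i, γ i = j := by
  simp [D]

lemma card_D (r j : ℕ) : (D r j).card = Nat.multichoose r j := by
  simp [D, Finset.card_finsuppAntidiag_nat_eq_multichoose]

lemma add_mem_D {α β : Fin r →₀ ℕ} {a b : ℕ} (hα : α ∈ D r a) (hβ : β ∈ D r b) :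
    α + β ∈ D r (a + b) := by
  rw [mem_D] at *
  simp only [Finsupp.coe_add, Pi.add_apply, Finset.sum_add_distrib, hα, hβ]

lemma xx_mem_pow {γ : Fin r →₀ ℕ} {j : ℕ} (hγ : γ ∈ D r j) :
    xx x γ ∈ Ideal.span (Set.range x) ^ j := by
  rw [mem_D] at hγ
  rw [xx, Finsupp.prod_fintype _ _ (by simp), ← hγ, ← Finset.prod_pow_eq_pow_sum]
  apply Ideal.prod_mem_prod
  intro i _
  exact Ideal.pow_mem_pow (Ideal.subset_span (Set.mem_range_self i)) _

lemma pow_eq_span (j : ℕ) :
    Ideal.span (Set.range x) ^ j = Ideal.span (xx x '' (D r j : Set (Fin r →₀ ℕ))) := by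
  apply le_antisymm
  · intro y hy
    obtain ⟨p, hp, rfl⟩ := (Ideal.mem_span_pow_iff_exists_isHomogeneous x y).mp hy
    rw [MvPolynomial.eval_eq]
    apply Ideal.sum_mem
    intro d hd
    apply Ideal.mul_mem_left
    have hdD : d ∈ D r j := by
      rw [mem_D]
      have := hp (MvPolynomial.mem_support_iff.mp hd)
      rw [← this, Finsupp.weight_apply, Finsupp.sum_fintype _ _ (by simp)]
      simp
    have : xx x d = ∏ i ∈ d.support, x i ^ d i := rfl
    rw [← this]
    exact Ideal.subset_span ⟨d, hdD, rfl⟩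
  · rw [Ideal.span_le]
    rintro _ ⟨γ, hγ, rfl⟩
    exact xx_mem_pow x hγ

variable (I : Ideal A)

/-- the projection `A/I^(j+1) → A/I^j` -/
noncomputable def proj (j : ℕ) : (A ⧸ I ^ (j + 1)) →ₗ[A] (A ⧸ I ^ j) :=
  Submodule.factor (Ideal.pow_le_pow_right (Nat.le_succ j))

/-- the graded piece `I^j/I^(j+1)` -/
noncomputable abbrev G (j : ℕ) : Submodule A (A ⧸ I ^ (j + 1)) := LinearMap.ker (proj I j)

lemma length_succ (j : ℕ) :
    Module.length A (A ⧸ I ^ (j + 1)) = Module.length A (G I j) + Module.length A (A ⧸ I ^ j) :=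
  Module.length_eq_add_of_exact (G I j).subtype (proj I j)
    (Submodule.injective_subtype _)
    (Submodule.factor_surjective (Ideal.pow_le_pow_right (Nat.le_succ j)))
    (LinearMap.exact_subtype_ker_map _)

lemma mk_mem_G_iff (j : ℕ) (a : A) :
    (Submodule.Quotient.mk a : A ⧸ I ^ (j + 1)) ∈ G I j ↔ a ∈ I ^ j := by
  rw [LinearMap.mem_ker]
  change (Submodule.Quotient.mk a : A ⧸ I ^ j) = 0 ↔ _
  rw [Submodule.Quotient.mk_eq_zero]

lemma exists_rep (j : ℕ) (g : G I j) :
    ∃ a ∈ I ^ j, (g : A ⧸ I ^ (j + 1)) = Submodule.Quotient.mk a := by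
  obtain ⟨a, ha⟩ := Submodule.mkQ_surjective _ (g : A ⧸ I ^ (j + 1))
  refine ⟨a, ?_, ha.symm⟩
  rw [← mk_mem_G_iff, ← Submodule.mkQ_apply, ha]
  exact g.2

lemma G_kill (j : ℕ) : ∀ c ∈ I, ∀ g : G I j, c • g = 0 := by
  intro c hc g
  obtain ⟨a, ha, hg⟩ := exists_rep I j g
  apply Subtype.ext
  rw [Submodule.coe_smul, hg, ← Submodule.Quotient.mk_smul, ZeroMemClass.coe_zero,
    Submodule.Quotient.mk_eq_zero, smul_eq_mul, pow_succ']
  exact Ideal.mul_mem_mul hc ha

/-- bounding the length of `I^j/I^(j+1)` by the size of a spanning family -/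
lemma length_G_le (j : ℕ) {ι : Type*} (E : Finset ι) (v : ι → A) (hv : ∀ e ∈ E, v e ∈ I ^ j)
    (hspan : ∀ a ∈ I ^ j, (Submodule.Quotient.mk a : A ⧸ I ^ (j + 1)) ∈
      Submodule.span A ((fun e => (Submodule.Quotient.mk (v e) : A ⧸ I ^ (j + 1))) '' (E : Set ι))) :
    Module.length A (G I j) ≤ E.card * Module.length A (A ⧸ I) := by
  classical
  let v' : E → G I j := fun e => ⟨Submodule.Quotient.mk (v e), (mk_mem_G_iff I j _).mpr (hv e e.2)⟩
  have hv' : Submodule.span A (Set.range v') = ⊤ := by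
    rw [eq_top_iff]
    rintro g -
    obtain ⟨a, ha, hg⟩ := exists_rep I j g
    have h1 := hspan a ha
    have h2 : (Submodule.span A (Set.range v')).map (G I j).subtype =
        Submodule.span A ((fun e => (Submodule.Quotient.mk (v e) : A ⧸ I ^ (j + 1))) ''
          (E : Set ι)) := by
      rw [Submodule.map_span]
      congr 1
      ext y
      constructor
      · rintro ⟨_, ⟨e, rfl⟩, rfl⟩
        exact ⟨e.1, e.2, rfl⟩
      · rintro ⟨e, he, rfl⟩
        exact ⟨v' ⟨e, he⟩, ⟨⟨e, he⟩, rfl⟩, rfl⟩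
    rw [← h2, ← hg] at h1
    obtain ⟨g', hg', hgg'⟩ := h1
    have : g' = g := Subtype.ext hgg'
    rwa [this] at hg'
  have := MB.length_le_card_mul I (G_kill I j) v' hv'
  simpa using this

end Groth.Agent.Helper5.GrReg
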