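import Mathlib.Analysis.Polynomial.Basic
import Mathlib.Algebra.Polynomial.Degree.Lemmas
import Mathlib.Algebra.Polynomial.Roots

/-!
# Polynomial lemmas for Hilbert–Samuel functions
-/

open Polynomial Filter

namespace Groth.Agent.Helper5.HS

/-- shift of a polynomial: `p(X + c)` -/
noncomputable def sh (c : ℕ) (p : ℚ[X]) : ℚ[X] := p.comp (X + C (c : ℚ))

theorem eval_sh (c : ℕ) (p : ℚ[X]) (n : ℕ) :
    (sh c p).eval (n : ℚ) = p.eval ((n + c : ℕ) : ℚ) := by
  simp [sh, eval_comp]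

theorem natDegree_sh (c : ℕ) (p : ℚ[X]) : (sh c p).natDegree = p.natDegree := by
  rw [sh, natDegree_comp, natDegree_X_add_C, mul_one]

theorem leadingCoeff_sh (c : ℕ) (p : ℚ[X]) : (sh c p).leadingCoeff = p.leadingCoeff := by
  rw [sh, leadingCoeff_comp (by rw [natDegree_X_add_C]; exact one_ne_zero), leadingCoeff_X_add_C,
    one_pow, mul_one]

theorem sh_eq_zero_iff (c : ℕ) (p : ℚ[X]) : sh c p = 0 ↔ p = 0 := by
  rw [← leadingCoeff_eq_zero, leadingCoeff_sh, leadingCoeff_eq_zero]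

theorem degree_sh (c : ℕ) (p : ℚ[X]) : (sh c p).degree = p.degree := by
  by_cases hp : p = 0
  · rw [hp]; simp [sh]
  · rw [degree_eq_natDegree hp, degree_eq_natDegree ((sh_eq_zero_iff c p).not.mpr hp),
      natDegree_sh]

theorem sh_sub (c : ℕ) (p q : ℚ[X]) : sh c (p - q) = sh c p - sh c q := by
  simp [sh]

theorem sh_add (c : ℕ) (p q : ℚ[X]) : sh c (p + q) = sh c p + sh c q := by
  simp [sh]

theorem sh_C (c : ℕ) (a : ℚ) : sh c (C a) = C a := by
  simp [sh]

theorem sh_C_mul (c : ℕ) (a : ℚ) (p : ℚ[X]) : sh c (C a * p) = C a * sh c p := by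
  simp [sh]

/-- the forward difference of `X^(k+1)` -/
theorem coeff_sh_one_X_pow (k m : ℕ) :
    (sh 1 (X ^ (k + 1)) - X ^ (k + 1) : ℚ[X]).coeff m =
      if m = k + 1 then 0 else ((k + 1).choose m : ℚ) := by
  have : sh 1 (X ^ (k + 1) : ℚ[X]) = (X + 1) ^ (k + 1) := by simp [sh]
  rw [this, coeff_sub, coeff_X_add_one_pow, coeff_X_pow]
  split_ifs with h
  · subst h; simp
  · simp

theorem exists_antidiff : ∀ (k : ℕ) (g : ℚ[X]), g.degree < k →
    ∃ G : ℚ[X], G.degree < (k + 1 : ℕ) ∧ sh 1 G - G = g := by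
  intro k
  induction k with
  | zero =>
    intro g hg
    refine ⟨0, by simp, ?_⟩
    have : g = 0 := by
      rw [← degree_eq_bot]
      have : g.degree < (0 : ℕ) := hg
      rcases h : g.degree with _ | d
      · rfl
      · rw [h] at this
        exact absurd (WithBot.coe_lt_coe.mp this) (Nat.not_lt_zero d)
    rw [this]; simp [sh]
  | succ k ih =>
    intro g hg
    set a := g.coeff k with ha
    set G₀ : ℚ[X] := C (a / (k + 1)) * X ^ (k + 1) with hG₀
    have hΔ : sh 1 G₀ - G₀ = C (a / (k + 1)) * (sh 1 (X ^ (k + 1)) - X ^ (k + 1)) := by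
      rw [hG₀, sh_C_mul, mul_sub]
    have hdeg : (g - (sh 1 G₀ - G₀)).degree < k := by
      rw [degree_lt_iff_coeff_zero]
      intro m hm
      rw [coeff_sub, hΔ, coeff_C_mul, coeff_sh_one_X_pow]
      rcases Nat.lt_or_ge k m with hkm | hkm
      · have h1 : g.coeff m = 0 := by
          apply coeff_eq_zero_of_degree_lt
          refine lt_of_lt_of_le hg ?_
          exact_mod_cast hkm
        rw [h1]
        split_ifs with h
        · simp
        · have : (k + 1).choose m = 0 := Nat.choose_eq_zero_of_lt (by omega)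
          simp [this]
      · have hmk : m = k := le_antisymm hkm hm
        subst hmk
        rw [if_neg (by omega), Nat.choose_succ_self_right]
        have : ((m : ℚ) + 1) ≠ 0 := by positivity
        push_cast
        field_simp
        rw [ha]; ring
    obtain ⟨G₁, hG₁, hG₁'⟩ := ih _ hdeg
    refine ⟨G₀ + G₁, ?_, ?_⟩
    · refine lt_of_le_of_lt (degree_add_le _ _) (max_lt ?_ ?_)
      · refine lt_of_le_of_lt (degree_C_mul_X_pow_le _ _) ?_
        exact_mod_cast Nat.lt_succ_self _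
      · refine lt_trans hG₁ ?_
        exact_mod_cast Nat.lt_succ_self _
    · rw [sh_add, add_sub_add_comm, hG₁']
      ring

/-- a rational polynomial which is eventually nonnegative on naturals has nonnegative leading
coefficient -/
theorem leadingCoeff_nonneg_of_eventually_nonneg (P : ℚ[X]) (N : ℕ)
    (h : ∀ n : ℕ, N ≤ n → 0 ≤ P.eval (n : ℚ)) : 0 ≤ P.leadingCoeff := by
  by_contra hlc
  push Not at hlc
  by_cases hd : P.natDegree = 0
  · obtain ⟨a, rfl⟩ : ∃ a, P = C a := ⟨_, eq_C_of_natDegree_eq_zero hd⟩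
    have := h N le_rfl
    simp at this hlc
    linarith
  · have hdeg : 0 < P.degree := by
      rw [← natDegree_pos_iff_degree_pos]; omega
    have h1 := (P.tendsto_atBot_of_leadingCoeff_nonpos hdeg hlc.le).comp
      (tendsto_natCast_atTop_atTop (R := ℚ))
    have h2 := h1.eventually (eventually_lt_atBot (0 : ℚ))
    have h3 : ∀ᶠ n : ℕ in atTop, 0 ≤ P.eval (n : ℚ) :=
      eventually_atTop.mpr ⟨N, h⟩
    obtain ⟨n, hn1, hn2⟩ := (h2.and h3).exists
    simp only [Function.comp] at hn1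
    linarith

theorem natDegree_le_of_eventually_le (P Q : ℚ[X]) (N : ℕ)
    (h0 : ∀ n : ℕ, N ≤ n → 0 ≤ P.eval (n : ℚ))
    (h : ∀ n : ℕ, N ≤ n → P.eval (n : ℚ) ≤ Q.eval (n : ℚ)) : P.natDegree ≤ Q.natDegree := by
  by_contra hlt
  push Not at hlt
  have hdeg : Q.degree < P.degree := degree_lt_degree hlt
  have h1 : 0 ≤ (Q - P).leadingCoeff :=
    leadingCoeff_nonneg_of_eventually_nonneg (Q - P) N (fun n hn => by
      rw [eval_sub]; linarith [h n hn])
  rw [leadingCoeff_sub_of_degree_lt' hdeg] at h1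
  have h2 := leadingCoeff_nonneg_of_eventually_nonneg P N h0
  have h3 : P.leadingCoeff = 0 := by linarith
  rw [leadingCoeff_eq_zero] at h3
  rw [h3] at hlt
  simp at hlt

/-- eventually polynomial functions -/
def IsEP (f : ℕ → ℕ) (P : ℚ[X]) : Prop := ∃ N : ℕ, ∀ n : ℕ, N ≤ n → (f n : ℚ) = P.eval (n : ℚ)

theorem IsEP.unique {f : ℕ → ℕ} {P Q : ℚ[X]} (hP : IsEP f P) (hQ : IsEP f Q) : P = Q := by
  obtain ⟨N, hN⟩ := hP
  obtain ⟨N', hN'⟩ := hQ
  apply eq_of_infinite_eval_eq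
  apply Set.Infinite.mono (s := Set.range (fun n : ℕ => ((n + max N N' : ℕ) : ℚ)))
  · rintro _ ⟨n, rfl⟩
    simp only [Set.mem_ofPred_eq]
    rw [← hN _ (by omega), ← hN' _ (by omega)]
  · apply Set.infinite_range_of_injective
    intro a b hab
    simpa using hab

theorem IsEP.natDegree_le {f g : ℕ → ℕ} {P Q : ℚ[X]} (hP : IsEP f P) (hQ : IsEP g Q)
    (c N : ℕ) (h : ∀ n, N ≤ n → f n ≤ g (n + c)) : P.natDegree ≤ Q.natDegree := by
  obtain ⟨N₁, hN₁⟩ := hP
  obtain ⟨N₂, hN₂⟩ := hQ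
  rw [← natDegree_sh c Q]
  apply natDegree_le_of_eventually_le P (sh c Q) (max N (max N₁ N₂))
  · intro n hn
    rw [← hN₁ n (by omega)]
    positivity
  · intro n hn
    rw [← hN₁ n (by omega), eval_sh, ← hN₂ _ (by omega)]
    exact_mod_cast h n (by omega)

theorem IsEP.natDegree_succ_le {f g : ℕ → ℕ} {P Q : ℚ[X]} (hP : IsEP f P) (hQ : IsEP g Q)
    (c N : ℕ) (h : ∀ n, N ≤ n → f (n + c) + g n ≤ g (n + c)) :
    (Q.natDegree = 0 → ∃ N', ∀ n, N' ≤ n → f n = 0) ∧
    (Q.natDegree ≠ 0 → P.natDegree + 1 ≤ Q.natDegree) := by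
  obtain ⟨N₁, hN₁⟩ := hP
  obtain ⟨N₂, hN₂⟩ := hQ
  have key : ∀ n : ℕ, max N (max N₁ N₂) ≤ n →
      (sh c P).eval (n : ℚ) ≤ (sh c Q - Q).eval (n : ℚ) := by
    intro n hn
    rw [eval_sub, eval_sh, eval_sh, ← hN₁ _ (by omega), ← hN₂ _ (by omega), ← hN₂ _ (by omega)]
    have := h n (by omega)
    have h' : ((f (n + c) + g n : ℕ) : ℚ) ≤ (g (n + c) : ℚ) := by exact_mod_cast this
    push_cast at h'
    linarith
  have key0 : ∀ n : ℕ, max N (max N₁ N₂) ≤ n → 0 ≤ (sh c P).eval (n : ℚ) := by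
    intro n hn
    rw [eval_sh, ← hN₁ _ (by omega)]
    positivity
  constructor
  · intro hd
    obtain ⟨a, rfl⟩ : ∃ a, Q = C a := ⟨_, eq_C_of_natDegree_eq_zero hd⟩
    refine ⟨max N (max N₁ N₂) + c, fun n hn => ?_⟩
    have h1 := key (n - c) (by omega)
    rw [sh_C, sub_self, eval_zero, eval_sh, ← hN₁ _ (by omega)] at h1
    have h2 : n - c + c = n := by omega
    rw [h2] at h1
    have h3 : (f n : ℚ) = 0 := le_antisymm h1 (by positivity)
    exact_mod_cast h3
  · intro hd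
    have hQ0 : Q ≠ 0 := by
      rintro rfl
      simp at hd
    have h1 : (sh c Q - Q).degree < (sh c Q).degree :=
      degree_sub_lt_left (degree_sh c Q) ((sh_eq_zero_iff c Q).not.mpr hQ0) (leadingCoeff_sh c Q)
    rw [degree_sh] at h1
    have h2 : (sh c Q - Q).natDegree < Q.natDegree := by
      by_cases hD : sh c Q - Q = 0
      · rw [hD]; simp; omega
      · exact natDegree_lt_natDegree hD h1
    have h3 := natDegree_le_of_eventually_le (sh c P) (sh c Q - Q) _ key0 key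
    rw [natDegree_sh] at h3
    omega

/-- discrete integration -/
theorem exists_poly_of_diff (f : ℕ → ℚ) (g : ℚ[X]) (k N : ℕ) (hg : g.degree < k)
    (h : ∀ n, N ≤ n → f (n + 1) - f n = g.eval (n : ℚ)) :
    ∃ G : ℚ[X], G.degree < (k + 1 : ℕ) ∧ ∀ n, N ≤ n → f n = G.eval (n : ℚ) := by
  obtain ⟨G₀, hG₀, hG₀'⟩ := exists_antidiff k g hg
  have h1 : ∀ n, N ≤ n → f n - G₀.eval (n : ℚ) = f N - G₀.eval (N : ℚ) := by
    intro n hn
    induction n, hn using Nat.le_induction with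
    | base => rfl
    | succ n hn ih =>
      rw [← ih]
      have h2 := h n hn
      have h3 : g.eval (n : ℚ) = G₀.eval ((n + 1 : ℕ) : ℚ) - G₀.eval (n : ℚ) := by
        rw [← hG₀', eval_sub, eval_sh]
      rw [h3] at h2
      linarith
  refine ⟨G₀ + C (f N - G₀.eval (N : ℚ)), ?_, fun n hn => ?_⟩
  · refine lt_of_le_of_lt (degree_add_le _ _) (max_lt hG₀ ?_)
    refine lt_of_le_of_lt degree_C_le ?_
    exact_mod_cast Nat.succ_pos k
  · rw [eval_add, eval_C, ← h1 n hn]; ring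

end Groth.Agent.Helper5.HS
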