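import Groth.Agent.Lib.Helper5.PC2
import Groth.Agent.Lib.Helper5.LRes2

/-!
# The derived pullback and cohomological connectivity of morphisms
-/

set_option autoImplicit false
set_option linter.unusedSectionVars false
set_option linter.unusedVariables false
set_option linter.style.haveILetI false

universe u

open CategoryTheory CategoryTheory.Limits AlgebraicGeometry HomologicalComplex ZeroObject
  Pretriangulated

attribute [local instance] HasDerivedCategory.standard

namespace Groth.Agent.Helper5.PC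

open DerivedCategory Groth.Agent.Helper5.LDer

section Nat

variable {Y X' : Scheme.{u}} {Φ : Y.Modules ⥤ X'.Modules} [Φ.Additive]

lemma derivedObjIso_hom_naturality (h : TermwiseInverts Φ)
    (LF' : DerivedCategory Y.Modules ⥤ DerivedCategory X'.Modules)
    (α' : DerivedCategory.Qh ⋙ LF' ⟶
      Φ.mapHomotopyCategory (ComplexShape.up ℤ) ⋙ DerivedCategory.Qh)
    [LF'.IsLeftDerivedFunctor α' (HomotopyCategory.quasiIso Y.Modules (ComplexShape.up ℤ))]
    {K L : CochainComplex Y.Modules ℤ} (φ : K ⟶ L) (hK : DCoh.IsKFlat K) (hL : DCoh.IsKFlat L) :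
    LF'.map (DerivedCategory.Q.map φ) ≫ (derivedObjIso h LF' α' L hL).hom =
      (derivedObjIso h LF' α' K hK).hom ≫
        DerivedCategory.Q.map ((Φ.mapHomologicalComplex (ComplexShape.up ℤ)).map φ) := by
  have s1 : DerivedCategory.Q.map φ ≫ (DerivedCategory.quotientCompQhIso Y.Modules).inv.app L =
      (DerivedCategory.quotientCompQhIso Y.Modules).inv.app K ≫
        DerivedCategory.Qh.map ((HomotopyCategory.quotient Y.Modules (ComplexShape.up ℤ)).map φ) :=
    (DerivedCategory.quotientCompQhIso Y.Modules).inv.naturality φ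
  have s2 := α'.naturality ((HomotopyCategory.quotient Y.Modules (ComplexShape.up ℤ)).map φ)
  have s4 := (DerivedCategory.quotientCompQhIso X'.Modules).hom.naturality
    ((Φ.mapHomologicalComplex (ComplexShape.up ℤ)).map φ)
  have key : ∀ (M : CochainComplex Y.Modules ℤ) (hM : DCoh.IsKFlat M),
      (derivedObjIso h LF' α' M hM).hom =
        LF'.map ((DerivedCategory.quotientCompQhIso Y.Modules).inv.app M) ≫
          (α'.app ((HomotopyCategory.quotient Y.Modules (ComplexShape.up ℤ)).obj M) ≫
            ((DerivedCategory.quotientCompQhIso X'.Modules).hom.app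
              ((Φ.mapHomologicalComplex (ComplexShape.up ℤ)).obj M) :
              DerivedCategory.Qh.obj ((Φ.mapHomotopyCategory (ComplexShape.up ℤ)).obj
                ((HomotopyCategory.quotient Y.Modules (ComplexShape.up ℤ)).obj M)) ⟶ _) :
            LF'.obj (DerivedCategory.Qh.obj
              ((HomotopyCategory.quotient Y.Modules (ComplexShape.up ℤ)).obj M)) ⟶ _) :=
    fun M hM => rfl
  rw [key K hK, key L hL, ← LF'.map_comp_assoc, s1, LF'.map_comp_assoc]
  erw [reassoc_of% s2]
  rw [Category.assoc]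
  refine congrArg (fun t => _ ≫ t) ?_
  refine Eq.trans ?_ (Category.assoc _ _ _).symm
  refine congrArg (fun t => _ ≫ t) ?_
  exact s4

end Nat

section Transfer

open CochainComplex Groth.Agent.Helper5.KRes

variable {X Y : Scheme.{u}}

lemma LpullObjIso_hom_naturality (f : X ⟶ Y) [DCoh.HasLpull f]
    {K L : CochainComplex Y.Modules ℤ} (φ : K ⟶ L) (hK : DCoh.IsKFlat K) (hL : DCoh.IsKFlat L) :
    (DCoh.Lpull f).map (DerivedCategory.Q.map φ) ≫ (LpullObjIso f L hL).hom =
      (LpullObjIso f K hK).hom ≫ DerivedCategory.Q.map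
        (((Scheme.Modules.pullback f).mapHomologicalComplex (ComplexShape.up ℤ)).map φ) :=
  derivedObjIso_hom_naturality (termwiseInverts_pullback f) (DCoh.Lpull f) (LpullCounit f) φ hK hL

/-- a K-flat model of a distinguished triangle, as a triangle -/
theorem exists_kflat_triangle_model (T : Triangle (DCoh.D Y)) (hT : T ∈ distTriang (DCoh.D Y)) :
    ∃ (A B : CochainComplex Y.Modules ℤ) (φ : A ⟶ B), DCoh.IsKFlat A ∧ DCoh.IsKFlat B ∧
      Nonempty (T ≅ DerivedCategory.Q.mapTriangle.obj (mappingCone.triangle φ)) := by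
  obtain ⟨A₀, B₀, φ₀, ⟨e⟩⟩ := (DerivedCategory.mem_distTriang_iff T).mp hT
  have comm : (KP Y).map φ₀ ≫ (Kψ Y).app B₀ = (Kψ Y).app A₀ ≫ φ₀ := (Kψ Y).naturality φ₀
  let m := mappingCone.triangleMap ((KP Y).map φ₀) φ₀ ((Kψ Y).app A₀) ((Kψ Y).app B₀) comm
  let M := DerivedCategory.Q.mapTriangle.map m
  haveI := Kψ_quasiIso A₀
  haveI := Kψ_quasiIso B₀
  have h1 : IsIso M.hom₁ := inferInstanceAs (IsIso (DerivedCategory.Q.map ((Kψ Y).app A₀)))
  have h2 : IsIso M.hom₂ := inferInstanceAs (IsIso (DerivedCategory.Q.map ((Kψ Y).app B₀)))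
  have h3 : IsIso M.hom₃ := isIso₃_of_isIso₁₂ M
    (DerivedCategory.mappingCone_triangle_distinguished _)
    (DerivedCategory.mappingCone_triangle_distinguished _) h1 h2
  haveI : IsIso M := Triangle.isIso_of_isIsos M h1 h2 h3
  exact ⟨(KP Y).obj A₀, (KP Y).obj B₀, (KP Y).map φ₀, KP_isKFlat _, KP_isKFlat _,
    ⟨e ≪≫ (asIso M).symm⟩⟩

/-- the derived pullback preserves the morphisms which are isomorphisms on `H^i` for `i > m`
and epimorphisms on `H^m` -/
theorem isConn_Lpull_map (f : X ⟶ Y) [DCoh.HasLpull f] {A B : DCoh.D Y} (α : A ⟶ B) (m : ℤ)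
    (h : IsConn m α) : IsConn m ((DCoh.Lpull f).map α) := by
  obtain ⟨C, β, γ, hT⟩ := distinguished_cocone_triangle α
  obtain ⟨K, L, φ, hK, hL, ⟨e⟩⟩ := exists_kflat_triangle_model (Triangle.mk α β γ) hT
  have hz := (isConn_mor₁_iff (Triangle.mk α β γ) hT m).mp h
  have hC := isKFlat_mappingCone φ hK hL
  set Φ := (Scheme.Modules.pullback f).mapHomologicalComplex (ComplexShape.up ℤ) with hΦ
  have hz' : ∀ i : ℤ, m ≤ i → IsZero ((mappingCone φ).homology i) := by
    intro i hi
    refine IsZero.of_iso (hz i hi) ?_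
    exact ((DerivedCategory.homologyFunctorFactors Y.Modules i).app (mappingCone φ)).symm ≪≫
      (DerivedCategory.homologyFunctor Y.Modules i).mapIso (Triangle.π₃.mapIso e).symm
  have hz'' : ∀ i : ℤ, m ≤ i → IsZero ((mappingCone (Φ.map φ)).homology i) := by
    intro i hi
    refine IsZero.of_iso (isZero_homology_pullback_of_kflat f _ hC m hz' i hi) ?_
    exact (HomologicalComplex.homologyFunctor X.Modules (ComplexShape.up ℤ) i).mapIso
      (mappingCone.mapHomologicalComplexIso φ (Scheme.Modules.pullback f)).symm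
  have hT' := DerivedCategory.mappingCone_triangle_distinguished (Φ.map φ)
  have hconn : IsConn m (DerivedCategory.Q.map (Φ.map φ)) := by
    refine (isConn_mor₁_iff _ hT' m).mpr ?_
    intro i hi
    exact IsZero.of_iso (hz'' i hi)
      ((DerivedCategory.homologyFunctorFactors X.Modules i).app (mappingCone (Φ.map φ)))
  let e₁ : A ≅ DerivedCategory.Q.obj K := Triangle.π₁.mapIso e
  let e₂ : B ≅ DerivedCategory.Q.obj L := Triangle.π₂.mapIso e
  have comm : α ≫ e₂.hom = e₁.hom ≫ DerivedCategory.Q.map φ := e.hom.comm₁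
  refine hconn.of_arrow_iso (Arrow.isoMk
    ((DCoh.Lpull f).mapIso e₁ ≪≫ LpullObjIso f K hK)
    ((DCoh.Lpull f).mapIso e₂ ≪≫ LpullObjIso f L hL) ?_).symm
  change ((DCoh.Lpull f).map e₁.hom ≫ (LpullObjIso f K hK).hom) ≫
      DerivedCategory.Q.map (Φ.map φ) =
    (DCoh.Lpull f).map α ≫ (DCoh.Lpull f).map e₂.hom ≫ (LpullObjIso f L hL).hom
  rw [Category.assoc, ← LpullObjIso_hom_naturality f φ hK hL, ← Functor.map_comp_assoc,
    ← Functor.map_comp_assoc, comm]

end Transfer

end Groth.Agent.Helper5.PC
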