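import Groth.Agent.Lib.Helper5.BP2
import Groth.Agent.Lib.Helper5.PC3

/-!
# Perfect objects: two out of three in a distinguished triangle
-/

set_option autoImplicit false
set_option linter.unusedSectionVars false
set_option linter.unusedVariables false
set_option linter.style.haveILetI false

universe u

open CategoryTheory CategoryTheory.Limits AlgebraicGeometry HomologicalComplex Opposite
  CategoryTheory.Pretriangulated

attribute [local instance] HasDerivedCategory.standard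

namespace Groth.Agent.Helper5.BP

open Groth.Agent.Helper13.LocFree Groth.Agent.Helper5.LDer Groth.Agent.Helper5.RT CochainComplex

variable {X : Scheme.{u}}

lemma isPerfect_of_iso {K K' : DCoh.D X} (e : K ≅ K') (h : DCoh.IsPerfect K) :
    DCoh.IsPerfect K' := by
  intro x
  obtain ⟨V, hxV, hV⟩ := h x
  exact ⟨V, hxV, fun F ⟨eF⟩ => hV F ⟨eF ≪≫ e.symm⟩⟩

/-- the mapping cone of a morphism between complexes representing perfect objects is perfect -/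
theorem isPerfect_Q_mappingCone {K₁ L₁ : CochainComplex X.Modules ℤ} (φ : K₁ ⟶ L₁)
    (hK : DCoh.IsPerfect (DerivedCategory.Q.obj K₁))
    (hL : DCoh.IsPerfect (DerivedCategory.Q.obj L₁)) :
    DCoh.IsPerfect (DerivedCategory.Q.obj (mappingCone φ)) := by
  intro x
  obtain ⟨V₁, hx₁, hV₁⟩ := hK x
  obtain ⟨V₂, hx₂, hV₂⟩ := hL x
  obtain ⟨P₁, hP₁, ⟨e₁⟩⟩ := hV₁ K₁ ⟨Iso.refl _⟩
  obtain ⟨P₂, hP₂, ⟨e₂⟩⟩ := hV₂ L₁ ⟨Iso.refl _⟩
  have e₁' := modelRestrict (inf_le_left : V₁ ⊓ V₂ ≤ V₁) e₁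
  have e₂' := modelRestrict (inf_le_right : V₁ ⊓ V₂ ≤ V₂) e₂
  obtain ⟨W, hxW, P₃, hP₃, ⟨e₃⟩⟩ := exists_cone_model φ (V₁ ⊓ V₂) x ⟨hx₁, hx₂⟩ _ _
    (isStrictlyPerfect_restrict _ P₁ hP₁) (isStrictlyPerfect_restrict _ P₂ hP₂) e₁' e₂'
  refine ⟨(W.ι ≫ (V₁ ⊓ V₂).ι).opensRange, ⟨⟨⟨x, ⟨hx₁, hx₂⟩⟩, hxW⟩, rfl⟩, ?_⟩
  rintro F ⟨eF⟩
  have e2 := restrictQIso (W.ι ≫ (V₁ ⊓ V₂).ι) eF ≪≫ e₃
  exact ⟨(rCx (W.ι ≫ (V₁ ⊓ V₂).ι).isoOpensRange.inv).obj P₃, isStrictlyPerfect_restrict _ P₃ hP₃,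
    ⟨transferIso (W.ι ≫ (V₁ ⊓ V₂).ι) e2⟩⟩

/-- the shift of a strictly perfect complex is strictly perfect -/
lemma isStrictlyPerfect_shift (P : CochainComplex X.Modules ℤ) (n : ℤ)
    (h : DCoh.IsStrictlyPerfect P) : DCoh.IsStrictlyPerfect (P⟦n⟧) := by
  obtain ⟨⟨a, b, hv⟩, hf⟩ := h
  refine ⟨⟨a - n, b - n, fun i hi => ?_⟩, fun i => hf (i + n)⟩
  exact hv (i + n) (by omega)

/-- perfect objects are stable under shifts -/
theorem isPerfect_shift (K : DCoh.D X) (n : ℤ) (h : DCoh.IsPerfect K) :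
    DCoh.IsPerfect (K⟦n⟧) := by
  intro x
  obtain ⟨V, hxV, hV⟩ := h x
  refine ⟨V, hxV, ?_⟩
  rintro F ⟨eF⟩
  have e0 : DerivedCategory.Q.obj (F⟦-n⟧) ≅ K :=
    (DerivedCategory.Q.commShiftIso (-n)).app F ≪≫
      (CategoryTheory.shiftFunctor _ (-n)).mapIso eF ≪≫ (shiftShiftNeg K n)
  obtain ⟨P, hP, ⟨e⟩⟩ := hV (F⟦-n⟧) ⟨e0⟩
  refine ⟨P⟦n⟧, isStrictlyPerfect_shift P n hP, ⟨?_⟩⟩
  have c1 : (DCoh.restrictCx V).obj F ≅ ((DCoh.restrictCx V).obj (F⟦-n⟧))⟦n⟧ :=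
    (DCoh.restrictCx V).mapIso (shiftNegShift F n).symm ≪≫
      ((Scheme.Modules.restrictFunctor V.ι).mapCochainComplexShiftIso n).app (F⟦-n⟧)
  exact DerivedCategory.Q.mapIso c1 ≪≫ (DerivedCategory.Q.commShiftIso n).app _ ≪≫
    (CategoryTheory.shiftFunctor _ n).mapIso e ≪≫ ((DerivedCategory.Q.commShiftIso n).app P).symm

/-- in a distinguished triangle, if the first two objects are perfect, so is the third -/
theorem isPerfect_obj₃ (T : Triangle (DCoh.D X)) (hT : T ∈ distTriang (DCoh.D X))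
    (h₁ : DCoh.IsPerfect T.obj₁) (h₂ : DCoh.IsPerfect T.obj₂) : DCoh.IsPerfect T.obj₃ := by
  obtain ⟨A, B, φ, ⟨e⟩⟩ := (DerivedCategory.mem_distTriang_iff T).mp hT
  have hA := isPerfect_of_iso (Triangle.π₁.mapIso e) h₁
  have hB := isPerfect_of_iso (Triangle.π₂.mapIso e) h₂
  exact isPerfect_of_iso (Triangle.π₃.mapIso e).symm (isPerfect_Q_mappingCone φ hA hB)

theorem isPerfect_obj₂ (T : Triangle (DCoh.D X)) (hT : T ∈ distTriang (DCoh.D X))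
    (h₁ : DCoh.IsPerfect T.obj₁) (h₃ : DCoh.IsPerfect T.obj₃) : DCoh.IsPerfect T.obj₂ :=
  isPerfect_obj₃ T.invRotate (inv_rot_of_distTriang T hT) (isPerfect_shift _ (-1) h₃) h₁

theorem isPerfect_obj₁ (T : Triangle (DCoh.D X)) (hT : T ∈ distTriang (DCoh.D X))
    (h₂ : DCoh.IsPerfect T.obj₂) (h₃ : DCoh.IsPerfect T.obj₃) : DCoh.IsPerfect T.obj₁ := by
  have h := isPerfect_obj₃ T.rotate (rot_of_distTriang T hT) h₂ h₃
  exact isPerfect_of_iso (shiftShiftNeg T.obj₁ (1 : ℤ)) (isPerfect_shift _ (-1) h)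

end Groth.Agent.Helper5.BP
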