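import Groth.Agent.Lib.Helper5.COHP2

/-!
# Pseudo-coherence is local; truncation triangles
-/

set_option autoImplicit false
set_option linter.unusedSectionVars false
set_option linter.unusedVariables false
set_option linter.style.haveILetI false

universe u

open CategoryTheory CategoryTheory.Limits AlgebraicGeometry

attribute [local instance] HasDerivedCategory.standard

namespace Groth.Agent.Helper5.COHP

open Groth.Agent.Helper5.FPC Groth.Agent.Helper5.PCH Groth.Agent.Helper5.LDer
  Groth.Agent.Helper5.RT Groth.Agent.Helper5.LOC Groth.Agent.Helper5.PCT Groth.Agent.Helper5.PC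

variable {X : Scheme.{u}}

/-- pseudo-coherence near a point can be checked on an open subscheme -/
theorem pcAt_of_openImmersion {U : Scheme.{u}} (j : U ⟶ X) [IsOpenImmersion j] (K : DCoh.D X)
    (m : ℤ) (y : U) (h : PCAt m ((DCoh.restrictD j).obj K) y) : PCAt m K (j.base y) := by
  obtain ⟨W, hyW, hW⟩ := h
  set F₀ := DerivedCategory.Q.objPreimage K with hF₀
  have e₀ : DerivedCategory.Q.obj F₀ ≅ K := DerivedCategory.Q.objObjPreimageIso K
  have e₁ : DerivedCategory.Q.obj ((rCx j).obj F₀) ≅ (DCoh.restrictD j).obj K :=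
    ((Scheme.Modules.restrictFunctor j).mapDerivedCategoryFactors.app F₀).symm ≪≫
      (DCoh.restrictD j).mapIso e₀
  obtain ⟨P, α, hP, hα1, hα2⟩ := hW _ ⟨e₁⟩
  have hα : IsConn m α := ⟨hα1, hα2⟩
  set j' := W.ι ≫ j with hj'
  let c : (rCx W.ι).obj ((rCx j).obj F₀) ≅ (rCx j').obj F₀ :=
    ((NatIso.mapHomologicalComplex
      (Scheme.Modules.restrictFunctorComp W.ι j) (ComplexShape.up ℤ)).app F₀).symm
  have hα' : IsConn m (α ≫ DerivedCategory.Q.map c.hom) :=
    IsConn.comp hα (isConn_of_isIso _)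
  refine ⟨j'.opensRange, ⟨⟨y, hyW⟩, rfl⟩, fun F ⟨eF⟩ => ?_⟩
  obtain ⟨α'', hα''⟩ := exists_transfer_conn j' (eF ≪≫ e₀.symm) (α ≫ DerivedCategory.Q.map c.hom)
    m hα'
  exact ⟨_, α'', isStrictlyPerfect_restrict _ _ hP, hα''.1, hα''.2⟩

/-- a strictly perfect complex is pseudo-coherent -/
theorem pcAt_Q_of_isStrictlyPerfect (P : CochainComplex X.Modules ℤ) (hP : DCoh.IsStrictlyPerfect P)
    (m : ℤ) (x : X) : PCAt m (DerivedCategory.Q.obj P) x := by
  refine ⟨⊤, trivial, fun F ⟨eF⟩ => ?_⟩
  have e := restrictQIso (⊤ : X.Opens).ι eF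
  have he : IsConn m e.inv := isConn_iso_inv e m
  exact ⟨_, e.inv, isStrictlyPerfect_restrict _ _ hP, he.1, he.2⟩

end Groth.Agent.Helper5.COHP

namespace Groth.Agent.Helper5.COHP

open DerivedCategory Pretriangulated

variable {C : Type*} [Category C] [Abelian C] [HasDerivedCategory C]

/-- the truncation triangle `τ_{≤ b-1} E → E → H^b(E)[-b]` of an object `E` which is `≤ b` -/
theorem exists_trunc_triangle (E : DerivedCategory C) (b : ℤ) [E.IsLE b] :
    ∃ (A : DerivedCategory C) (Y : C) (f : A ⟶ E) (g : E ⟶ (singleFunctor C b).obj Y)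
      (h : (singleFunctor C b).obj Y ⟶ A⟦(1 : ℤ)⟧),
      Triangle.mk f g h ∈ distTriang (DerivedCategory C) ∧ A.IsLE (b - 1) ∧
      Nonempty (Y ≅ (homologyFunctor C b).obj E) ∧
      ∀ i : ℤ, i < b → IsIso ((homologyFunctor C i).map f) := by
  obtain ⟨A, B, hA, hB, f, g, h, mem⟩ := TStructure.t.exists_triangle E (b - 1) b (by omega)
  haveI : A.IsLE (b - 1) := ⟨hA⟩
  haveI : B.IsGE b := ⟨hB⟩
  set T := Triangle.mk f g h with hT
  haveI : B.IsLE b := by
    rw [isLE_iff]
    intro i hi
    refine (HomologySequence.exact₃ T mem i (i + 1) rfl).isZero_of_both_zeros ?_ ?_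
    · exact (isZero_of_isLE E b i hi).eq_of_src _ _
    · exact (isZero_of_isLE A (b - 1) (i + 1) (by omega)).eq_of_tgt _ _
  obtain ⟨Y, ⟨eB⟩⟩ := exists_iso_singleFunctor_obj_of_isGE_of_isLE B b
  have hiso_g : IsIso ((homologyFunctor C b).map g) := by
    haveI : Mono ((homologyFunctor C b).map g) := by
      have := (HomologySequence.mono_homologyMap_mor₂_iff T mem b).mpr
        ((isZero_of_isLE A (b - 1) b (by omega)).eq_of_src _ _)
      exact this
    haveI : Epi ((homologyFunctor C b).map g) := by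
      have := (HomologySequence.epi_homologyMap_mor₂_iff T mem b (b + 1) rfl).mpr
        ((isZero_of_isLE A (b - 1) (b + 1) (by omega)).eq_of_tgt _ _)
      exact this
    exact isIso_of_mono_of_epi _
  have hiso_f : ∀ i : ℤ, i < b → IsIso ((homologyFunctor C i).map f) := by
    intro i hi
    haveI : Mono ((homologyFunctor C i).map f) := by
      have := (HomologySequence.mono_homologyMap_mor₁_iff T mem (i - 1) i (by omega)).mpr
        ((isZero_of_isGE B b (i - 1) (by omega)).eq_of_src _ _)
      exact this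
    haveI : Epi ((homologyFunctor C i).map f) := by
      have := (HomologySequence.epi_homologyMap_mor₁_iff T mem i).mpr
        ((isZero_of_isGE B b i hi).eq_of_tgt _ _)
      exact this
    exact isIso_of_mono_of_epi _
  refine ⟨A, Y, f, g ≫ eB.hom, eB.inv ≫ h, ?_, inferInstance, ⟨?_⟩, hiso_f⟩
  · refine isomorphic_distinguished _ mem _ ?_
    exact Triangle.isoMk _ _ (Iso.refl _) (Iso.refl _) eB.symm
      (by change f ≫ 𝟙 E = 𝟙 A ≫ f; rw [Category.comp_id, Category.id_comp])
      (by change (g ≫ eB.hom) ≫ eB.inv = 𝟙 E ≫ g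
          rw [Category.assoc, Iso.hom_inv_id, Category.comp_id, Category.id_comp])
      (by change (eB.inv ≫ h) ≫ (𝟙 A)⟦(1 : ℤ)⟧' = eB.inv ≫ h
          rw [CategoryTheory.Functor.map_id, Category.comp_id])
  · exact ((HomologicalComplex.homologyFunctorSingleIso C (ComplexShape.up ℤ) b).app Y).symm ≪≫
      ((homologyFunctorFactors C b).app ((HomologicalComplex.single C _ b).obj Y)).symm ≪≫
      (homologyFunctor C b).mapIso eB.symm ≪≫ (asIso ((homologyFunctor C b).map g)).symm

end Groth.Agent.Helper5.COHP
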