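import Groth.Agent.Lib.Helper5.K0Der1

/-!
# `K₀(P) ≅ K₀(D^b_P(C))`
-/

set_option autoImplicit false
set_option linter.style.haveILetI false
set_option linter.unusedSectionVars false

open CategoryTheory CategoryTheory.Limits CategoryTheory.Pretriangulated ZeroObject

universe w v u

namespace Groth.Agent.Helper5.K0Der

open DerivedCategory

variable {C : Type u} [Category.{v} C] [Abelian C] [HasDerivedCategory.{w} C]
  (P : ObjectProperty C) [P.IsClosedUnderIsomorphisms] [P.ContainsZero] [P.IsClosedUnderKernels]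

theorem Qp_of_iso {K L : DerivedCategory C} (e : K ≅ L) (h : Qp P K) : Qp P L := by
  obtain ⟨h1, a, b, ha, hb⟩ := h
  refine ⟨fun i => P.prop_of_iso ((homologyFunctor C i).mapIso e) (h1 i), a, b, ?_, ?_⟩
  · exact TStructure.t.isGE_of_iso e a
  · exact TStructure.t.isLE_of_iso e b

theorem Qp_of_isZero {K : DerivedCategory C} (hK : IsZero K) : Qp P K := by
  have hz : ∀ i : ℤ, IsZero ((homologyFunctor C i).obj K) := fun i =>
    (homologyFunctor C i).map_isZero hK
  refine ⟨fun i => P.prop_of_isZero (hz i), 0, 0, ?_, ?_⟩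
  · exact (isGE_iff K 0).2 (fun i _ => hz i)
  · exact (isLE_iff K 0).2 (fun i _ => hz i)

theorem Qp_single (X : C) (hX : P X) (n : ℤ) : Qp P ((singleFunctor C n).obj X) := by
  refine ⟨fun i => ?_, n, n, inferInstance, inferInstance⟩
  by_cases h : i = n
  · subst h
    exact P.prop_of_iso ((singleFunctorCompHomologyFunctorIso C i).app X).symm hX
  · rcases lt_or_gt_of_ne h with h | h
    · exact P.prop_of_isZero (isZero_of_isGE _ n i h)
    · exact P.prop_of_isZero (isZero_of_isLE _ n i h)

/-- `[X] ↦ [X[0]]`. -/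
noncomputable def phi : KZero.K0sub P →+ KZero.K0tr (Qp P) :=
  KZ.lift P (fun x => KZero.clTr (Qp P) ((singleFunctor C 0).obj x.1)) (by
    intro S h₁ h₂ h₃ hS
    exact KTr.clTr_triangle (Qp P) _ hS.singleTriangle_distinguished
      (Qp_single P _ h₁ 0) (Qp_single P _ h₂ 0) (Qp_single P _ h₃ 0))

theorem phi_clSub (X : C) (hX : P X) :
    phi P (KZero.clSub P X) = KZero.clTr (Qp P) ((singleFunctor C 0).obj X) :=
  KZ.lift_clSub P _ _ X hX

/-- The Euler characteristic `[K] ↦ Σ (-1)^i [H^i K]`. -/
noncomputable def psi : KZero.K0tr (Qp P) →+ KZero.K0sub P :=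
  KTr.lift (Qp P) (fun x => chi P x.1) (fun T h₁ h₂ h₃ hT => chi_triangle P T hT h₁ h₂ h₃)

theorem chi_single (X : C) (hX : P X) :
    chi P ((singleFunctor C 0).obj X) = KZero.clSub P X := by
  unfold chi
  rw [finsum_eq_single _ 0]
  · simp only [Int.negOnePow_zero, Units.val_one, one_smul]
    exact KZ.clSub_iso P ((singleFunctorCompHomologyFunctorIso C 0).app X)
      ((Qp_single P X hX 0).1 0) hX (isZero_zero C) P.prop_zero
  · intro i hi
    rcases lt_or_gt_of_ne hi with h | h
    · rw [clSub_isZero' P (isZero_of_isGE _ 0 i h), smul_zero]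
    · rw [clSub_isZero' P (isZero_of_isLE _ 0 i h), smul_zero]

theorem psi_phi (x : KZero.K0sub P) : psi P (phi P x) = x := by
  induction x using KZ.induction_on P with
  | zero => simp
  | of X hX =>
    rw [phi_clSub P X hX]
    unfold psi
    rw [KTr.lift_clTr _ _ _ _ (Qp_single P X hX 0)]
    exact chi_single P X hX
  | neg x hx => rw [map_neg, map_neg, hx]
  | add x y hx hy => rw [map_add, map_add, hx, hy]

theorem clTr_single_succ (X : C) (hX : P X) (m m' : ℤ) (hm : m' = m + 1) :
    KZero.clTr (Qp P) ((singleFunctor C m).obj X) =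
      - KZero.clTr (Qp P) ((singleFunctor C m').obj X) := by
  subst hm
  let e : ((singleFunctor C (m + 1)).obj X)⟦(1 : ℤ)⟧ ≅ (singleFunctor C m).obj X :=
    ((singleFunctors C).shiftIso 1 m (m + 1) (add_comm 1 m)).app X
  have hQ : Qp P (((singleFunctor C (m + 1)).obj X)⟦(1 : ℤ)⟧) :=
    Qp_of_iso P e.symm (Qp_single P X hX m)
  have h0 : Qp P (0 : DerivedCategory C) := Qp_of_isZero P (isZero_zero _)
  rw [← KTr.clTr_shift (Qp P) _ (Qp_single P X hX (m + 1)) hQ h0]
  exact (KTr.clTr_iso (Qp P) e hQ (Qp_single P X hX m) h0).symm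

theorem clTr_single_mem (X : C) (hX : P X) (n : ℤ) :
    KZero.clTr (Qp P) ((singleFunctor C n).obj X) ∈ (phi P).range := by
  induction n using Int.induction_on with
  | zero => exact ⟨KZero.clSub P X, phi_clSub P X hX⟩
  | succ i hi =>
    have := clTr_single_succ P X hX i (i + 1) rfl
    have h2 : KZero.clTr (Qp P) ((singleFunctor C ((i : ℤ) + 1)).obj X) =
        - KZero.clTr (Qp P) ((singleFunctor C (i : ℤ)).obj X) := by
      rw [this, neg_neg]
    rw [h2]
    exact neg_mem hi
  | pred i hi =>
    rw [clTr_single_succ P X hX (-(i : ℤ) - 1) (-(i : ℤ)) (by ring)]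
    exact neg_mem hi

theorem clTr_mem_aux (n : ℕ) : ∀ (K : DerivedCategory C) (a b : ℤ),
    (∀ i : ℤ, P ((homologyFunctor C i).obj K)) →
    (TStructure.t (C := C)).IsGE K a → (TStructure.t (C := C)).IsLE K b → b < a + n →
    KZero.clTr (Qp P) K ∈ (phi P).range := by
  have h0 : Qp P (0 : DerivedCategory C) := Qp_of_isZero P (isZero_zero _)
  have hzero : ∀ (K : DerivedCategory C) (a b : ℤ),
      (TStructure.t (C := C)).IsGE K a → (TStructure.t (C := C)).IsLE K b → b < a →
      KZero.clTr (Qp P) K ∈ (phi P).range := by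
    intro K a b _ _ hab
    have hz : IsZero K := (TStructure.t (C := C)).isZero K b a hab
    rw [KTr.clTr_isZero (Qp P) hz (Qp_of_isZero P hz) h0]
    exact zero_mem _
  induction n with
  | zero =>
    intro K a b _ ha hb hab
    exact hzero K a b ha hb (by simpa using hab)
  | succ n ih =>
    intro K a b hK ha hb hab
    by_cases hab' : b < a
    · exact hzero K a b ha hb hab'
    have hab'' : a ≤ b := not_lt.1 hab'
    obtain ⟨A, B, hA, hB, f, g, h, hT⟩ :=
      (TStructure.t (C := C)).exists_triangle K (b - 1) b (by ring)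
    haveI : (TStructure.t (C := C)).IsLE A (b - 1) := ⟨hA⟩
    haveI : (TStructure.t (C := C)).IsGE B b := ⟨hB⟩
    have zA : ∀ i : ℤ, b ≤ i → IsZero ((homologyFunctor C i).obj A) := fun i hi =>
      isZero_of_isLE A (b - 1) i (by lia)
    have zB : ∀ i : ℤ, i < b → IsZero ((homologyFunctor C i).obj B) := fun i hi =>
      isZero_of_isGE B b i hi
    have zKlo : ∀ i : ℤ, i < a → IsZero ((homologyFunctor C i).obj K) := fun i hi =>
      isZero_of_isGE K a i hi
    have zKhi : ∀ i : ℤ, b < i → IsZero ((homologyFunctor C i).obj K) := fun i hi =>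
      isZero_of_isLE K b i hi
    have isoA : ∀ i : ℤ, i < b → IsIso ((homologyFunctor C i).map f) := by
      intro i hi
      haveI : Mono ((homologyFunctor C i).map f) :=
        (HomologySequence.mono_homologyMap_mor₁_iff _ hT (i - 1) i (by ring)).2
          ((zB (i - 1) (by lia)).eq_of_src _ _)
      haveI : Epi ((homologyFunctor C i).map f) :=
        (HomologySequence.epi_homologyMap_mor₁_iff _ hT i).2
          ((zB i hi).eq_of_tgt _ _)
      exact isIso_of_mono_of_epi _
    have isoB : ∀ i : ℤ, b ≤ i → IsIso ((homologyFunctor C i).map g) := by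
      intro i hi
      haveI : Mono ((homologyFunctor C i).map g) :=
        (HomologySequence.mono_homologyMap_mor₂_iff _ hT i).2
          ((zA i hi).eq_of_src _ _)
      haveI : Epi ((homologyFunctor C i).map g) :=
        (HomologySequence.epi_homologyMap_mor₂_iff _ hT i (i + 1) rfl).2
          ((zA (i + 1) (by lia)).eq_of_tgt _ _)
      exact isIso_of_mono_of_epi _
    have PA : ∀ i : ℤ, P ((homologyFunctor C i).obj A) := by
      intro i
      by_cases hi : i < b
      · haveI := isoA i hi
        exact P.prop_of_iso (asIso ((homologyFunctor C i).map f)).symm (hK i)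
      · exact P.prop_of_isZero (zA i (not_lt.1 hi))
    have PB : ∀ i : ℤ, P ((homologyFunctor C i).obj B) := by
      intro i
      by_cases hi : i < b
      · exact P.prop_of_isZero (zB i hi)
      · haveI := isoB i (not_lt.1 hi)
        exact P.prop_of_iso (asIso ((homologyFunctor C i).map g)) (hK i)
    haveI gA : (TStructure.t (C := C)).IsGE A a := by
      refine (isGE_iff A a).2 (fun i hi => ?_)
      haveI := isoA i (by lia)
      exact IsZero.of_iso (zKlo i hi) (asIso ((homologyFunctor C i).map f))
    haveI lB : (TStructure.t (C := C)).IsLE B b := by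
      refine (isLE_iff B b).2 (fun i hi => ?_)
      haveI := isoB i (by lia)
      exact IsZero.of_iso (zKhi i hi) (asIso ((homologyFunctor C i).map g)).symm
    have QA : Qp P A := ⟨PA, a, b - 1, gA, inferInstance⟩
    have QB : Qp P B := ⟨PB, b, b, inferInstance, lB⟩
    have QK : Qp P K := ⟨hK, a, b, ha, hb⟩
    have memA : KZero.clTr (Qp P) A ∈ (phi P).range :=
      ih A a (b - 1) PA gA inferInstance (by push_cast at hab; lia)
    have memB : KZero.clTr (Qp P) B ∈ (phi P).range := by
      obtain ⟨Y, ⟨e⟩⟩ := exists_iso_singleFunctor_obj_of_isGE_of_isLE B b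
      have hY : P Y := P.prop_of_iso ((homologyFunctor C b).mapIso e ≪≫
        (singleFunctorCompHomologyFunctorIso C b).app Y) (PB b)
      rw [KTr.clTr_iso (Qp P) e QB (Qp_single P Y hY b) h0]
      exact clTr_single_mem P Y hY b
    have := KTr.clTr_triangle (Qp P) _ hT QA QK QB
    change KZero.clTr (Qp P) K = KZero.clTr (Qp P) A + KZero.clTr (Qp P) B at this
    rw [this]
    exact add_mem memA memB

theorem phi_surjective : Function.Surjective (phi P) := by
  intro x
  rw [← AddMonoidHom.mem_range]
  induction x using KTr.induction_on (Qp P) with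
  | zero => exact zero_mem _
  | of K hK =>
    obtain ⟨h1, a, b, ha, hb⟩ := hK
    exact clTr_mem_aux P (b - a + 1).toNat K a b h1 ha hb (by lia)
  | neg x hx => exact neg_mem hx
  | add x y hx hy => exact add_mem hx hy

theorem phi_injective : Function.Injective (phi P) :=
  Function.LeftInverse.injective (psi_phi P)

theorem main : ∃ φ : KZero.K0sub P ≃+ KZero.K0tr (Qp P),
    ∀ X : C, P X → φ (KZero.clSub P X) =
      KZero.clTr (Qp P) ((singleFunctor C 0).obj X) :=
  ⟨AddEquiv.ofBijective (phi P) ⟨phi_injective P, phi_surjective P⟩,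
    fun X hX => phi_clSub P X hX⟩

end Groth.Agent.Helper5.K0Der
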