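import Groth.Agent.Lib.Helper13.TensorTilde
import Groth.Agent.Lib.Helper5.StalkCx2
import Groth.Prelude.Def_DDual2

/-!
# Naturality of `(M ⊗ N)^~ ≅ M^~ ⊗ N^~` in `M`
-/

set_option autoImplicit false
set_option linter.unusedSectionVars false
set_option linter.unusedVariables false
set_option linter.style.haveILetI false

universe u

open CategoryTheory CategoryTheory.Limits AlgebraicGeometry MonoidalCategory TensorProduct Opposite

namespace Groth.Agent.Helper5.TT

open Groth.Agent.Helper13.Tensor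

section Gen

variable {X : Scheme.{u}}

lemma tensorRightMod_obj (N M : X.Modules) :
    (DCoh.tensorRightMod N).obj M = CohB1.tensorMod M N := rfl

lemma tensorRightMod_map (N : X.Modules) {M M' : X.Modules} (f : M ⟶ M') :
    (DCoh.tensorRightMod N).map f = Groth.Agent.Helper13.Tensor.map f (𝟙 N) := by
  unfold Groth.Agent.Helper13.Tensor.map Groth.Agent.Helper13.Tensor.preMap
  erw [MonoidalCategory.tensorHom_id]
  rfl

end Gen

variable {R : CommRingCat.{u}}

lemma tilde_hom_ext {M : ModuleCat.{u} R} {F : (Spec R).Modules} (φ ψ : tilde M ⟶ F)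
    (h : ∀ m : M, φ.app ⊤ (top M m) = ψ.app ⊤ (top M m)) : φ = ψ := by
  apply (tilde.adjunction.homEquiv M F).injective
  erw [Adjunction.homEquiv_unit, Adjunction.homEquiv_unit]
  ext m
  exact h m

lemma tilde_map_app_top {M M' : ModuleCat.{u} R} (g : M ⟶ M') (m : M) :
    (tilde.map g).app ⊤ (top M m) = top M' (g m) := by
  have h2 := tilde.toOpen_map_app g ⊤
  exact congr($h2 m)

variable (N : ModuleCat.{u} R)

lemma tildeTensorHom_natural {M M' : ModuleCat.{u} R} (g : M ⟶ M') :
    tilde.map (g ▷ N) ≫ tildeTensorHom M' N =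
      tildeTensorHom M N ≫ Groth.Agent.Helper13.Tensor.map (tilde.map g) (𝟙 (tilde N)) := by
  have key : ∀ t : M ⊗[R] N,
      (tilde.map (g ▷ N) ≫ tildeTensorHom M' N).app ⊤ (top (ModuleCat.of R (M ⊗[R] N)) t) =
      (tildeTensorHom M N ≫ Groth.Agent.Helper13.Tensor.map (tilde.map g) (𝟙 (tilde N))).app ⊤
        (top (ModuleCat.of R (M ⊗[R] N)) t) := by
    intro t
    induction t using TensorProduct.induction_on with
    | zero =>
      have h0 : top (ModuleCat.of R (M ⊗[R] N)) 0 = 0 := map_zero _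
      rw [h0, map_zero, map_zero]
    | tmul m n =>
      have e1 : (tilde.map (g ▷ N) ≫ tildeTensorHom M' N).app ⊤
          (top (ModuleCat.of R (M ⊗[R] N)) (m ⊗ₜ n)) =
          (tildeTensorHom M' N).app ⊤ ((tilde.map (g ▷ N)).app ⊤
            (top (ModuleCat.of R (M ⊗[R] N)) (m ⊗ₜ n))) := rfl
      have e2 : (tildeTensorHom M N ≫
          Groth.Agent.Helper13.Tensor.map (tilde.map g) (𝟙 (tilde N))).app ⊤
          (top (ModuleCat.of R (M ⊗[R] N)) (m ⊗ₜ n)) =
          (Groth.Agent.Helper13.Tensor.map (tilde.map g) (𝟙 (tilde N))).app ⊤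
            ((tildeTensorHom M N).app ⊤ (top (ModuleCat.of R (M ⊗[R] N)) (m ⊗ₜ n))) := rfl
      rw [e1, e2, tildeTensorHom_app_top, map_app_tmul, tilde_map_app_top]
      have e3 := tilde_map_app_top (g ▷ N) (m ⊗ₜ n)
      have e4 : (g ▷ N).hom (m ⊗ₜ n) = g.hom m ⊗ₜ n := rfl
      erw [e3, e4, tildeTensorHom_app_top]
      rfl
    | add x y hx hy =>
      have h0 : top (ModuleCat.of R (M ⊗[R] N)) (x + y) =
          top (ModuleCat.of R (M ⊗[R] N)) x + top (ModuleCat.of R (M ⊗[R] N)) y :=
        map_add (tilde.toOpen (ModuleCat.of R (M ⊗[R] N)) ⊤).hom x y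
      rw [h0, map_add, map_add, hx, hy]
  exact tilde_hom_ext (M := ModuleCat.of R (M ⊗[R] N)) _ _ key

end Groth.Agent.Helper5.TT
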