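import Groth.Agent.Lib.Helper5.PCH1
import Groth.Agent.Lib.Helper5.LTen9
import Groth.Agent.Lib.Helper13.FinPresSec
import Groth.Agent.Lib.Helper13.LocFree4

/-!
# Modules of finite type / finite presentation as pseudo-coherent objects
-/

set_option autoImplicit false
set_option linter.unusedSectionVars false
set_option linter.unusedVariables false
set_option linter.style.haveILetI false

universe u

open CategoryTheory CategoryTheory.Limits AlgebraicGeometry HomologicalComplex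

attribute [local instance] HasDerivedCategory.standard

namespace Groth.Agent.Helper5.PCM

section Abelian

variable {𝒜 : Type*} [Category 𝒜] [Abelian 𝒜]

/-- the augmentation of a complex concentrated in degrees `≤ 0` to the cokernel of its last
differential is a quasi-isomorphism in degree `0` -/
theorem quasiIsoAt_mkHomToSingle (P : CochainComplex 𝒜 ℤ) (F : 𝒜)
    (h1 : IsZero (P.X 1)) (ε : P.X 0 ⟶ F) (hε : P.d (-1) 0 ≫ ε = 0)
    (hc : IsColimit (CokernelCofork.ofπ ε hε))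
    (hε' : ∀ (i : ℤ), (ComplexShape.up ℤ).Rel i 0 → P.d i 0 ≫ ε = 0) :
    QuasiIsoAt (HomologicalComplex.mkHomToSingle ε hε') 0 := by
  rw [quasiIsoAt_iff' _ (-1) 0 1 (by simp) (by simp)]
  set β := HomologicalComplex.mkHomToSingle ε hε' with hβ
  set φ := (shortComplexFunctor' 𝒜 (ComplexShape.up ℤ) (-1) 0 1).map β with hφ
  have hg₁ : (P.sc' (-1) 0 1).g = 0 := h1.eq_of_tgt _ _
  have hg₂ : (((single 𝒜 (ComplexShape.up ℤ) 0).obj F).sc' (-1) 0 1).g = 0 :=
    (isZero_single_obj_X (ComplexShape.up ℤ) 0 F 1 (by simp)).eq_of_tgt _ _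
  have hf₂ : (((single 𝒜 (ComplexShape.up ℤ) 0).obj F).sc' (-1) 0 1).f = 0 :=
    (isZero_single_obj_X (ComplexShape.up ℤ) 0 F (-1) (by simp)).eq_of_src _ _
  let e₂ : (((single 𝒜 (ComplexShape.up ℤ) 0).obj F).sc' (-1) 0 1).X₂ ≅ F :=
    singleObjXSelf (ComplexShape.up ℤ) 0 F
  let c₂ : CokernelCofork (((single 𝒜 (ComplexShape.up ℤ) 0).obj F).sc' (-1) 0 1).f :=
    CokernelCofork.ofπ e₂.hom (by rw [hf₂]; exact zero_comp)
  have hc₂ : IsColimit c₂ :=
    CokernelCofork.IsColimit.ofπ _ _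
      (fun x _ => e₂.inv ≫ x)
      (fun x _ => e₂.hom_inv_id_assoc x)
      (fun x _ b hb => by rw [← hb]; exact (e₂.inv_hom_id_assoc b).symm)
  have comm : φ.τ₂ ≫ c₂.π = (CokernelCofork.ofπ ε hε).π ≫ 𝟙 F := by
    have h0 : β.f 0 = ε ≫ (singleObjXSelf (ComplexShape.up ℤ) 0 F).inv := by
      rw [hβ, mkHomToSingle_f]
    change β.f 0 ≫ e₂.hom = ε ≫ 𝟙 F
    rw [h0, Category.comp_id]
    exact (Category.assoc _ _ _).trans (by
      change ε ≫ (e₂.inv ≫ e₂.hom) = ε
      rw [e₂.inv_hom_id]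
      exact Category.comp_id ε)
  let γ := ShortComplex.LeftHomologyMapData.ofIsColimitCokernelCofork φ hg₁
    (CokernelCofork.ofπ ε hε) hc hg₂ c₂ hc₂ (𝟙 F) comm
  rw [γ.quasiIso_iff]
  change IsIso (𝟙 F)
  infer_instance

end Abelian

end Groth.Agent.Helper5.PCM
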