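import Mathlib
import Groth.Agent.Lib.Helper5.CompReg

/-! `I`-adic completion of a Noetherian local ring: dimension and regularity. -/

set_option autoImplicit false
set_option linter.style.haveILetI false

namespace Groth.Agent.Helper5.CompReg

open IsLocalRing

universe u

variable (A : Type u) [CommRing A] [IsLocalRing A] [IsNoetherianRing A] (I : Ideal A)

theorem isLocalRing_adicCompletion (hI : I ≠ ⊤) : IsLocalRing (AdicCompletion I A) := by
  have hle : I ≤ maximalIdeal A := IsLocalRing.le_maximalIdeal hI
  haveI hmax := AdicCompletion.isMaximal_map_of_le I (maximalIdeal A) hle I.fg_of_isNoetherianRing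
  refine IsLocalRing.of_unique_max_ideal ⟨_, hmax, fun 𝔫' h𝔫' => ?_⟩
  haveI := h𝔫'
  have h1 := map_comap_eq_of_isMaximal I 𝔫'
  have h2 : 𝔫'.comap (algebraMap A (AdicCompletion I A)) ≤ maximalIdeal A :=
    IsLocalRing.le_maximalIdeal (Ideal.comap_ne_top _ h𝔫'.ne_top)
  have h3 : 𝔫' ≤ (maximalIdeal A).map (algebraMap A (AdicCompletion I A)) := by
    rw [← h1]; exact Ideal.map_mono h2
  exact h𝔫'.eq_of_le hmax.ne_top h3

theorem maximalIdeal_adicCompletion (hI : I ≠ ⊤) :
    haveI := isLocalRing_adicCompletion A I hI
    maximalIdeal (AdicCompletion I A) =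
      (maximalIdeal A).map (algebraMap A (AdicCompletion I A)) := by
  haveI := isLocalRing_adicCompletion A I hI
  have hle : I ≤ maximalIdeal A := IsLocalRing.le_maximalIdeal hI
  haveI hmax := AdicCompletion.isMaximal_map_of_le I (maximalIdeal A) hle I.fg_of_isNoetherianRing
  exact (IsLocalRing.eq_maximalIdeal hmax).symm

theorem comap_maximalIdeal_adicCompletion (hI : I ≠ ⊤) :
    haveI := isLocalRing_adicCompletion A I hI
    (maximalIdeal (AdicCompletion I A)).comap (algebraMap A (AdicCompletion I A)) =
      maximalIdeal A := by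
  haveI := isLocalRing_adicCompletion A I hI
  apply le_antisymm
  · exact IsLocalRing.le_maximalIdeal (Ideal.comap_ne_top _ (maximalIdeal.isMaximal _).ne_top)
  · rw [maximalIdeal_adicCompletion A I hI]
    exact Ideal.le_comap_map

theorem ringKrullDim_adicCompletion (hI : I ≠ ⊤) :
    ringKrullDim (AdicCompletion I A) = ringKrullDim A := by
  haveI := isLocalRing_adicCompletion A I hI
  rw [← IsLocalRing.maximalIdeal_height_eq_ringKrullDim,
    ← IsLocalRing.maximalIdeal_height_eq_ringKrullDim]
  haveI : (maximalIdeal (AdicCompletion I A)).LiesOver (maximalIdeal A) :=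
    ⟨(comap_maximalIdeal_adicCompletion A I hI).symm⟩
  rw [Ideal.height_eq_height_add_of_liesOver_of_hasGoingDown (maximalIdeal A)
    (maximalIdeal (AdicCompletion I A))]
  have h0 : (Ideal.map (Ideal.Quotient.mk ((maximalIdeal A).map
      (algebraMap A (AdicCompletion I A)))) (maximalIdeal (AdicCompletion I A))) = ⊥ := by
    rw [maximalIdeal_adicCompletion A I hI]
    exact Ideal.map_quotient_self _
  rw [h0]
  haveI : Nontrivial (AdicCompletion I A ⧸ (maximalIdeal A).map
      (algebraMap A (AdicCompletion I A))) := by
    rw [← maximalIdeal_adicCompletion A I hI]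
    infer_instance
  rw [Ideal.height_bot, add_zero]

theorem isLocalHom_algebraMap_adicCompletion (hI : I ≠ ⊤) :
    haveI := isLocalRing_adicCompletion A I hI
    IsLocalHom (algebraMap A (AdicCompletion I A)) := by
  haveI := isLocalRing_adicCompletion A I hI
  apply ((IsLocalRing.local_hom_TFAE _).out 0 2).mpr
  rw [maximalIdeal_adicCompletion A I hI]

theorem isRegularRing_of_isRegularLocalRing (R : Type u) [CommRing R] [IsRegularLocalRing R] :
    IsRegularRing R := by
  rw [isRegularRing_iff]
  intro p hp
  exact Groth.Agent.Lead.Hom.isRegularLocalRing_localization p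

theorem isRegularLocalRing_iff_adicCompletion (hI : I ≠ ⊤) :
    IsRegularLocalRing A ↔ IsRegularLocalRing (AdicCompletion I A) := by
  haveI := isLocalRing_adicCompletion A I hI
  constructor
  · intro h
    haveI := isRegularRing_of_isRegularLocalRing A
    haveI := isRegularRing_adicCompletion A I
    exact IsRegularLocalRing.of_isRegularRing_of_isLocalRing _
  · intro h
    haveI := isLocalHom_algebraMap_adicCompletion A I hI
    exact Groth.Agent.Lead.Hom.isRegularLocalRing_of_flat A (AdicCompletion I A)

end Groth.Agent.Helper5.CompReg
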