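import Mathlib
import Groth.Agent.Lib.Helper1.HenselFinite
import Groth.Agent.S3866

/-!
# Finite algebras over complete Noetherian local rings
-/

set_option autoImplicit false
set_option linter.style.haveILetI false

namespace Groth.Agent.Helper5.FinComplete

open IsLocalRing

universe u

/-- A local ring complete for its maximal ideal is henselian. -/
theorem henselianLocalRing_of_isAdicComplete (R : Type*) [CommRing R] [IsLocalRing R]
    [IsAdicComplete (maximalIdeal R) R] : HenselianLocalRing R where
  is_henselian f hf a₀ h₁ h₂ :=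
    HenselianRing.is_henselian (I := maximalIdeal R) f hf a₀ h₁ (h₂.map _)

/-- Completeness only depends on the ideal up to powers. -/
theorem isAdicComplete_of_pow_le {R M : Type*} [CommRing R] [AddCommGroup M] [Module R M]
    (I J : Ideal R) (k : ℕ) (hIJ : I ≤ J) (hJI : J ^ k ≤ I) [IsAdicComplete I M] :
    IsAdicComplete J M := by
  have hJI' : J ^ (k + 1) ≤ I := (Ideal.pow_le_pow_right (Nat.le_succ k)).trans hJI
  have hpow : ∀ n : ℕ, J ^ ((k + 1) * n) ≤ I ^ n := fun n => by
    rw [pow_mul]
    exact Ideal.pow_right_mono hJI' n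
  refine { haus' := ?_, prec' := ?_ }
  · intro x hx
    apply IsHausdorff.haus' (I := I) x
    intro n
    exact SModEq.mono (Submodule.smul_mono_left (hpow n)) (hx ((k + 1) * n))
  · intro f hf
    have hg : ∀ {m n : ℕ}, m ≤ n → f ((k + 1) * m) ≡ f ((k + 1) * n)
        [SMOD (I ^ m • ⊤ : Submodule R M)] := by
      intro m n hmn
      exact SModEq.mono (Submodule.smul_mono_left (hpow m))
        (hf (Nat.mul_le_mul_left (k + 1) hmn))
    obtain ⟨L, hL⟩ := IsPrecomplete.prec' (I := I) (fun n => f ((k + 1) * n)) hg
    refine ⟨L, fun n => ?_⟩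
    have h1 : f n ≡ f ((k + 1) * n) [SMOD (J ^ n • ⊤ : Submodule R M)] :=
      hf (Nat.le_mul_of_pos_left n (Nat.succ_pos k))
    have h2 : f ((k + 1) * n) ≡ L [SMOD (J ^ n • ⊤ : Submodule R M)] :=
      SModEq.mono (Submodule.smul_mono_left (Ideal.pow_right_mono hIJ n)) (hL n)
    exact h1.trans h2

/-- A local ring `A` finite over a complete Noetherian local ring `R` is complete for its maximal
ideal. -/
theorem isAdicComplete_maximalIdeal_of_finite (R : Type u) [CommRing R] [IsLocalRing R]
    [IsNoetherianRing R] [IsAdicComplete (maximalIdeal R) R] (A : Type u) [CommRing A]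
    [IsLocalRing A] [Algebra R A] [Module.Finite R A] :
    IsAdicComplete (maximalIdeal A) A := by
  haveI : IsNoetherianRing A := IsNoetherianRing.of_finite R A
  haveI : Algebra.IsIntegral R A := Algebra.IsIntegral.of_finite R A
  have h0 : IsAdicComplete (maximalIdeal R) A := Groth.Agent.S3866.result R (maximalIdeal R) A
  set I' : Ideal A := (maximalIdeal R).map (algebraMap R A) with hI'
  haveI : IsHausdorff I' A := IsHausdorff.map_algebraMap_iff.mpr h0.toIsHausdorff
  haveI : IsPrecomplete I' A := IsPrecomplete.map_algebraMap_iff.mpr h0.toIsPrecomplete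
  haveI : IsAdicComplete I' A := {}
  have hle : I' ≤ maximalIdeal A := by
    rw [hI', Ideal.map_le_iff_le_comap]
    have hmax : ((maximalIdeal A).comap (algebraMap R A)).IsMaximal :=
      Ideal.isMaximal_comap_of_isIntegral_of_isMaximal (maximalIdeal A)
    exact (eq_maximalIdeal hmax).ge
  have hrad : maximalIdeal A ≤ I'.radical := by
    rw [Ideal.radical_eq_sInf]
    refine le_sInf ?_
    rintro P ⟨hP, hPprime⟩
    haveI := hPprime
    have hcomap : maximalIdeal R ≤ P.comap (algebraMap R A) := by
      intro r hr
      exact hP (Ideal.mem_map_of_mem _ hr)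
    have hne : P.comap (algebraMap R A) ≠ ⊤ := (Ideal.IsPrime.comap (algebraMap R A)).ne_top
    have hmax : (P.comap (algebraMap R A)).IsMaximal := by
      rw [← (maximalIdeal.isMaximal R).eq_of_le hne hcomap]
      exact maximalIdeal.isMaximal R
    have hPmax : P.IsMaximal := Ideal.isMaximal_of_isIntegral_of_isMaximal_comap P hmax
    exact (eq_maximalIdeal hPmax).ge
  have hradeq : I'.radical = maximalIdeal A :=
    le_antisymm (by
      have := Ideal.radical_mono hle
      rwa [(maximalIdeal.isMaximal A).isPrime.radical] at this) hrad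
  obtain ⟨k, hk⟩ := Ideal.exists_radical_pow_le_of_fg I' (IsNoetherian.noetherian _)
  rw [hradeq] at hk
  exact isAdicComplete_of_pow_le I' (maximalIdeal A) k hle hk

end Groth.Agent.Helper5.FinComplete
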