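import Groth.Agent.Lib.Helper5.BCF3
import Groth.Agent.Lib.Helper12.FlatModBC3

/-!
# Base change of modules flat over the base (no quasi-coherence hypothesis)
-/

set_option autoImplicit false
set_option linter.unusedSectionVars false
set_option linter.unusedVariables false
set_option linter.style.haveILetI false

universe u

open CategoryTheory CategoryTheory.Limits TensorProduct AlgebraicGeometry

namespace Groth.Agent.Helper5.BCF

open Groth.Agent.Helper5.Sky Groth.Agent.Helper12.FlatModBC

variable {X S X' S' : Scheme.{u}} {f : X ⟶ S} {f' : X' ⟶ S'} {g' : X' ⟶ X} {g : S' ⟶ S}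

attribute [local instance] Algebra.TensorProduct.rightAlgebra

/-- the pullback of a module flat over `S` is flat over `S'` -/
theorem isFlatOverAt_pullback (hc : IsPullback g' f' f g)
    (F : X.Modules) (x' : X') (h : FlatMod.IsFlatOverAt f F (g'.base x')) :
    FlatMod.IsFlatOverAt f' ((Scheme.Modules.pullback g').obj F) x' := by
  letI iAA' : Algebra (S.presheaf.stalk (f (g' x'))) (S'.presheaf.stalk (f' x')) :=
    (gam hc x').hom.toAlgebra
  letI iAB : Algebra (S.presheaf.stalk (f (g' x'))) (X.presheaf.stalk (g' x')) :=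
    (f.stalkMap (g' x')).hom.toAlgebra
  letI iA'B' : Algebra (S'.presheaf.stalk (f' x')) (X'.presheaf.stalk x') :=
    (f'.stalkMap x').hom.toAlgebra
  letI iBB' : Algebra (X.presheaf.stalk (g' x')) (X'.presheaf.stalk x') :=
    (g'.stalkMap x').hom.toAlgebra
  obtain ⟨φ, hφ, hφflat⟩ := flat_tensor_stalk hc x'
  have e : (X'.presheaf.stalk x') ⊗[X.presheaf.stalk (g' x')] (F.presheaf.stalk (g' x'))
      ≃ₗ[X'.presheaf.stalk x'] ((Scheme.Modules.pullback g').obj F).presheaf.stalk x' :=
    ((pullbackStalkIso g' x').app F).symm.toLinearEquiv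
  letI iCB' : Algebra ((S'.presheaf.stalk (f' x')) ⊗[S.presheaf.stalk (f (g' x'))]
      (X.presheaf.stalk (g' x'))) (X'.presheaf.stalk x') := φ.toAlgebra
  haveI : IsScalarTower (S'.presheaf.stalk (f' x')) ((S'.presheaf.stalk (f' x')) ⊗[S.presheaf.stalk (f (g' x'))]
      (X.presheaf.stalk (g' x'))) (X'.presheaf.stalk x') :=
    IsScalarTower.of_algebraMap_eq fun r => by
      change (f'.stalkMap x').hom r = φ (r ⊗ₜ 1)
      rw [hφ, map_one, mul_one]
  haveI : IsScalarTower (X.presheaf.stalk (g' x')) ((S'.presheaf.stalk (f' x')) ⊗[S.presheaf.stalk (f (g' x'))]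
      (X.presheaf.stalk (g' x'))) (X'.presheaf.stalk x') :=
    IsScalarTower.of_algebraMap_eq fun r => by
      change (g'.stalkMap x').hom r = φ (1 ⊗ₜ r)
      rw [hφ, map_one, one_mul]
  haveI : Module.Flat ((S'.presheaf.stalk (f' x')) ⊗[S.presheaf.stalk (f (g' x'))]
      (X.presheaf.stalk (g' x'))) (X'.presheaf.stalk x') := hφflat
  letI iAM : Module (S.presheaf.stalk (f (g' x'))) (F.presheaf.stalk (g' x')) :=
    FlatMod.moduleStalkOver f F (g' x')
  haveI : IsScalarTower (S.presheaf.stalk (f (g' x'))) (X.presheaf.stalk (g' x'))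
      (F.presheaf.stalk (g' x')) := IsScalarTower.of_algebraMap_smul fun r x => rfl
  haveI : Module.Flat (S.presheaf.stalk (f (g' x'))) (F.presheaf.stalk (g' x')) := h
  have key : Module.Flat (S'.presheaf.stalk (f' x'))
      ((X'.presheaf.stalk x') ⊗[X.presheaf.stalk (g' x')] (F.presheaf.stalk (g' x'))) :=
    flat_baseChange_of_flat_pushout (A := S.presheaf.stalk (f (g' x')))
      (C := (S'.presheaf.stalk (f' x')) ⊗[S.presheaf.stalk (f (g' x'))]
        (X.presheaf.stalk (g' x'))) (F.presheaf.stalk (g' x'))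
  letI iA'M' : Module (S'.presheaf.stalk (f' x'))
      (((Scheme.Modules.pullback g').obj F).presheaf.stalk x') :=
    FlatMod.moduleStalkOver f' _ x'
  haveI : IsScalarTower (S'.presheaf.stalk (f' x')) (X'.presheaf.stalk x')
      (((Scheme.Modules.pullback g').obj F).presheaf.stalk x') :=
    IsScalarTower.of_algebraMap_smul fun r x => rfl
  exact Module.Flat.of_linearEquiv (e.restrictScalars (S'.presheaf.stalk (f' x'))).symm

theorem isFlatOver_pullback (hc : IsPullback g' f' f g)
    (F : X.Modules) (h : FlatMod.IsFlatOver f F) :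
    FlatMod.IsFlatOver f' ((Scheme.Modules.pullback g').obj F) :=
  fun x' => isFlatOverAt_pullback hc F x' (h (g'.base x'))

end Groth.Agent.Helper5.BCF
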