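import Mathlib.Topology.Spectral.ConstructibleTopology
import Mathlib.Topology.Constructible
import Groth.Prelude.Def_ProCons

set_option autoImplicit false

namespace Groth.Agent.Helper5.PC

open Topology Set Set.Notation

section Spectral

variable {Y : Type*} [TopologicalSpace Y]

/-- subbasis elements are open for the constructible topology -/
theorem isOpen_cT_of_isCompact_isOpen {s : Set Y} (hs : IsCompact s) (ho : IsOpen s) :
    IsOpen[constructibleTopology Y] s := hs.isOpen_constructibleTopology_of_isOpen ho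

theorem isOpen_cT_compl_of_isCompact_isOpen {s : Set Y} (hs : IsCompact s) (ho : IsOpen s) :
    IsOpen[constructibleTopology Y] sᶜ :=
  IsCompact.isOpen_constructibleTopology_of_isClosed (by rwa [compl_compl]) ho.isClosed_compl

theorem isClopen_cT_of_isConstructible [CompactSpace Y] {s : Set Y} (hs : IsConstructible s) :
    IsOpen[constructibleTopology Y] s ∧ IsOpen[constructibleTopology Y] sᶜ := by
  induction hs using IsConstructible.empty_union_induction with
  | open_retrocompact U hUopen hUcomp =>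
    have hc : IsCompact U := hUcomp.isCompact
    exact ⟨isOpen_cT_of_isCompact_isOpen hc hUopen, isOpen_cT_compl_of_isCompact_isOpen hc hUopen⟩
  | union s hs t ht h1 h2 =>
    refine ⟨@IsOpen.union Y _ _ (constructibleTopology Y) h1.1 h2.1, ?_⟩
    rw [compl_union]
    exact @IsOpen.inter Y (constructibleTopology Y) _ _ h1.2 h2.2
  | compl s hs h =>
    exact ⟨h.2, by rw [compl_compl]; exact h.1⟩

theorem compactSpace_cT [CompactSpace Y] [QuasiSober Y] [PrespectralSpace Y] [QuasiSeparatedSpace Y] :
    @CompactSpace Y (constructibleTopology Y) :=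
  @Function.Surjective.compactSpace (WithConstructibleTopology Y) Y _ (constructibleTopology Y) _
    (WithTopology.continuous_ofTopology _) _ (WithTopology.ofTopology_surjective _)

/-- compactness of the constructible topology, in terms of sets -/
theorem exists_finset_iInter_subset [CompactSpace Y] [QuasiSober Y] [PrespectralSpace Y]
    [QuasiSeparatedSpace Y] {E : Set Y} (hE : IsOpen[constructibleTopology Y] E) {ι : Type*}
    (F : ι → Set Y) (hF : ∀ i, IsOpen[constructibleTopology Y] (F i)ᶜ) (h : ⋂ i, F i ⊆ E) :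
    ∃ J : Finset ι, ⋂ i ∈ J, F i ⊆ E := by
  classical
  have hc : @IsCompact Y (constructibleTopology Y) univ :=
    (@isCompact_univ_iff Y (constructibleTopology Y)).mpr compactSpace_cT
  let U : Option ι → Set Y := fun o => match o with
    | none => E
    | some i => (F i)ᶜ
  have hUo : ∀ o, IsOpen[constructibleTopology Y] (U o) := by
    intro o
    cases o with
    | none => exact hE
    | some i => exact hF i
  have hcov : univ ⊆ ⋃ o, U o := by
    intro x _
    by_cases hx : x ∈ E
    · exact mem_iUnion.mpr ⟨none, hx⟩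
    · have : x ∉ ⋂ i, F i := fun h' => hx (h h')
      rw [mem_iInter, not_forall] at this
      obtain ⟨i, hi⟩ := this
      exact mem_iUnion.mpr ⟨some i, hi⟩
  obtain ⟨t, ht⟩ := @IsCompact.elim_finite_subcover Y (constructibleTopology Y) univ (Option ι) hc U hUo hcov
  refine ⟨t.eraseNone, ?_⟩
  intro x hx
  have hx' := ht (mem_univ x)
  rw [mem_iUnion₂] at hx'
  obtain ⟨o, hot, hxo⟩ := hx'
  cases o with
  | none => exact hxo
  | some i =>
    exfalso
    have hi : i ∈ t.eraseNone := Finset.mem_eraseNone.mpr hot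
    rw [mem_iInter₂] at hx
    exact hxo (hx i hi)

theorem isConstructible_of_mem_subbasis [QuasiSeparatedSpace Y] {s : Set Y}
    (hs : s ∈ constructibleTopologySubbasis Y) : IsConstructible s := by
  rcases hs with hs | hs
  · exact hs.2.isConstructible hs.1
  · have := hs.2.isConstructible hs.1.isOpen_compl
    exact this.of_compl

/-- basic neighbourhoods for the constructible topology are constructible -/
theorem exists_isConstructible_nhds_of_isOpen_cT [QuasiSeparatedSpace Y] {s : Set Y}
    (hs : IsOpen[constructibleTopology Y] s) {y : Y} (hy : y ∈ s) :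
    ∃ v : Set Y, IsConstructible v ∧ IsOpen[constructibleTopology Y] v ∧
      IsOpen[constructibleTopology Y] vᶜ ∧ y ∈ v ∧ v ⊆ s := by
  classical
  have hbasis := @TopologicalSpace.isTopologicalBasis_of_subbasis Y (constructibleTopology Y)
    (constructibleTopologySubbasis Y) rfl
  obtain ⟨v, hv, hxv, hvs⟩ := @TopologicalSpace.IsTopologicalBasis.exists_subset_of_mem_open Y
    (constructibleTopology Y) _ hbasis y s hy hs
  obtain ⟨f, ⟨hfin, hfsub⟩, rfl⟩ := hv
  refine ⟨⋂₀ f, ?_, ?_, ?_, hxv, hvs⟩
  · exact IsConstructible.sInter hfin (fun t ht => isConstructible_of_mem_subbasis (hfsub ht))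
  · exact @TopologicalSpace.IsTopologicalBasis.isOpen Y (constructibleTopology Y) _ _ hbasis
      ⟨f, ⟨hfin, hfsub⟩, rfl⟩
  · rw [compl_sInter, sUnion_image]
    refine @isOpen_biUnion Y _ (constructibleTopology Y) _ _ (fun t ht => ?_)
    apply TopologicalSpace.isOpen_generateFrom_of_mem
    exact compl_mem_constructibleTopologySubbasis_iff.mpr (hfsub ht)

theorem isConstructible_of_isClopen_cT [CompactSpace Y] [QuasiSober Y] [PrespectralSpace Y]
    [QuasiSeparatedSpace Y] {s : Set Y} (hs : IsOpen[constructibleTopology Y] s)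
    (hs' : IsOpen[constructibleTopology Y] sᶜ) : IsConstructible s := by
  classical
  have hcompact : @IsCompact Y (constructibleTopology Y) s := by
    have hcl : @IsClosed Y (constructibleTopology Y) s := by
      rw [← @isOpen_compl_iff Y s (constructibleTopology Y)]
      exact hs'
    exact @IsClosed.isCompact Y (constructibleTopology Y) s compactSpace_cT hcl
  have hex : ∀ x : ↥s, ∃ v : Set Y, IsConstructible v ∧ IsOpen[constructibleTopology Y] v ∧
      (x : Y) ∈ v ∧ v ⊆ s := by
    intro x
    obtain ⟨v, h1, h2, _, h3, h4⟩ := exists_isConstructible_nhds_of_isOpen_cT hs x.2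
    exact ⟨v, h1, h2, h3, h4⟩
  choose v hvc hvo hxv hvs using hex
  obtain ⟨t, ht⟩ := @IsCompact.elim_finite_subcover Y (constructibleTopology Y) s ↥s hcompact v hvo
    (fun x hx => mem_iUnion.mpr ⟨⟨x, hx⟩, hxv ⟨x, hx⟩⟩)
  have : s = ⋃ x ∈ (t : Set ↥s), v x := by
    apply subset_antisymm
    · exact ht
    · exact iUnion₂_subset (fun x _ => hvs x)
  rw [this]
  exact IsConstructible.biUnion t.finite_toSet (fun x _ => hvc x)

/-- open for the constructible topology = union of constructible sets -/
theorem isOpen_cT_iff_sUnion [CompactSpace Y] [QuasiSeparatedSpace Y] {s : Set Y} :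
    IsOpen[constructibleTopology Y] s ↔
      ∃ S : Set (Set Y), (∀ T ∈ S, IsConstructible T) ∧ s = ⋃₀ S := by
  constructor
  · intro hs
    refine ⟨{T | IsConstructible T ∧ T ⊆ s}, fun T hT => hT.1, ?_⟩
    apply subset_antisymm
    · intro y hy
      obtain ⟨v, h1, _, _, h3, h4⟩ := exists_isConstructible_nhds_of_isOpen_cT hs hy
      exact mem_sUnion.mpr ⟨v, ⟨h1, h4⟩, h3⟩
    · exact sUnion_subset (fun T hT => hT.2)
  · rintro ⟨S, hS, rfl⟩
    exact @isOpen_sUnion Y (constructibleTopology Y) S
      (fun T hT => (isClopen_cT_of_isConstructible (hS T hT)).1)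

/-- closed for the constructible topology = intersection of constructible sets -/
theorem isClosed_cT_iff_sInter [CompactSpace Y] [QuasiSeparatedSpace Y] {s : Set Y} :
    IsOpen[constructibleTopology Y] sᶜ ↔
      ∃ S : Set (Set Y), (∀ T ∈ S, IsConstructible T) ∧ s = ⋂₀ S := by
  rw [isOpen_cT_iff_sUnion]
  constructor
  · rintro ⟨S, hS, h⟩
    refine ⟨compl '' S, ?_, ?_⟩
    · rintro _ ⟨T, hT, rfl⟩
      exact (hS T hT).compl
    · rw [← compl_compl s, h, compl_sUnion]
  · rintro ⟨S, hS, h⟩
    refine ⟨compl '' S, ?_, ?_⟩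
    · rintro _ ⟨T, hT, rfl⟩
      exact (hS T hT).compl
    · rw [h, compl_sInter]

/-- the constructible topology of a T0 prespectral space is Hausdorff -/
theorem t2Space_cT [T0Space Y] [PrespectralSpace Y] : @T2Space Y (constructibleTopology Y) := by
  refine @T2Space.mk Y (constructibleTopology Y) ?_
  intro x y hxy
  have hne : ¬ Inseparable x y := fun h => hxy h.eq
  rw [inseparable_iff_forall_isOpen] at hne
  rw [not_forall] at hne
  obtain ⟨U, hU⟩ := hne
  rw [Classical.not_imp] at hU
  obtain ⟨hUo, hU⟩ := hU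
  by_cases hx : x ∈ U
  · have hy : y ∉ U := fun hy => hU ⟨fun _ => hy, fun _ => hx⟩
    obtain ⟨K, ⟨hKo, hKc⟩, hxK, hKU⟩ :=
      PrespectralSpace.isTopologicalBasis.mem_nhds_iff.mp (hUo.mem_nhds hx)
    exact ⟨K, Kᶜ, isOpen_cT_of_isCompact_isOpen hKc hKo, isOpen_cT_compl_of_isCompact_isOpen hKc hKo,
      hxK, fun h => hy (hKU h), disjoint_compl_right⟩
  · have hy : y ∈ U := by
      by_contra hy
      exact hU ⟨fun h => absurd h hx, fun h => absurd h hy⟩
    obtain ⟨K, ⟨hKo, hKc⟩, hyK, hKU⟩ :=
      PrespectralSpace.isTopologicalBasis.mem_nhds_iff.mp (hUo.mem_nhds hy)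
    exact ⟨Kᶜ, K, isOpen_cT_compl_of_isCompact_isOpen hKc hKo, isOpen_cT_of_isCompact_isOpen hKc hKo,
      fun h => hx (hKU h), hyK, disjoint_compl_left⟩

/-- spectral maps are continuous for the constructible topologies -/
theorem continuous_cT_of_isSpectralMap {Z : Type*} [TopologicalSpace Z] {f : Y → Z}
    (hf : IsSpectralMap f) :
    @Continuous Y Z (constructibleTopology Y) (constructibleTopology Z) f := by
  refine (@continuous_generateFrom_iff Y Z f (constructibleTopology Y) (constructibleTopologySubbasis Z)).mpr ?_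
  rintro s (hs | hs)
  · exact isOpen_cT_of_isCompact_isOpen (hf.isCompact_preimage_of_isOpen hs.1 hs.2)
      (hs.1.preimage hf.continuous)
  · have h1 := hf.isCompact_preimage_of_isOpen hs.1.isOpen_compl hs.2
    have h2 := hs.1.isOpen_compl.preimage hf.continuous
    have := isOpen_cT_compl_of_isCompact_isOpen h1 h2
    rwa [preimage_compl, compl_compl] at this

/-- the image of a set closed for the constructible topology under a spectral map between
spectral spaces is closed for the constructible topology -/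
theorem isClosed_cT_image_of_isSpectralMap {Z : Type*} [TopologicalSpace Z]
    [CompactSpace Y] [QuasiSober Y] [PrespectralSpace Y] [QuasiSeparatedSpace Y]
    [T0Space Z] [PrespectralSpace Z] {f : Y → Z}
    (hf : IsSpectralMap f) {s : Set Y} (hs : IsOpen[constructibleTopology Y] sᶜ) :
    IsOpen[constructibleTopology Z] (f '' s)ᶜ := by
  have hcl : @IsClosed Y (constructibleTopology Y) s := by
    rw [← @isOpen_compl_iff Y s (constructibleTopology Y)]
    exact hs
  have hcompact : @IsCompact Y (constructibleTopology Y) s :=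
    @IsClosed.isCompact Y (constructibleTopology Y) s compactSpace_cT hcl
  have him : @IsCompact Z (constructibleTopology Z) (f '' s) :=
    @IsCompact.image Y Z (constructibleTopology Y) (constructibleTopology Z) s f hcompact
      (continuous_cT_of_isSpectralMap hf)
  have := @IsCompact.isClosed Z (constructibleTopology Z) t2Space_cT (f '' s) him
  rw [← @isOpen_compl_iff Z (f '' s) (constructibleTopology Z)] at this
  exact this

end Spectral

section Local

variable {X : Type*} [TopologicalSpace X]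

theorem isLocallyConstructible_compl {s : Set X} (hs : IsLocallyConstructible s) :
    IsLocallyConstructible sᶜ := by
  intro x
  obtain ⟨U, hxU, hU, h⟩ := hs x
  exact ⟨U, hxU, hU, by rw [preimage_compl]; exact h.compl⟩

/-- core localisation lemma -/
theorem exists_isOpen_cT_nhds {V : Set X} (hV : IsOpen V) [CompactSpace ↥V]
    [QuasiSeparatedSpace ↥V] [PrespectralSpace ↥V] {U : Set X} (hU : IsOpen U)
    {T : Set ↥U} (hT : IsLocallyConstructible T) {x : X} (hxV : x ∈ V) (hxU : x ∈ U)
    (hxT : (⟨x, hxU⟩ : ↥U) ∈ T) :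
    ∃ t : Set ↥V, IsConstructible t ∧ (⟨x, hxV⟩ : ↥V) ∈ t ∧
      ∀ z ∈ t, ∃ h : (z : X) ∈ U, (⟨z, h⟩ : ↥U) ∈ T := by
  have hnhds : (V ↓∩ U) ∈ nhds (⟨x, hxV⟩ : ↥V) :=
    (hU.preimage continuous_subtype_val).mem_nhds hxU
  obtain ⟨K, ⟨hKo, hKc⟩, hxK, hKU⟩ := PrespectralSpace.isTopologicalBasis.mem_nhds_iff.mp hnhds
  set K' : Set X := Subtype.val '' K with hK'
  have hK'V : K' ⊆ V := by rintro _ ⟨z, _, rfl⟩; exact z.2
  have hK'U : K' ⊆ U := by rintro _ ⟨z, hz, rfl⟩; exact hKU hz
  have hK'o : IsOpen K' := hV.isOpenMap_subtype_val _ hKo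
  have hK'c : IsCompact K' := hKc.image continuous_subtype_val
  have hVK : V ↓∩ K' = K := by
    rw [hK']; exact preimage_image_eq _ Subtype.val_injective
  have hi : IsOpenEmbedding (inclusion hK'V) :=
    .inclusion _ (hK'o.preimage continuous_subtype_val)
  have hj : IsOpenEmbedding (inclusion hK'U) :=
    .inclusion _ (hK'o.preimage continuous_subtype_val)
  have : CompactSpace ↥K' := isCompact_iff_compactSpace.mp hK'c
  have : QuasiSeparatedSpace ↥K' := hi.quasiSeparatedSpace
  have : PrespectralSpace ↥K' := hi.prespectralSpace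
  have h1 : IsConstructible (inclusion hK'U ⁻¹' T) :=
    (hT.preimage_of_isOpenEmbedding hj).isConstructible
  have hrange : IsRetrocompact (range (inclusion hK'V)) := by
    rw [range_inclusion]
    have : {y : ↥V | (y : X) ∈ K'} = K := hVK
    rw [this]
    exact hKc.isRetrocompact hKo
  have h2 := h1.image_of_isOpenEmbedding hi hrange
  refine ⟨_, h2, ?_, ?_⟩
  · exact ⟨⟨x, ⟨⟨x, hxV⟩, hxK, rfl⟩⟩, hxT, rfl⟩
  · rintro _ ⟨z, hz, rfl⟩
    exact ⟨hK'U z.2, hz⟩

/-- an ind-constructible set meets every spectral open subspace in a set open for the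
constructible topology -/
theorem isOpen_cT_of_isIndConstructible {V : Set X} (hV : IsOpen V) [CompactSpace ↥V]
    [QuasiSeparatedSpace ↥V] [PrespectralSpace ↥V] {E : Set X}
    (hE : ProCons.IsIndConstructible E) : IsOpen[constructibleTopology ↥V] (V ↓∩ E) := by
  rw [@isOpen_iff_forall_mem_open ↥V (constructibleTopology ↥V) (V ↓∩ E)]
  intro y hy
  obtain ⟨U, hU, hxU, S, hS, hES⟩ := hE y.1
  have hmem : (⟨y.1, hxU⟩ : ↥U) ∈ (Subtype.val ⁻¹' E : Set ↥U) := hy
  rw [hES] at hmem
  obtain ⟨T, hTS, hxT⟩ := hmem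
  obtain ⟨t, htc, hyt, ht⟩ := exists_isOpen_cT_nhds hV hU (hS T hTS) y.2 hxU hxT
  refine ⟨t, ?_, (isClopen_cT_of_isConstructible htc).1, hyt⟩
  intro z hz
  obtain ⟨h, hzT⟩ := ht z hz
  have : (⟨z, h⟩ : ↥U) ∈ (Subtype.val ⁻¹' E : Set ↥U) := by
    rw [hES]; exact ⟨T, hTS, hzT⟩
  exact this

/-- a pro-constructible set meets every spectral open subspace in a set closed for the
constructible topology -/
theorem isClosed_cT_of_isProConstructible {V : Set X} (hV : IsOpen V) [CompactSpace ↥V]
    [QuasiSeparatedSpace ↥V] [PrespectralSpace ↥V] {F : Set X}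
    (hF : ProCons.IsProConstructible F) : IsOpen[constructibleTopology ↥V] (V ↓∩ F)ᶜ := by
  rw [@isOpen_iff_forall_mem_open ↥V (constructibleTopology ↥V) (V ↓∩ F)ᶜ]
  intro y hy
  obtain ⟨U, hU, hxU, S, hS, hFS⟩ := hF y.1
  have hmem : (⟨y.1, hxU⟩ : ↥U) ∉ (Subtype.val ⁻¹' F : Set ↥U) := hy
  rw [hFS, mem_sInter, not_forall] at hmem
  obtain ⟨T, hT⟩ := hmem
  rw [Classical.not_imp] at hT
  obtain ⟨hTS, hxT⟩ := hT
  obtain ⟨t, htc, hyt, ht⟩ := exists_isOpen_cT_nhds hV hU
    (isLocallyConstructible_compl (hS T hTS)) y.2 hxU hxT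
  refine ⟨t, ?_, (isClopen_cT_of_isConstructible htc).1, hyt⟩
  intro z hz hzF
  obtain ⟨h, hzT⟩ := ht z hz
  have : (⟨z, h⟩ : ↥U) ∈ (Subtype.val ⁻¹' F : Set ↥U) := hzF
  rw [hFS] at this
  exact hzT (this T hTS)

/-- converse: ind-constructibility can be checked on a cover by spectral open subspaces -/
theorem isIndConstructible_of_cover {E : Set X}
    (h : ∀ x : X, ∃ V : Set X, IsOpen V ∧ x ∈ V ∧ CompactSpace ↥V ∧ QuasiSeparatedSpace ↥V ∧
      IsOpen[constructibleTopology ↥V] (V ↓∩ E)) : ProCons.IsIndConstructible E := by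
  intro x
  obtain ⟨V, hV, hxV, _, _, hE⟩ := h x
  obtain ⟨S, hS, hES⟩ := isOpen_cT_iff_sUnion.mp hE
  exact ⟨V, hV, hxV, S, fun T hT => (hS T hT).isLocallyConstructible, hES⟩

/-- converse: pro-constructibility can be checked on a cover by spectral open subspaces -/
theorem isProConstructible_of_cover {F : Set X}
    (h : ∀ x : X, ∃ V : Set X, IsOpen V ∧ x ∈ V ∧ CompactSpace ↥V ∧ QuasiSeparatedSpace ↥V ∧
      IsOpen[constructibleTopology ↥V] (V ↓∩ F)ᶜ) : ProCons.IsProConstructible F := by
  intro x
  obtain ⟨V, hV, hxV, _, _, hF⟩ := h x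
  obtain ⟨S, hS, hFS⟩ := isClosed_cT_iff_sInter.mp hF
  exact ⟨V, hV, hxV, S, fun T hT => (hS T hT).isLocallyConstructible, hFS⟩

end Local

end Groth.Agent.Helper5.PC
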