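import Mathlib.AlgebraicGeometry.Morphisms.QuasiSeparated
import Mathlib.AlgebraicGeometry.Properties
import Groth.Agent.Lib.Helper5.ProConsTop

set_option autoImplicit false

universe u

namespace Groth.Agent.Helper5.PC

open Topology Set Set.Notation AlgebraicGeometry

section Scheme

variable {X : Scheme.{u}}

theorem compactSpace_of_isAffineOpen {V : X.Opens} (hV : IsAffineOpen V) :
    CompactSpace ↥(V : Set X) := isCompact_iff_compactSpace.mp hV.isCompact

theorem quasiSeparatedSpace_of_isAffineOpen {V : X.Opens} (hV : IsAffineOpen V) :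
    QuasiSeparatedSpace ↥(V : Set X) :=
  (isQuasiSeparated_iff_quasiSeparatedSpace _ V.isOpen).mp hV.isQuasiSeparated

theorem prespectralSpace_of_opens (V : X.Opens) : PrespectralSpace ↥(V : Set X) :=
  V.isOpen.isOpenEmbedding_subtypeVal.prespectralSpace

theorem quasiSober_of_opens (V : X.Opens) : QuasiSober ↥(V : Set X) :=
  V.isOpen.isOpenEmbedding_subtypeVal.quasiSober

theorem t0Space_of_opens (V : X.Opens) : T0Space ↥(V : Set X) := inferInstance

/-- every point of a scheme has an affine open neighbourhood -/
theorem exists_isAffineOpen_mem (x : X) : ∃ V : X.Opens, IsAffineOpen V ∧ x ∈ V := by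
  obtain ⟨V, hV, hx, -⟩ := (X.isBasis_affineOpens).exists_subset_of_mem_open
    (mem_univ x) isOpen_univ
  obtain ⟨W, hW, rfl⟩ := hV
  exact ⟨W, hW, hx⟩

theorem isOpen_cT_affine_of_isIndConstructible {V : X.Opens} (hV : IsAffineOpen V) {E : Set X}
    (hE : ProCons.IsIndConstructible E) :
    IsOpen[constructibleTopology ↥(V : Set X)] ((V : Set X) ↓∩ E) := by
  have := compactSpace_of_isAffineOpen hV
  have := quasiSeparatedSpace_of_isAffineOpen hV
  have := prespectralSpace_of_opens V
  exact isOpen_cT_of_isIndConstructible V.isOpen hE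

theorem isClosed_cT_affine_of_isProConstructible {V : X.Opens} (hV : IsAffineOpen V) {F : Set X}
    (hF : ProCons.IsProConstructible F) :
    IsOpen[constructibleTopology ↥(V : Set X)] ((V : Set X) ↓∩ F)ᶜ := by
  have := compactSpace_of_isAffineOpen hV
  have := quasiSeparatedSpace_of_isAffineOpen hV
  have := prespectralSpace_of_opens V
  exact isClosed_cT_of_isProConstructible V.isOpen hF

theorem isIndConstructible_of_affine_cover {E : Set X}
    (h : ∀ x : X, ∃ V : X.Opens, IsAffineOpen V ∧ x ∈ V ∧
      IsOpen[constructibleTopology ↥(V : Set X)] ((V : Set X) ↓∩ E)) :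
    ProCons.IsIndConstructible E := by
  apply isIndConstructible_of_cover
  intro x
  obtain ⟨V, hV, hxV, hE⟩ := h x
  exact ⟨V, V.isOpen, hxV, compactSpace_of_isAffineOpen hV, quasiSeparatedSpace_of_isAffineOpen hV,
    hE⟩

theorem isProConstructible_of_affine_cover {F : Set X}
    (h : ∀ x : X, ∃ V : X.Opens, IsAffineOpen V ∧ x ∈ V ∧
      IsOpen[constructibleTopology ↥(V : Set X)] ((V : Set X) ↓∩ F)ᶜ) :
    ProCons.IsProConstructible F := by
  apply isProConstructible_of_cover
  intro x
  obtain ⟨V, hV, hxV, hF⟩ := h x
  exact ⟨V, V.isOpen, hxV, compactSpace_of_isAffineOpen hV, quasiSeparatedSpace_of_isAffineOpen hV,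
    hF⟩

/-- ind-constructible iff open for the constructible topology on every affine open -/
theorem isIndConstructible_iff {E : Set X} :
    ProCons.IsIndConstructible E ↔ ∀ V : X.Opens, IsAffineOpen V →
      IsOpen[constructibleTopology ↥(V : Set X)] ((V : Set X) ↓∩ E) := by
  constructor
  · intro hE V hV
    exact isOpen_cT_affine_of_isIndConstructible hV hE
  · intro h
    apply isIndConstructible_of_affine_cover
    intro x
    obtain ⟨V, hV, hx⟩ := exists_isAffineOpen_mem x
    exact ⟨V, hV, hx, h V hV⟩

/-- pro-constructible iff closed for the constructible topology on every affine open -/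
theorem isProConstructible_iff {F : Set X} :
    ProCons.IsProConstructible F ↔ ∀ V : X.Opens, IsAffineOpen V →
      IsOpen[constructibleTopology ↥(V : Set X)] ((V : Set X) ↓∩ F)ᶜ := by
  constructor
  · intro hF V hV
    exact isClosed_cT_affine_of_isProConstructible hV hF
  · intro h
    apply isProConstructible_of_affine_cover
    intro x
    obtain ⟨V, hV, hx⟩ := exists_isAffineOpen_mem x
    exact ⟨V, hV, hx, h V hV⟩

end Scheme

end Groth.Agent.Helper5.PC
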