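import Mathlib.AlgebraicGeometry.Morphisms.Affine
import Groth.Agent.Lib.Helper5.ProConsScheme

set_option autoImplicit false

universe u

namespace Groth.Agent.Helper5.PC

open Topology Set Set.Notation AlgebraicGeometry CategoryTheory

variable {X' X : Scheme.{u}}

theorem resLE_apply_val (f : X' ⟶ X) (V : X.Opens) (W : X'.Opens) (e : W ≤ f ⁻¹ᵁ V)
    (z : W.toScheme) : ((f.resLE V W e) z).val = f z.val := by
  have h1 : (f.resLE V W e ≫ V.ι) z = (W.ι ≫ f) z := by rw [Scheme.Hom.resLE_comp_ι]
  rw [Scheme.Hom.comp_apply, Scheme.Hom.comp_apply] at h1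
  exact h1

/-- restriction of a morphism to open subsets, as a plain function between subtypes -/
def resFun (f : X' ⟶ X) (V : X.Opens) (W : X'.Opens) (e : W ≤ f ⁻¹ᵁ V) :
    ↥(W : Set X') → ↥(V : Set X) :=
  fun z => ⟨f z.1, e z.2⟩

theorem resFun_val (f : X' ⟶ X) (V : X.Opens) (W : X'.Opens) (e : W ≤ f ⁻¹ᵁ V)
    (z : ↥(W : Set X')) : (resFun f V W e z).1 = f z.1 := rfl

theorem isSpectralMap_resFun (f : X' ⟶ X) {V : X.Opens} (hV : IsAffineOpen V) {W : X'.Opens}
    (hW : IsAffineOpen W) (e : W ≤ f ⁻¹ᵁ V) : IsSpectralMap (resFun f V W e) := by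
  have : IsAffine V.toScheme := hV
  have : IsAffine W.toScheme := hW
  have hq : QuasiCompact (f.resLE V W e) := inferInstance
  have hsp := (f.resLE V W e).isSpectralMap
  have heq : resFun f V W e = ⇑(f.resLE V W e) := by
    funext z
    apply Subtype.ext
    rw [resLE_apply_val]
    rfl
  rw [heq]
  exact hsp

/-- the restriction of a morphism to affine opens maps sets closed for the constructible topology
to sets closed for the constructible topology -/
theorem isClosed_cT_image_resFun (f : X' ⟶ X) {V : X.Opens} (hV : IsAffineOpen V) {W : X'.Opens}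
    (hW : IsAffineOpen W) (e : W ≤ f ⁻¹ᵁ V) {s : Set ↥(W : Set X')}
    (hs : IsOpen[constructibleTopology ↥(W : Set X')] sᶜ) :
    IsOpen[constructibleTopology ↥(V : Set X)] (resFun f V W e '' s)ᶜ := by
  have hsp := isSpectralMap_resFun f hV hW e
  have := compactSpace_of_isAffineOpen hW
  have := quasiSeparatedSpace_of_isAffineOpen hW
  have := prespectralSpace_of_opens W
  have := quasiSober_of_opens W
  have := prespectralSpace_of_opens V
  have := t0Space_of_opens V
  exact isClosed_cT_image_of_isSpectralMap hsp hs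

/-- EGA IV 1.9.5 (vii): the image of a pro-constructible set under a quasi-compact morphism is
pro-constructible -/
theorem isProConstructible_image (f : X' ⟶ X) [QuasiCompact f] {E' : Set X'}
    (hE' : ProCons.IsProConstructible E') : ProCons.IsProConstructible (f '' E') := by
  rw [isProConstructible_iff]
  intro V hV
  have hcomp : IsCompact (f ⁻¹ᵁ V : Set X') := f.isCompact_preimage hV.isCompact
  obtain ⟨s, hs, hsV⟩ := isCompact_iff_finite_and_eq_biUnion_affineOpens.mp hcomp
  have hle : ∀ W : ↥s, (W.1 : X'.Opens) ≤ f ⁻¹ᵁ V := by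
    intro W
    rw [hsV]
    exact le_iSup₂ (f := fun (i : X'.affineOpens) (_ : i ∈ s) => (i : X'.Opens)) W.1 W.2
  have hfin : Finite ↥s := hs.to_subtype
  have heq : ((V : Set X) ↓∩ (f '' E')) = ⋃ W : ↥s,
      resFun f V W.1 (hle W) '' (((W.1 : X'.Opens) : Set X') ↓∩ E') := by
    ext y
    simp only [mem_preimage, mem_image, mem_iUnion]
    constructor
    · rintro ⟨x', hx'E, hx'y⟩
      have hx'V : x' ∈ f ⁻¹ᵁ V := by
        change f x' ∈ V
        rw [hx'y]; exact y.2
      rw [hsV] at hx'V
      simp only [TopologicalSpace.Opens.mem_iSup] at hx'V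
      obtain ⟨W, hWs, hx'W⟩ := hx'V
      refine ⟨⟨W, hWs⟩, ⟨x', hx'W⟩, hx'E, ?_⟩
      apply Subtype.ext
      exact hx'y
    · rintro ⟨W, z, hzE, hzy⟩
      refine ⟨z.1, hzE, ?_⟩
      rw [← hzy]
      rfl
  rw [heq, compl_iUnion]
  refine @isOpen_iInter_of_finite _ _ (constructibleTopology ↥(V : Set X)) _ _ (fun W => ?_)
  exact isClosed_cT_image_resFun f hV W.1.2 (hle W)
    (isClosed_cT_affine_of_isProConstructible W.1.2 hE')

end Groth.Agent.Helper5.PC
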