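import Mathlib.RingTheory.Spectrum.Prime.Topology
import Mathlib.RingTheory.LocalRing.ResidueField.Ideal
import Groth.Agent.Lib.Helper5.ProConsTop

set_option autoImplicit false

universe u

namespace Groth.Agent.Helper5.PC

open Topology Set PrimeSpectrum

section Algebra

variable {A : Type u} [CommRing A]

/-- a neighbourhood for the constructible topology of a point of a prime spectrum contains a
neighbourhood of the form `D(a) ∩ V(bs)` -/
theorem exists_basicOpen_inter_zeroLocus_subset {s : Set (PrimeSpectrum A)}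
    (hs : IsOpen[constructibleTopology (PrimeSpectrum A)] s) {p' : PrimeSpectrum A}
    (hp' : p' ∈ s) : ∃ (a : A) (bs : Finset A), a ∉ p'.asIdeal ∧ (∀ b ∈ bs, b ∈ p'.asIdeal) ∧
      ∀ p : PrimeSpectrum A, a ∉ p.asIdeal → (∀ b ∈ bs, b ∈ p.asIdeal) → p ∈ s := by
  classical
  have hbasis := @TopologicalSpace.isTopologicalBasis_of_subbasis (PrimeSpectrum A)
    (constructibleTopology (PrimeSpectrum A)) (constructibleTopologySubbasis (PrimeSpectrum A)) rfl
  obtain ⟨v, hv, hpv, hvs⟩ := @TopologicalSpace.IsTopologicalBasis.exists_subset_of_mem_open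
    (PrimeSpectrum A) (constructibleTopology (PrimeSpectrum A)) _ hbasis p' s hp' hs
  obtain ⟨f, ⟨hfin, hfsub⟩, rfl⟩ := hv
  suffices h : ∃ (a : A) (bs : Finset A), a ∉ p'.asIdeal ∧ (∀ b ∈ bs, b ∈ p'.asIdeal) ∧
      ∀ p : PrimeSpectrum A, a ∉ p.asIdeal → (∀ b ∈ bs, b ∈ p.asIdeal) → p ∈ ⋂₀ f by
    obtain ⟨a, bs, h1, h2, h3⟩ := h
    exact ⟨a, bs, h1, h2, fun p hp1 hp2 => hvs (h3 p hp1 hp2)⟩
  clear hvs
  induction f, hfin using Set.Finite.induction_on with
  | empty =>
    refine ⟨1, ∅, ?_, by simp, by simp⟩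
    exact fun h => p'.2.ne_top ((Ideal.eq_top_iff_one _).mpr h)
  | @insert t f htf hfin ih =>
    obtain ⟨a, bs, h1, h2, h3⟩ := ih (fun x hx => hfsub (mem_insert_of_mem t hx))
      (fun x hx => hpv x (mem_insert_of_mem t hx))
    have hpt : p' ∈ t := hpv t (mem_insert t f)
    have key : ∃ (a' : A) (bs' : Finset A), a' ∉ p'.asIdeal ∧ (∀ b ∈ bs', b ∈ p'.asIdeal) ∧
        ∀ p : PrimeSpectrum A, a' ∉ p.asIdeal → (∀ b ∈ bs', b ∈ p.asIdeal) → p ∈ t := by
      rcases hfsub (mem_insert t f) with h | h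
      · obtain ⟨_, ⟨a', rfl⟩, hp'a, hat⟩ :=
          isTopologicalBasis_basic_opens.exists_subset_of_mem_open hpt h.1
        refine ⟨a', ∅, hp'a, by simp, fun p hp _ => hat hp⟩
      · obtain ⟨bs', hbs'⟩ := isCompact_isOpen_iff.mp ⟨h.2, h.1.isOpen_compl⟩
        rw [compl_inj_iff] at hbs'
        refine ⟨1, bs', fun h => p'.2.ne_top ((Ideal.eq_top_iff_one _).mpr h), ?_, ?_⟩
        · intro b hb
          rw [← hbs'] at hpt
          exact hpt hb
        · intro p _ hp
          rw [← hbs']
          exact fun b hb => hp b hb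
    obtain ⟨a', bs', h1', h2', h3'⟩ := key
    refine ⟨a' * a, bs' ∪ bs, ?_, ?_, ?_⟩
    · intro h
      rcases p'.2.mem_or_mem h with h | h
      · exact h1' h
      · exact h1 h
    · intro b hb
      rcases Finset.mem_union.mp hb with hb | hb
      · exact h2' b hb
      · exact h2 b hb
    · intro p hp1 hp2
      rw [sInter_insert]
      refine ⟨h3' p (fun h => hp1 (Ideal.mul_mem_right _ _ h))
        (fun b hb => hp2 b (Finset.mem_union_left _ hb)), h3 p (fun h => hp1 (Ideal.mul_mem_left _ _ h))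
        (fun b hb => hp2 b (Finset.mem_union_right _ hb))⟩

variable (E : Set (PrimeSpectrum A))

/-- the product of the residue fields at the points of `E` -/
abbrev ProdRes : Type u := ∀ p : ↥E, p.1.asIdeal.ResidueField

/-- the canonical map to the product of the residue fields -/
noncomputable def toProdRes : A →+* ProdRes E :=
  RingHom.pi (fun p => algebraMap A p.1.asIdeal.ResidueField)

@[simp] theorem toProdRes_apply (a : A) (p : ↥E) :
    toProdRes E a p = algebraMap A p.1.asIdeal.ResidueField a := rfl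

theorem subset_range_comap_toProdRes : E ⊆ range (comap (toProdRes E)) := by
  intro p hp
  let q : Ideal (ProdRes E) := Ideal.comap (Pi.evalRingHom _ (⟨p, hp⟩ : ↥E)) ⊥
  have hq : q.IsPrime := Ideal.comap_isPrime _ _
  refine ⟨⟨q, hq⟩, ?_⟩
  apply PrimeSpectrum.ext
  ext a
  rw [comap_asIdeal, Ideal.mem_comap]
  change toProdRes E a ⟨p, hp⟩ ∈ (⊥ : Ideal _) ↔ _
  rw [Ideal.mem_bot, toProdRes_apply, Ideal.algebraMap_residueField_eq_zero]

theorem range_comap_toProdRes_subset
    (hE : IsOpen[constructibleTopology (PrimeSpectrum A)] Eᶜ) :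
    range (comap (toProdRes E)) ⊆ E := by
  classical
  rintro _ ⟨q, rfl⟩
  by_contra hnot
  obtain ⟨a, bs, h1, h2, h3⟩ := exists_basicOpen_inter_zeroLocus_subset hE hnot
  rw [comap_asIdeal, Ideal.mem_comap] at h1
  let c : ProdRes E := toProdRes E a * ∏ b ∈ bs, (1 - toProdRes E b * (toProdRes E b)⁻¹)
  have hc : c = 0 := by
    funext p
    change toProdRes E a p * (∏ b ∈ bs, (1 - toProdRes E b * (toProdRes E b)⁻¹)) p = 0
    rw [Finset.prod_apply]
    by_cases ha : a ∈ p.1.asIdeal
    · rw [toProdRes_apply, Ideal.algebraMap_residueField_eq_zero.mpr ha, zero_mul]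
    · have : ¬ ∀ b ∈ bs, b ∈ p.1.asIdeal := fun hb => h3 p.1 ha hb p.2
      rw [not_forall] at this
      obtain ⟨b, hb⟩ := this
      rw [Classical.not_imp] at hb
      obtain ⟨hbs, hb⟩ := hb
      have hne : algebraMap A p.1.asIdeal.ResidueField b ≠ 0 := fun h =>
        hb (Ideal.algebraMap_residueField_eq_zero.mp h)
      rw [Finset.prod_eq_zero hbs, mul_zero]
      change 1 - toProdRes E b p * (toProdRes E b p)⁻¹ = 0
      rw [toProdRes_apply, mul_inv_cancel₀ hne, sub_self]
  have hcq : c ∈ q.asIdeal := by rw [hc]; exact zero_mem _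
  rcases q.2.mem_or_mem hcq with h | h
  · exact h1 h
  · rw [Ideal.IsPrime.prod_mem_iff] at h
    obtain ⟨b, hbs, hb⟩ := h
    have hbq : toProdRes E b ∈ q.asIdeal := by
      have := h2 b hbs
      rwa [comap_asIdeal, Ideal.mem_comap] at this
    have h1q : (1 : ProdRes E) ∈ q.asIdeal := by
      have h2q := Ideal.mul_mem_right (toProdRes E b)⁻¹ _ hbq
      have := add_mem hb h2q
      rwa [sub_add_cancel] at this
    exact q.2.ne_top ((Ideal.eq_top_iff_one _).mpr h1q)

/-- a subset of a prime spectrum closed for the constructible topology is the image of the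
spectrum of the product of its residue fields -/
theorem range_comap_toProdRes (hE : IsOpen[constructibleTopology (PrimeSpectrum A)] Eᶜ) :
    range (comap (toProdRes E)) = E :=
  subset_antisymm (range_comap_toProdRes_subset E hE) (subset_range_comap_toProdRes E)

end Algebra

end Groth.Agent.Helper5.PC
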