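import Mathlib.AlgebraicGeometry.Limits
import Groth.Agent.Lib.Helper5.ProConsSpec
import Groth.Agent.Lib.Helper5.ProConsImage

set_option autoImplicit false

universe u

namespace Groth.Agent.Helper5.PC

open Topology Set Set.Notation AlgebraicGeometry CategoryTheory Limits

section Top

variable {Z : Type*} [TopologicalSpace Z]

theorem isOpen_cT_of_eq_univ {V : Set Z} (hV : V = univ) {s : Set Z}
    (hs : IsOpen[constructibleTopology ↥V] (V ↓∩ s)) : IsOpen[constructibleTopology Z] s := by
  subst hV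
  have hsp : IsSpectralMap (Homeomorph.Set.univ Z).symm :=
    (Homeomorph.Set.univ Z).symm.isProperMap.isSpectralMap
  have := @IsOpen.preimage Z ↥(univ : Set Z) (constructibleTopology Z)
    (constructibleTopology ↥(univ : Set Z)) _ (continuous_cT_of_isSpectralMap hsp) _ hs
  exact this

end Top

variable {X' X : Scheme.{u}}

/-- preimages of pro-constructible sets are pro-constructible -/
theorem isProConstructible_preimage (f : X' ⟶ X) {F : Set X}
    (hF : ProCons.IsProConstructible F) : ProCons.IsProConstructible (f ⁻¹' F) := by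
  apply isProConstructible_of_affine_cover
  intro x'
  obtain ⟨V, hV, hxV⟩ := exists_isAffineOpen_mem (f x')
  have hx'V : x' ∈ f ⁻¹ᵁ V := hxV
  obtain ⟨_, ⟨W, hW, rfl⟩, hx'W, hWV⟩ := (X'.isBasis_affineOpens).exists_subset_of_mem_open
    hx'V (f ⁻¹ᵁ V).isOpen
  have e : W ≤ f ⁻¹ᵁ V := hWV
  refine ⟨W, hW, hx'W, ?_⟩
  have hsp := isSpectralMap_resFun f hV hW e
  have h1 := isClosed_cT_affine_of_isProConstructible hV hF
  exact @IsOpen.preimage _ _ (constructibleTopology ↥(W : Set X'))
    (constructibleTopology ↥(V : Set X)) _ (continuous_cT_of_isSpectralMap hsp) _ h1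

/-- preimages of ind-constructible sets are ind-constructible -/
theorem isIndConstructible_preimage (f : X' ⟶ X) {F : Set X}
    (hF : ProCons.IsIndConstructible F) : ProCons.IsIndConstructible (f ⁻¹' F) := by
  apply isIndConstructible_of_affine_cover
  intro x'
  obtain ⟨V, hV, hxV⟩ := exists_isAffineOpen_mem (f x')
  have hx'V : x' ∈ f ⁻¹ᵁ V := hxV
  obtain ⟨_, ⟨W, hW, rfl⟩, hx'W, hWV⟩ := (X'.isBasis_affineOpens).exists_subset_of_mem_open
    hx'V (f ⁻¹ᵁ V).isOpen
  have e : W ≤ f ⁻¹ᵁ V := hWV
  refine ⟨W, hW, hx'W, ?_⟩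
  have hsp := isSpectralMap_resFun f hV hW e
  have h1 := isOpen_cT_affine_of_isIndConstructible hV hF
  exact @IsOpen.preimage _ _ (constructibleTopology ↥(W : Set X'))
    (constructibleTopology ↥(V : Set X)) _ (continuous_cT_of_isSpectralMap hsp) _ h1

/-- a pro-constructible subset of `Spec R` is the image of an affine scheme -/
theorem exists_affine_range_eq_of_Spec (R : CommRingCat.{u}) {E : Set (Spec R)}
    (hE : ProCons.IsProConstructible E) :
    ∃ (X' : Scheme.{u}) (f : X' ⟶ Spec R), IsAffine X' ∧ Set.range f = E := by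
  have h1 := isClosed_cT_affine_of_isProConstructible (isAffineOpen_top (Spec R)) hE
  have h2 : IsOpen[constructibleTopology (PrimeSpectrum R)] (E : Set (PrimeSpectrum R))ᶜ :=
    isOpen_cT_of_eq_univ (TopologicalSpace.Opens.coe_top) h1
  have h3 := range_comap_toProdRes (A := R) E h2
  refine ⟨Spec (CommRingCat.of (ProdRes (A := R) E)),
    Spec.map (CommRingCat.ofHom (toProdRes (A := R) E)), inferInstance, ?_⟩
  exact h3

/-- a pro-constructible subset of an affine scheme is the image of an affine scheme -/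
theorem exists_affine_range_eq_of_isAffine (Y : Scheme.{u}) [IsAffine Y] {E : Set Y}
    (hE : ProCons.IsProConstructible E) :
    ∃ (X' : Scheme.{u}) (f : X' ⟶ Y), IsAffine X' ∧ Set.range f = E := by
  obtain ⟨X', g, hX', hg⟩ := exists_affine_range_eq_of_Spec Γ(Y, ⊤)
    (isProConstructible_preimage Y.isoSpec.inv hE)
  refine ⟨X', g ≫ Y.isoSpec.inv, hX', ?_⟩
  have hsurj : Function.Surjective Y.isoSpec.inv := Y.isoSpec.inv.surjective
  rw [Scheme.Hom.comp_base, TopCat.coe_comp, Set.range_comp, hg,
    Set.image_preimage_eq _ hsurj]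

/-- EGA IV 1.9.5 (ix), hard direction: a pro-constructible subset of a quasi-compact scheme is the
image of an affine scheme -/
theorem exists_affine_range_eq (X : Scheme.{u}) [CompactSpace X] {E : Set X}
    (hE : ProCons.IsProConstructible E) :
    ∃ (X' : Scheme.{u}) (f : X' ⟶ X), IsAffine X' ∧ Set.range f = E := by
  let 𝒰 := X.affineCover.finiteSubcover
  let π : (∐ 𝒰.X) ⟶ X := Sigma.desc 𝒰.f
  have hπ : Function.Surjective π := by
    intro x
    obtain ⟨y, hy⟩ := 𝒰.covers x
    refine ⟨Sigma.ι 𝒰.X (𝒰.idx x) y, ?_⟩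
    rw [← Scheme.Hom.comp_apply, Sigma.ι_desc]
    exact hy
  obtain ⟨X', g, hX', hg⟩ := exists_affine_range_eq_of_isAffine (∐ 𝒰.X)
    (isProConstructible_preimage π hE)
  refine ⟨X', g ≫ π, hX', ?_⟩
  rw [Scheme.Hom.comp_base, TopCat.coe_comp, Set.range_comp, hg, Set.image_preimage_eq _ hπ]

end Groth.Agent.Helper5.PC
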