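import Groth.Agent.Lib.Helper5.ProConsImage2
import Groth.Agent.Lib.Helper5.ProConsAffineImage

set_option autoImplicit false

universe u

namespace Groth.Agent.Helper5.PC

open Topology Set Set.Notation AlgebraicGeometry CategoryTheory

variable {X Y : Scheme.{u}}

/-- points are pro-constructible -/
theorem isProConstructible_singleton (y : Y) : ProCons.IsProConstructible ({y} : Set Y) := by
  rw [isProConstructible_iff]
  intro V hV
  have := prespectralSpace_of_opens V
  have := t0Space_of_opens V
  have hT2 : @T2Space ↥(V : Set Y) (constructibleTopology ↥(V : Set Y)) := t2Space_cT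
  by_cases hy : y ∈ (V : Set Y)
  · have : ((V : Set Y) ↓∩ ({y} : Set Y)) = {(⟨y, hy⟩ : ↥(V : Set Y))} := by
      ext z
      simp only [mem_preimage, mem_singleton_iff]
      exact ⟨fun h => Subtype.ext h, fun h => congrArg Subtype.val h⟩
    rw [this]
    exact (@isClosed_singleton ↥(V : Set Y) (constructibleTopology ↥(V : Set Y)) _ _).isOpen_compl
  · have : ((V : Set Y) ↓∩ ({y} : Set Y)) = ∅ := by
      ext z
      simp only [mem_preimage, mem_singleton_iff, mem_empty_iff_false, iff_false]
      intro h
      exact hy (h ▸ z.2)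
    rw [this, compl_empty]
    exact @isOpen_univ _ (constructibleTopology ↥(V : Set Y))

/-- open subsets are ind-constructible -/
theorem isIndConstructible_of_isOpen {U : Set X} (hU : IsOpen U) :
    ProCons.IsIndConstructible U := by
  rw [isIndConstructible_iff]
  intro V hV
  have := prespectralSpace_of_opens V
  rw [@isOpen_iff_forall_mem_open ↥(V : Set X) (constructibleTopology ↥(V : Set X))]
  intro z hz
  obtain ⟨K, ⟨hKo, hKc⟩, hzK, hKU⟩ := PrespectralSpace.isTopologicalBasis.mem_nhds_iff.mp
    ((hU.preimage continuous_subtype_val).mem_nhds hz)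
  exact ⟨K, hKU, isOpen_cT_of_isCompact_isOpen hKc hKo, hzK⟩

/-- EGA IV 1.10.3, first half: if `f` is open at `x`, generizations of `f x` lift to
generizations of `x` -/
theorem exists_specializes_of_isOpenAt (f : X ⟶ Y) (x : X)
    (hopen : ∀ U ∈ nhds x, f '' U ∈ nhds (f x)) (y' : Y) (hy' : y' ⤳ f x) :
    ∃ x' : X, x' ⤳ x ∧ f x' = y' := by
  classical
  obtain ⟨V, hV, hxV⟩ := exists_isAffineOpen_mem x
  have := compactSpace_of_isAffineOpen hV
  have := quasiSeparatedSpace_of_isAffineOpen hV
  have := prespectralSpace_of_opens V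
  have := quasiSober_of_opens V
  let y : ↥(V : Set X) := ⟨x, hxV⟩
  let F : Set ↥(V : Set X) := (V : Set X) ↓∩ (f ⁻¹' {y'})
  have hF : IsOpen[constructibleTopology ↥(V : Set X)] Fᶜ :=
    isClosed_cT_affine_of_isProConstructible hV
      (isProConstructible_preimage f (isProConstructible_singleton y'))
  let ι := {K : Set ↥(V : Set X) // IsOpen K ∧ IsCompact K ∧ y ∈ K}
  let G : Option ι → Set ↥(V : Set X) := fun o => match o with
    | none => F
    | some K => K.1
  have hG : ∀ o, IsOpen[constructibleTopology ↥(V : Set X)] (G o)ᶜ := by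
    intro o
    cases o with
    | none => exact hF
    | some K => exact isOpen_cT_compl_of_isCompact_isOpen K.2.2.1 K.2.1
  -- the intersection of the whole family is nonempty
  have hne : (⋂ o, G o).Nonempty := by
    by_contra hempty
    rw [not_nonempty_iff_eq_empty] at hempty
    obtain ⟨J, hJ⟩ := exists_finset_iInter_subset
      (@isOpen_empty _ (constructibleTopology ↥(V : Set X))) G hG hempty.subset
    -- the open neighbourhood cut out by the finitely many `K`
    let O : Set ↥(V : Set X) := ⋂ K ∈ J.eraseNone, (K : ι).1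
    have hOo : IsOpen O := isOpen_biInter_finset (fun K _ => K.2.1)
    have hyO : y ∈ O := mem_iInter₂.mpr (fun K _ => K.2.2.2)
    have hO' : (Subtype.val '' O : Set X) ∈ nhds x :=
      (V.isOpen.isOpenMap_subtype_val _ hOo).mem_nhds ⟨y, hyO, rfl⟩
    have h1 : f '' (Subtype.val '' O) ∈ nhds y' := hy'.ge (hopen _ hO')
    obtain ⟨_, ⟨z, hzO, rfl⟩, hz⟩ := mem_of_mem_nhds h1
    have hzmem : z ∈ ⋂ o ∈ J, G o := by
      rw [mem_iInter₂]
      intro o ho
      cases o with
      | none => exact hz
      | some K => exact mem_iInter₂.mp hzO K (Finset.mem_eraseNone.mpr ho)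
    exact hJ hzmem
  obtain ⟨z, hz⟩ := hne
  rw [mem_iInter] at hz
  refine ⟨z.1, ?_, hz none⟩
  have hzy : z ⤳ y := by
    rw [specializes_iff_forall_open]
    intro U hU hyU
    obtain ⟨K, ⟨hKo, hKc⟩, hyK, hKU⟩ :=
      PrespectralSpace.isTopologicalBasis.mem_nhds_iff.mp (hU.mem_nhds hyU)
    exact hKU (hz (some ⟨K, hKo, hKc, hyK⟩))
  exact hzy.map continuous_subtype_val

end Groth.Agent.Helper5.PC
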