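import Groth.Agent.Lib.Helper5.SkyMod2
import Groth.Agent.Lib.Helper5.StalkCx2
import Groth.Agent.Lib.Helper13.PbTensor

/-!
# The stalk of a pullback on germs of pulled-back sections
-/

set_option autoImplicit false
set_option linter.unusedSectionVars false
set_option linter.unusedVariables false
set_option linter.style.haveILetI false

universe u

open CategoryTheory CategoryTheory.Limits AlgebraicGeometry Opposite TopologicalSpace

namespace Groth.Agent.Helper5.PBT

open Groth.Agent.Helper5.Sky Groth.Agent.Helper13.PbGen Groth.Agent.Helper13.QCoh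

variable {X Y : Scheme.{u}} (f : X ⟶ Y) (x : X)

/-- first adjunction -/
noncomputable abbrev adj1 : Scheme.Modules.pullback f ⋙ DerSch.stalkFunctor X x ⊣
    skyF x ⋙ Scheme.Modules.pushforward f :=
  (Scheme.Modules.pullbackPushforwardAdjunction f).comp (stalkSkyAdj x)

/-- second adjunction -/
noncomputable abbrev adj2 : DerSch.stalkFunctor Y (f.base x) ⋙ ModuleCat.extendScalars (φst f x) ⊣
    skyF x ⋙ Scheme.Modules.pushforward f :=
  ((stalkSkyAdj (f.base x)).comp (ModuleCat.extendRestrictScalarsAdj (φst f x))).ofNatIsoRight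
      (pushSkyNatIso f x).symm

lemma pullbackStalkIso_eq : pullbackStalkIso f x = (adj1 f x).leftAdjointUniq (adj2 f x) := rfl

theorem unit_eq (M : Y.Modules) :
    (adj1 f x).unit.app M ≫ (skyF x ⋙ Scheme.Modules.pushforward f).map
      ((pullbackStalkIso f x).hom.app M) = (adj2 f x).unit.app M :=
  Adjunction.unit_leftAdjointUniq_hom_app (adj1 f x) (adj2 f x) M

open ChangeOfRings in
/-- the stalk of the pullback, on the germ of a pulled-back section -/
theorem pullbackStalkIso_hom_germ (M : Y.Modules) (V : Y.Opens) (hx : f.base x ∈ V)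
    (hx' : x ∈ f ⁻¹ᵁ V) (a : Γ(M, V)) :
    (pullbackStalkIso f x).hom.app M (((Scheme.Modules.pullback f).obj M).presheaf.germ
      (f ⁻¹ᵁ V) x hx' (ηsec f M V a)) =
      ((1 : X.presheaf.stalk x) ⊗ₜ[Y.presheaf.stalk (f.base x), φst f x]
        (show ((DerSch.stalkFunctor Y (f.base x)).obj M) from M.presheaf.germ V (f.base x) hx a)) := by
  have h := unit_eq f x M
  have h2 := congrArg (fun φ => ((Scheme.Modules.Hom.app φ V a :
    Sec x ((DerSch.stalkFunctor Y (f.base x) ⋙ ModuleCat.extendScalars (φst f x)).obj M)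
      (f ⁻¹ᵁ V))) ⟨hx⟩) h
  simp only at h2
  refine Eq.trans ?_ (h2.trans ?_)
  · rfl
  · rfl

open ChangeOfRings in
/-- the inverse form -/
theorem pullbackStalkIso_inv_tmul (M : Y.Modules) (V : Y.Opens) (hx : f.base x ∈ V)
    (hx' : x ∈ f ⁻¹ᵁ V) (a : Γ(M, V)) :
    (pullbackStalkIso f x).inv.app M
      ((1 : X.presheaf.stalk x) ⊗ₜ[Y.presheaf.stalk (f.base x), φst f x]
        (show ((DerSch.stalkFunctor Y (f.base x)).obj M) from M.presheaf.germ V (f.base x) hx a)) =
      ((Scheme.Modules.pullback f).obj M).presheaf.germ (f ⁻¹ᵁ V) x hx' (ηsec f M V a) := by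
  have h := pullbackStalkIso_hom_germ f x M V hx hx' a
  refine (congrArg (fun t => (pullbackStalkIso f x).inv.app M t) h).symm.trans ?_
  exact congr($((pullbackStalkIso f x).hom_inv_id_app M) _)

end Groth.Agent.Helper5.PBT
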