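import Groth.Agent.Lib.Helper5.KRes7

/-!
# Bounded above K-flat resolutions of bounded above complexes of `O_X`-modules
-/

set_option autoImplicit false
set_option linter.unusedSectionVars false
set_option linter.unusedVariables false
set_option linter.style.haveILetI false

universe u

open CategoryTheory CategoryTheory.Limits AlgebraicGeometry HomologicalComplex ZeroObject

namespace Groth.Agent.Helper5.KResB

open Groth.Agent.Helper5.KRes CochainComplex

variable {X : Scheme.{u}}

/-- covering an object by a flat one, the zero object being covered by itself -/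
noncomputable def covAux (A : X.Modules) : Σ B : X.Modules, (B ⟶ A) :=
  open Classical in if IsZero A then ⟨A, 𝟙 A⟩ else ⟨FlatGen.cover A, FlatGen.coverπ A⟩

lemma covAux_of_isZero (A : X.Modules) (h : IsZero A) : covAux A = ⟨A, 𝟙 A⟩ := by
  unfold covAux
  rw [if_pos h]

lemma covAux_of_not_isZero (A : X.Modules) (h : ¬ IsZero A) :
    covAux A = ⟨FlatGen.cover A, FlatGen.coverπ A⟩ := by
  unfold covAux
  rw [if_neg h]

/-- covering data by flat modules with `obj 0 = 0` -/
noncomputable def covB (X : Scheme.{u}) : Cov X.Modules where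
  obj A := (covAux A).1
  π A := (covAux A).2
  epi A := by
    by_cases h : IsZero A
    · rw [covAux_of_isZero A h]
      infer_instance
    · rw [covAux_of_not_isZero A h]
      exact inferInstanceAs (Epi (FlatGen.coverπ A))

lemma isZero_covB_obj (A : X.Modules) (h : IsZero A) : IsZero ((covB X).obj A) := by
  change IsZero (covAux A).1
  rw [covAux_of_isZero A h]
  exact h

lemma isFlat_covB_obj (A : X.Modules) : FlatMod.IsFlat ((covB X).obj A) := by
  change FlatMod.IsFlat (covAux A).1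
  by_cases h : IsZero A
  · rw [covAux_of_isZero A h]
    exact isFlat_of_isZero _ h
  · rw [covAux_of_not_isZero A h]
    exact FlatGen.isFlat_cover _

section Step

variable {L M : CochainComplex X.Modules ℤ} (g : L ⟶ M)

lemma isFlat_cellCx_X (n : ℤ) : FlatMod.IsFlat ((cellCx (covB X) g).X n) :=
  isFlat_covB_obj _

lemma isKFlat_cellCx : DCoh.IsKFlat (cellCx (covB X) g) := by
  apply StalkCx.isKFlat_of_stalks
  intro x
  exact KF.KFl.of_d_eq_zero _ (fun i j => (DerSch.stalkFunctor X x).map_zero _ _)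
    (fun i => isFlat_cellCx_X g i x)

lemma isKFlat_stepL (hL : DCoh.IsKFlat L) : DCoh.IsKFlat (stepL (covB X) g) :=
  KFA.IsKFl.cone (DCoh.tensorBi (X := X)) (cellφ (covB X) g) (isKFlat_cellCx g) hL

lemma isFlat_stepL_X (hL : ∀ n, FlatMod.IsFlat (L.X n)) (n : ℤ) :
    FlatMod.IsFlat ((stepL (covB X) g).X n) :=
  isFlat_mappingCone_X _ (isFlat_cellCx_X g) hL n

lemma isZero_biprod {A B : X.Modules} (hA : IsZero A) (hB : IsZero B) : IsZero (A ⊞ B) := by
  rw [IsZero.iff_id_eq_zero]
  apply biprod.hom_ext'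
  · exact hA.eq_of_src _ _
  · exact hB.eq_of_src _ _

lemma isZero_mappingCone_X {K N : CochainComplex X.Modules ℤ} (φ : K ⟶ N) (i : ℤ)
    (hK : IsZero (K.X (i + 1))) (hN : IsZero (N.X i)) : IsZero ((mappingCone φ).X i) :=
  IsZero.of_iso (isZero_biprod hK hN) (homotopyCofiber.XIsoBiprod φ i (i + 1) rfl)

lemma isZero_stepL_X (n₀ : ℤ) (hL : ∀ i, n₀ < i → IsZero (L.X i))
    (hM : ∀ i, n₀ < i → IsZero (M.X i)) (i : ℤ) (hi : n₀ < i) :
    IsZero ((stepL (covB X) g).X i) := by
  have hcyc : ∀ j, n₀ < j → IsZero ((mappingCone g).cycles j) := by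
    intro j hj
    exact IsZero.of_mono ((mappingCone g).iCycles j)
      (isZero_mappingCone_X g j (hL _ (by omega)) (hM _ hj))
  apply isZero_mappingCone_X
  · exact isZero_covB_obj _ (hcyc _ (by omega))
  · exact hL i hi

end Step

section Stages

variable {M : CochainComplex X.Modules ℤ} (s₀ : Stage M)

/-- the stages, obtained by attaching cells repeatedly -/
noncomputable def stage : ℕ → Stage M
  | 0 => s₀
  | n + 1 => ⟨stepL (covB X) (stage n).g, stepg (covB X) (stage n).g⟩

noncomputable def stageι (n : ℕ) : (stage s₀ n).L ⟶ (stage s₀ (n + 1)).L :=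
  stepι (covB X) (stage s₀ n).g

lemma stageι_g (n : ℕ) : stageι s₀ n ≫ (stage s₀ (n + 1)).g = (stage s₀ n).g :=
  stepι_stepg _ _

/-- the sequence of stages -/
noncomputable def resF : ℕ ⥤ CochainComplex X.Modules ℤ := Functor.ofSequence (stageι s₀)

lemma resF_map_succ (n : ℕ) : (resF s₀).map (homOfLE (Nat.le_succ n)) = stageι s₀ n :=
  Functor.ofSequence_map_homOfLE_succ _ n

noncomputable def resCocone : Cocone (resF s₀) where
  pt := M
  ι := NatTrans.ofSequence (fun n => (stage s₀ n).g) (by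
    intro n
    have h := stageι_g s₀ n
    have h2 := resF_map_succ s₀ n
    rw [show (resF s₀).map (homOfLE (Nat.le_add_right n 1)) = stageι s₀ n from h2]
    exact h.trans (Category.comp_id _).symm)

/-- the resolution -/
noncomputable def resK : CochainComplex X.Modules ℤ := colimit (resF s₀)

noncomputable def resf : resK s₀ ⟶ M := colimit.desc (resF s₀) (resCocone s₀)

lemma ι_resf (n : ℕ) : colimit.ι (resF s₀) n ≫ resf s₀ = (stage s₀ n).g :=
  colimit.ι_desc _ _

theorem resf_quasiIso : QuasiIso (resf s₀) := by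
  have h := quasiIso_of_stalk_kill (resF s₀) (resCocone s₀) (colimit.cocone (resF s₀))
    (colimit.isColimit (resF s₀)) ?_
  · exact h
  · intro x k n n' hn x' m hx' hm
    obtain ⟨y, hy1, hy2⟩ := kill' (covB X) (stage s₀ k).g (DerSch.stalkFunctor X x) n n' hn x' m
      hx' hm
    refine ⟨y, ?_, hy2⟩
    refine hy1.trans ?_
    change (DerSch.stalkFunctor X x).map ((stageι s₀ k).f n') x' =
      (DerSch.stalkFunctor X x).map (((resF s₀).map (homOfLE (Nat.le_succ k))).f n') x'
    rw [resF_map_succ]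
    rfl

lemma stage_isKFlat (h₀ : DCoh.IsKFlat s₀.L) : ∀ n : ℕ, DCoh.IsKFlat (stage s₀ n).L
  | 0 => h₀
  | n + 1 => isKFlat_stepL _ (stage_isKFlat h₀ n)

lemma stage_isFlat (h₀ : ∀ q : ℤ, FlatMod.IsFlat (s₀.L.X q)) :
    ∀ (n : ℕ) (q : ℤ), FlatMod.IsFlat ((stage s₀ n).L.X q)
  | 0, q => h₀ q
  | n + 1, q => isFlat_stepL_X _ (stage_isFlat h₀ n) q

lemma stage_isZero (n₀ : ℤ) (hM : ∀ i, n₀ < i → IsZero (M.X i))
    (h₀ : ∀ i, n₀ < i → IsZero (s₀.L.X i)) :
    ∀ (n : ℕ) (i : ℤ), n₀ < i → IsZero ((stage s₀ n).L.X i)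
  | 0, i, hi => h₀ i hi
  | n + 1, i, hi => isZero_stepL_X _ n₀ (stage_isZero n₀ hM h₀ n) hM i hi

theorem resK_isKFlat (h₀ : DCoh.IsKFlat s₀.L) : DCoh.IsKFlat (resK s₀) :=
  isKFlat_of_isColimit_nat (resF s₀) (colimit.cocone (resF s₀)) (colimit.isColimit (resF s₀))
    (stage_isKFlat s₀ h₀)

theorem resK_isFlat (h₀ : ∀ q : ℤ, FlatMod.IsFlat (s₀.L.X q)) (q : ℤ) :
    FlatMod.IsFlat ((resK s₀).X q) := by
  intro x
  exact KF.G.flat_X_of_isColimit (resF s₀ ⋙ Sx x)
    ((Sx x).mapCocone (colimit.cocone (resF s₀)))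
    (isColimitOfPreserves (Sx x) (colimit.isColimit (resF s₀)))
    (fun n q => stage_isFlat s₀ h₀ n q x) q

theorem resK_isZero (n₀ : ℤ) (hM : ∀ i, n₀ < i → IsZero (M.X i))
    (h₀ : ∀ i, n₀ < i → IsZero (s₀.L.X i)) (i : ℤ) (hi : n₀ < i) : IsZero ((resK s₀).X i) := by
  have hc := isColimitOfPreserves (HomologicalComplex.eval X.Modules (ComplexShape.up ℤ) i)
    (colimit.isColimit (resF s₀))
  change IsZero (((HomologicalComplex.eval X.Modules (ComplexShape.up ℤ) i).mapCocone
    (colimit.cocone (resF s₀))).pt)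
  rw [IsZero.iff_id_eq_zero]
  apply hc.hom_ext
  intro k
  exact (stage_isZero s₀ n₀ hM h₀ k i hi).eq_of_src _ _

end Stages

/-- a bounded above complex has a bounded above K-flat resolution with flat terms -/
theorem exists_kFlat_resolution_bddAbove (G : CochainComplex X.Modules ℤ) (n₀ : ℤ)
    (hG : ∀ i, n₀ < i → IsZero (G.X i)) :
    ∃ (K : CochainComplex X.Modules ℤ) (q : K ⟶ G), DCoh.IsKFlat K ∧
      (∀ n : ℤ, FlatMod.IsFlat (K.X n)) ∧ QuasiIso q ∧ ∀ i, n₀ < i → IsZero (K.X i) :=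
  ⟨resK (⟨0, 0⟩ : Stage G), resf _, resK_isKFlat _ isKFlat_zero,
    resK_isFlat _ (fun q => isFlat_zero_X q), resf_quasiIso _,
    resK_isZero _ n₀ hG (fun i _ =>
      (HomologicalComplex.eval _ _ i).map_isZero (isZero_zero _))⟩

end Groth.Agent.Helper5.KResB
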