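import Groth.Agent.Lib.Helper5.BCF4
import Groth.Agent.Lib.Helper5.KResB1
import Groth.Agent.Lib.Helper5.PC3

/-!
# Base change of relative flat amplitude and of relative perfectness
-/

set_option autoImplicit false
set_option linter.unusedSectionVars false
set_option linter.unusedVariables false
set_option linter.style.haveILetI false

universe u

open CategoryTheory CategoryTheory.Limits AlgebraicGeometry

attribute [local instance] HasDerivedCategory.standard

namespace Groth.Agent.Helper5.BCF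

open Groth.Agent.Helper5.LDer Groth.Agent.Helper5.PC

variable {X S X' S' : Scheme.{u}} {f : X ⟶ S} {f' : X' ⟶ S'} {g' : X' ⟶ X} {g : S' ⟶ S}

lemma hasRelFlatAmplitudeIn_of_iso {a b : ℤ} {K K' : DCoh.D X} (e : K ≅ K')
    (h : DCoh.HasRelFlatAmplitudeIn f a b K) : DCoh.HasRelFlatAmplitudeIn f a b K' := by
  obtain ⟨E, h1, h2, ⟨e'⟩⟩ := h
  exact ⟨E, h1, h2, ⟨e' ≪≫ e⟩⟩

/-- base change of relative flat amplitude along an arbitrary pullback square (`f` flat) -/
theorem hasRelFlatAmplitudeIn_Lpull_of_isPullback (hc : IsPullback g' f' f g) [Flat f]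
    [DCoh.HasLpull g'] (E : DCoh.D X) (a b : ℤ) (hE : DCoh.HasRelFlatAmplitudeIn f a b E) :
    DCoh.HasRelFlatAmplitudeIn f' a b ((DCoh.Lpull g').obj E) := by
  obtain ⟨N, hNv, hNf, ⟨eN⟩⟩ := hE
  have hNb : ∀ i : ℤ, b < i → IsZero (N.X i) := fun i hi => hNv i (Or.inr hi)
  obtain ⟨P, π, hPK, hPfl, hπ, hPb⟩ := KResB.exists_kFlat_resolution_bddAbove N b hNb
  have hq : QuasiIso (((Scheme.Modules.pullback g').mapHomologicalComplex
      (ComplexShape.up ℤ)).map π) :=
    quasiIso_pullback_of_relFlat hc π hπ b hPb hNb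
      (fun i => isFlatOver_of_isFlat (P.X i) (hPfl i)) hNf
  haveI : IsIso (DerivedCategory.Q.map π) := by
    rw [DerivedCategory.isIso_Q_map_iff_quasiIso]; exact hπ
  haveI : IsIso (DerivedCategory.Q.map (((Scheme.Modules.pullback g').mapHomologicalComplex
      (ComplexShape.up ℤ)).map π)) := by
    rw [DerivedCategory.isIso_Q_map_iff_quasiIso]; exact hq
  refine ⟨((Scheme.Modules.pullback g').mapHomologicalComplex (ComplexShape.up ℤ)).obj N, ?_, ?_, ?_⟩
  · intro i hi
    exact (Scheme.Modules.pullback g').map_isZero (hNv i hi)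
  · intro i
    exact isFlatOver_pullback hc (N.X i) (hNf i)
  · exact ⟨(asIso (DerivedCategory.Q.map (((Scheme.Modules.pullback g').mapHomologicalComplex
      (ComplexShape.up ℤ)).map π))).symm ≪≫ (LpullObjIso g' P hPK).symm ≪≫
      (DCoh.Lpull g').mapIso (asIso (DerivedCategory.Q.map π) ≪≫ eN)⟩

/-- the restricted square is a pullback square -/
lemma isPullback_restrict (hc : IsPullback g' f' f g) (V : X.Opens) :
    IsPullback (g' ∣_ V) ((g' ⁻¹ᵁ V).ι ≫ f') (V.ι ≫ f) g :=
  (isPullback_morphismRestrict g' V).paste_vert hc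

/-- base change of local finiteness of the relative tor dimension -/
theorem locHasFiniteRelTorDim_Lpull_of_isPullback (hc : IsPullback g' f' f g) [Flat f]
    [DCoh.HasLpull g'] (K : DCoh.D X) (hK : DCoh.LocHasFiniteRelTorDim f K) :
    DCoh.LocHasFiniteRelTorDim f' ((DCoh.Lpull g').obj K) := by
  intro x'
  obtain ⟨V, a, b, hxV, hV⟩ := hK (g'.base x')
  refine ⟨g' ⁻¹ᵁ V, a, b, hxV, ?_⟩
  rintro F' ⟨eF'⟩
  obtain ⟨G, hG, ⟨eG⟩⟩ := exists_kflat_repr K
  have hGamp := hV G ⟨eG⟩
  have eF'' : DerivedCategory.Q.obj F' ≅ DerivedCategory.Q.obj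
      (((Scheme.Modules.pullback g').mapHomologicalComplex (ComplexShape.up ℤ)).obj G) :=
    eF' ≪≫ (DCoh.Lpull g').mapIso eG.symm ≪≫ LpullObjIso g' G hG
  have r1 := restrictQIso (g' ⁻¹ᵁ V).ι eF''
  have r2 := (NatIso.mapHomologicalComplex (pullbackRestrictIso g' V) (ComplexShape.up ℤ)).app G
  have hGV := isKFlat_restrict V.ι G hG
  haveI := hasLpull (g' ∣_ V)
  haveI : Flat (V.ι ≫ f) := inferInstance
  have h1 := hasRelFlatAmplitudeIn_Lpull_of_isPullback (isPullback_restrict hc V) _ a b hGamp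
  have r3 := LpullObjIso (g' ∣_ V) _ hGV ≪≫ (DerivedCategory.Q.mapIso r2).symm ≪≫ r1.symm
  exact hasRelFlatAmplitudeIn_of_iso r3 h1

end Groth.Agent.Helper5.BCF
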