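import Groth.Agent.Lib.Helper5.PL1
import Groth.Agent.Lib.Helper5.PC2

/-!
# Local lifting of maps from strictly perfect complexes along maps which are isomorphisms on
cohomology above a degree
-/

set_option autoImplicit false
set_option linter.unusedSectionVars false
set_option linter.unusedVariables false
set_option linter.style.haveILetI false

universe u

open CategoryTheory CategoryTheory.Limits AlgebraicGeometry HomologicalComplex ZeroObject
  Pretriangulated

attribute [local instance] HasDerivedCategory.standard

namespace Groth.Agent.Helper5.PL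

open Groth.Agent.Helper5.RT Groth.Agent.Helper5.PC CochainComplex

section Abstract

variable {𝒜 : Type*} [Category 𝒜] [Abelian 𝒜]

/-- if `α ≫ inr f` is null-homotopic then `α` lifts along `f` up to homotopy -/
theorem exists_lift_of_isNull {E F G : CochainComplex 𝒜 ℤ} (α : E ⟶ F) (f : G ⟶ F)
    (h : IsNull (α ≫ mappingCone.inr f)) :
    ∃ β : E ⟶ G, Nonempty (Homotopy (β ≫ f) α) := by
  have hT := HomotopyCategory.mappingCone_triangleh_distinguished f
  obtain ⟨β', hβ'⟩ := Triangle.coyoneda_exact₂ _ hT
    ((HomotopyCategory.quotient 𝒜 (ComplexShape.up ℤ)).map α) (by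
      change (HomotopyCategory.quotient 𝒜 (ComplexShape.up ℤ)).map α ≫
        (HomotopyCategory.quotient 𝒜 (ComplexShape.up ℤ)).map (mappingCone.inr f) = 0
      rw [← Functor.map_comp]
      exact h)
  obtain ⟨β, rfl⟩ := (HomotopyCategory.quotient 𝒜 (ComplexShape.up ℤ)).map_surjective
    (X := E) (Y := G) β'
  refine ⟨β, ⟨HomotopyCategory.homotopyOfEq _ _ ?_⟩⟩
  exact ((HomotopyCategory.quotient 𝒜 (ComplexShape.up ℤ)).map_comp β f).trans hβ'.symm

end Abstract

variable {X : Scheme.{u}}

/-- a chain map is an isomorphism on `H^j` for `j > a` and an epimorphism on `H^a` iff its cone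
is acyclic in degrees `≥ a` -/
theorem isZero_homology_mappingCone_of_conn {F G : CochainComplex X.Modules ℤ} (f : G ⟶ F) (a : ℤ)
    (hf : ∀ j : ℤ, a < j → IsIso (HomologicalComplex.homologyMap f j))
    (hfa : Epi (HomologicalComplex.homologyMap f a)) (i : ℤ) (hi : a ≤ i) :
    IsZero ((mappingCone f).homology i) := by
  have hT := DerivedCategory.mappingCone_triangle_distinguished f
  have e : ∀ j : ℤ, Arrow.mk (HomologicalComplex.homologyMap f j) ≅
      Arrow.mk ((DerivedCategory.homologyFunctor X.Modules j).map (DerivedCategory.Q.map f)) :=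
    fun j => (((Functor.mapArrowFunctor _ _).mapIso
      (DerivedCategory.homologyFunctorFactors X.Modules j)).app (Arrow.mk f)).symm
  have hconn : IsConn a (DerivedCategory.Q.map f) := by
    refine ⟨fun j hj => ?_, ?_⟩
    · exact ((MorphismProperty.isomorphisms X.Modules).arrow_iso_iff (e j)).mp (hf j hj)
    · exact ((MorphismProperty.epimorphisms X.Modules).arrow_iso_iff (e a)).mp hfa
  have hz := (isConn_mor₁_iff _ hT a).mp hconn i hi
  exact IsZero.of_iso hz
    ((DerivedCategory.homologyFunctorFactors X.Modules i).app (mappingCone f)).symm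

/-- local lifting along a map which is an isomorphism on cohomology above a degree -/
theorem exists_local_lift_of_conn {E F G : CochainComplex X.Modules ℤ}
    (α : E ⟶ F) (f : G ⟶ F) (hE : DCoh.IsStrictlyPerfect E) (a : ℤ)
    (hEa : ∀ j : ℤ, j < a → IsZero (E.X j))
    (hf : ∀ j : ℤ, a < j → IsIso (HomologicalComplex.homologyMap f j))
    (hfa : Epi (HomologicalComplex.homologyMap f a)) (x : X) :
    ∃ (V : X.Opens) (β : (DCoh.restrictCx V).obj E ⟶ (DCoh.restrictCx V).obj G), x ∈ V ∧
      Nonempty (Homotopy (β ≫ (DCoh.restrictCx V).map f) ((DCoh.restrictCx V).map α)) := by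
  obtain ⟨⟨a', b', hv⟩, hfl⟩ := hE
  obtain ⟨V, hxV, hnull⟩ := locally_null_aux (b' + 1 - a).toNat X E (mappingCone f)
    (α ≫ mappingCone.inr f) a x hfl hEa
    (fun i hi => (HomologicalComplex.exactAt_iff_isZero_homology _ _).mpr
      (isZero_homology_mappingCone_of_conn f a hf hfa i hi))
    (fun i hi => (hv i (Or.inr (by
      have := Int.self_le_toNat (b' + 1 - a)
      omega))).eq_of_src _ _)
  have h2 : IsNull ((DCoh.restrictCx V).map α ≫
      mappingCone.inr ((DCoh.restrictCx V).map f)) := by
    rw [← mappingCone.map_inr f (Scheme.Modules.restrictFunctor V.ι), ← Category.assoc,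
      ← Functor.map_comp]
    exact hnull.comp_right _
  obtain ⟨β, hβ⟩ := exists_lift_of_isNull _ _ h2
  exact ⟨V, β, hxV, hβ⟩

end Groth.Agent.Helper5.PL
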