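import Groth.Agent.Lib.Helper5.RPF4
import Groth.Agent.S0944

/-!
# Pseudo-coherent complexes of stalkwise finite tor dimension are perfect (assembly)
-/

set_option autoImplicit false
set_option linter.unusedSectionVars false
set_option linter.unusedVariables false
set_option linter.style.haveILetI false

universe u

open CategoryTheory CategoryTheory.Limits HomologicalComplex Pretriangulated AlgebraicGeometry

attribute [local instance] HasDerivedCategory.standard

namespace Groth.Agent.Helper5.RPF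

open DerivedCategory CochainComplex Groth.Agent.Helper5.LDer Groth.Agent.Helper5.KRes
  Groth.Agent.Helper13.LocFree Groth.Agent.Helper5.RT Groth.Agent.Helper5.StalkCx
  Groth.Agent.Helper5.FPC Groth.Agent.Helper11 Groth.Agent.Helper5.KF Groth.Agent.Helper11.DC
  Groth.Agent.Helper5.PC

variable {X : Scheme.{u}}

/-- variant of `FPC.truncGE_model`: the target is only cohomologically bounded below, and the
flatness of the cokernel is a hypothesis -/
theorem truncGE_model' {P F : CochainComplex X.Modules ℤ} (β : P ⟶ F) (a : ℤ)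
    (aP bP : ℤ) (hvP : DCoh.VanishesOutside P aP bP) (hfP : ∀ i, FlatMod.IsFinLocFree (P.X i))
    (hfl2 : FlatMod.IsFlat (cokernel (P.d (a - 1) a)))
    (hF : ∀ i : ℤ, i < a → F.ExactAt i)
    (hβ : PC.IsConn (a - 1) (DerivedCategory.Q.map β)) :
    DCoh.IsStrictlyPerfect (P.truncGE a) ∧ DCoh.VanishesOutside (P.truncGE a) a (max a bP) ∧
      Nonempty (DerivedCategory.Q.obj F ≅ DerivedCategory.Q.obj (P.truncGE a)) := by
  have hlf : FlatMod.IsFinLocFree (cokernel (P.d (a - 1) a)) :=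
    isFinLocFree_cokernel_of_isFlat _ (hfP _) (hfP _) hfl2
  have hvT : DCoh.VanishesOutside (P.truncGE a) a (max a bP) := by
    intro i hi
    rcases hi with hi | hi
    · exact (P.truncGE a).isZero_of_isStrictlyGE a i hi
    · have hai : a < i := by have := le_max_left a bP; omega
      exact IsZero.of_iso (hvP i (Or.inr (by have := le_max_right a bP; omega)))
        (P.truncGEXIso a i hai)
  have hT : DCoh.IsStrictlyPerfect (P.truncGE a) := by
    refine ⟨⟨a, max a bP, hvT⟩, ?_⟩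
    intro i
    rcases lt_trichotomy i a with hi | hi | hi
    · exact isFinLocFree_of_isZero ((P.truncGE a).isZero_of_isStrictlyGE a i hi)
    · subst hi
      exact isFinLocFree_of_iso ((P.truncGEXIsoOpcycles i ≪≫
        P.opcyclesIsoSc' (i - 1) i (i + 1) (by simp) (by simp) ≪≫
        (P.sc' (i - 1) i (i + 1)).opcyclesIsoCokernel)).symm hlf
    · exact isFinLocFree_of_iso (P.truncGEXIso a i hi).symm (hfP i)
  haveI : F.IsGE a := by
    rw [CochainComplex.isGE_iff]
    exact hF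
  haveI : QuasiIso (F.πTruncGE a) := (CochainComplex.quasiIso_πTruncGE_iff F a).mpr inferInstance
  haveI : QuasiIso (truncGEMap β a) := by
    rw [CochainComplex.quasiIso_truncGEMap_iff]
    intro i hi
    rw [quasiIsoAt_iff_isIso_homologyMap]
    have h1 := hβ.1 i (by omega)
    exact (NatIso.isIso_map_iff (DerivedCategory.homologyFunctorFactors X.Modules i) β).mp h1
  exact ⟨hT, hvT, ⟨asIso (DerivedCategory.Q.map (F.πTruncGE a)) ≪≫
    (asIso (DerivedCategory.Q.map (truncGEMap β a))).symm⟩⟩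

end Groth.Agent.Helper5.RPF

namespace Groth.Agent.Helper5.RPF

open DerivedCategory CochainComplex Groth.Agent.Helper5.LDer Groth.Agent.Helper5.KRes
  Groth.Agent.Helper13.LocFree Groth.Agent.Helper5.RT Groth.Agent.Helper5.StalkCx
  Groth.Agent.Helper5.FPC Groth.Agent.Helper11 Groth.Agent.Helper5.KF Groth.Agent.Helper11.DC
  Groth.Agent.Helper5.PC

variable {X : Scheme.{u}}

lemma exactAt_restrict {U : Scheme.{u}} (j : U ⟶ X) [IsOpenImmersion j]
    (F : CochainComplex X.Modules ℤ) (i : ℤ) (h : F.ExactAt i) : ((rCx j).obj F).ExactAt i := by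
  rw [HomologicalComplex.exactAt_iff_isZero_homology] at h ⊢
  exact IsZero.of_iso ((Scheme.Modules.restrictFunctor j).map_isZero h)
    ((F.sc i).mapHomologyIso (Scheme.Modules.restrictFunctor j))

/-- core: a chain map from a strictly perfect complex which is `(a-1)`-connected, towards a complex
cohomologically `≥ a` whose stalk at `x` has tor amplitude in `[a, b]`: near `x` the target is
isomorphic in the derived category to a strictly perfect complex -/
theorem exists_open_truncGE_model {P F : CochainComplex X.Modules ℤ} (β : P ⟶ F) (a b aP bP : ℤ)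
    (hvP : DCoh.VanishesOutside P aP bP) (hfP : ∀ i, FlatMod.IsFinLocFree (P.X i))
    (hF : ∀ i : ℤ, i < a → F.ExactAt i)
    (hβ : PC.IsConn (a - 1) (DerivedCategory.Q.map β)) (x : X)
    (hx : TA.TorVan a b (DRing.toD (stalkCx x F))) :
    ∃ W : X.Opens, x ∈ W ∧ ∃ P₃ : CochainComplex (W : Scheme.{u}).Modules ℤ,
      DCoh.IsStrictlyPerfect P₃ ∧
      Nonempty (DerivedCategory.Q.obj ((rCx W.ι).obj F) ≅ DerivedCategory.Q.obj P₃) := by
  have hflx := isFlatAt_cokernel_of_conn β a b aP bP hvP hfP hβ x hx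
  haveI := isQuasicoherent_of_isFinLocFree _ (hfP (a - 1))
  haveI := isQuasicoherent_of_isFinLocFree _ (hfP a)
  have i1 : (cokernel (P.d (a - 1) a)).IsQuasicoherent :=
    Groth.Agent.Helper13.QCohLocal.isQuasicoherent_cokernel _
  have i2 := isFinitePresentation_cokernel (P.d (a - 1) a) (hfP _) (hfP _)
  obtain ⟨W, hxW, hW⟩ := @exists_open_isFlatAt _ (cokernel (P.d (a - 1) a)) i1 i2 x hflx
  refine ⟨W, hxW, ?_⟩
  have hβ' : PC.IsConn (a - 1) (DerivedCategory.Q.map ((rCx W.ι).map β)) := by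
    have h1 := isConn_restrictD W.ι (DerivedCategory.Q.map β) (a - 1) hβ
    set fac := (Scheme.Modules.restrictFunctor W.ι).mapDerivedCategoryFactors with hfac
    refine h1.of_arrow_iso (Arrow.isoMk (fac.app P) (fac.app F) ?_)
    exact (fac.hom.naturality β).symm
  have hfl' : FlatMod.IsFlat (cokernel (((rCx W.ι).obj P).d (a - 1) a)) := by
    have e : (Scheme.Modules.restrictFunctor W.ι).obj (cokernel (P.d (a - 1) a)) ≅
        cokernel (((rCx W.ι).obj P).d (a - 1) a) :=
      PreservesCokernel.iso (Scheme.Modules.restrictFunctor W.ι) (P.d (a - 1) a)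
    refine isFlat_of_iso e ?_
    intro y
    exact isFlatAt_restrict W.ι _ y (hW _ y.2)
  obtain ⟨hT, -, ⟨e⟩⟩ := truncGE_model' ((rCx W.ι).map β) a aP bP
    (fun i hi => (Scheme.Modules.restrictFunctor W.ι).map_isZero (hvP i hi))
    (fun i => isFinLocFree_restrict W.ι _ (hfP i)) hfl'
    (fun i hi => exactAt_restrict W.ι F i (hF i hi)) hβ'
  exact ⟨_, hT, ⟨e⟩⟩

/-- a cohomologically bounded pseudo-coherent complex is perfect when every module over every
local ring has finite tor dimension -/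
theorem isPerfect_of_pseudoCoherent_of_finiteTorDim
    (hX : ∀ (x : X) (M : Type u) [AddCommGroup M] [Module (X.presheaf.stalk x) M],
      DRing.HasFiniteTorDim (X.presheaf.stalk x) M)
    (F : CochainComplex X.Modules ℤ) (c d : ℤ)
    (hFex : ∀ i : ℤ, (i < c ∨ d < i) → F.ExactAt i)
    (hpc : ∀ m : ℤ, DCoh.IsPseudoCoherentD m (DCoh.toD X F)) : DCoh.IsPerfect (DCoh.toD X F) := by
  intro x
  obtain ⟨N, hN⟩ := torVan_stalk_of_finiteTorDim x (hX x) F c d hFex
  obtain ⟨V, hxV, hV⟩ := hpc (c - N - 1) x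
  obtain ⟨P, α, ⟨⟨aP, bP, hvP⟩, hfP⟩, hiso, hepi⟩ := hV F ⟨Iso.refl _⟩
  have hP : DCoh.IsStrictlyPerfect P := ⟨⟨aP, bP, hvP⟩, hfP⟩
  obtain ⟨W₀, hxW₀, hW₀⟩ := Groth.Agent.S0944.result hP α ⟨x, hxV⟩
  obtain ⟨β, hβ⟩ := hW₀
  have hα : PC.IsConn (c - N - 1) α := ⟨hiso, hepi⟩
  set fac := (Scheme.Modules.restrictFunctor W₀.ι).mapDerivedCategoryFactors with hfac
  have h1 : IsConn (c - N - 1) ((DCoh.restrictD W₀.ι).map α) := isConn_restrictD W₀.ι α _ hα
  have h2 : IsConn (c - N - 1) (DerivedCategory.Q.map β) := by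
    refine h1.of_arrow_iso (Arrow.isoMk (fac.app P) (fac.app _) ?_)
    dsimp
    rw [hβ]
    simp only [Category.assoc, Iso.inv_hom_id_app]
    erw [Category.comp_id]
  have hT : TA.TorVan (c - N) d (DRing.toD (stalkCx (⟨⟨x, hxV⟩, hxW₀⟩ : (W₀ : Scheme.{u}))
      ((rCx W₀.ι).obj ((DCoh.restrictCx V).obj F)))) :=
    torVan_stalk_restrict W₀.ι _ _ _ _ (torVan_stalk_restrict V.ι F ⟨x, hxV⟩ _ _ hN)
  obtain ⟨W₁, hxW₁, P₃, hP₃, ⟨e⟩⟩ := exists_open_truncGE_model β (c - N) d aP bP
    (fun i hi => (Scheme.Modules.restrictFunctor W₀.ι).map_isZero (hvP i hi))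
    (fun i => isFinLocFree_restrict W₀.ι _ (hfP i))
    (fun i hi => exactAt_restrict W₀.ι _ i (exactAt_restrict V.ι F i (hFex i (Or.inl (by omega)))))
    h2 ⟨⟨x, hxV⟩, hxW₀⟩ hT
  let j : (W₁ : Scheme.{u}) ⟶ X := W₁.ι ≫ W₀.ι ≫ V.ι
  have e' : DerivedCategory.Q.obj ((rCx j).obj F) ≅ DerivedCategory.Q.obj P₃ :=
    DerivedCategory.Q.mapIso
      ((NatIso.mapHomologicalComplex (Scheme.Modules.restrictFunctorComp W₁.ι (W₀.ι ≫ V.ι))
        (ComplexShape.up ℤ)).app F ≪≫
      (rCx W₁.ι).mapIso ((NatIso.mapHomologicalComplex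
        (Scheme.Modules.restrictFunctorComp W₀.ι V.ι) (ComplexShape.up ℤ)).app F)) ≪≫ e
  refine ⟨j.opensRange, ⟨⟨⟨⟨x, hxV⟩, hxW₀⟩, hxW₁⟩, rfl⟩, ?_⟩
  rintro F' ⟨eF'⟩
  exact ⟨(rCx j.isoOpensRange.inv).obj P₃, isStrictlyPerfect_restrict _ P₃ hP₃,
    ⟨transferIso j (restrictQIso j eF' ≪≫ e')⟩⟩

end Groth.Agent.Helper5.RPF
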