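import Groth.Agent.Lib.Helper5.RPR2
import Groth.Agent.Lib.Helper5.RPF5
import Groth.Agent.Lib.Helper5.BCF5

/-!
# Relative flatness under restriction to opens; the relative truncation model
-/

set_option autoImplicit false
set_option linter.unusedSectionVars false
set_option linter.unusedVariables false
set_option linter.style.haveILetI false

universe u

open CategoryTheory CategoryTheory.Limits HomologicalComplex Pretriangulated AlgebraicGeometry

attribute [local instance] HasDerivedCategory.standard

namespace Groth.Agent.Helper5.RPR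

open DerivedCategory CochainComplex Groth.Agent.Helper5.LDer Groth.Agent.Helper5.KRes
  Groth.Agent.Helper13.LocFree Groth.Agent.Helper5.RT Groth.Agent.Helper5.StalkCx
  Groth.Agent.Helper5.FPC Groth.Agent.Helper11 Groth.Agent.Helper5.RPF Groth.Agent.Helper5.KF
  Groth.Agent.Helper5.PC

section Ring

open TensorProduct

open scoped ChangeOfRings

variable {R B B' : Type u} [CommRing R] [CommRing B] [CommRing B']

/-- flatness over `R` is preserved by extension of scalars along a bijective ring homomorphism -/
theorem flat_rs_es_of_bijective (ψ₀ : R →+* B) (φ : B →+* B') (hφ : Function.Bijective φ)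
    (ψ' : R →+* B') (hψ' : ∀ r, ψ' r = φ (ψ₀ r)) (N : ModuleCat.{u} B)
    (h : Module.Flat R ((ModuleCat.restrictScalars ψ₀).obj N)) :
    Module.Flat R ((ModuleCat.restrictScalars ψ').obj ((ModuleCat.extendScalars φ).obj N)) := by
  letI := φ.toAlgebra
  let e₀ : B ≃ₗ[B] B' := LinearEquiv.ofBijective (Algebra.linearMap B B') hφ
  let e₁ : N ≃ₗ[B] B' ⊗[B] N :=
    (TensorProduct.lid B N).symm ≪≫ₗ TensorProduct.congr e₀ (LinearEquiv.refl B N)
  have hsm : ∀ (b : B) (t : B' ⊗[B] N),
      b • t = ((φ b : B') • (show ((ModuleCat.extendScalars φ).obj N) from t) :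
        ((ModuleCat.extendScalars φ).obj N)) := by
    intro b t
    induction t using TensorProduct.induction_on with
    | zero =>
      rw [smul_zero]
      exact (smul_zero _).symm
    | tmul b' n =>
      rw [TensorProduct.smul_tmul']
      erw [ModuleCat.ExtendScalars.smul_tmul]
      rw [Algebra.smul_def]
      rfl
    | add t₁ t₂ h₁ h₂ =>
      rw [smul_add, h₁, h₂]
      exact (smul_add _ _ _).symm
  let e₂ : ((ModuleCat.restrictScalars ψ₀).obj N) ≃ₗ[R]
      ((ModuleCat.restrictScalars ψ').obj ((ModuleCat.extendScalars φ).obj N)) :=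
    { toFun := fun n => e₁ n
      invFun := fun t => e₁.symm t
      left_inv := fun n => e₁.symm_apply_apply n
      right_inv := fun t => e₁.apply_symm_apply t
      map_add' := fun n₁ n₂ => e₁.map_add n₁ n₂
      map_smul' := fun r n => by
        change e₁ (ψ₀ r • (show N from n)) = (ψ' r : B') • (show ((ModuleCat.extendScalars φ).obj N)
          from e₁ n)
        rw [e₁.map_smul, hsm, hψ'] }
  haveI := h
  exact Module.Flat.of_linearEquiv e₂.symm

end Ring

section Sch

variable {X S : Scheme.{u}} (f : X ⟶ S)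

lemma isFlatOverAt_of_iso {M N : X.Modules} (e : M ≅ N) (x : X)
    (h : FlatMod.IsFlatOverAt f M x) : FlatMod.IsFlatOverAt f N x := by
  rw [isFlatOverAt_iff] at h ⊢
  haveI := h
  exact Module.Flat.of_linearEquiv ((DerSch.stalkOver f x).mapIso e).toLinearEquiv.symm

lemma isFlatOver_of_iso {M N : X.Modules} (e : M ≅ N)
    (h : FlatMod.IsFlatOver f M) : FlatMod.IsFlatOver f N :=
  fun x => isFlatOverAt_of_iso f e x (h x)

lemma isFlatOver_of_isZero {M : X.Modules} (h : IsZero M) : FlatMod.IsFlatOver f M := by
  intro x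
  rw [isFlatOverAt_iff]
  haveI := ModuleCat.subsingleton_of_isZero ((DerSch.stalkOver f x).map_isZero h)
  infer_instance

variable {U : Scheme.{u}} (j : U ⟶ X) [IsOpenImmersion j]

/-- flatness over the base at a point is inherited by restrictions to opens -/
theorem isFlatOverAt_restrict (M : X.Modules) (y : U)
    (h : FlatMod.IsFlatOverAt f M (j.base y)) :
    FlatMod.IsFlatOverAt (j ≫ f) ((Scheme.Modules.restrictFunctor j).obj M) y := by
  rw [isFlatOverAt_iff] at h ⊢
  have h1 : Module.Flat (S.presheaf.stalk ((j ≫ f).base y))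
      ((ModuleCat.restrictScalars ((j ≫ f).stalkMap y).hom).obj
        ((DerSch.stalkFunctor X (j.base y) ⋙ ModuleCat.extendScalars (Sky.φst j y)).obj M)) :=
    flat_rs_es_of_bijective (f.stalkMap (j.base y)).hom (Sky.φst j y) (bijective_φst j y)
      ((j ≫ f).stalkMap y).hom (fun r => by
        rw [Scheme.Hom.stalkMap_comp]
        rfl) ((DerSch.stalkFunctor X (j.base y)).obj M) h
  haveI := h1
  exact Module.Flat.of_linearEquiv
    ((ModuleCat.restrictScalars ((j ≫ f).stalkMap y).hom).mapIso
      ((restrictStalkIso j y).app M)).toLinearEquiv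

theorem isFlatOver_restrict (M : X.Modules)
    (h : ∀ y : U, FlatMod.IsFlatOverAt f M (j.base y)) :
    FlatMod.IsFlatOver (j ≫ f) ((Scheme.Modules.restrictFunctor j).obj M) :=
  fun y => isFlatOverAt_restrict f j M y (h y)

/-- relative flat amplitude is inherited by restrictions to opens -/
theorem hasRelFlatAmplitudeIn_rCx (F : CochainComplex X.Modules ℤ) (a b : ℤ)
    (h : DCoh.HasRelFlatAmplitudeIn f a b (DerivedCategory.Q.obj F)) :
    DCoh.HasRelFlatAmplitudeIn (j ≫ f) a b (DerivedCategory.Q.obj ((rCx j).obj F)) := by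
  obtain ⟨E, hE, hEf, ⟨e⟩⟩ := h
  exact ⟨(rCx j).obj E, fun i hi => (Scheme.Modules.restrictFunctor j).map_isZero (hE i hi),
    fun i => isFlatOver_restrict f j (E.X i) (fun y => hEf i (j.base y)), ⟨restrictQIso j e⟩⟩

end Sch

section Model

variable {Y S : Scheme.{u}} (g : Y ⟶ S)

/-- relative variant of `RPF.truncGE_model'` -/
theorem truncGE_model_rel {P F : CochainComplex Y.Modules ℤ} (β : P ⟶ F) (a : ℤ)
    (aP bP : ℤ) (hvP : DCoh.VanishesOutside P aP bP) (hfP : ∀ i, FlatMod.IsFlatOver g (P.X i))
    (hfl2 : FlatMod.IsFlatOver g (cokernel (P.d (a - 1) a)))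
    (hF : ∀ i : ℤ, i < a → F.ExactAt i)
    (hβ : PC.IsConn (a - 1) (DerivedCategory.Q.map β)) :
    DCoh.HasRelFlatAmplitudeIn g a (max a bP) (DerivedCategory.Q.obj F) := by
  have hvT : DCoh.VanishesOutside (P.truncGE a) a (max a bP) := by
    intro i hi
    rcases hi with hi | hi
    · exact (P.truncGE a).isZero_of_isStrictlyGE a i hi
    · have hai : a < i := by have := le_max_left a bP; omega
      exact IsZero.of_iso (hvP i (Or.inr (by have := le_max_right a bP; omega)))
        (P.truncGEXIso a i hai)
  have hT : ∀ i, FlatMod.IsFlatOver g ((P.truncGE a).X i) := by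
    intro i
    rcases lt_trichotomy i a with hi | hi | hi
    · exact isFlatOver_of_isZero g ((P.truncGE a).isZero_of_isStrictlyGE a i hi)
    · subst hi
      exact isFlatOver_of_iso g ((P.truncGEXIsoOpcycles i ≪≫
        P.opcyclesIsoSc' (i - 1) i (i + 1) (by simp) (by simp) ≪≫
        (P.sc' (i - 1) i (i + 1)).opcyclesIsoCokernel)).symm hfl2
    · exact isFlatOver_of_iso g (P.truncGEXIso a i hi).symm (hfP i)
  haveI : F.IsGE a := by
    rw [CochainComplex.isGE_iff]
    exact hF
  haveI : QuasiIso (F.πTruncGE a) := (CochainComplex.quasiIso_πTruncGE_iff F a).mpr inferInstance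
  haveI : QuasiIso (truncGEMap β a) := by
    rw [CochainComplex.quasiIso_truncGEMap_iff]
    intro i hi
    rw [quasiIsoAt_iff_isIso_homologyMap]
    have h1 := hβ.1 i (by omega)
    exact (NatIso.isIso_map_iff (DerivedCategory.homologyFunctorFactors Y.Modules i) β).mp h1
  exact ⟨P.truncGE a, hvT, hT, ⟨asIso (DerivedCategory.Q.map (truncGEMap β a)) ≪≫
    (asIso (DerivedCategory.Q.map (F.πTruncGE a))).symm⟩⟩

end Model

end Groth.Agent.Helper5.RPR
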