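import Mathlib

/-!
# Extensions of discrete valuation rings: ramification index via uniformizers
-/

set_option autoImplicit false
set_option linter.style.haveILetI false
set_option linter.unusedSectionVars false
set_option linter.unusedVariables false

namespace Groth.Agent.Helper5.DVRExt

open IsDiscreteValuationRing

variable {A B : Type*} [CommRing A] [IsDomain A] [IsDiscreteValuationRing A]
  [CommRing B] [IsDomain B] [IsDiscreteValuationRing B] [Algebra A B]

/-- The image of a uniformizer of `A` in `B` is a unit times a positive power of a uniformizer. -/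
theorem exists_ram (hinj : Function.Injective (algebraMap A B)) [IsLocalHom (algebraMap A B)]
    {πA : A} (hA : Irreducible πA) {πB : B} (hB : Irreducible πB) :
    ∃ (e : ℕ) (u : Bˣ), 1 ≤ e ∧ algebraMap A B πA = u * πB ^ e := by
  have hne : algebraMap A B πA ≠ 0 := by
    intro h
    exact hA.ne_zero (hinj (by rw [h, map_zero]))
  obtain ⟨e, u, he⟩ := eq_unit_mul_pow_irreducible hne hB
  refine ⟨e, u, ?_, he⟩
  by_contra h0
  have : e = 0 := by omega
  subst this
  rw [pow_zero, mul_one] at he
  have hu : IsUnit (algebraMap A B πA) := he ▸ u.isUnit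
  exact hA.not_isUnit (isUnit_of_map_unit (algebraMap A B) πA hu)

/-- The ramification index is the exponent `e`. -/
theorem ramificationIdx'_eq {πA : A} (hA : Irreducible πA) {πB : B} (hB : Irreducible πB)
    {e : ℕ} {u : Bˣ} (he : algebraMap A B πA = u * πB ^ e) :
    Ideal.ramificationIdx' (IsLocalRing.maximalIdeal A) (IsLocalRing.maximalIdeal B) = e := by
  have hmap : (IsLocalRing.maximalIdeal A).map (algebraMap A B) = IsLocalRing.maximalIdeal B ^ e := by
    rw [hA.maximalIdeal_eq, hB.maximalIdeal_eq, Ideal.map_span, Set.image_singleton, he,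
      Ideal.span_singleton_pow]
    exact Ideal.span_singleton_mul_left_unit u.isUnit _
  apply Ideal.ramificationIdx'_spec
  · rw [hmap]
  · rw [hmap, hB.maximalIdeal_eq, Ideal.span_singleton_pow, Ideal.span_singleton_pow,
      Ideal.span_singleton_le_span_singleton, pow_dvd_pow_iff hB.ne_zero hB.not_isUnit]
    omega

/-- The valuation of the image of an element of `A`. -/
theorem addVal_algebraMap [IsLocalHom (algebraMap A B)]
    {πA : A} (hA : Irreducible πA) {πB : B} (hB : Irreducible πB)
    {e : ℕ} {u : Bˣ} (he : algebraMap A B πA = u * πB ^ e) (w : Aˣ) (i : ℕ) :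
    addVal B (algebraMap A B (w * πA ^ i)) = ((i * e : ℕ) : ℕ∞) := by
  have h1 : addVal B (algebraMap A B πA) = (e : ℕ∞) := addVal_def _ u hB e he
  have h2 : addVal B (algebraMap A B (w : A)) = 0 :=
    addVal_eq_zero_iff.mpr (w.isUnit.map (algebraMap A B))
  rw [map_mul, map_pow, addVal_mul, addVal_pow, h1, h2, zero_add]
  push_cast
  rfl

end Groth.Agent.Helper5.DVRExt
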