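import Mathlib
import Groth.Agent.Lib.Helper5.DVRExt

/-!
# `e f ≤ n` for extensions of discrete valuation rings
-/

set_option autoImplicit false
set_option linter.style.haveILetI false
set_option linter.unusedSectionVars false
set_option linter.unusedVariables false

namespace Groth.Agent.Helper5.DVRExt

open IsDiscreteValuationRing

variable {A B : Type*} [CommRing A] [IsDomain A] [IsDiscreteValuationRing A]
  [CommRing B] [IsDomain B] [IsDiscreteValuationRing B] [Algebra A B]

/-- Key step: a vanishing combination `∑_j (∑_i c j i • b i) πB^j` (with `j < e`) whose `b i`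
have linearly independent residues has all coefficients in the maximal ideal. -/
theorem coeff_mem_maximalIdeal [IsLocalHom (algebraMap A B)]
    {πA : A} (hA : Irreducible πA) {πB : B} (hB : Irreducible πB)
    {e : ℕ} {u : Bˣ} (he : algebraMap A B πA = u * πB ^ e)
    {r : ℕ} (b : Fin r → B)
    (hb : LinearIndependent (IsLocalRing.ResidueField A) (fun i => IsLocalRing.residue B (b i)))
    (c : Fin e → Fin r → A)
    (hsum : ∑ j : Fin e, (∑ i : Fin r, algebraMap A B (c j i) * b i) * πB ^ (j : ℕ) = 0) :
    ∀ j i, c j i ∈ IsLocalRing.maximalIdeal A := by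
  classical
  by_contra hcon
  push Not at hcon
  obtain ⟨j₁, i₁, hji⟩ := hcon
  set J : Finset (Fin e) := Finset.univ.filter
    (fun j => ∃ i, c j i ∉ IsLocalRing.maximalIdeal A) with hJ
  have hJne : J.Nonempty := ⟨j₁, by rw [hJ, Finset.mem_filter]; exact ⟨Finset.mem_univ _, i₁, hji⟩⟩
  set j₀ := J.min' hJne with hj₀
  have hj₀J : j₀ ∈ J := Finset.min'_mem J hJne
  set β : Fin e → B := fun j => ∑ i : Fin r, algebraMap A B (c j i) * b i with hβ
  -- all other terms are divisible by `πB ^ (j₀ + 1)`
  have hdiv : ∀ j : Fin e, j ≠ j₀ → πB ^ ((j₀ : ℕ) + 1) ∣ β j * πB ^ (j : ℕ) := by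
    intro j hj
    by_cases hjJ : j ∈ J
    · have hlt : j₀ < j := lt_of_le_of_ne (Finset.min'_le J j hjJ) (Ne.symm hj)
      exact Dvd.dvd.mul_left (pow_dvd_pow πB (Nat.succ_le_of_lt hlt)) _
    · have hall : ∀ i, c j i ∈ IsLocalRing.maximalIdeal A := by
        intro i
        by_contra h
        exact hjJ (by rw [hJ, Finset.mem_filter]; exact ⟨Finset.mem_univ _, i, h⟩)
      have hβj : πB ^ e ∣ β j := by
        apply Finset.dvd_sum
        intro i _
        have := hall i
        rw [hA.maximalIdeal_eq, Ideal.mem_span_singleton] at this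
        obtain ⟨d, hd⟩ := this
        rw [hd, map_mul, he]
        exact Dvd.dvd.mul_right (Dvd.dvd.mul_right (Dvd.intro_left _ rfl) _) _
      have hle : (j₀ : ℕ) + 1 ≤ e := j₀.isLt
      exact Dvd.dvd.mul_right ((pow_dvd_pow πB hle).trans hβj) _
  have hsplit : β j₀ * πB ^ (j₀ : ℕ) =
      - ∑ j ∈ Finset.univ.erase j₀, β j * πB ^ (j : ℕ) := by
    rw [eq_neg_iff_add_eq_zero,
      Finset.add_sum_erase Finset.univ (fun j : Fin e => β j * πB ^ (j : ℕ)) (Finset.mem_univ j₀)]
    exact hsum
  have hdvd0 : πB ^ ((j₀ : ℕ) + 1) ∣ β j₀ * πB ^ (j₀ : ℕ) := by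
    rw [hsplit, dvd_neg]
    apply Finset.dvd_sum
    intro j hj
    exact hdiv j (Finset.ne_of_mem_erase hj)
  have hπ : πB ∣ β j₀ := by
    rw [pow_succ, mul_comm (β j₀)] at hdvd0
    exact (mul_dvd_mul_iff_left (pow_ne_zero _ hB.ne_zero)).mp hdvd0
  have hres : IsLocalRing.residue B (β j₀) = 0 := by
    rw [IsLocalRing.residue_eq_zero_iff, hB.maximalIdeal_eq, Ideal.mem_span_singleton]
    exact hπ
  have hres' : ∑ i : Fin r, IsLocalRing.residue A (c j₀ i) • IsLocalRing.residue B (b i) = 0 := by
    rw [← hres, hβ, map_sum]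
    refine Finset.sum_congr rfl fun i _ => ?_
    rw [Algebra.smul_def, map_mul]
    rfl
  have hzero := Fintype.linearIndependent_iff.mp hb _ hres'
  rw [hJ, Finset.mem_filter] at hj₀J
  obtain ⟨-, i, hi⟩ := hj₀J
  exact hi ((IsLocalRing.residue_eq_zero_iff _).mp (hzero i))

/-- If the residues of `b i` (`i < r`) are linearly independent over the residue field of `A`, then
`e * r ≤ [L : K]`. -/
theorem mul_le_finrank (hinj : Function.Injective (algebraMap A B)) [IsLocalHom (algebraMap A B)]
    {K L : Type*} [Field K] [Field L] [Algebra A K] [IsFractionRing A K] [Algebra B L]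
    [IsFractionRing B L] [Algebra K L] [Algebra A L] [IsScalarTower A K L] [IsScalarTower A B L]
    [FiniteDimensional K L]
    {πA : A} (hA : Irreducible πA) {πB : B} (hB : Irreducible πB)
    {e : ℕ} {u : Bˣ} (he : algebraMap A B πA = u * πB ^ e)
    {r : ℕ} (b : Fin r → B)
    (hb : LinearIndependent (IsLocalRing.ResidueField A) (fun i => IsLocalRing.residue B (b i))) :
    e * r ≤ Module.finrank K L := by
  classical
  let v : Fin e × Fin r → L := fun x => algebraMap B L (b x.2 * πB ^ (x.1 : ℕ))
  have hπA0 : algebraMap A L πA ≠ 0 := by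
    rw [IsScalarTower.algebraMap_apply A B L]
    intro h
    have h1 := (IsFractionRing.injective B L) (by rw [h, map_zero] : algebraMap B L _ = algebraMap B L 0)
    exact hA.ne_zero (hinj (by rw [h1, map_zero]))
  -- divisibility by all powers of `πA`
  have hP : ∀ (t : ℕ) (g : Fin e × Fin r → A), ∑ x, g x • v x = 0 → ∀ x, πA ^ t ∣ g x := by
    intro t
    induction t with
    | zero => intro g _ x; simp
    | succ t ih =>
      intro g hg x
      have hsumB : ∑ j : Fin e, (∑ i : Fin r, algebraMap A B (g (j, i)) * b i) * πB ^ (j : ℕ)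
          = 0 := by
        apply IsFractionRing.injective B L
        rw [map_zero, ← hg, Fintype.sum_prod_type, map_sum]
        refine Finset.sum_congr rfl fun j _ => ?_
        rw [Finset.sum_mul, map_sum]
        refine Finset.sum_congr rfl fun i _ => ?_
        simp only [v]
        rw [Algebra.smul_def, IsScalarTower.algebraMap_apply A B L, ← map_mul, mul_assoc]
      have hmem := coeff_mem_maximalIdeal hA hB he b hb (fun j i => g (j, i)) hsumB
      have hdvd : ∀ y, πA ∣ g y := by
        intro y
        have := hmem y.1 y.2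
        rwa [hA.maximalIdeal_eq, Ideal.mem_span_singleton] at this
      choose g' hg' using hdvd
      have hg'sum : ∑ y, g' y • v y = 0 := by
        have h2 : algebraMap A L πA * ∑ y, g' y • v y = 0 := by
          rw [← hg, Finset.mul_sum]
          refine Finset.sum_congr rfl fun y _ => ?_
          rw [hg' y, Algebra.smul_def, Algebra.smul_def, map_mul, mul_assoc]
        exact (mul_eq_zero.mp h2).resolve_left hπA0
      obtain ⟨d, hd⟩ := ih g' hg'sum x
      exact ⟨d, by rw [hg' x, hd, pow_succ]; ring⟩
  have hlinA : LinearIndependent A v := by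
    rw [Fintype.linearIndependent_iff]
    intro g hg x
    by_contra hne
    obtain ⟨i, w, hw⟩ := eq_unit_mul_pow_irreducible hne hA
    have h1 := hP (i + 1) g hg x
    rw [hw] at h1
    have h2 : πA ^ (i + 1) ∣ πA ^ i := by
      obtain ⟨d, hd⟩ := h1
      refine ⟨↑w⁻¹ * d, ?_⟩
      calc πA ^ i = ↑w⁻¹ * (↑w * πA ^ i) := by rw [← mul_assoc, Units.inv_mul, one_mul]
        _ = ↑w⁻¹ * (πA ^ (i + 1) * d) := by rw [hd]
        _ = πA ^ (i + 1) * (↑w⁻¹ * d) := by ring
    rw [pow_dvd_pow_iff hA.ne_zero hA.not_isUnit] at h2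
    omega
  have hlinK : LinearIndependent K v := (LinearIndependent.iff_fractionRing A K).mp hlinA
  have := hlinK.fintype_card_le_finrank
  simpa using this

end Groth.Agent.Helper5.DVRExt
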