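import Groth.Agent.Lib.Helper5.DetP1
import Groth.Prelude.Def_SGA4hB
import Mathlib.RingTheory.TensorProduct.Free
import Mathlib.LinearAlgebra.Determinant
import Mathlib.LinearAlgebra.FreeModule.Finite.Basic
import Mathlib.Algebra.Module.Projective
import Mathlib.RingTheory.Finiteness.Cardinality

/-!
# `det(1 - u t)` on finite projective modules: comparison with `SGA4h.detOneSub`
-/

set_option autoImplicit false
set_option linter.unusedSectionVars false
set_option linter.unusedVariables false
set_option linter.style.haveILetI false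

universe u

namespace Groth.Agent.Helper5.DetP

open Polynomial Matrix CategoryTheory Module

variable {A : Type u} [CommRing A]

theorem detOneSub_eq_charpolyRev (M : ModuleCat.{u} A) (u : M ⟶ M) {ι : Type*} [Fintype ι]
    [DecidableEq ι] (b : Basis ι A M) :
    SGA4h.detOneSub M u = (LinearMap.toMatrix b b u.hom).charpolyRev := by
  unfold SGA4h.detOneSub Matrix.charpolyRev
  rw [← LinearMap.det_toMatrix (Algebra.TensorProduct.basis A[X] b)]
  congr 1
  have h1 := map_sub (LinearMap.toMatrix (Algebra.TensorProduct.basis A[X] b)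
    (Algebra.TensorProduct.basis A[X] b)) LinearMap.id
      ((X : A[X]) • LinearMap.baseChange A[X] u.hom)
  have h2 := (LinearMap.toMatrix (Algebra.TensorProduct.basis A[X] b)
    (Algebra.TensorProduct.basis A[X] b)).map_smul (X : A[X]) (LinearMap.baseChange A[X] u.hom)
  rw [h1, h2, LinearMap.toMatrix_baseChange, LinearMap.toMatrix_id]
  rfl

theorem exists_model (P : Type u) [AddCommGroup P] [Module A P] [Module.Finite A P]
    [Module.Projective A P] :
    ∃ (n : ℕ) (i : P →ₗ[A] (Fin n → A)) (r : (Fin n → A) →ₗ[A] P), ∀ x, r (i x) = x := by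
  obtain ⟨n, f, hf⟩ := Module.Finite.exists_fin' A P
  obtain ⟨s, hs⟩ := Module.projective_lifting_property f LinearMap.id hf
  exact ⟨n, s, f, fun x => by
    have := congrArg (fun g => g x) hs
    simpa using this⟩

theorem detOneSub_eq_mdet (M : ModuleCat.{u} A) [Module.Free A M] [Module.Finite A M]
    (u : M ⟶ M) {ι : Type*} [Fintype ι] [DecidableEq ι] (i : M →ₗ[A] (ι → A))
    (r : (ι → A) →ₗ[A] M) (hri : ∀ x, r (i x) = x) :
    SGA4h.detOneSub M u = mdet i r u.hom := by
  classical
  let b := Module.Free.chooseBasis A M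
  rw [detOneSub_eq_charpolyRev M u b]
  have h1 : (LinearMap.toMatrix b b u.hom).charpolyRev =
      mdet b.equivFun.toLinearMap b.equivFun.symm.toLinearMap u.hom := by
    unfold mdet rdet
    congr 1
  rw [h1]
  refine mdet_indep _ _ _ _ ?_ ?_ _
  · apply LinearMap.ext
    intro x
    simp
  · apply LinearMap.ext
    intro x
    simpa using hri x

open Classical in
/-- `det(1 - u t)` for an endomorphism of a finite projective module -/
noncomputable def pdet (P : ModuleCat.{u} A) (u : P ⟶ P) : A[X] :=
  if h : Module.Finite A P ∧ Module.Projective A P then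
    haveI := h.1
    haveI := h.2
    mdet (exists_model (A := A) P).choose_spec.choose
      (exists_model (A := A) P).choose_spec.choose_spec.choose u.hom
  else 1

theorem pdet_eq_mdet (P : ModuleCat.{u} A) (hf : Module.Finite A P) (hp : Module.Projective A P)
    (u : P ⟶ P) {ι : Type*} [Fintype ι] [DecidableEq ι] (i : P →ₗ[A] (ι → A))
    (r : (ι → A) →ₗ[A] P) (hri : ∀ x, r (i x) = x) : pdet P u = mdet i r u.hom := by
  unfold pdet
  rw [dif_pos ⟨hf, hp⟩]
  refine mdet_indep _ _ _ _ ?_ ?_ _
  · apply LinearMap.ext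
    intro x
    exact (exists_model (A := A) P).choose_spec.choose_spec.choose_spec x
  · apply LinearMap.ext
    intro x
    exact hri x

theorem pdet_eq_detOneSub (M : ModuleCat.{u} A) (hf : Module.Finite A M) (hfr : Module.Free A M)
    (u : M ⟶ M) : pdet M u = SGA4h.detOneSub M u := by
  obtain ⟨n, i, r, hri⟩ := exists_model (A := A) M
  rw [pdet_eq_mdet M hf inferInstance u i r hri, detOneSub_eq_mdet M u i r hri]

theorem pdet_of_isZero (P : ModuleCat.{u} A) (hP : Limits.IsZero P) (u : P ⟶ P) : pdet P u = 1 := by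
  haveI : Subsingleton P := ModuleCat.subsingleton_of_isZero hP
  obtain ⟨n, i, r, hri⟩ := exists_model (A := A) P
  rw [pdet_eq_mdet P inferInstance inferInstance u i r hri, mdet_of_subsingleton]

theorem pdet_ses (P' P P'' : ModuleCat.{u} A)
    (hf' : Module.Finite A P') (hp' : Module.Projective A P')
    (hf : Module.Finite A P) (hp : Module.Projective A P)
    (hf'' : Module.Finite A P'') (hp'' : Module.Projective A P'')
    (j : P' ⟶ P) (π : P ⟶ P'') (σ : P'' ⟶ P) (ρ : P ⟶ P')
    (hρj : j ≫ ρ = 𝟙 _) (hπσ : σ ≫ π = 𝟙 _) (hπj : j ≫ π = 0) (hsum : ρ ≫ j + π ≫ σ = 𝟙 _)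
    (u' : P' ⟶ P') (u : P ⟶ P) (u'' : P'' ⟶ P'')
    (huj : j ≫ u = u' ≫ j) (hπu : u ≫ π = π ≫ u'') :
    pdet P u = pdet P' u' * pdet P'' u'' := by
  obtain ⟨n, i, r, hri⟩ := exists_model (A := A) P
  obtain ⟨n', i', r', hri'⟩ := exists_model (A := A) P'
  obtain ⟨n'', i'', r'', hri''⟩ := exists_model (A := A) P''
  rw [pdet_eq_mdet P hf hp u i r hri, pdet_eq_mdet P' hf' hp' u' i' r' hri',
    pdet_eq_mdet P'' hf'' hp'' u'' i'' r'' hri'']
  refine mdet_ses i r hri i' r' hri' i'' r'' hri'' j.hom π.hom σ.hom ρ.hom ?_ ?_ ?_ ?_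
    u'.hom u.hom u''.hom ?_ ?_
  · intro x
    exact congrArg (fun f => f.hom x) hρj
  · intro x
    exact congrArg (fun f => f.hom x) hπσ
  · intro x
    exact congrArg (fun f => f.hom x) hπj
  · intro x
    exact congrArg (fun f => f.hom x) hsum
  · intro x
    exact congrArg (fun f => f.hom x) huj
  · intro x
    exact congrArg (fun f => f.hom x) hπu

end Groth.Agent.Helper5.DetP
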