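import Groth.Agent.Lib.Helper5.LTen3
import Groth.Agent.Lib.Helper11.TorAmp1

/-!
# Tor vanishing on a scheme, tested on skyscraper modules
-/

set_option autoImplicit false
set_option linter.unusedSectionVars false
set_option linter.unusedVariables false
set_option linter.style.haveILetI false

universe u

open CategoryTheory CategoryTheory.Limits AlgebraicGeometry MonoidalCategory

attribute [local instance] HasDerivedCategory.standard

namespace Groth.Agent.Helper5.LDer

open Groth.Agent.Helper5.StalkCx

variable {X : Scheme.{u}}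

/-- the stalk at `x` of `K ⊗ sky x N` (termwise) -/
noncomputable def stalkTensorSkyIso (x : X) (N : ModuleCat.{u} (X.presheaf.stalk x))
    (K : CochainComplex X.Modules ℤ) :
    stalkCx x (((DCoh.tensorRightMod (Sky.sky x N)).mapHomologicalComplex
      (ComplexShape.up ℤ)).obj K) ≅
      ((tensorRight N).mapHomologicalComplex (ComplexShape.up ℤ)).obj (stalkCx x K) :=
  (NatIso.mapHomologicalComplex (stalkTensorRightIso x (Sky.sky x N)) (ComplexShape.up ℤ)).app K ≪≫
    (NatIso.mapHomologicalComplex ((tensoringRight _).mapIso ((Sky.skyStalkIso x).app N).symm)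
      (ComplexShape.up ℤ)).app (stalkCx x K)

lemma tensorRight_map_hom {A : Type u} [CommRing A] (N : ModuleCat.{u} A) {M M' : ModuleCat.{u} A}
    (f : M ⟶ M') : ((tensorRight N).map f).hom = f.hom.rTensor N := rfl

/-- Tor vanishing against the skyscraper module gives exactness of the stalk complex tensored
with `N` -/
theorem ker_le_range_of_isZero_HD (x : X) (N : ModuleCat.{u} (X.presheaf.stalk x))
    (K : CochainComplex X.Modules ℤ) (hK : DCoh.IsKFlat K) [DCoh.HasLTensorMod (Sky.sky x N)]
    (i j k : ℤ) (hij : i + 1 = j) (hjk : j + 1 = k)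
    (h : IsZero (DCoh.HD ((DCoh.LTensorMod (Sky.sky x N)).obj (DerivedCategory.Q.obj K)) j)) :
    LinearMap.ker (((stalkCx x K).d j k).hom.rTensor N) ≤
      LinearMap.range (((stalkCx x K).d i j).hom.rTensor N) := by
  have h1 : IsZero ((((DCoh.tensorRightMod (Sky.sky x N)).mapHomologicalComplex
      (ComplexShape.up ℤ)).obj K).homology j) :=
    IsZero.of_iso (IsZero.of_iso h ((DerivedCategory.homologyFunctor X.Modules j).mapIso
      (LTensorModObjIso (Sky.sky x N) K hK)).symm) (HDQIso _ j).symm
  have h2 := isZero_homology_stalk _ j h1 x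
  have h3 : IsZero ((((tensorRight N).mapHomologicalComplex (ComplexShape.up ℤ)).obj
      (stalkCx x K)).homology j) :=
    IsZero.of_iso h2 ((HomologicalComplex.homologyFunctor _ _ j).mapIso
      (stalkTensorSkyIso x N K)).symm
  have h4 := (HomologicalComplex.exactAt_iff_isZero_homology _ _).mpr h3
  have h5 := Groth.Agent.Helper11.TA.range_eq_ker_of_exactAt _ i j k hij hjk h4
  exact h5.ge

end Groth.Agent.Helper5.LDer
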