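import Groth.Agent.Lib.Helper5.QCS1
import Groth.Agent.Lib.Helper10.DSigma
import Groth.Agent.Lib.Helper24.ModGroth
import Groth.Agent.Lib.Helper5.LTen4

/-!
# Direct sums in `D(O_X)` of objects with quasi-coherent cohomology
-/

set_option autoImplicit false
set_option linter.unusedSectionVars false
set_option linter.unusedVariables false
set_option linter.style.haveILetI false

universe w v u

open CategoryTheory CategoryTheory.Limits

namespace Groth.Agent.Helper5.QCS

open Groth.Agent.Helper10.DSigma

section General

variable {A : Type u} [Category.{v} A] [Abelian A] {J : Type w} [HasCoproductsOfShape J A]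
  [HasExactColimitsOfShape (Discrete J) A]

/-- the homology of the family complex, evaluated at `j` -/
noncomputable def famHomologyIso (K : J → CochainComplex A ℤ) (n : ℤ) (j : J) :
    ((famCx K).homology n).obj ⟨j⟩ ≅ (K j).homology n :=
  (((famCx K).sc n).mapHomologyIso ((evaluation (Discrete J) A).obj ⟨j⟩)).symm

/-- homology of the coproduct complex -/
noncomputable def sigmaHomologyIso (K : J → CochainComplex A ℤ) (n : ℤ) :
    (sigmaCx K).homology n ≅ ∐ (fun j => (K j).homology n) :=
  ((famCx K).sc n).mapHomologyIso (colim : (Discrete J ⥤ A) ⥤ A) ≪≫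
    (colim : (Discrete J ⥤ A) ⥤ A).mapIso (Discrete.natIso (fun ⟨j⟩ => famHomologyIso K n j))

end General

section Scheme

open AlgebraicGeometry Groth.Agent.Helper5.LDer

attribute [local instance] HasDerivedCategory.standard

variable {X : Scheme.{u}}

instance hasExactColimitsOfShape_discrete (ι : Type u) :
    HasExactColimitsOfShape (Discrete ι) X.Modules :=
  haveI : AB5OfSize.{u, u} X.Modules :=
    Groth.Agent.Helper24.ModGroth.ab5_sheafOfModules X.ringCatSheaf
  haveI : HasFiniteBiproducts X.Modules := Abelian.hasFiniteBiproducts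
  haveI : AB4OfSize.{u} X.Modules := AB4.of_AB5 X.Modules
  inferInstance

/-- the coproduct in the derived category is computed by the coproduct of representing complexes -/
noncomputable def sigmaQIso {ι : Type u} (K : ι → DCoh.D X) [HasCoproduct K] :
    DerivedCategory.Q.obj (sigmaCx (fun j => DerivedCategory.Q.objPreimage (K j))) ≅ ∐ K :=
  (isColimitCofanQ (fun j => DerivedCategory.Q.objPreimage (K j))).coconePointsIsoOfNatIso
    (colimit.isColimit (Discrete.functor K))
    (Discrete.natIso (fun ⟨j⟩ => DerivedCategory.Q.objObjPreimageIso (K j)))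

/-- the cohomology of a direct sum in `D(O_X)` -/
noncomputable def HDSigmaIso {ι : Type u} (K : ι → DCoh.D X) [HasCoproduct K] (n : ℤ) :
    DCoh.HD (∐ K) n ≅ ∐ (fun j => DCoh.HD (K j) n) :=
  (DerivedCategory.homologyFunctor X.Modules n).mapIso (sigmaQIso K).symm ≪≫
    HDQIso _ n ≪≫ sigmaHomologyIso _ n ≪≫
    Sigma.mapIso (fun j => (HDQIso _ n).symm ≪≫
      (DerivedCategory.homologyFunctor X.Modules n).mapIso
        (DerivedCategory.Q.objObjPreimageIso (K j)))

theorem isQCohD_sigma {ι : Type u} (K : ι → DCoh.D X) (hK : ∀ i, DCoh.IsQCohD (K i))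
    [HasCoproduct K] : DCoh.IsQCohD (∐ K) := by
  intro n
  exact Groth.Agent.Helper18.QCohBiprod.isQuasicoherent_of_iso' (HDSigmaIso K n).symm
    (isQuasicoherent_sigma _ (fun j => hK j n))

end Scheme

end Groth.Agent.Helper5.QCS
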