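import Groth.Agent.Lib.Helper5.LDer6
import Groth.Prelude.Def_DDual2
import Groth.Prelude.Def_DTor2

/-!
# The derived tensor product with a module on a scheme
-/

set_option autoImplicit false
set_option linter.unusedSectionVars false
set_option linter.unusedVariables false
set_option linter.style.haveILetI false

universe u

open CategoryTheory CategoryTheory.Limits AlgebraicGeometry MonoidalCategory

attribute [local instance] HasDerivedCategory.standard

namespace Groth.Agent.Helper5.KF

variable {A : Type u} [CommRing A]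

/-- `M ⊗ C` termwise is exact for `C` acyclic K-flat -/
theorem exactAt_tensorLeft_of_modAcyclic (M : ModuleCat.{u} A) (C : DRing.Cx A)
    (hC : ModAcyclic C) (n : ℤ) :
    (((tensorLeft M).mapHomologicalComplex (ComplexShape.up ℤ)).obj C).ExactAt n := by
  apply exactAt_of_elements
  intro z hz
  exact hC M (n - 1) n (n + 1) (by omega) rfl z hz

open CochainComplex in
/-- termwise tensoring with a module preserves quasi-isomorphisms between K-flat complexes -/
theorem quasiIso_tensorRight_of_KFl (M : ModuleCat.{u} A) {P Q : DRing.Cx A} (α : P ⟶ Q)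
    (hα : QuasiIso α) (hP : KFl P) (hQ : KFl Q) :
    QuasiIso (((tensorRight M).mapHomologicalComplex (ComplexShape.up ℤ)).map α) := by
  rw [quasiIso_iff_acyclic_mappingCone] at hα ⊢
  intro n
  have h1 : KFl (mappingCone α) := KFl.cone α hP hQ
  have h2 := modAcyclic_of_KFl_of_acyclic (mappingCone α) h1
    (fun i => (HomologicalComplex.exactAt_iff_isZero_homology _ _).mp (hα i))
  have h3 := exactAt_tensorLeft_of_modAcyclic M _ h2 n
  have h4 := h3.of_iso ((NatIso.mapHomologicalComplex (BraidedCategory.tensorLeftIsoTensorRight M)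
    (ComplexShape.up ℤ)).app (mappingCone α))
  exact h4.of_iso (mappingCone.mapHomologicalComplexIso α (tensorRight M))

end Groth.Agent.Helper5.KF

namespace Groth.Agent.Helper5.LDer

open Groth.Agent.Helper5.StalkCx

variable {X : Scheme.{u}}

/-- stalks of the termwise tensor product with a module -/
noncomputable def stalkTensorRightIso (x : X) (F : X.Modules) :
    DCoh.tensorRightMod F ⋙ DerSch.stalkFunctor X x ≅
      DerSch.stalkFunctor X x ⋙ tensorRight ((DerSch.stalkFunctor X x).obj F) :=
  NatIso.ofComponents (fun N => (stalkBiComm x).μ N F) (fun g => (stalkBiComm x).nat_left g F)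

/-- termwise tensoring with a module preserves quasi-isomorphisms between K-flat complexes -/
theorem quasiIso_tensorRightMod_of_kflat (F : X.Modules) {K L : CochainComplex X.Modules ℤ}
    (g : K ⟶ L) (hg : QuasiIso g) (hK : DCoh.IsKFlat K) (hL : DCoh.IsKFlat L) :
    QuasiIso (((DCoh.tensorRightMod F).mapHomologicalComplex (ComplexShape.up ℤ)).map g) := by
  apply StalkCx.quasiIso_of_stalks
  intro x
  have hgx : QuasiIso (((DerSch.stalkFunctor X x).mapHomologicalComplex
      (ComplexShape.up ℤ)).map g) := inferInstance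
  have h1 := KF.quasiIso_tensorRight_of_KFl ((DerSch.stalkFunctor X x).obj F) _ hgx
    (Sky.isKFlat_stalk x K hK) (Sky.isKFlat_stalk x L hL)
  let e := NatIso.mapHomologicalComplex (stalkTensorRightIso x F) (ComplexShape.up ℤ)
  have nat := e.hom.naturality g
  have h2 : QuasiIso (e.hom.app K ≫ ((DerSch.stalkFunctor X x ⋙
      tensorRight ((DerSch.stalkFunctor X x).obj F)).mapHomologicalComplex
        (ComplexShape.up ℤ)).map g) := by
    haveI : QuasiIso (((DerSch.stalkFunctor X x ⋙
      tensorRight ((DerSch.stalkFunctor X x).obj F)).mapHomologicalComplex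
        (ComplexShape.up ℤ)).map g) := h1
    exact quasiIso_comp _ _
  rw [← nat] at h2
  exact (quasiIso_iff_comp_right _ (e.hom.app L)).mp h2

section Termwise

variable {Y X' : Scheme.{u}} (Φ : Y.Modules ⥤ X'.Modules) [Φ.Additive]

/-- `Φ` applied termwise preserves quasi-isomorphisms between K-flat complexes -/
def TermwiseInverts : Prop :=
  ∀ ⦃K L : CochainComplex Y.Modules ℤ⦄ (g : K ⟶ L), QuasiIso g → DCoh.IsKFlat K →
    DCoh.IsKFlat L → QuasiIso ((Φ.mapHomologicalComplex (ComplexShape.up ℤ)).map g)

variable {Φ}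

lemma invertsKFlatQis_of_termwise (h : TermwiseInverts Φ) :
    InvertsKFlatQis (HomotopyCategory.quotient Y.Modules (ComplexShape.up ℤ) ⋙
      (Φ.mapHomotopyCategory (ComplexShape.up ℤ) ⋙ DerivedCategory.Qh)) := by
  intro K L g hg hK hL
  exact isIso_Qh_quotient_map _ (h g hg hK hL)

/-- the value of a left derived functor of a termwise functor on a K-flat complex -/
noncomputable def derivedObjIso (h : TermwiseInverts Φ) (LF' : DerivedCategory Y.Modules ⥤
    DerivedCategory X'.Modules)
    (α' : DerivedCategory.Qh ⋙ LF' ⟶ Φ.mapHomotopyCategory (ComplexShape.up ℤ) ⋙ DerivedCategory.Qh)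
    [LF'.IsLeftDerivedFunctor α' (HomotopyCategory.quasiIso Y.Modules (ComplexShape.up ℤ))]
    (K : CochainComplex Y.Modules ℤ) (hK : DCoh.IsKFlat K) :
    LF'.obj (DerivedCategory.Q.obj K) ≅
      DerivedCategory.Q.obj ((Φ.mapHomologicalComplex (ComplexShape.up ℤ)).obj K) :=
  haveI := isIso_counit_K _ (invertsKFlatQis_of_termwise h) LF' α' K hK
  LF'.mapIso ((DerivedCategory.quotientCompQhIso Y.Modules).symm.app K) ≪≫
    asIso (α'.app ((HomotopyCategory.quotient Y.Modules (ComplexShape.up ℤ)).obj K)) ≪≫
    (DerivedCategory.quotientCompQhIso X'.Modules).app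
      ((Φ.mapHomologicalComplex (ComplexShape.up ℤ)).obj K)

end Termwise

lemma termwiseInverts_tensorRightMod (F : X.Modules) : TermwiseInverts (DCoh.tensorRightMod F) :=
  fun _ _ g hg hK hL => quasiIso_tensorRightMod_of_kflat F g hg hK hL

lemma termwiseInverts_pullback {X Y : Scheme.{u}} (f : X ⟶ Y) :
    TermwiseInverts (Scheme.Modules.pullback f) :=
  fun _ _ g hg hK hL => Sky.quasiIso_pullback_of_kflat f g hg hK hL

theorem hasLTensorMod (F : X.Modules) : DCoh.HasLTensorMod F :=
  hasLeftDerivedFunctor_K (DCoh.tensorModKh F)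
    (invertsKFlatQis_of_termwise (termwiseInverts_tensorRightMod F))

/-- the counit of the derived tensor product with a module -/
noncomputable abbrev LTensorModCounit (F : X.Modules) [DCoh.HasLTensorMod F] :
    DerivedCategory.Qh ⋙ DCoh.LTensorMod F ⟶ DCoh.tensorModKh F :=
  (DCoh.tensorModKh F).totalLeftDerivedCounit DerivedCategory.Qh
    (HomotopyCategory.quasiIso X.Modules (ComplexShape.up ℤ))

/-- `K ⊗^L F` is computed termwise for K-flat `K` -/
noncomputable def LTensorModObjIso (F : X.Modules) [DCoh.HasLTensorMod F]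
    (K : CochainComplex X.Modules ℤ) (hK : DCoh.IsKFlat K) :
    (DCoh.LTensorMod F).obj (DerivedCategory.Q.obj K) ≅
      DerivedCategory.Q.obj (((DCoh.tensorRightMod F).mapHomologicalComplex
        (ComplexShape.up ℤ)).obj K) :=
  derivedObjIso (termwiseInverts_tensorRightMod F) (DCoh.LTensorMod F) (LTensorModCounit F) K hK

/-- `Lf^* K` is computed termwise for K-flat `K` -/
noncomputable def LpullObjIso {X Y : Scheme.{u}} (f : X ⟶ Y) [DCoh.HasLpull f]
    (K : CochainComplex Y.Modules ℤ) (hK : DCoh.IsKFlat K) :
    (DCoh.Lpull f).obj (DerivedCategory.Q.obj K) ≅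
      DerivedCategory.Q.obj (((Scheme.Modules.pullback f).mapHomologicalComplex
        (ComplexShape.up ℤ)).obj K) :=
  derivedObjIso (termwiseInverts_pullback f) (DCoh.Lpull f) (LpullCounit f) K hK

end Groth.Agent.Helper5.LDer
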