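import Mathlib

/-!
# Transfer of right Kan extensions along a localization functor
-/

set_option autoImplicit false
set_option linter.unusedSectionVars false
set_option linter.unusedVariables false
set_option linter.style.haveILetI false

open CategoryTheory CategoryTheory.Limits

namespace Groth.Agent.Helper5.LDer

universe v₀ v₁ v₂ v₃ u₀ u₁ u₂ u₃

variable {C : Type u₀} {K : Type u₁} {D : Type u₂} {H : Type u₃} [Category.{v₀} C]
  [Category.{v₁} K] [Category.{v₂} D] [Category.{v₃} H]
  (Qc : C ⥤ K) (Wc : MorphismProperty C) [Qc.IsLocalization Wc]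
  (L : K ⥤ D) (F : K ⥤ H) (LF : D ⥤ H)

/-- descend a natural transformation along the localization functor `Qc` -/
noncomputable def descα (αC : (Qc ⋙ L) ⋙ LF ⟶ Qc ⋙ F) : L ⋙ LF ⟶ F :=
  Localization.liftNatTrans Qc Wc (Qc ⋙ (L ⋙ LF)) (Qc ⋙ F) (L ⋙ LF) F
    { app := fun X => αC.app X
      naturality := fun X Y f => αC.naturality f }

lemma descα_app (αC : (Qc ⋙ L) ⋙ LF ⟶ Qc ⋙ F) (X : C) :
    (descα Qc Wc L F LF αC).app (Qc.obj X) = αC.app X := by
  rw [descα, Localization.liftNatTrans_app]
  simp [Localization.Lifting.iso]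

/-- a right Kan extension along `Qc ⋙ L` of `Qc ⋙ F` is a right Kan extension of `F` along `L`
when `Qc` is a localization functor -/
theorem isRightKanExtension_descα (αC : (Qc ⋙ L) ⋙ LF ⟶ Qc ⋙ F)
    [LF.IsRightKanExtension αC] :
    LF.IsRightKanExtension (descα Qc Wc L F LF αC) := by
  refine ⟨⟨IsTerminal.ofUniqueHom
    (fun E => CostructuredArrow.homMk
      (LF.liftOfIsRightKanExtension αC E.left
        { app := fun X => E.hom.app (Qc.obj X)
          naturality := fun X Y f => E.hom.naturality (Qc.map f) }) ?_) ?_⟩⟩
  · apply Localization.natTrans_ext Qc Wc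
    intro X
    have h := LF.liftOfIsRightKanExtension_fac_app αC E.left
        { app := fun X => E.hom.app (Qc.obj X)
          naturality := fun X Y f => E.hom.naturality (Qc.map f) } X
    simp only [Functor.comp_obj] at h
    change (LF.liftOfIsRightKanExtension αC E.left _).app (L.obj (Qc.obj X)) ≫
      (descα Qc Wc L F LF αC).app (Qc.obj X) = E.hom.app (Qc.obj X)
    rw [descα_app]
    exact h
  · intro E m
    apply CostructuredArrow.hom_ext
    apply LF.hom_ext_of_isRightKanExtension αC
    ext X
    have h := LF.liftOfIsRightKanExtension_fac_app αC E.left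
        { app := fun X => E.hom.app (Qc.obj X)
          naturality := fun X Y f => E.hom.naturality (Qc.map f) } X
    have hm := congrArg (fun t => t.app (Qc.obj X)) (CostructuredArrow.w m)
    simp only [Functor.comp_obj] at h
    change m.left.app (L.obj (Qc.obj X)) ≫ αC.app X =
      (LF.liftOfIsRightKanExtension αC E.left _).app (L.obj (Qc.obj X)) ≫ αC.app X
    rw [h, ← descα_app Qc Wc L F LF αC X]
    exact hm

end Groth.Agent.Helper5.LDer
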