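import Groth.Agent.Lib.Helper5.LDer1
import Groth.Agent.Lib.Helper5.LDer3

/-!
# Left derived functors on the homotopy category of an abelian category, from a functorial
resolution by "good" complexes (generic version)
-/

set_option autoImplicit false
set_option linter.unusedSectionVars false
set_option linter.unusedVariables false
set_option linter.style.haveILetI false

universe w v' u' v u

open CategoryTheory CategoryTheory.Limits

namespace Groth.Agent.Helper5.LDerG

open Groth.Agent.Helper5.LDer

variable {C : Type u} [Category.{v} C] [Abelian C] [HasDerivedCategory.{w} C]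
  {H : Type u'} [Category.{v'} H]
  (good : CochainComplex C ℤ → Prop)
  (P : CochainComplex C ℤ ⥤ CochainComplex C ℤ) (ψ : P ⟶ 𝟭 (CochainComplex C ℤ))
  (hP : ∀ X, good (P.obj X)) (hψ : ∀ X, QuasiIso (ψ.app X))

include hψ in
lemma P_map_quasiIso {K L : CochainComplex C ℤ} (g : K ⟶ L) (hg : QuasiIso g) :
    QuasiIso (P.map g) := by
  have nat := ψ.naturality g
  simp only [Functor.id_obj, Functor.id_map] at nat
  haveI := hψ K
  haveI := hψ L
  have h : QuasiIso (P.map g ≫ ψ.app L) := by
    rw [nat]
    exact quasiIso_comp _ _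
  exact (quasiIso_iff_comp_right _ (ψ.app L)).mp h

/-- the functor `F` inverts quasi-isomorphisms between good complexes -/
def InvertsGoodQis (F : CochainComplex C ℤ ⥤ H) : Prop :=
  ∀ ⦃K L : CochainComplex C ℤ⦄ (g : K ⟶ L), QuasiIso g → good K → good L → IsIso (F.map g)

section Cx

variable (F : CochainComplex C ℤ ⥤ H) (hF : InvertsGoodQis good F)

include hP hψ hF in
lemma hPF_cx : (HomologicalComplex.quasiIso C (ComplexShape.up ℤ)).IsInvertedBy (P ⋙ F) := by
  intro K L g hg
  exact hF _ (P_map_quasiIso P ψ hψ g hg) (hP K) (hP L)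

include hP hψ hF in
lemma hF'_cx (X : CochainComplex C ℤ) : IsIso (F.map (ψ.app (P.obj X))) :=
  hF _ (hψ _) (hP _) (hP _)

include hψ in
lemma hψ_cx (X : CochainComplex C ℤ) :
    HomologicalComplex.quasiIso C (ComplexShape.up ℤ) (ψ.app X) :=
  hψ X

end Cx

section K

instance instQcQhLoc :
    (HomotopyCategory.quotient C (ComplexShape.up ℤ) ⋙ DerivedCategory.Qh).IsLocalization
      (HomologicalComplex.quasiIso C (ComplexShape.up ℤ)) :=
  Functor.IsLocalization.of_iso _ (DerivedCategory.quotientCompQhIso C).symm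

variable (F : HomotopyCategory C (ComplexShape.up ℤ) ⥤ H)
  (hF : InvertsGoodQis good (HomotopyCategory.quotient C (ComplexShape.up ℤ) ⋙ F))

/-- the K-level derived functor -/
noncomputable def LFK : DerivedCategory C ⥤ H :=
  LF (HomotopyCategory.quotient C (ComplexShape.up ℤ) ⋙ DerivedCategory.Qh)
    (HomologicalComplex.quasiIso C (ComplexShape.up ℤ))
    (HomotopyCategory.quotient C (ComplexShape.up ℤ) ⋙ F) P (hPF_cx good P ψ hP hψ _ hF)

/-- the Cx-level counit for the K-level derived functor -/
noncomputable def αKC : (HomotopyCategory.quotient C (ComplexShape.up ℤ) ⋙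
    DerivedCategory.Qh) ⋙ LFK good P ψ hP hψ F hF ⟶
      HomotopyCategory.quotient C (ComplexShape.up ℤ) ⋙ F :=
  α _ _ _ P ψ (hPF_cx good P ψ hP hψ _ hF)

/-- the K-level counit -/
noncomputable def αK : DerivedCategory.Qh ⋙ LFK good P ψ hP hψ F hF ⟶ F :=
  descα (HomotopyCategory.quotient C (ComplexShape.up ℤ))
    (HomologicalComplex.homotopyEquivalences _ _) DerivedCategory.Qh F (LFK good P ψ hP hψ F hF)
    (αKC good P ψ hP hψ F hF)

lemma αK_app (K : CochainComplex C ℤ) :
    (αK good P ψ hP hψ F hF).app ((HomotopyCategory.quotient C (ComplexShape.up ℤ)).obj K) =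
      (αKC good P ψ hP hψ F hF).app K :=
  descα_app _ _ _ _ _ _ K

lemma isLeftDerivedFunctor_αKC :
    (LFK good P ψ hP hψ F hF).IsLeftDerivedFunctor (αKC good P ψ hP hψ F hF)
      (HomologicalComplex.quasiIso C (ComplexShape.up ℤ)) :=
  isLeftDerivedFunctor _ _ _ P ψ (hψ_cx P ψ hψ) (hPF_cx good P ψ hP hψ _ hF)
    (hF'_cx good P ψ hP hψ _ hF)

lemma isLeftDerivedFunctor_αK :
    (LFK good P ψ hP hψ F hF).IsLeftDerivedFunctor (αK good P ψ hP hψ F hF)
      (HomotopyCategory.quasiIso C (ComplexShape.up ℤ)) := by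
  constructor
  haveI : (LFK good P ψ hP hψ F hF).IsRightKanExtension (αKC good P ψ hP hψ F hF) :=
    (isLeftDerivedFunctor_αKC good P ψ hP hψ F hF).isRightKanExtension
  exact isRightKanExtension_descα _ _ _ _ _ (αKC good P ψ hP hψ F hF)

include hP hψ hF in
/-- K-level existence of left derived functors -/
theorem hasLeftDerivedFunctor_K :
    F.HasLeftDerivedFunctor (HomotopyCategory.quasiIso C (ComplexShape.up ℤ)) := by
  haveI := isLeftDerivedFunctor_αK good P ψ hP hψ F hF
  exact Functor.HasLeftDerivedFunctor.mk' (LFK good P ψ hP hψ F hF) (αK good P ψ hP hψ F hF)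

lemma isIso_αK_app (K : CochainComplex C ℤ) (hK : good K) :
    IsIso ((αK good P ψ hP hψ F hF).app
      ((HomotopyCategory.quotient C (ComplexShape.up ℤ)).obj K)) := by
  rw [αK_app]
  haveI := isLeftDerivedFunctor_αKC good P ψ hP hψ F hF
  exact isIso_counit_app (HomotopyCategory.quotient C (ComplexShape.up ℤ) ⋙
    DerivedCategory.Qh) _ _ P ψ (hψ_cx P ψ hψ) (hPF_cx good P ψ hP hψ _ hF)
    (hF'_cx good P ψ hP hψ _ hF) (LFK good P ψ hP hψ F hF) (αKC good P ψ hP hψ F hF) K
    (hF _ (hψ K) (hP K) hK)

include hP hψ hF in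
/-- the counit of a K-level left derived functor is an isomorphism on good complexes -/
theorem isIso_counit_K (LF' : DerivedCategory C ⥤ H) (α' : DerivedCategory.Qh ⋙ LF' ⟶ F)
    [LF'.IsLeftDerivedFunctor α' (HomotopyCategory.quasiIso C (ComplexShape.up ℤ))]
    (K : CochainComplex C ℤ) (hK : good K) :
    IsIso (α'.app ((HomotopyCategory.quotient C (ComplexShape.up ℤ)).obj K)) := by
  haveI := isLeftDerivedFunctor_αK good P ψ hP hψ F hF
  let e := Functor.leftDerivedNatIso LF' (LFK good P ψ hP hψ F hF) α' (αK good P ψ hP hψ F hF)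
    (HomotopyCategory.quasiIso C (ComplexShape.up ℤ)) (Iso.refl F)
  have h : e.hom.app (DerivedCategory.Qh.obj ((HomotopyCategory.quotient C
      (ComplexShape.up ℤ)).obj K)) ≫ (αK good P ψ hP hψ F hF).app ((HomotopyCategory.quotient C
      (ComplexShape.up ℤ)).obj K) = α'.app ((HomotopyCategory.quotient C
      (ComplexShape.up ℤ)).obj K) := by
    have h0 := Functor.leftDerivedNatTrans_app LF' (LFK good P ψ hP hψ F hF) α'
      (αK good P ψ hP hψ F hF)
      (HomotopyCategory.quasiIso C (ComplexShape.up ℤ)) (𝟙 F)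
      ((HomotopyCategory.quotient C (ComplexShape.up ℤ)).obj K)
    rw [NatTrans.id_app, Category.comp_id] at h0
    exact h0
  rw [← h]
  haveI := isIso_αK_app good P ψ hP hψ F hF K hK
  infer_instance

include hP hψ hF in
/-- recognition of K-level left derived functors -/
theorem isLeftDerivedFunctor_K_of_isIso (G : DerivedCategory C ⥤ H)
    (β : DerivedCategory.Qh ⋙ G ⟶ F)
    (hβ : ∀ K : CochainComplex C ℤ, good K →
      IsIso (β.app ((HomotopyCategory.quotient C (ComplexShape.up ℤ)).obj K))) :
    G.IsLeftDerivedFunctor β (HomotopyCategory.quasiIso C (ComplexShape.up ℤ)) := by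
  let βC : (HomotopyCategory.quotient C (ComplexShape.up ℤ) ⋙ DerivedCategory.Qh) ⋙ G ⟶
      HomotopyCategory.quotient C (ComplexShape.up ℤ) ⋙ F :=
    { app := fun K => β.app ((HomotopyCategory.quotient C (ComplexShape.up ℤ)).obj K)
      naturality := fun K L g =>
        β.naturality ((HomotopyCategory.quotient C (ComplexShape.up ℤ)).map g) }
  have h1 : G.IsLeftDerivedFunctor βC
      (HomologicalComplex.quasiIso C (ComplexShape.up ℤ)) :=
    isLeftDerivedFunctor_of_isIso _ _ _ P ψ (hψ_cx P ψ hψ) (hPF_cx good P ψ hP hψ _ hF)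
      (hF'_cx good P ψ hP hψ _ hF) G βC (fun X => hβ _ (hP X))
  haveI : G.IsRightKanExtension βC := h1.isRightKanExtension
  have h2 := isRightKanExtension_descα (HomotopyCategory.quotient C (ComplexShape.up ℤ))
    (HomologicalComplex.homotopyEquivalences _ _) DerivedCategory.Qh F G βC
  have h3 : descα (HomotopyCategory.quotient C (ComplexShape.up ℤ))
      (HomologicalComplex.homotopyEquivalences _ _) DerivedCategory.Qh F G βC = β := by
    apply Localization.natTrans_ext (HomotopyCategory.quotient C (ComplexShape.up ℤ))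
      (HomologicalComplex.homotopyEquivalences _ _)
    intro K
    exact descα_app _ _ _ _ _ _ K
  rw [h3] at h2
  exact ⟨h2⟩

end K

end Groth.Agent.Helper5.LDerG
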