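import Groth.Agent.Lib.Helper5.StalkCx3
import Groth.Agent.Lib.Helper5.KFlat6

/-!
# The stalks of `M~` are base changes; `K~` is K-flat when `K` is
-/

set_option autoImplicit false
set_option linter.unusedSectionVars false
set_option linter.unusedVariables false
set_option linter.style.haveILetI false

open CategoryTheory CategoryTheory.Limits MonoidalCategory AlgebraicGeometry Opposite TensorProduct
open ChangeOfRings
universe u

namespace Groth.Agent.Helper5.TildeSt

variable (R : CommRingCat.{u}) (y : PrimeSpectrum.Top R) {M M' : ModuleCat.{u} R} (g : M ⟶ M')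
open Groth.Agent.Helper5 Groth.Agent.Helper13.QCoh

/-- the point, typed in `Spec R` -/
abbrev xS : ↥(Spec (.of R)) := y

lemma tilde_map_app_toOpen (U : (Spec (.of R)).Opens) (m : M) :
    (tilde.map g).app U (StructureSheaf.toOpenₗ R M U m) = StructureSheaf.toOpenₗ R M' U (g m) := by
  have := congr($(tilde.toOpen_map_app g U) m)
  exact this

/-- the map to the stalk, with the point typed in `Spec R` -/
noncomputable def toSt (M : ModuleCat.{u} R) (m : M) : (tilde M).presheaf.stalk (xS R y) :=
  (tilde M).presheaf.germ ⊤ (xS R y) trivial (StructureSheaf.toOpenₗ R M ⊤ m)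

lemma toSt_eq (M : ModuleCat.{u} R) (m : M) : toSt R y M m = StructureSheaf.toStalkₗ R M y m := rfl

lemma stalkMap_tilde_map_toSt (m : M) :
    stalkMap (tilde.map g) (xS R y) (toSt R y M m) = toSt R y M' (g m) :=
  (stalkMap_germ (tilde.map g) (xS R y) ⊤ trivial _).trans
    (congrArg ((tilde M').presheaf.germ ⊤ (xS R y) trivial) (tilde_map_app_toOpen R g ⊤ m))

/-- the local ring at `x` -/
abbrev Ax : Type u := ((Spec (.of R)).presheaf.stalk (xS R y) : CommRingCat.{u})

/-- the localization map -/
noncomputable def φx : R →+* Ax R y := (StructureSheaf.toStalk R y).hom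

/-- the stalk as a module -/
noncomputable abbrev StM (M : ModuleCat.{u} R) : ModuleCat.{u} (Ax R y) :=
  (DerSch.stalkFunctor (Spec (.of R)) (xS R y)).obj (tilde M)

lemma toSt_smul (M : ModuleCat.{u} R) (r : R) (m : M) :
    toSt R y M (r • m) = φx R y r • (toSt R y M m : StM R y M) :=
  (StructureSheaf.toStalkₗ R M y).map_smul r m

/-- the map to the stalk as a morphism of `R`-modules -/
noncomputable def τ (M : ModuleCat.{u} R) :
    M ⟶ (ModuleCat.restrictScalars (φx R y)).obj (StM R y M) :=
  ModuleCat.ofHom (Y := (ModuleCat.restrictScalars (φx R y)).obj (StM R y M))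
    { toFun := fun m => toSt R y M m
      map_add' := fun a b => (StructureSheaf.toStalkₗ R M y).map_add a b
      map_smul' := fun r m => toSt_smul R y M r m }

/-- the comparison map -/
noncomputable def αx (M : ModuleCat.{u} R) :
    (ModuleCat.extendScalars (φx R y)).obj M ⟶ StM R y M :=
  ((ModuleCat.extendRestrictScalarsAdj (φx R y)).homEquiv _ _).symm (τ R y M)

/-- pure tensors in the extension of scalars -/
noncomputable def aTmul (M : ModuleCat.{u} R) (a : Ax R y) (m : M) :
    (ModuleCat.extendScalars (φx R y)).obj M := a ⊗ₜ[R,φx R y] m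

lemma smul_aTmul (M : ModuleCat.{u} R) (a b : Ax R y) (m : M) :
    a • aTmul R y M b m = aTmul R y M (a * b) m :=
  ModuleCat.ExtendScalars.smul_tmul ..

lemma αx_tmul (M : ModuleCat.{u} R) (a : Ax R y) (m : M) :
    αx R y M (aTmul R y M a m) = a • (toSt R y M m : StM R y M) := by
  have h1 : τ R y M = (ModuleCat.extendRestrictScalarsAdj (φx R y)).homEquiv _ _ (αx R y M) :=
    ((ModuleCat.extendRestrictScalarsAdj (φx R y)).homEquiv _ _).apply_symm_apply _ |>.symm
  have h2 : toSt R y M m = αx R y M (aTmul R y M 1 m) := by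
    have := congr($h1 m)
    rw [ModuleCat.extendRestrictScalarsAdj_homEquiv_apply] at this
    exact this
  rw [h2]
  have h3 : a • aTmul R y M 1 m = aTmul R y M a m := by
    rw [smul_aTmul, mul_one]
  rw [← h3]
  exact (αx R y M).hom.map_smul a _

section
variable (M : ModuleCat.{u} R)

instance : y.asIdeal.IsPrime := y.isPrime

/-- the base change equivalence from Mathlib -/
noncomputable def baseChangeEquiv :
    (((structurePresheafInCommRingCat R).stalk y) ⊗[R] M)
      ≃ₗ[(structurePresheafInCommRingCat R).stalk y]
      ↑(TopCat.Presheaf.stalk (moduleStructurePresheaf R M).presheaf y) :=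
  (IsLocalizedModule.isBaseChange y.asIdeal.primeCompl
    ((structurePresheafInCommRingCat R).stalk y) (StructureSheaf.toStalkₗ R M y)).equiv

lemma baseChangeEquiv_tmul (a : (structurePresheafInCommRingCat R).stalk y) (m : M) :
    baseChangeEquiv R y M (a ⊗ₜ m) = a • StructureSheaf.toStalkₗ R M y m :=
  IsBaseChange.equiv_tmul (IsLocalizedModule.isBaseChange y.asIdeal.primeCompl
    ((structurePresheafInCommRingCat R).stalk y) (StructureSheaf.toStalkₗ R M y)) a m

lemma αx_eq (t : (ModuleCat.extendScalars (φx R y)).obj M) :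
    αx R y M t = baseChangeEquiv R y M t := by
  induction t using TensorProduct.induction_on with
  | zero => exact ((αx R y M).hom.map_zero).trans (map_zero (baseChangeEquiv R y M)).symm
  | tmul a m =>
    exact (αx_tmul R y M a m).trans (baseChangeEquiv_tmul R y M a m).symm
  | add s t hs ht =>
    refine ((αx R y M).hom.map_add s t).trans ?_
    refine Eq.trans ?_ (map_add (baseChangeEquiv R y M) s t).symm
    exact congrArg₂ (· + ·) hs ht

lemma αx_bijective : Function.Bijective (αx R y M) := by
  have : ⇑(ConcreteCategory.hom (αx R y M)) = fun t => baseChangeEquiv R y M t :=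
    funext (αx_eq R y M)
  rw [this]
  exact (baseChangeEquiv R y M).bijective

end

lemma isIso_αx (M : ModuleCat.{u} R) : IsIso (αx R y M) :=
  (ConcreteCategory.isIso_iff_bijective _).mpr (αx_bijective R y M)

lemma τ_naturality :
    g ≫ τ R y M' = τ R y M ≫ (ModuleCat.restrictScalars (φx R y)).map
      ((DerSch.stalkFunctor (Spec (.of R)) (xS R y)).map (tilde.map g)) := by
  ext m
  exact (stalkMap_tilde_map_toSt R y g m).symm

lemma αx_naturality :
    (ModuleCat.extendScalars (φx R y)).map g ≫ αx R y M' =
      αx R y M ≫ (DerSch.stalkFunctor (Spec (.of R)) (xS R y)).map (tilde.map g) := by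
  unfold αx
  rw [← Adjunction.homEquiv_naturality_left_symm, ← Adjunction.homEquiv_naturality_right_symm,
    τ_naturality]

/-- the stalk of `M~` is the base change of `M` to the local ring -/
noncomputable def tildeStalkNatIso :
    ModuleCat.extendScalars (φx R y) ≅
      tilde.functor R ⋙ DerSch.stalkFunctor (Spec (.of R)) (xS R y) :=
  NatIso.ofComponents (fun M => @asIso _ _ _ _ (αx R y M) (isIso_αx R y M))
    (fun g => αx_naturality R y g)

theorem tilde_isKFlat (K : DRing.Cx R) (hK : KF.KFl K) :
    DCoh.IsKFlat (((tilde.functor R).mapHomologicalComplex (ComplexShape.up ℤ)).obj K) := by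
  apply StalkCx.isKFlat_of_stalks
  intro x
  have e : (KF.extC (φx R x)).obj K ≅
      StalkCx.stalkCx x (((tilde.functor R).mapHomologicalComplex (ComplexShape.up ℤ)).obj K) :=
    (NatIso.mapHomologicalComplex (tildeStalkNatIso R x) (ComplexShape.up ℤ)).app K
  exact KF.KFl.of_homotopyEquiv (HomotopyEquiv.ofIso e) (KF.KFl.extC (φx R x) K hK)

end Groth.Agent.Helper5.TildeSt
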