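import Groth.Agent.Lib.Helper5.RRes1
import Groth.Agent.Lib.Helper5.LDerG1
import Groth.Agent.Lib.Helper5.LDer6
import Groth.Agent.Lib.Helper5.StalkCx5
import Groth.Agent.Lib.Helper13.PullbackTilde
import Groth.Prelude.Def_DDual2

/-!
# Derived base change and tilde: `LBaseChange φ ⋙ tildeD B ≅ tildeD A ⋙ Lpull (Spec.map φ)`
-/

set_option autoImplicit false
set_option linter.unusedSectionVars false
set_option linter.unusedVariables false
set_option linter.style.haveILetI false

universe u

open CategoryTheory CategoryTheory.Limits AlgebraicGeometry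

attribute [local instance] HasDerivedCategory.standard

namespace Groth.Agent.Helper5.TBC

open Groth.Agent.Helper5.KF Groth.Agent.Helper5.LDerG

section Ring

variable (A : Type u) [CommRing A]

/-- the functorial K-flat resolution functor on complexes of `A`-modules -/
noncomputable def RP : DRing.Cx A ⥤ DRing.Cx A :=
  (RRes.exists_functorial_KFl_resolution A).choose

/-- the functorial K-flat resolution map -/
noncomputable def Rψ : RP A ⟶ 𝟭 (DRing.Cx A) :=
  (RRes.exists_functorial_KFl_resolution A).choose_spec.choose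

lemma RP_KFl (C : DRing.Cx A) : KFl ((RP A).obj C) :=
  ((RRes.exists_functorial_KFl_resolution A).choose_spec.choose_spec C).1

lemma Rψ_quasiIso (C : DRing.Cx A) : QuasiIso ((Rψ A).app C) :=
  ((RRes.exists_functorial_KFl_resolution A).choose_spec.choose_spec C).2

end Ring

section Generic

variable {C : Type*} [Category* C] [Abelian C] [HasDerivedCategory C]

lemma isIso_Qh_quotient_map {K L : CochainComplex C ℤ} (g : K ⟶ L) (hg : QuasiIso g) :
    IsIso ((DerivedCategory.Qh (C := C)).map
      ((HomotopyCategory.quotient C (ComplexShape.up ℤ)).map g)) := by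
  have h : IsIso ((DerivedCategory.Q (C := C)).map g) := by
    rw [DerivedCategory.isIso_Q_map_iff_quasiIso]
    exact hg
  exact (NatIso.isIso_map_iff (DerivedCategory.quotientCompQhIso C) g).2 h

end Generic

section Main

variable {A B : Type u} [CommRing A] [CommRing B] (φ : A →+* B)

/-- base change (to `D(B)`) inverts quasi-isomorphisms between K-flat complexes -/
lemma inverts_baseChangeKh :
    InvertsGoodQis (KFl (A := A))
      (HomotopyCategory.quotient (ModuleCat.{u} A) (ComplexShape.up ℤ) ⋙ DRing.baseChangeKh φ) := by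
  intro K L g hg hK hL
  exact isIso_Qh_quotient_map _ (quasiIso_extC_of_KFl φ g hg hK hL)

variable [PreservesFiniteLimits (tilde.functor (CommRingCat.of A))]
  [PreservesFiniteLimits (tilde.functor (CommRingCat.of B))]

/-- the functor to be derived -/
noncomputable abbrev Fφ : HomotopyCategory (ModuleCat.{u} A) (ComplexShape.up ℤ) ⥤
    DCoh.D (Spec (CommRingCat.of B)) :=
  DRing.baseChangeKh φ ⋙ DCoh.tildeD (CommRingCat.of B)

lemma inverts_Fφ :
    InvertsGoodQis (KFl (A := A))
      (HomotopyCategory.quotient (ModuleCat.{u} A) (ComplexShape.up ℤ) ⋙ Fφ φ) := by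
  intro K L g hg hK hL
  haveI : IsIso ((HomotopyCategory.quotient (ModuleCat.{u} A) (ComplexShape.up ℤ) ⋙
      DRing.baseChangeKh φ).map g) := inverts_baseChangeKh φ g hg hK hL
  exact inferInstanceAs (IsIso ((DCoh.tildeD (CommRingCat.of B)).map
    ((HomotopyCategory.quotient (ModuleCat.{u} A) (ComplexShape.up ℤ) ⋙
      DRing.baseChangeKh φ).map g)))

section One

variable [DRing.HasLBaseChange φ]

/-- the counit of derived base change -/
noncomputable abbrev LBCCounit : DerivedCategory.Qh ⋙ DRing.LBaseChange φ ⟶ DRing.baseChangeKh φ :=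
  (DRing.baseChangeKh φ).totalLeftDerivedCounit DerivedCategory.Qh
    (HomotopyCategory.quasiIso (ModuleCat.{u} A) (ComplexShape.up ℤ))

lemma isIso_LBCCounit (K : DRing.Cx A) (hK : KFl K) :
    IsIso ((LBCCounit φ).app ((HomotopyCategory.quotient _ _).obj K)) :=
  isIso_counit_K KFl (RP A) (Rψ A) (RP_KFl A) (Rψ_quasiIso A) (DRing.baseChangeKh φ)
    (inverts_baseChangeKh φ) (DRing.LBaseChange φ) (LBCCounit φ) K hK

/-- first candidate counit -/
noncomputable def β₁ : DerivedCategory.Qh ⋙ (DRing.LBaseChange φ ⋙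
    DCoh.tildeD (CommRingCat.of B)) ⟶ Fφ φ :=
  (Functor.associator _ _ _).inv ≫ Functor.whiskerRight (LBCCounit φ) _

lemma isIso_β₁_app (K : DRing.Cx A) (hK : KFl K) :
    IsIso ((β₁ φ).app ((HomotopyCategory.quotient _ _).obj K)) := by
  haveI := isIso_LBCCounit φ K hK
  simp only [β₁, NatTrans.comp_app, Functor.associator_inv_app, Functor.whiskerRight_app]
  infer_instance

lemma isLeftDerivedFunctor_β₁ :
    (DRing.LBaseChange φ ⋙ DCoh.tildeD (CommRingCat.of B)).IsLeftDerivedFunctor (β₁ φ)
      (HomotopyCategory.quasiIso (ModuleCat.{u} A) (ComplexShape.up ℤ)) :=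
  isLeftDerivedFunctor_K_of_isIso KFl (RP A) (Rψ A) (RP_KFl A) (Rψ_quasiIso A) (Fφ φ)
    (inverts_Fφ φ) _ (β₁ φ) (isIso_β₁_app φ)

end One

section Two

lemma pfc_tilde (R : CommRingCat.{u}) : PreservesFiniteColimits (tilde.functor R) := inferInstance

lemma additive_tilde (R : CommRingCat.{u}) : (tilde.functor R).Additive := inferInstance

instance : PreservesFiniteColimits (tilde.functor (CommRingCat.of A)) := pfc_tilde _

instance : (tilde.functor (CommRingCat.of A)).Additive := additive_tilde _

/-- the morphism of affine schemes -/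
noncomputable abbrev fφ : Spec (CommRingCat.of B) ⟶ Spec (CommRingCat.of A) :=
  Spec.map (CommRingCat.ofHom φ)

variable [DCoh.HasLpull (fφ φ)]

/-- tilde on homotopy categories -/
noncomputable abbrev tildeK (R : CommRingCat.{u}) [PreservesFiniteLimits (tilde.functor R)] :
    HomotopyCategory (ModuleCat.{u} R) (ComplexShape.up ℤ) ⥤
      HomotopyCategory (Spec R).Modules (ComplexShape.up ℤ) :=
  (tilde.functor R).mapHomotopyCategory (ComplexShape.up ℤ)

/-- pullback of tilde is tilde of base change, on homotopy categories -/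
noncomputable def tildePullK :
    tildeK (CommRingCat.of A) ⋙
      (Scheme.Modules.pullback (fφ φ)).mapHomotopyCategory (ComplexShape.up ℤ) ≅
    (ModuleCat.extendScalars.{u, u, u} φ).mapHomotopyCategory (ComplexShape.up ℤ) ⋙
      tildeK (CommRingCat.of B) :=
  Functor.mapHomotopyCategoryCompIso
      (Groth.Agent.Helper13.Pullback.tildePullbackIso (CommRingCat.ofHom φ))
      (ComplexShape.up ℤ) ≪≫
    (Functor.mapHomotopyCategoryCompIso (Iso.refl _) (ComplexShape.up ℤ)).symm

/-- second candidate counit -/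
noncomputable def β₂ : DerivedCategory.Qh ⋙ (DCoh.tildeD (CommRingCat.of A) ⋙
    DCoh.Lpull (fφ φ)) ⟶ Fφ φ :=
  (Functor.associator _ _ _).inv ≫
    Functor.whiskerRight (tilde.functor (CommRingCat.of A)).mapDerivedCategoryFactorsh.hom
      (DCoh.Lpull (fφ φ)) ≫
    (Functor.associator _ _ _).hom ≫
    Functor.whiskerLeft (tildeK (CommRingCat.of A)) (LDer.LpullCounit (fφ φ)) ≫
    (Functor.associator _ _ _).inv ≫
    Functor.whiskerRight (tildePullK φ).hom DerivedCategory.Qh ≫
    (Functor.associator _ _ _).hom ≫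
    Functor.whiskerLeft ((ModuleCat.extendScalars.{u, u, u} φ).mapHomotopyCategory
      (ComplexShape.up ℤ)) (tilde.functor (CommRingCat.of B)).mapDerivedCategoryFactorsh.inv ≫
    (Functor.associator _ _ _).inv

lemma isIso_β₂_app (K : DRing.Cx A) (hK : KFl K) :
    IsIso ((β₂ φ).app ((HomotopyCategory.quotient _ _).obj K)) := by
  haveI : IsIso ((LDer.LpullCounit (fφ φ)).app ((tildeK (CommRingCat.of A)).obj
      ((HomotopyCategory.quotient _ _).obj K))) :=
    LDer.isIso_LpullCounit (fφ φ) _ (TildeSt.tilde_isKFlat (CommRingCat.of A) K hK)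
  simp only [β₂, NatTrans.comp_app, Functor.associator_inv_app, Functor.associator_hom_app,
    Functor.whiskerRight_app, Functor.whiskerLeft_app, Category.id_comp, Category.comp_id]
  infer_instance

lemma isLeftDerivedFunctor_β₂ :
    (DCoh.tildeD (CommRingCat.of A) ⋙ DCoh.Lpull (fφ φ)).IsLeftDerivedFunctor (β₂ φ)
      (HomotopyCategory.quasiIso (ModuleCat.{u} A) (ComplexShape.up ℤ)) :=
  isLeftDerivedFunctor_K_of_isIso KFl (RP A) (Rψ A) (RP_KFl A) (Rψ_quasiIso A) (Fφ φ)
    (inverts_Fφ φ) _ (β₂ φ) (isIso_β₂_app φ)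

variable [DRing.HasLBaseChange φ]

/-- derived base change commutes with tilde -/
theorem nonempty_LBaseChange_tildeD_iso :
    Nonempty (DRing.LBaseChange φ ⋙ DCoh.tildeD (CommRingCat.of B) ≅
      DCoh.tildeD (CommRingCat.of A) ⋙ DCoh.Lpull (Spec.map (CommRingCat.ofHom φ))) := by
  haveI := isLeftDerivedFunctor_β₁ φ
  haveI := isLeftDerivedFunctor_β₂ φ
  exact ⟨Functor.leftDerivedUnique _ _ (β₁ φ) (β₂ φ)
    (HomotopyCategory.quasiIso (ModuleCat.{u} A) (ComplexShape.up ℤ))⟩

end Two

end Main

end Groth.Agent.Helper5.TBC
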