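import Groth.Agent.Lib.Helper5.TRS1
import Groth.Agent.Lib.Helper5.LRes2

/-!
# Derived tensor product with a K-flat complex: computation and invariance
-/

set_option autoImplicit false
set_option linter.unusedSectionVars false
set_option linter.unusedVariables false
set_option linter.style.haveILetI false

universe u

open CategoryTheory CategoryTheory.Limits AlgebraicGeometry

attribute [local instance] HasDerivedCategory.standard

namespace Groth.Agent.Helper5.TRS

open Groth.Agent.Helper5.StalkCx Groth.Agent.Helper5.LDer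

variable {X : Scheme.{u}}

/-- tensoring with a K-flat complex on the right inverts quasi-isomorphisms -/
theorem tensorCxQ_inverts (L : CochainComplex X.Modules ℤ) (hL : DCoh.IsKFlat L) :
    (HomologicalComplex.quasiIso X.Modules (ComplexShape.up ℤ)).IsInvertedBy
      (DCoh.tensorCxQ L) := by
  intro A B f hf
  have hq : QuasiIso f := (HomologicalComplex.mem_quasiIso_iff f).mp hf
  have h : QuasiIso ((DCoh.tensorCx.map f).app L) :=
    KFA.IsKFl.quasiIso_tensR (T := DCoh.tensorBi) (K := L) hL f hq
  change IsIso (DerivedCategory.Q.map ((DCoh.tensorCx.map f).app L))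
  rw [DerivedCategory.isIso_Q_map_iff_quasiIso]
  exact h

/-- `(Q G) ⊗^L L ≅ Q (G ⊗ L)` for `L` K-flat -/
noncomputable def LTensorCxObjIso (L : CochainComplex X.Modules ℤ) (hL : DCoh.IsKFlat L)
    [DCoh.HasLTensorCx L] (G : CochainComplex X.Modules ℤ) :
    (DCoh.LTensorCx L).obj (DerivedCategory.Q.obj G) ≅
      DerivedCategory.Q.obj ((DCoh.tensorCx.obj G).obj L) :=
  haveI : IsIso ((DCoh.tensorCxQ L).totalLeftDerivedCounit DerivedCategory.Q
      (HomologicalComplex.quasiIso X.Modules (ComplexShape.up ℤ))) :=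
    Functor.isIso_of_isLeftDerivedFunctor_of_inverts (DCoh.LTensorCx L) _
      (tensorCxQ_inverts L hL)
  asIso (((DCoh.tensorCxQ L).totalLeftDerivedCounit DerivedCategory.Q
    (HomologicalComplex.quasiIso X.Modules (ComplexShape.up ℤ))).app G)

/-- invariance of `- ⊗ L` (for `L` K-flat) under isomorphisms in the derived category -/
noncomputable def tensQIsoRight (L : CochainComplex X.Modules ℤ) (hL : DCoh.IsKFlat L)
    {A B : CochainComplex X.Modules ℤ} (e : DerivedCategory.Q.obj A ≅ DerivedCategory.Q.obj B) :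
    DerivedCategory.Q.obj ((DCoh.tensorCx.obj A).obj L) ≅
      DerivedCategory.Q.obj ((DCoh.tensorCx.obj B).obj L) :=
  ((Localization.fac (DCoh.tensorCxQ L) (tensorCxQ_inverts L hL) DerivedCategory.Q).app A).symm ≪≫
    (Localization.lift (DCoh.tensorCxQ L) (tensorCxQ_inverts L hL) DerivedCategory.Q).mapIso e ≪≫
    (Localization.fac (DCoh.tensorCxQ L) (tensorCxQ_inverts L hL) DerivedCategory.Q).app B

/-- `P ⊗ -` inverts quasi-isomorphisms between K-flat complexes -/
theorem invertsKFlatQis_tensL (P : CochainComplex X.Modules ℤ) :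
    InvertsKFlatQis (DCoh.tensorCx.obj P ⋙ DerivedCategory.Q) := by
  intro K L g hg hK hL
  change IsIso (DerivedCategory.Q.map ((DCoh.tensorCx.obj P).map g))
  rw [DerivedCategory.isIso_Q_map_iff_quasiIso]
  exact quasiIso_tensL_of_kflat g hg hK hL P

/-- invariance of `P ⊗ -` on K-flat complexes under isomorphisms in the derived category -/
theorem nonempty_tensQIsoLeft (P : CochainComplex X.Modules ℤ)
    {A B : CochainComplex X.Modules ℤ} (hA : DCoh.IsKFlat A) (hB : DCoh.IsKFlat B)
    (e : DerivedCategory.Q.obj A ≅ DerivedCategory.Q.obj B) :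
    Nonempty (DerivedCategory.Q.obj ((DCoh.tensorCx.obj P).obj A) ≅
      DerivedCategory.Q.obj ((DCoh.tensorCx.obj P).obj B)) := by
  set F := DCoh.tensorCx.obj P ⋙ DerivedCategory.Q with hF
  have hinv := invertsKFlatQis_tensL P
  haveI := hasLeftDerivedFunctor_cx F hinv
  set LF := F.totalLeftDerived DerivedCategory.Q
    (HomologicalComplex.quasiIso X.Modules (ComplexShape.up ℤ)) with hLF
  set α := F.totalLeftDerivedCounit DerivedCategory.Q
    (HomologicalComplex.quasiIso X.Modules (ComplexShape.up ℤ)) with hα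
  haveI hA' : IsIso (α.app A) := isIso_counit_cx F hinv LF α A hA
  haveI hB' : IsIso (α.app B) := isIso_counit_cx F hinv LF α B hB
  exact ⟨(asIso (α.app A)).symm ≪≫ LF.mapIso e ≪≫ asIso (α.app B)⟩

end Groth.Agent.Helper5.TRS
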