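import Groth.Agent.Lib.Helper5.CXB1
import Groth.Agent.Lib.Helper5.TRS2
import Groth.Agent.Lib.Helper13.TensorUnit

/-!
# The braiding of tensor products of complexes of modules on a scheme
-/

set_option autoImplicit false
set_option linter.unusedSectionVars false
set_option linter.unusedVariables false
set_option linter.style.haveILetI false

universe u

open CategoryTheory CategoryTheory.Limits AlgebraicGeometry

attribute [local instance] HasDerivedCategory.standard

namespace Groth.Agent.Helper5.CXB

open Groth.Agent.Helper5.KFA Groth.Agent.Helper5.StalkCx Groth.Agent.Helper5.LDer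
open Groth.Agent.Helper13.Tensor

variable {X : Scheme.{u}}

/-- the symmetry of the tensor product of modules -/
noncomputable def symMod : Sym (DCoh.tensorBi (X := X)) where
  σ A B := braid A B
  nat_left {A A'} f B := by
    rw [tensorBi_map_app, tensorBi_obj_map]
    apply hom_ext
    intro U m n
    change (braidHom A' B).app U ((map f (𝟙 B)).app U (tmul A B m n)) =
      (map (𝟙 B) f).app U ((braidHom A B).app U (tmul A B m n))
    rw [map_app_tmul, braidHom_app_tmul, braidHom_app_tmul, map_app_tmul]
  nat_right A {B B'} g := by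
    rw [tensorBi_map_app, tensorBi_obj_map]
    apply hom_ext
    intro U m n
    change (braidHom A B').app U ((map (𝟙 A) g).app U (tmul A B m n)) =
      (map g (𝟙 A)).app U ((braidHom A B).app U (tmul A B m n))
    rw [map_app_tmul, braidHom_app_tmul, braidHom_app_tmul, map_app_tmul]
  symm A B := braidHom_braidHom A B

/-- the braiding `L ⊗ K ≅ K ⊗ L` of complexes of modules -/
noncomputable def braidCx (L K : CochainComplex X.Modules ℤ) :
    (DCoh.tensorCx.obj L).obj K ≅ (DCoh.tensorCx.obj K).obj L :=
  (symMod (X := X)).β L K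

lemma braidCx_naturality_left (K : CochainComplex X.Modules ℤ) {L L' : CochainComplex X.Modules ℤ}
    (f : L ⟶ L') :
    (DCoh.tensorCx.map f).app K ≫ (braidCx L' K).hom =
      (braidCx L K).hom ≫ (DCoh.tensorCx.obj K).map f :=
  (symMod (X := X)).β_naturality_left K f

lemma braidCx_naturality_right (L : CochainComplex X.Modules ℤ) {K K' : CochainComplex X.Modules ℤ}
    (g : K ⟶ K') :
    (DCoh.tensorCx.obj L).map g ≫ (braidCx L K').hom =
      (braidCx L K).hom ≫ (DCoh.tensorCx.map g).app L :=
  (symMod (X := X)).β_naturality_right L g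

/-- a quasi-isomorphism between K-flat complexes stays a quasi-isomorphism after tensoring on the
right with an arbitrary complex -/
theorem quasiIso_tensR_of_kflat {P Q : CochainComplex X.Modules ℤ} (α : P ⟶ Q)
    (hα : QuasiIso α) (hP : DCoh.IsKFlat P) (hQ : DCoh.IsKFlat Q)
    (F : CochainComplex X.Modules ℤ) : QuasiIso ((DCoh.tensorCx.map α).app F) := by
  have h1 : QuasiIso ((DCoh.tensorCx.obj F).map α) := quasiIso_tensL_of_kflat α hα hP hQ F
  have nat := braidCx_naturality_left F α
  haveI : QuasiIso (braidCx P F).hom := inferInstance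
  haveI : QuasiIso (braidCx Q F).hom := inferInstance
  have h2 : QuasiIso ((DCoh.tensorCx.map α).app F ≫ (braidCx Q F).hom) := by
    rw [nat]
    exact quasiIso_comp _ _
  exact (quasiIso_iff_comp_right _ (braidCx Q F).hom).mp h2

/-- `- ⊗ K` inverts quasi-isomorphisms between K-flat complexes, for an arbitrary complex `K` -/
theorem invertsKFlatQis_tensorCxQ (K : CochainComplex X.Modules ℤ) :
    InvertsKFlatQis (DCoh.tensorCxQ K) := by
  intro A B g hg hA hB
  change IsIso (DerivedCategory.Q.map ((DCoh.tensorCx.map g).app K))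
  rw [DerivedCategory.isIso_Q_map_iff_quasiIso]
  exact quasiIso_tensR_of_kflat g hg hA hB K

/-- the counit `A ⊗^L K ⟶ A ⊗ K` is an isomorphism for `A` K-flat -/
theorem isIso_counit_tensorCxQ (K : CochainComplex X.Modules ℤ) [DCoh.HasLTensorCx K]
    (A : CochainComplex X.Modules ℤ) (hA : DCoh.IsKFlat A) :
    IsIso (((DCoh.tensorCxQ K).totalLeftDerivedCounit DerivedCategory.Q
      (HomologicalComplex.quasiIso X.Modules (ComplexShape.up ℤ))).app A) :=
  isIso_counit_cx (DCoh.tensorCxQ K) (invertsKFlatQis_tensorCxQ K) (DCoh.LTensorCx K) _ A hA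

/-- K-flatness is symmetric: `K ⊗ L` is acyclic for `L` acyclic -/
theorem acyclic_tensor_left_of_isKFlat (K : CochainComplex X.Modules ℤ) (hK : DCoh.IsKFlat K)
    (L : CochainComplex X.Modules ℤ) (hL : ∀ i : ℤ, IsZero (L.homology i)) (i : ℤ) :
    IsZero (((DCoh.tensorCx.obj K).obj L).homology i) :=
  (hK L hL i).of_iso ((HomologicalComplex.homologyFunctor _ _ i).mapIso (braidCx K L))

end Groth.Agent.Helper5.CXB
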