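import Groth.Agent.Lib.Helper5.PCT7
import Groth.Agent.Lib.Helper13.FinAffine2
import Groth.Agent.Lib.Helper13.QCohKer
import Groth.Agent.Lib.Helper13.QCohStalk
import Groth.Agent.Lib.Helper13.FinTypeEpi

/-!
# Perfect objects on a Noetherian scheme have coherent cohomology
-/

set_option autoImplicit false
set_option linter.unusedSectionVars false
set_option linter.unusedVariables false
set_option linter.style.haveILetI false

universe u

open CategoryTheory CategoryTheory.Limits AlgebraicGeometry

attribute [local instance] HasDerivedCategory.standard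

namespace Groth.Agent.Helper5.COHP

variable {X : Scheme.{u}}

/-- the map on sections as a linear map -/
noncomputable def appₗ {M N : X.Modules} (φ : M ⟶ N) (U : X.Opens) : Γ(M, U) →ₗ[Γ(X, U)] Γ(N, U) where
  toFun := φ.app U
  map_add' := map_add (φ.app U).hom
  map_smul' r s := Scheme.Modules.Hom.app_smul φ r s

/-- on a locally Noetherian scheme, a quasi-coherent submodule of a quasi-coherent module of finite
type is of finite type -/
theorem isFiniteType_of_mono [IsLocallyNoetherian X] {J M : X.Modules} (φ : J ⟶ M) [Mono φ]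
    [J.IsQuasicoherent] [M.IsQuasicoherent]
    [hM : SheafOfModules.IsFiniteType (R := X.ringCatSheaf) M] :
    SheafOfModules.IsFiniteType (R := X.ringCatSheaf) J := by
  rw [Groth.Agent.Helper13.FinType.isFiniteType_iff_finite_sections]
  intro U hU
  haveI : IsNoetherianRing Γ(X, U) := IsLocallyNoetherian.component_noetherian ⟨U, hU⟩
  haveI : Module.Finite Γ(X, U) Γ(M, U) :=
    Groth.Agent.Helper13.FinType.finite_sections_of_isFiniteType M hU
  have hinj : Function.Injective (appₗ φ U) :=
    (Groth.Agent.Helper13.QCoh.mono_iff_app_injective φ).mp inferInstance U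
  exact Module.Finite.of_injective (appₗ φ U) hinj

end Groth.Agent.Helper5.COHP

namespace Groth.Agent.Helper5.COHP

open Groth.Agent.Helper5.FPC Groth.Agent.Helper5.PCH Groth.Agent.Helper5.LDer
  Groth.Agent.Helper5.RT Groth.Agent.Helper5.LOC

variable {X : Scheme.{u}}

/-- on a locally Noetherian scheme, the cohomology sheaves of a complex of finite locally free
modules are coherent -/
theorem isCoh_homology_of_isFinLocFree [IsLocallyNoetherian X] (P : CochainComplex X.Modules ℤ)
    (hP : ∀ i : ℤ, FlatMod.IsFinLocFree (P.X i)) (i : ℤ) : Coh.IsCoh (P.homology i) := by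
  haveI hq : ∀ j : ℤ, (P.X j).IsQuasicoherent := fun j => isQuasicoherent_of_isFinLocFree _ (hP j)
  haveI hft : ∀ j : ℤ, SheafOfModules.IsFiniteType (R := X.ringCatSheaf) (P.X j) := fun j =>
    isFiniteType_of_isFinLocFree _ (hP j)
  -- the cycles
  let eZ : P.cycles i ≅ kernel (P.d i (i + 1)) :=
    IsLimit.conePointUniqueUpToIso (P.cyclesIsKernel i (i + 1) (by simp)) (limit.isLimit _)
  haveI hZq : (P.cycles i).IsQuasicoherent :=
    haveI := Groth.Agent.Helper13.QCohLocal.isQuasicoherent_kernel (P.d i (i + 1))
    Groth.Agent.Helper13.QCohLocal.isQuasicoherent_of_iso eZ.symm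
  haveI hZf : SheafOfModules.IsFiniteType (R := X.ringCatSheaf) (P.cycles i) :=
    isFiniteType_of_mono (P.iCycles i)
  -- the homology
  let eH : P.homology i ≅ cokernel (P.toCycles (i - 1) i) :=
    IsColimit.coconePointUniqueUpToIso (P.homologyIsCokernel (i - 1) i (by simp))
      (colimit.isColimit _)
  refine ⟨?_, ?_⟩
  · haveI := Groth.Agent.Helper13.QCohLocal.isQuasicoherent_cokernel (P.toCycles (i - 1) i)
    exact Groth.Agent.Helper13.QCohLocal.isQuasicoherent_of_iso eH.symm
  · exact Groth.Agent.Helper13.FinType.isFiniteType_of_epi (P.homologyπ i)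

end Groth.Agent.Helper5.COHP
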