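import Groth.Agent.Lib.Helper5.FPC1
import Groth.Agent.Lib.Helper13.LocFree3
import Groth.Agent.Lib.Helper12.VecBun1

/-!
# Kernels of epimorphisms of finite locally free modules; cycles of complexes exact above
-/

set_option autoImplicit false
set_option linter.unusedSectionVars false
set_option linter.unusedVariables false
set_option linter.style.haveILetI false

universe u

open CategoryTheory CategoryTheory.Limits AlgebraicGeometry

namespace Groth.Agent.Helper5.FPC

open Groth.Agent.Helper5.RT Groth.Agent.Helper13.LocFree Groth.Agent.Helper13.QCoh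
  Groth.Agent.Helper13.QCohLocal

variable {X : Scheme.{u}}

/-- the kernel of an epimorphism between finite locally free modules is finite locally free -/
theorem isFinLocFree_kernel_of_epi {A B : X.Modules} (f : A ⟶ B) [Epi f]
    (hA : FlatMod.IsFinLocFree A) (hB : FlatMod.IsFinLocFree B) :
    FlatMod.IsFinLocFree (kernel f) := by
  haveI := isQuasicoherent_of_isFinLocFree A hA
  haveI := isQuasicoherent_of_isFinLocFree B hB
  haveI : (kernel f).IsQuasicoherent := isQuasicoherent_kernel f
  apply isFinLocFree_of_projective_sections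
  intro x
  obtain ⟨_, ⟨U, hU, rfl⟩, hxU, -⟩ :=
    X.isBasis_affineOpens.exists_subset_of_mem_open (Set.mem_univ x) isOpen_univ
  refine ⟨U, hU, hxU, ?_⟩
  obtain ⟨hAf, hAp⟩ := projective_sections_of_isFinLocFree A hA hU
  obtain ⟨hBf, hBp⟩ := projective_sections_of_isFinLocFree B hB hU
  let φ : Γ(A, U) →ₗ[Γ(X, U)] Γ(B, U) := appLinearMap f U
  have hsurj : Function.Surjective φ := Groth.Agent.Helper12.VecBun.app_surjective_of_epi f hU
  let ψ : Γ(kernel f, U) →ₗ[Γ(X, U)] Γ(A, U) := appLinearMap (kernel.ι f) U
  have hψinj : Function.Injective ψ :=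
    (mono_iff_app_injective (kernel.ι f)).1 inferInstance U
  have hker : LinearMap.ker φ = LinearMap.range ψ := by
    apply le_antisymm
    · intro t ht
      let T : ShortComplex X.Modules := ShortComplex.mk (kernel.ι f) f (kernel.condition f)
      have hT : T.Exact := ShortComplex.exact_of_f_is_kernel _ (kernelIsKernel f)
      haveI : Mono T.f := inferInstanceAs (Mono (kernel.ι f))
      obtain ⟨m, hm⟩ := app_exact_of_exact_of_mono T hT U t ht
      exact ⟨m, hm⟩
    · rintro _ ⟨m, rfl⟩
      have h0 : (kernel.ι f ≫ f : kernel f ⟶ B) = 0 := kernel.condition f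
      have h1 := congrArg (fun θ : kernel f ⟶ B => Scheme.Modules.Hom.app θ U m) h0
      exact h1
  -- splitting
  obtain ⟨s, hs⟩ := Module.projective_lifting_property φ LinearMap.id hsurj
  have hs' : ∀ b, φ (s b) = b := fun b => congr($hs b)
  let p : Γ(A, U) →ₗ[Γ(X, U)] LinearMap.ker φ :=
    LinearMap.codRestrict (LinearMap.ker φ) (LinearMap.id - s ∘ₗ φ) (fun a => by
      rw [LinearMap.mem_ker, LinearMap.sub_apply, map_sub, LinearMap.comp_apply, hs',
        LinearMap.id_apply, sub_self])
  have hp : p ∘ₗ (LinearMap.ker φ).subtype = LinearMap.id := by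
    ext ⟨a, ha⟩
    simp only [p, LinearMap.comp_apply, LinearMap.codRestrict_apply, Submodule.subtype_apply,
      LinearMap.sub_apply, LinearMap.id_apply]
    rw [LinearMap.mem_ker.mp ha, map_zero, sub_zero]
  haveI : Module.Projective Γ(X, U) (LinearMap.ker φ) :=
    Module.Projective.of_split (LinearMap.ker φ).subtype p hp
  have hpsurj : Function.Surjective p := fun k => ⟨k.1, congr($hp k)⟩
  haveI : Module.Finite Γ(X, U) (LinearMap.ker φ) := Module.Finite.of_surjective p hpsurj
  have e : Γ(kernel f, U) ≃ₗ[Γ(X, U)] LinearMap.ker φ :=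
    (LinearEquiv.ofInjective ψ hψinj).trans (LinearEquiv.ofEq _ _ hker.symm)
  exact ⟨Module.Finite.equiv e.symm, Module.Projective.of_equiv e.symm⟩

end Groth.Agent.Helper5.FPC
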