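import Groth.Agent.Lib.Helper5.LTen4
import Groth.Agent.Lib.Helper13.Qcqs

/-!
# A quasi-coherent module with prescribed stalk at a point of a quasi-separated scheme
-/

set_option autoImplicit false
set_option linter.unusedSectionVars false
set_option linter.unusedVariables false
set_option linter.style.haveILetI false

universe u

open CategoryTheory CategoryTheory.Limits AlgebraicGeometry Opposite TopologicalSpace

namespace Groth.Agent.Helper5.QST

variable {X : Scheme.{u}} (x : X) (N : ModuleCat.{u} (X.presheaf.stalk x))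

/-- the quasi-coherent module on `X` with stalk `N` at `x`: push forward `N~` from `Spec O_{X,x}` -/
noncomputable def G : X.Modules :=
  (Scheme.Modules.pushforward (X.fromSpecStalk x)).obj (tilde N)

instance isQuasicoherent_G [QuasiSeparatedSpace X] : (G x N).IsQuasicoherent :=
  Groth.Agent.Helper13.Qcqs.isQuasicoherent_pushforward_of_qcqs _ _

lemma preimage_eq_top (U : X.Opens) (hx : x ∈ U) : (X.fromSpecStalk x) ⁻¹ᵁ U = ⊤ := by
  ext y
  simp only [Opens.coe_top, Set.mem_univ, iff_true]
  have h1 : (X.fromSpecStalk x) y ∈ Set.range (X.fromSpecStalk x) := ⟨y, rfl⟩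
  rw [Scheme.range_fromSpecStalk] at h1
  exact h1.mem_open U.2 hx

/-- the section of `G` over `U` given by `n` -/
noncomputable def sec (U : X.Opens) (n : N) : Γ(G x N, U) :=
  (tilde.toOpen N ((X.fromSpecStalk x) ⁻¹ᵁ U)).hom n

lemma sec_add (U : X.Opens) (n n' : N) : sec x N U (n + n') = sec x N U n + sec x N U n' :=
  map_add (tilde.toOpen N ((X.fromSpecStalk x) ⁻¹ᵁ U)).hom n n'

lemma sec_res {U V : X.Opens} (i : V ⟶ U) (n : N) :
    (G x N).presheaf.map i.op (sec x N U n) = sec x N V n := rfl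

lemma push_smul {Y Z : Scheme.{u}} (f : Y ⟶ Z) (M : Y.Modules) (U : Z.Opens) (r : Γ(Z, U))
    (s : Γ((Scheme.Modules.pushforward f).obj M, U)) :
    r • s = ((f.app U).hom r • (show Γ(M, f ⁻¹ᵁ U) from s) : Γ(M, f ⁻¹ᵁ U)) := rfl

/-- the sections of `tilde N` given by `n` -/
noncomputable def tsec (V : (Spec (X.presheaf.stalk x)).Opens) (n : N) : Γ(tilde N, V) :=
  (tilde.toOpen N V).hom n

lemma tsec_smul (V : (Spec (X.presheaf.stalk x)).Opens) (a : X.presheaf.stalk x) (n : N) :
    tsec x N V (a • n) = a • tsec x N V n :=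
  map_smul (tilde.toOpen N V).hom a n

lemma tsec_bijective (V : (Spec (X.presheaf.stalk x)).Opens) (hV : V = ⊤) :
    Function.Bijective (tsec x N V) := by
  subst hV
  exact (ConcreteCategory.isIso_iff_bijective (tilde.toOpen N ⊤)).mp inferInstance

lemma sec_bijective (U : X.Opens) (hx : x ∈ U) : Function.Bijective (sec x N U) :=
  tsec_bijective x N _ (preimage_eq_top x U hx)

lemma sec_smul (U : X.Opens) (hx : x ∈ U) (r : Γ(X, U)) (n : N) :
    sec x N U (X.presheaf.germ U x hx r • n) = r • sec x N U n := by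
  have h1 := tsec_smul x N ((X.fromSpecStalk x) ⁻¹ᵁ U) (X.presheaf.germ U x hx r) n
  rw [Scheme.Modules.smul_Spec_def] at h1
  refine Eq.trans h1 ?_
  refine Eq.trans ?_ (push_smul (X.fromSpecStalk x) (tilde N) U r (sec x N U n)).symm
  rw [Scheme.fromSpecStalk_app hx]
  rfl

/-- the map `N → G_x` -/
noncomputable def ηfun (n : N) : (G x N).presheaf.stalk x :=
  (G x N).presheaf.germ ⊤ x trivial (sec x N ⊤ n)

lemma ηfun_eq (U : X.Opens) (hx : x ∈ U) (n : N) :
    ηfun x N n = (G x N).presheaf.germ U x hx (sec x N U n) :=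
  (TopCat.Presheaf.germ_res_apply (G x N).presheaf (homOfLE le_top : U ⟶ ⊤) x hx
    (sec x N ⊤ n)).symm

lemma ηfun_add (n n' : N) : ηfun x N (n + n') = ηfun x N n + ηfun x N n' := by
  unfold ηfun
  rw [sec_add]
  exact map_add ((G x N).presheaf.germ ⊤ x trivial).hom _ _

lemma ηfun_smul (a : X.presheaf.stalk x) (n : N) :
    ηfun x N (a • n) = a • (ηfun x N n : (DerSch.stalkFunctor X x).obj (G x N)) := by
  obtain ⟨U, hx, r, rfl⟩ := TopCat.Presheaf.exists_germ_eq X.presheaf a
  rw [ηfun_eq x N U hx, ηfun_eq x N U hx, sec_smul x N U hx]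
  exact Groth.Agent.Helper13.Tensor.germ_smul (G x N) U x hx r (sec x N U n)

/-- the map `N → G_x` as a morphism of modules -/
noncomputable def ηHom : N ⟶ (DerSch.stalkFunctor X x).obj (G x N) :=
  ModuleCat.ofHom
    { toFun := ηfun x N
      map_add' := ηfun_add x N
      map_smul' := ηfun_smul x N }

lemma ηfun_injective : Function.Injective (ηfun x N) := by
  intro n n' h
  obtain ⟨W, hW, iU, iV, hres⟩ := TopCat.Presheaf.germ_eq (G x N).presheaf (U := ⊤) (V := ⊤) x
    trivial trivial (sec x N ⊤ n) (sec x N ⊤ n') h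
  exact (sec_bijective x N W hW).1 hres

lemma ηfun_surjective : Function.Surjective (ηfun x N) := by
  intro t
  obtain ⟨U, hx, s, rfl⟩ := TopCat.Presheaf.exists_germ_eq (G x N).presheaf t
  obtain ⟨n, rfl⟩ := (sec_bijective x N U hx).2 s
  exact ⟨n, ηfun_eq x N U hx n⟩

lemma isIso_ηHom : IsIso (ηHom x N) :=
  (ConcreteCategory.isIso_iff_bijective _).mpr ⟨ηfun_injective x N, ηfun_surjective x N⟩

/-- the stalk of `G x N` at `x` is `N` -/
noncomputable def stalkIso : (DerSch.stalkFunctor X x).obj (G x N) ≅ N :=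
  (@asIso _ _ _ _ (ηHom x N) (isIso_ηHom x N)).symm

/-- on a quasi-separated scheme every module over a local ring is the stalk of a quasi-coherent
module -/
theorem exists_qcoh_stalkIso [QuasiSeparatedSpace X] (x : X)
    (N : ModuleCat.{u} (X.presheaf.stalk x)) :
    ∃ (F : X.Modules), Coh.IsQCoh F ∧ Nonempty ((DerSch.stalkFunctor X x).obj F ≅ N) :=
  ⟨G x N, isQuasicoherent_G x N, ⟨stalkIso x N⟩⟩

end Groth.Agent.Helper5.QST
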