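import Groth.Agent.Lib.Helper5.StalkCx4

/-!
# Skyscraper modules on a scheme; the stalks of a K-flat complex are K-flat
-/

set_option autoImplicit false
set_option linter.unusedSectionVars false
set_option linter.unusedVariables false
set_option linter.style.haveILetI false

universe u

open CategoryTheory CategoryTheory.Limits AlgebraicGeometry Opposite TopologicalSpace

namespace Groth.Agent.Helper5.Sky

variable {X : Scheme.{u}} (x : X) (M : ModuleCat.{u} (X.presheaf.stalk x))

/-- sections of the skyscraper module -/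
abbrev Sec (U : X.Opens) : Type u := PLift (x ∈ U) → M

/-- the underlying presheaf of abelian groups of the skyscraper module -/
noncomputable def skyAb : (Opens X)ᵒᵖ ⥤ Ab.{u} where
  obj U := AddCommGrpCat.of (Sec x M U.unop)
  map {U V} f := AddCommGrpCat.ofHom
    { toFun := fun s h => s ⟨f.unop.le h.down⟩
      map_zero' := rfl
      map_add' := fun _ _ => rfl }
  map_id U := rfl
  map_comp f g := rfl

/-- the germ map, typed on the sheaf of rings -/
noncomputable def gm (U : (Opens X)ᵒᵖ) (h : PLift (x ∈ U.unop)) :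
    (X.ringCatSheaf.obj.obj U) →+* (X.presheaf.stalk x) :=
  (X.presheaf.germ U.unop x h.down).hom

noncomputable instance (U : (Opens X)ᵒᵖ) :
    Module (X.ringCatSheaf.obj.obj U) ((skyAb x M).obj U) where
  smul r s := fun h => (gm x U h r) • s h
  one_smul s := by
    funext h
    change (gm x U h 1) • s h = s h
    rw [map_one, one_smul]
  mul_smul r r' s := by
    funext h
    change (gm x U h (r * r')) • s h = (gm x U h r) • ((gm x U h r') • s h)
    rw [map_mul, mul_smul]
  smul_zero r := by
    funext h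
    exact smul_zero _
  smul_add r s t := by
    funext h
    exact smul_add _ _ _
  add_smul r r' s := by
    funext h
    change (gm x U h (r + r')) • s h = (gm x U h r) • s h + (gm x U h r') • s h
    rw [map_add, add_smul]
  zero_smul s := by
    funext h
    change (gm x U h 0) • s h = 0
    rw [map_zero, zero_smul]

lemma smul_apply (U : (Opens X)ᵒᵖ) (r : X.ringCatSheaf.obj.obj U) (s : (skyAb x M).obj U)
    (h : PLift (x ∈ U.unop)) : (r • s) h = gm x U h r • s h := rfl

lemma gm_map {U V : (Opens X)ᵒᵖ} (f : U ⟶ V) (r : X.ringCatSheaf.obj.obj U)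
    (h : PLift (x ∈ V.unop)) :
    gm x V h (X.ringCatSheaf.obj.map f r) = gm x U ⟨f.unop.le h.down⟩ r :=
  TopCat.Presheaf.germ_res_apply X.presheaf f.unop x h.down r

/-- the skyscraper module as a presheaf of modules -/
noncomputable def skyPre : PresheafOfModules.{u} X.ringCatSheaf.obj :=
  PresheafOfModules.ofPresheaf (skyAb x M) (by
    intro U V f r s
    funext h
    change gm x U ⟨f.unop.le h.down⟩ r • s ⟨f.unop.le h.down⟩ =
      gm x V h (X.ringCatSheaf.obj.map f r) • s ⟨f.unop.le h.down⟩
    rw [gm_map])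

end Groth.Agent.Helper5.Sky

namespace Groth.Agent.Helper5.Sky

variable {X : Scheme.{u}} (x : X) (M : ModuleCat.{u} (X.presheaf.stalk x))

lemma skyAb_isSheaf : TopCat.Presheaf.IsSheaf (skyAb x M) := by
  rw [TopCat.Presheaf.isSheaf_iff_isSheafUniqueGluing]
  intro ι U sf hsf
  classical
  let s : Sec x M (iSup U) := fun h =>
    sf (Opens.mem_iSup.mp h.down).choose ⟨(Opens.mem_iSup.mp h.down).choose_spec⟩
  refine ⟨s, ?_, ?_⟩
  · intro i
    funext h
    have hx : x ∈ iSup U := (Opens.leSupr U i).le h.down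
    have hc := hsf (Opens.mem_iSup.mp hx).choose i
    exact congrFun hc ⟨⟨(Opens.mem_iSup.mp hx).choose_spec, h.down⟩⟩
  · intro t ht
    funext h
    exact congrFun (ht (Opens.mem_iSup.mp h.down).choose)
      ⟨(Opens.mem_iSup.mp h.down).choose_spec⟩

/-- the skyscraper module -/
noncomputable def sky : X.Modules where
  val := skyPre x M
  isSheaf := skyAb_isSheaf x M

end Groth.Agent.Helper5.Sky

namespace Groth.Agent.Helper5.Sky

variable {X : Scheme.{u}} (x : X) {M N P : ModuleCat.{u} (X.presheaf.stalk x)}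

/-- functoriality of the skyscraper module, on presheaves of modules -/
noncomputable def skyPreMap (g : M ⟶ N) : skyPre x M ⟶ skyPre x N :=
  PresheafOfModules.homMk
    { app := fun U => AddCommGrpCat.ofHom
        { toFun := fun s h => g (s h)
          map_zero' := by funext h; exact map_zero g.hom
          map_add' := fun s t => by funext h; exact map_add g.hom (s h) (t h) }
      naturality := fun U V f => rfl }
    (by
      intro U r s
      funext h
      exact map_smul g.hom (gm x U h r) (s h))

/-- functoriality of the skyscraper module -/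
noncomputable def skyMap (g : M ⟶ N) : sky x M ⟶ sky x N :=
  SheafOfModules.Hom.mk (skyPreMap x g)

lemma skyMap_app_apply (g : M ⟶ N) (U : X.Opens) (s : Sec x M U) (h : PLift (x ∈ U)) :
    ((skyMap x g).app U s : Sec x N U) h = g (s h) := rfl

/-- the skyscraper functor -/
noncomputable def skyF : ModuleCat.{u} (X.presheaf.stalk x) ⥤ X.Modules where
  obj M := sky x M
  map g := skyMap x g
  map_id M := by
    apply Scheme.Modules.hom_ext
    intro U
    ext s
    rfl
  map_comp g g' := by
    apply Scheme.Modules.hom_ext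
    intro U
    ext s
    rfl

instance : (skyF x).Additive where
  map_add {M N g g'} := by
    apply Scheme.Modules.hom_ext
    intro U
    ext s
    rfl

end Groth.Agent.Helper5.Sky

namespace Groth.Agent.Helper5.Sky

variable {X : Scheme.{u}} (x : X) (M : ModuleCat.{u} (X.presheaf.stalk x))

/-- constant sections -/
def cst (U : X.Opens) (m : M) : Sec x M U := fun _ => m

lemma sec_eq_cst (U : X.Opens) (hx : x ∈ U) (s : Sec x M U) : s = cst x M U (s ⟨hx⟩) := by
  funext h
  rfl

/-- the map `M → (sky M)_x` -/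
noncomputable def ηfun (m : M) : (sky x M).presheaf.stalk x :=
  (sky x M).presheaf.germ ⊤ x trivial (cst x M ⊤ m)

lemma ηfun_eq (U : X.Opens) (hx : x ∈ U) (m : M) :
    ηfun x M m = (sky x M).presheaf.germ U x hx (cst x M U m) :=
  (TopCat.Presheaf.germ_res_apply (sky x M).presheaf (homOfLE le_top : U ⟶ ⊤) x hx
    (cst x M ⊤ m)).symm

lemma ηfun_add (m m' : M) : ηfun x M (m + m') = ηfun x M m + ηfun x M m' :=
  map_add ((sky x M).presheaf.germ ⊤ x trivial).hom (cst x M ⊤ m) (cst x M ⊤ m')

lemma ηfun_smul (a : X.presheaf.stalk x) (m : M) :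
    ηfun x M (a • m) = a • (ηfun x M m : (DerSch.stalkFunctor X x).obj (sky x M)) := by
  obtain ⟨U, hx, r, rfl⟩ := TopCat.Presheaf.exists_germ_eq X.presheaf a
  rw [ηfun_eq x M U hx, ηfun_eq x M U hx]
  have h := Groth.Agent.Helper13.Tensor.germ_smul (sky x M) U x hx r (cst x M U m)
  refine Eq.trans ?_ h
  rfl

end Groth.Agent.Helper5.Sky

namespace Groth.Agent.Helper5.Sky

variable {X : Scheme.{u}} (x : X) (M : ModuleCat.{u} (X.presheaf.stalk x))

/-- the map `M → (sky M)_x` as a morphism of modules -/
noncomputable def ηHom : M ⟶ (DerSch.stalkFunctor X x).obj (sky x M) :=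
  ModuleCat.ofHom
    { toFun := ηfun x M
      map_add' := ηfun_add x M
      map_smul' := ηfun_smul x M }

lemma ηHom_apply (m : M) : ηHom x M m = ηfun x M m := rfl

lemma ηfun_injective : Function.Injective (ηfun x M) := by
  intro m m' h
  obtain ⟨W, hW, iU, iV, hres⟩ := TopCat.Presheaf.germ_eq (sky x M).presheaf (U := ⊤) (V := ⊤) x
    trivial trivial (cst x M ⊤ m) (cst x M ⊤ m') h
  exact congrFun hres ⟨hW⟩

lemma ηfun_surjective : Function.Surjective (ηfun x M) := by
  intro t
  obtain ⟨U, hx, s, rfl⟩ := TopCat.Presheaf.exists_germ_eq (sky x M).presheaf t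
  refine ⟨s ⟨hx⟩, ?_⟩
  rw [ηfun_eq x M U hx]
  exact congrArg _ (sec_eq_cst x M U hx s).symm

lemma isIso_ηHom : IsIso (ηHom x M) :=
  (ConcreteCategory.isIso_iff_bijective _).mpr ⟨ηfun_injective x M, ηfun_surjective x M⟩

end Groth.Agent.Helper5.Sky

namespace Groth.Agent.Helper5.Sky

open Groth.Agent.Helper13.QCoh

variable {X : Scheme.{u}} (x : X)

lemma η_naturality {M N : ModuleCat.{u} (X.presheaf.stalk x)} (g : M ⟶ N) :
    g ≫ ηHom x N = ηHom x M ≫ (DerSch.stalkFunctor X x).map (skyMap x g) := by
  ext m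
  change ηfun x N (g m) = stalkMap (skyMap x g) x (ηfun x M m)
  exact (stalkMap_germ (skyMap x g) x ⊤ trivial (cst x M ⊤ m)).symm

/-- the stalk at `x` of the skyscraper module -/
noncomputable def skyStalkIso :
    𝟭 (ModuleCat.{u} (X.presheaf.stalk x)) ≅ skyF x ⋙ DerSch.stalkFunctor X x :=
  NatIso.ofComponents (fun M => @asIso _ _ _ _ (ηHom x M) (isIso_ηHom x M))
    (fun g => η_naturality x g)

/-- a short complex of modules which is exact on sections over every open is exact -/
theorem exact_of_sections (S : ShortComplex X.Modules)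
    (h : ∀ (U : X.Opens) (s : Γ(S.X₂, U)), S.g.app U s = 0 → ∃ t : Γ(S.X₁, U), S.f.app U t = s) :
    S.Exact := by
  apply StalkCx.exact_of_stalks
  intro y
  rw [ShortComplex.moduleCat_exact_iff]
  intro b hb
  obtain ⟨U, hy, s, rfl⟩ := TopCat.Presheaf.exists_germ_eq S.X₂.presheaf b
  have hb' : stalkMap S.g y (S.X₂.presheaf.germ U y hy s) = 0 := hb
  rw [stalkMap_germ] at hb'
  have hb'' : S.X₃.presheaf.germ U y hy (S.g.app U s) = S.X₃.presheaf.germ U y hy 0 := by
    rw [hb', map_zero]
  obtain ⟨W, hW, iU, iV, hres⟩ := TopCat.Presheaf.germ_eq S.X₃.presheaf y hy hy _ _ hb''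
  rw [map_zero] at hres
  have nat : S.g.app W (S.X₂.presheaf.map iU.op s) = S.X₃.presheaf.map iU.op (S.g.app U s) :=
    congr($(S.g.mapPresheaf.naturality iU.op) s)
  obtain ⟨t, ht⟩ := h W (S.X₂.presheaf.map iU.op s) (nat.trans hres)
  refine ⟨S.X₁.presheaf.germ W y hW t, ?_⟩
  change stalkMap S.f y (S.X₁.presheaf.germ W y hW t) = _
  rw [stalkMap_germ, ht]
  exact TopCat.Presheaf.germ_res_apply S.X₂.presheaf iU y hW s

end Groth.Agent.Helper5.Sky

namespace Groth.Agent.Helper5.Sky

open Groth.Agent.Helper13.QCoh MonoidalCategory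

variable {X : Scheme.{u}} (x : X)

theorem sky_exact (S : ShortComplex (ModuleCat.{u} (X.presheaf.stalk x))) (hS : S.Exact) :
    (S.map (skyF x)).Exact := by
  apply exact_of_sections
  intro U s hs
  rw [ShortComplex.moduleCat_exact_iff] at hS
  have key : ∀ h : PLift (x ∈ U), ∃ t, S.f t = (s : Sec x S.X₂ U) h :=
    fun h => hS ((s : Sec x S.X₂ U) h) (congrFun hs h)
  refine ⟨(fun h => (key h).choose : Sec x S.X₁ U), ?_⟩
  funext h
  exact (key h).choose_spec

theorem sky_acyclic (C : DRing.Cx (X.presheaf.stalk x)) (hC : ∀ i : ℤ, IsZero (C.homology i)) :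
    ∀ i : ℤ, IsZero ((((skyF x).mapHomologicalComplex (ComplexShape.up ℤ)).obj C).homology i) := by
  intro i
  rw [← HomologicalComplex.exactAt_iff_isZero_homology]
  exact sky_exact x (C.sc i) ((HomologicalComplex.exactAt_iff_isZero_homology _ _).mpr (hC i))

/-- the stalks of a K-flat complex are K-flat -/
theorem isKFlat_stalk (K : CochainComplex X.Modules ℤ) (hK : DCoh.IsKFlat K) :
    DRing.IsKFlat (X.presheaf.stalk x) (StalkCx.stalkCx x K) := by
  intro M hM i
  have h1 := hK _ (sky_acyclic x M hM)
  have h2 := fun j => StalkCx.isZero_homology_stalk _ j (h1 j) x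
  have e1 := StalkCx.stalkTensIso x (((skyF x).mapHomologicalComplex (ComplexShape.up ℤ)).obj M) K
  have e2 : M ≅ StalkCx.stalkCx x (((skyF x).mapHomologicalComplex (ComplexShape.up ℤ)).obj M) :=
    (NatIso.mapHomologicalComplex (skyStalkIso x) (ComplexShape.up ℤ)).app M
  exact IsZero.of_iso (h2 i) ((HomologicalComplex.homologyFunctor _ _ i).mapIso
    (whiskerRightIso e2 (StalkCx.stalkCx x K) ≪≫ e1))

end Groth.Agent.Helper5.Sky
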