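import Mathlib

/-!
# Tensoring over the source of a surjective ring map
-/

set_option autoImplicit false
set_option linter.style.haveILetI false

universe u

open TensorProduct

namespace Groth.Agent.Helper5.CI

variable {B A : Type u} [CommRing B] [CommRing A] [Algebra B A]
  (hφ : Function.Surjective (algebraMap B A))
  (U U' V : Type u) [AddCommGroup U] [AddCommGroup U'] [AddCommGroup V]
  [Module A U] [Module B U] [IsScalarTower B A U]
  [Module A U'] [Module B U'] [IsScalarTower B A U']
  [Module A V] [Module B V] [IsScalarTower B A V]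

include hφ in
theorem rTensor_injective_of_surjective [Module.Flat A V] (u : U →ₗ[A] U')
    (hu : Function.Injective u) :
    Function.Injective (TensorProduct.map (u.restrictScalars B) (LinearMap.id : V →ₗ[B] V)) := by
  haveI : CompatibleSMul B A U V := CompatibleSMul.of_algebraMap_surjective U V hφ
  haveI : CompatibleSMul B A U' V := CompatibleSMul.of_algebraMap_surjective U' V hφ
  let e : U ⊗[A] V ≃ₗ[B] U ⊗[B] V := equivOfCompatibleSMul B A B U V
  let e' : U' ⊗[A] V ≃ₗ[B] U' ⊗[B] V := equivOfCompatibleSMul B A B U' V
  have h1 : Function.Injective (TensorProduct.map u (LinearMap.id : V →ₗ[A] V)) :=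
    Module.Flat.rTensor_preserves_injective_linearMap u hu
  have h2 : ∀ z : U ⊗[A] V,
      TensorProduct.map (u.restrictScalars B) (LinearMap.id : V →ₗ[B] V) (e z) =
        e' (TensorProduct.map u (LinearMap.id : V →ₗ[A] V) z) := by
    intro z
    induction z using TensorProduct.induction_on with
    | zero => simp
    | tmul a b => rfl
    | add z₁ z₂ h₁ h₂ => simp only [map_add, h₁, h₂]
  intro w w' hw
  obtain ⟨z, rfl⟩ := e.surjective w
  obtain ⟨z', rfl⟩ := e.surjective w'
  rw [h2, h2] at hw
  rw [h1 (e'.injective hw)]

end Groth.Agent.Helper5.CI
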