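import Groth.Agent.Lib.Helper5.LTen10
import Groth.Agent.Lib.Helper13.RestrictLim

/-!
# Flatness and K-flatness under restriction to opens
-/

set_option autoImplicit false
set_option linter.unusedSectionVars false
set_option linter.unusedVariables false
set_option linter.style.haveILetI false

universe u

open CategoryTheory CategoryTheory.Limits AlgebraicGeometry MonoidalCategory Opposite

attribute [local instance] HasDerivedCategory.standard

namespace Groth.Agent.Helper5.KF

variable {R R' : Type u} [CommRing R] [CommRing R']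

/-- extension of scalars along a ring homomorphism equal to the identity -/
noncomputable def extendScalarsOfEqId (g : R →+* R) (hg : g = RingHom.id R) :
    ModuleCat.extendScalars.{u, u, u} g ≅ 𝟭 _ := by
  subst hg
  exact ModuleCat.extendScalarsId R

/-- flatness descends along extension of scalars by a bijective ring homomorphism -/
theorem flat_of_flat_extendScalars_of_bijective (φ : R →+* R') (hφ : Function.Bijective φ)
    (N : ModuleCat.{u} R) (h : Module.Flat R' ((ModuleCat.extendScalars φ).obj N)) :
    Module.Flat R N := by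
  let e := RingEquiv.ofBijective φ hφ
  let ψ : R' →+* R := e.symm.toRingHom
  have hψ : ψ.comp φ = RingHom.id R := by
    ext r
    exact e.symm_apply_apply r
  haveI := h
  have h2 := flat_extendScalars ψ ((ModuleCat.extendScalars φ).obj N)
  have i : (ModuleCat.extendScalars ψ).obj ((ModuleCat.extendScalars φ).obj N) ≅ N :=
    ((ModuleCat.extendScalarsComp φ ψ).app N).symm ≪≫ (extendScalarsOfEqId _ hψ).app N
  haveI := h2
  exact Module.Flat.of_linearEquiv i.toLinearEquiv.symm

end Groth.Agent.Helper5.KF

namespace Groth.Agent.Helper5.LDer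

open Groth.Agent.Helper5.StalkCx Groth.Agent.Helper5.KRes Groth.Agent.Helper5.FlatGen

variable {X : Scheme.{u}}

/-- the stalks of the structure sheaf are projective modules -/
theorem projective_stalk_structureModule (x : X) :
    Projective ((DerSch.stalkFunctor X x).obj (Coh.structureModule X)) := by
  refine projective_of_adj (Sky.stalkSkyAdj x) (Coh.structureModule X) ?_
  intro M N e _ t
  let τ : Sky.Sec x N ⊤ := t.val.app (op ⊤) (1 : X.ringCatSheaf.obj.obj (op ⊤))
  have hsurj : Function.Surjective e := (ModuleCat.epi_iff_surjective e).mp inferInstance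
  let τ' : Sky.Sec x M ⊤ := fun h => (hsurj (τ h)).choose
  have hτ' : ∀ h, e (τ' h) = τ h := fun h => (hsurj (τ h)).choose_spec
  refine ⟨topHom ((Sky.skyF x).obj M) τ', ?_⟩
  apply hom_ext_top
  have e1 := topHom_one ((Sky.skyF x).obj M) τ'
  change ((Sky.skyMap x e).app ⊤) ((topHom ((Sky.skyF x).obj M) τ').val.app (op ⊤)
    (1 : X.ringCatSheaf.obj.obj (op ⊤))) = τ
  rw [e1]
  funext h
  exact hτ' h

lemma projective_sigma {C : Type*} [Category C] {β : Type*} (g : β → C) [HasCoproduct g]
    (h : ∀ b, Projective (g b)) : Projective (∐ g) where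
  factors f e _ := ⟨Sigma.desc fun b => Projective.factorThru (Sigma.ι g b ≫ f) e, by
    ext b
    simp⟩

theorem isFlat_freeMod (n : ℕ) : FlatMod.IsFlat (FlatMod.freeMod X n) := by
  apply isFlat_of_projective_stalks
  intro x
  exact Projective.of_iso (PreservesCoproduct.iso (DerSch.stalkFunctor X x)
    (fun _ : Fin n => Coh.structureModule X)).symm
    (projective_sigma _ (fun _ => projective_stalk_structureModule x))

section Restrict

variable {U : Scheme.{u}} (j : U ⟶ X) [IsOpenImmersion j]

lemma bijective_φst (x : U) : Function.Bijective (Sky.φst j x) := by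
  haveI : IsIso (j.stalkMap x) := inferInstance
  exact ConcreteCategory.bijective_of_isIso (j.stalkMap x)

/-- the stalk of the restriction -/
noncomputable def restrictStalkIso (x : U) :
    Scheme.Modules.restrictFunctor j ⋙ DerSch.stalkFunctor U x ≅
      DerSch.stalkFunctor X (j.base x) ⋙ ModuleCat.extendScalars (Sky.φst j x) :=
  Functor.isoWhiskerRight (Scheme.Modules.restrictFunctorIsoPullback j) _ ≪≫
    Sky.pullbackStalkIso j x

/-- flatness of a restriction gives flatness at the points of the open -/
theorem isFlatAt_of_isFlat_restrict (M : X.Modules)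
    (hM : FlatMod.IsFlat ((Scheme.Modules.restrictFunctor j).obj M)) (x : U) :
    FlatMod.IsFlatAt M (j.base x) := by
  haveI : Module.Flat (U.presheaf.stalk x)
      ((Scheme.Modules.restrictFunctor j ⋙ DerSch.stalkFunctor U x).obj M) := hM x
  have h1 : Module.Flat (U.presheaf.stalk x) ((ModuleCat.extendScalars (Sky.φst j x)).obj
      ((DerSch.stalkFunctor X (j.base x)).obj M)) :=
    Module.Flat.of_linearEquiv ((restrictStalkIso j x).app M).symm.toLinearEquiv
  exact KF.flat_of_flat_extendScalars_of_bijective (Sky.φst j x) (bijective_φst j x) _ h1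

theorem isFlat_restrict (M : X.Modules) (hM : FlatMod.IsFlat M) :
    FlatMod.IsFlat ((Scheme.Modules.restrictFunctor j).obj M) :=
  isFlat_of_iso ((Scheme.Modules.restrictFunctorIsoPullback j).app M).symm
    (isFlat_pullback j M hM)

end Restrict

/-- finite locally free modules are flat -/
theorem isFlat_of_isFinLocFree (M : X.Modules) (h : FlatMod.IsFinLocFree M) : FlatMod.IsFlat M := by
  intro x
  obtain ⟨V, n, hx, ⟨e⟩⟩ := h x
  have h1 : FlatMod.IsFlat ((Scheme.Modules.restrictFunctor V.ι).obj M) :=
    isFlat_of_iso e.symm (isFlat_freeMod n)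
  exact isFlatAt_of_isFlat_restrict V.ι M h1 ⟨x, hx⟩

lemma isKFlat_of_iso {K L : CochainComplex X.Modules ℤ} (e : K ≅ L) (h : DCoh.IsKFlat K) :
    DCoh.IsKFlat L := by
  intro A hA i
  exact IsZero.of_iso (h A hA i) ((HomologicalComplex.homologyFunctor _ _ i).mapIso
    ((DCoh.tensorCx.obj A).mapIso e.symm))

theorem isKFlat_restrict {U : Scheme.{u}} (j : U ⟶ X) [IsOpenImmersion j]
    (K : CochainComplex X.Modules ℤ) (hK : DCoh.IsKFlat K) :
    DCoh.IsKFlat (((Scheme.Modules.restrictFunctor j).mapHomologicalComplex
      (ComplexShape.up ℤ)).obj K) :=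
  isKFlat_of_iso ((NatIso.mapHomologicalComplex (Scheme.Modules.restrictFunctorIsoPullback j)
    (ComplexShape.up ℤ)).app K).symm (Sky.isKFlat_pullback j K hK)

end Groth.Agent.Helper5.LDer
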