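import Groth.Agent.Lib.Helper5.CI8
import Groth.Agent.Lib.Helper5.CI9
import Groth.Agent.Lib.Helper5.LRes1
import Groth.Prelude.Def_ModSite

/-!
# Tensoring direct images along a closed immersion with the direct image of a flat module is exact
-/

set_option autoImplicit false
set_option linter.unusedSectionVars false
set_option linter.unusedVariables false
set_option linter.style.haveILetI false

universe u

open CategoryTheory CategoryTheory.Limits AlgebraicGeometry Opposite TopologicalSpace
  MonoidalCategory

namespace Groth.Agent.Helper5.CI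

open Groth.Agent.Helper5.Sky Groth.Agent.Helper5.StalkCx

section Ring

variable {B A : Type u} [CommRing B] [CommRing A] (φ : B →+* A)

lemma mono_whiskerRight_restrict (hφ : Function.Surjective φ) {U U' : ModuleCat.{u} A}
    (g : U ⟶ U') [Mono g] (V : ModuleCat.{u} A) [Module.Flat A V] :
    Mono ((ModuleCat.restrictScalars φ).map g ▷ (ModuleCat.restrictScalars φ).obj V) := by
  rw [ModuleCat.mono_iff_injective]
  letI := φ.toAlgebra
  letI mU : Module B U := Module.compHom U φ
  letI mU' : Module B U' := Module.compHom U' φ
  letI mV : Module B V := Module.compHom V φ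
  haveI : IsScalarTower B A U :=
    ⟨fun b a u => by change (φ b * a) • u = φ b • (a • u); rw [mul_smul]⟩
  haveI : IsScalarTower B A U' :=
    ⟨fun b a u => by change (φ b * a) • u = φ b • (a • u); rw [mul_smul]⟩
  haveI : IsScalarTower B A V :=
    ⟨fun b a u => by change (φ b * a) • u = φ b • (a • u); rw [mul_smul]⟩
  have hinj : Function.Injective g.hom := (ModuleCat.mono_iff_injective g).1 inferInstance
  exact rTensor_injective_of_surjective (B := B) (A := A) hφ U U' V g.hom hinj

end Ring

variable {X P : Scheme.{u}} (i : X ⟶ P) [IsClosedImmersion i]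

theorem mono_tensor_push {M M' : X.Modules} (g : M ⟶ M') [Mono g] (E : X.Modules)
    (hE : FlatMod.IsFlat E) :
    Mono ((DCoh.tensorBi.map ((Scheme.Modules.pushforward i).map g)).app
      ((Scheme.Modules.pushforward i).obj E)) := by
  apply mono_of_stalks
  intro y
  have hnat := (stalkBiComm y).nat_left ((Scheme.Modules.pushforward i).map g)
    ((Scheme.Modules.pushforward i).obj E)
  suffices hm : Mono ((DerSch.stalkFunctor P y).map ((Scheme.Modules.pushforward i).map g) ▷
      (DerSch.stalkFunctor P y).obj ((Scheme.Modules.pushforward i).obj E)) by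
    have h2 : (DerSch.stalkFunctor P y).map
        ((DCoh.tensorBi.map ((Scheme.Modules.pushforward i).map g)).app
          ((Scheme.Modules.pushforward i).obj E)) =
        ((stalkBiComm y).μ _ _).hom ≫
          ((DerSch.stalkFunctor P y).map ((Scheme.Modules.pushforward i).map g) ▷
            (DerSch.stalkFunctor P y).obj ((Scheme.Modules.pushforward i).obj E)) ≫
          ((stalkBiComm y).μ _ _).inv := by
      rw [← Category.assoc]
      erw [← hnat]
      rw [Category.assoc, Iso.hom_inv_id, Category.comp_id]
    rw [h2]
    infer_instance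
  by_cases hy : y ∈ Set.range i.base
  · obtain ⟨x, rfl⟩ := hy
    have hσ := sigma_naturality i x g
    haveI := isIso_sigma i x M
    haveI := isIso_sigma i x M'
    haveI := isIso_sigma i x E
    have e1 : (DerSch.stalkFunctor P (i.base x)).map ((Scheme.Modules.pushforward i).map g) =
        sigma i x M ≫ (ModuleCat.restrictScalars (φst i x)).map
          ((DerSch.stalkFunctor X x).map g) ≫ inv (sigma i x M') := by
      rw [← Category.assoc, ← hσ, Category.assoc, IsIso.hom_inv_id, Category.comp_id]
    haveI : Module.Flat (X.presheaf.stalk x) ((DerSch.stalkFunctor X x).obj E) := hE x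
    haveI : Mono ((DerSch.stalkFunctor X x).map g) := inferInstance
    haveI hm0 := mono_whiskerRight_restrict (φst i x) (i.stalkMap_surjective x)
      ((DerSch.stalkFunctor X x).map g) ((DerSch.stalkFunctor X x).obj E)
    have e2 : (ModuleCat.restrictScalars (φst i x)).map ((DerSch.stalkFunctor X x).map g) ▷
        (DerSch.stalkFunctor P (i.base x)).obj ((Scheme.Modules.pushforward i).obj E) =
        (_ ◁ sigma i x E) ≫
          ((ModuleCat.restrictScalars (φst i x)).map ((DerSch.stalkFunctor X x).map g) ▷
            (ModuleCat.restrictScalars (φst i x)).obj ((DerSch.stalkFunctor X x).obj E)) ≫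
          (_ ◁ inv (sigma i x E)) := by
      rw [← Category.assoc, whisker_exchange, Category.assoc, ← MonoidalCategory.whiskerLeft_comp,
        IsIso.hom_inv_id, MonoidalCategory.whiskerLeft_id, Category.comp_id]
    rw [e1, comp_whiskerRight, comp_whiskerRight, e2]
    infer_instance
  · have hZ : IsZero ((DerSch.stalkFunctor P y).obj ((Scheme.Modules.pushforward i).obj M) ⊗
        (DerSch.stalkFunctor P y).obj ((Scheme.Modules.pushforward i).obj E)) :=
      isZero_of_kills_one (Kills.tensor (kills_of_isZero (isZero_stalk_pushforward i M y hy)) _)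
    exact ⟨fun a b _ => hZ.eq_of_tgt a b⟩

/-- the direct image along a closed immersion is fully faithful -/
noncomputable def fullyFaithfulPushforward :
    (Scheme.Modules.pushforward i).FullyFaithful :=
  haveI : ∀ M, IsIso ((Scheme.Modules.pullbackPushforwardAdjunction i).counit.app M) :=
    fun M => isIso_counit i M
  haveI : IsIso (Scheme.Modules.pullbackPushforwardAdjunction i).counit :=
    NatIso.isIso_of_isIso_app _
  (Scheme.Modules.pullbackPushforwardAdjunction i).fullyFaithfulROfIsIsoCounit

theorem injective_of_push_iso_sheafHom (Q : P.Modules) (hQ : Injective Q) (E : X.Modules)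
    (hE : FlatMod.IsFlat E)
    [ModSite.HasSheafHom (O := P.sheaf) ((Scheme.Modules.pushforward i).obj E)] (J : X.Modules)
    (hJ : (Scheme.Modules.pushforward i).obj J ≅
      (ModSite.sheafHom (O := P.sheaf) ((Scheme.Modules.pushforward i).obj E)).obj Q) :
    Injective J := by
  constructor
  intro M M' g f hf
  let adjH := ModSite.sheafHomAdj (O := P.sheaf) ((Scheme.Modules.pushforward i).obj E)
  let T := (ModSite.tensorBi P.sheaf).flip.obj ((Scheme.Modules.pushforward i).obj E)
  let φ'' : T.obj ((Scheme.Modules.pushforward i).obj M) ⟶ Q :=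
    (adjH.homEquiv _ _).symm ((Scheme.Modules.pushforward i).map g ≫ hJ.hom)
  have hmono : Mono (T.map ((Scheme.Modules.pushforward i).map f)) := mono_tensor_push i f E hE
  obtain ⟨ψ'', hψ⟩ := @Injective.factors _ _ Q hQ _ _ φ''
    (T.map ((Scheme.Modules.pushforward i).map f)) hmono
  let ψ' : (Scheme.Modules.pushforward i).obj M' ⟶
      (ModSite.sheafHom (O := P.sheaf) ((Scheme.Modules.pushforward i).obj E)).obj Q :=
    adjH.homEquiv _ _ ψ''
  have h1 : (Scheme.Modules.pushforward i).map f ≫ ψ' =
      (Scheme.Modules.pushforward i).map g ≫ hJ.hom :=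
    (adjH.homEquiv_naturality_left ((Scheme.Modules.pushforward i).map f) ψ'').symm.trans
      ((congrArg (adjH.homEquiv _ _) hψ).trans (Equiv.apply_symm_apply _ _))
  refine ⟨(fullyFaithfulPushforward i).preimage (ψ' ≫ hJ.inv), ?_⟩
  apply (fullyFaithfulPushforward i).map_injective
  rw [Functor.map_comp, Functor.FullyFaithful.map_preimage]
  exact (Category.assoc _ _ _).symm.trans ((congrArg (fun t => t ≫ hJ.inv) h1).trans
    ((Category.assoc _ _ _).trans ((congrArg
      (fun t => (Scheme.Modules.pushforward i).map g ≫ t) hJ.hom_inv_id).trans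
        (Category.comp_id _))))

end Groth.Agent.Helper5.CI
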