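import Groth.Agent.Lib.Helper5.EC3
import Groth.Agent.Lib.Helper5.LRes2
import Groth.Agent.Lib.Helper13.LocFree4

/-!
# The Euler characteristic at a point from a local free model
-/

set_option autoImplicit false
set_option linter.unusedSectionVars false
set_option linter.unusedVariables false
set_option linter.style.haveILetI false

universe u

open CategoryTheory CategoryTheory.Limits AlgebraicGeometry HomologicalComplex Opposite
  TopologicalSpace

attribute [local instance] HasDerivedCategory.standard

namespace Groth.Agent.Helper5.EC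

open Groth.Agent.Helper13.LocFree Groth.Agent.Helper5.LDer

variable {X : Scheme.{u}}

/-- pulling back along `l ≫ V.ι` is restricting to `V`, then pulling back along `l` -/
noncomputable def pullbackLiftIso {S : Scheme.{u}} (f : S ⟶ X) (V : X.Opens) (l : S ⟶ (V : Scheme.{u}))
    (hl : l ≫ V.ι = f) :
    Scheme.Modules.pullback f ≅
      Scheme.Modules.restrictFunctor V.ι ⋙ Scheme.Modules.pullback l :=
  Scheme.Modules.pullbackCongr hl.symm ≪≫ (Scheme.Modules.pullbackComp l V.ι).symm ≪≫
    Functor.isoWhiskerRight (Scheme.Modules.restrictFunctorIsoPullback V.ι).symm _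

/-- the derived pullback along a morphism which factors through an open, in terms of a K-flat model
on the open -/
theorem nonempty_Lpull_iso_of_model {S : Scheme.{u}} (f : S ⟶ X) [DCoh.HasLpull f] (V : X.Opens)
    (l : S ⟶ (V : Scheme.{u})) (hl : l ≫ V.ι = f) (E : DCoh.D X)
    (F : CochainComplex X.Modules ℤ) (hF : DCoh.IsKFlat F) (eF : DerivedCategory.Q.obj F ≅ E)
    (P : CochainComplex (V : Scheme.{u}).Modules ℤ) (hP : DCoh.IsKFlat P)
    (e : DerivedCategory.Q.obj ((DCoh.restrictCx V).obj F) ≅ DerivedCategory.Q.obj P) :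
    Nonempty ((DCoh.Lpull f).obj E ≅ DerivedCategory.Q.obj
      (((Scheme.Modules.pullback l).mapHomologicalComplex (ComplexShape.up ℤ)).obj P)) := by
  haveI := hasLpull l
  have hFV := isKFlat_restrict V.ι F hF
  have r2 := (NatIso.mapHomologicalComplex (pullbackLiftIso f V l hl) (ComplexShape.up ℤ)).app F
  have r3 := (LpullObjIso l _ hFV).symm ≪≫ (DCoh.Lpull l).mapIso e ≪≫ LpullObjIso l P hP
  exact ⟨(DCoh.Lpull f).mapIso eF.symm ≪≫ LpullObjIso f F hF ≪≫ DerivedCategory.Q.mapIso r2 ≪≫ r3⟩

instance (y : X) : IsDomain Γ(Spec (X.residueField y), ⊤) :=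
  MulEquiv.isDomain (X.residueField y)
    (Scheme.ΓSpecIso (X.residueField y)).commRingCatIsoToRingEquiv.toMulEquiv

instance (y : X) : IsNoetherianRing Γ(Spec (X.residueField y), ⊤) :=
  isNoetherianRing_of_ringEquiv (X.residueField y)
    (Scheme.ΓSpecIso (X.residueField y)).commRingCatIsoToRingEquiv.symm

/-- the Euler characteristic at a point in terms of a local free model -/
theorem eulerChar_eq_of_model (y : X) [DCoh.HasLpull (X.fromSpecResidueField y)] (E : DCoh.D X)
    (V : X.Opens) (hy : y ∈ V) (F : CochainComplex X.Modules ℤ) (hF : DCoh.IsKFlat F)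
    (eF : DerivedCategory.Q.obj F ≅ E) (P : CochainComplex (V : Scheme.{u}).Modules ℤ) (a b : ℤ)
    (hv : DCoh.VanishesOutside P a b) (n : ℤ → ℕ)
    (hfree : ∀ i, Nonempty (P.X i ≅ FlatMod.freeMod (V : Scheme.{u}) (n i)))
    (e : DerivedCategory.Q.obj ((DCoh.restrictCx V).obj F) ≅ DerivedCategory.Q.obj P) :
    PerfD.eulerChar E y = ∑ᶠ i : ℤ, ((i.negOnePow : ℤ) * (n i : ℤ)) := by
  have hr : Set.range (X.fromSpecResidueField y) ⊆ Set.range V.ι := by
    rw [Scheme.range_fromSpecResidueField, Scheme.Opens.range_ι]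
    simpa using hy
  set l := IsOpenImmersion.lift V.ι (X.fromSpecResidueField y) hr with hl_def
  have hl : l ≫ V.ι = X.fromSpecResidueField y := IsOpenImmersion.lift_fac _ _ _
  have hP : DCoh.IsKFlat P := isKFlat_of_isStrictlyPerfect P ⟨⟨a, b, hv⟩, fun i => by
    obtain ⟨en⟩ := hfree i
    exact isFinLocFree_of_iso en.symm (isFinLocFree_freeMod (n i))⟩
  obtain ⟨φ⟩ := nonempty_Lpull_iso_of_model (X.fromSpecResidueField y) V l hl E F hF eF P hP e
  set C := ((Scheme.Modules.pullback l).mapHomologicalComplex (ComplexShape.up ℤ)).obj P with hC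
  have hvC : DCoh.VanishesOutside C a b := fun i hi => (Scheme.Modules.pullback l).map_isZero (hv i hi)
  have hfreeC : ∀ i, Nonempty (C.X i ≅ FlatMod.freeMod (Spec (X.residueField y)) (n i)) := by
    intro i
    obtain ⟨en⟩ := hfree i
    exact ⟨(Scheme.Modules.pullback l).mapIso en ≪≫ pullbackFreeModIso l (n i)⟩
  have hb : ∀ i, PerfD.betti E y i = Module.finrank (Coh.Γtop (Spec (X.residueField y)))
      ((C.homology i).val.obj (op ⊤)) := by
    intro i
    have ψ : DCoh.HD ((DCoh.Lpull (X.fromSpecResidueField y)).obj E) i ≅ C.homology i :=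
      (DerivedCategory.homologyFunctor _ i).mapIso φ ≪≫ HDQIso C i
    exact LinearEquiv.finrank_eq ((Γfun _).mapIso ψ).toLinearEquiv
  unfold PerfD.eulerChar
  simp only [hb]
  exact euler_sections (fun y z => Subsingleton.elim y z) default C a b hvC n hfreeC

end Groth.Agent.Helper5.EC
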