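import Groth.Agent.Lib.Helper5.LFD3
import Groth.Agent.Lib.Helper5.EC4
import Groth.Agent.Lib.Helper5.LDer6

/-!
# Derived pullbacks of modules placed in one degree
-/

set_option autoImplicit false
set_option linter.unusedSectionVars false
set_option linter.unusedVariables false
set_option linter.style.haveILetI false

universe u

open CategoryTheory CategoryTheory.Limits AlgebraicGeometry

attribute [local instance] HasDerivedCategory.standard

namespace Groth.Agent.Helper5.LFD

open Groth.Agent.Helper5.LDer Groth.Agent.Helper5.EC Groth.Agent.Helper5.KRes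

variable {X Y S : Scheme.{u}}

/-- a flat module placed in one degree is K-flat -/
theorem isKFlat_single (V : Y.Modules) (hV : FlatMod.IsFlat V) (i : ℤ) :
    DCoh.IsKFlat ((CochainComplex.singleFunctor Y.Modules i).obj V) := by
  refine isKFlat_of_flat_bddAbove _ i (fun j hj => ?_) (fun j => ?_)
  · exact HomologicalComplex.isZero_single_obj_X (ComplexShape.up ℤ) i V j (by omega)
  · by_cases hj : j = i
    · subst hj
      exact isFlat_of_iso (HomologicalComplex.singleObjXSelf (ComplexShape.up ℤ) j V).symm hV
    · exact isFlat_of_isZero _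
        (HomologicalComplex.isZero_single_obj_X (ComplexShape.up ℤ) i V j hj)

/-- the pullback of a module placed in one degree -/
noncomputable def pullSingleIso (g : S ⟶ Y) (V : Y.Modules) (i : ℤ) :
    ((Scheme.Modules.pullback g).mapHomologicalComplex (ComplexShape.up ℤ)).obj
      ((CochainComplex.singleFunctor Y.Modules i).obj V) ≅
    (CochainComplex.singleFunctor S.Modules i).obj ((Scheme.Modules.pullback g).obj V) :=
  (HomologicalComplex.singleMapHomologicalComplex (Scheme.Modules.pullback g)
    (ComplexShape.up ℤ) i).app V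

/-- the derived pullback, along a composition, of an object whose derived pullback is a flat
module placed in degree `i` -/
theorem nonempty_Lpull_comp_iso_single (f : Y ⟶ X) [DCoh.HasLpull f] (E : DCoh.D X)
    (V : Y.Modules) (hV : FlatMod.IsFlat V) (i : ℤ)
    (e : (DCoh.Lpull f).obj E ≅ (DCoh.inD Y V)⟦-i⟧) (g : S ⟶ Y) [DCoh.HasLpull g]
    [DCoh.HasLpull (g ≫ f)] :
    Nonempty ((DCoh.Lpull (g ≫ f)).obj E ≅ DerivedCategory.Q.obj
      ((CochainComplex.singleFunctor S.Modules i).obj ((Scheme.Modules.pullback g).obj V))) := by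
  obtain ⟨c⟩ := Lpull_comp_iso g f
  exact ⟨(c.app E).symm ≪≫ (DCoh.Lpull g).mapIso (e ≪≫ singleShiftQIso V i) ≪≫
    LpullObjIso g _ (isKFlat_single V hV i) ≪≫ DerivedCategory.Q.mapIso (pullSingleIso g V i)⟩

end Groth.Agent.Helper5.LFD
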