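import Groth.Agent.Lib.Helper5.COHP1
import Groth.Agent.Lib.Helper13.ExtQCoh

/-!
# Perfect objects on a Noetherian scheme have coherent cohomology (II)
-/

set_option autoImplicit false
set_option linter.unusedSectionVars false
set_option linter.unusedVariables false
set_option linter.style.haveILetI false

universe u

open CategoryTheory CategoryTheory.Limits AlgebraicGeometry

attribute [local instance] HasDerivedCategory.standard

namespace Groth.Agent.Helper5.COHP

open Groth.Agent.Helper5.FPC Groth.Agent.Helper5.PCH Groth.Agent.Helper5.LDer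
  Groth.Agent.Helper5.RT Groth.Agent.Helper5.LOC

variable {X : Scheme.{u}}

/-- local model of the cohomology of a perfect object -/
theorem exists_local_model (E : DCoh.D X) (hE : DCoh.IsPerfect E) (x : X) :
    ∃ (V : X.Opens) (P : CochainComplex (V : Scheme.{u}).Modules ℤ), x ∈ V ∧
      DCoh.IsStrictlyPerfect P ∧
      ∀ i : ℤ, Nonempty ((DCoh.HD E i).restrict V.ι ≅ P.homology i) := by
  obtain ⟨V, hxV, hV⟩ := hE x
  let F := DerivedCategory.Q.objPreimage E
  let eF : DerivedCategory.Q.obj F ≅ E := DerivedCategory.Q.objObjPreimageIso E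
  obtain ⟨P, hP, ⟨e⟩⟩ := hV F ⟨eF⟩
  refine ⟨V, P, hxV, hP, fun i => ⟨?_⟩⟩
  exact (Scheme.Modules.restrictFunctor V.ι).mapIso
      ((DerivedCategory.homologyFunctor X.Modules i).mapIso eF.symm ≪≫ HDQIso F i) ≪≫
    (restrictHomologyIso V.ι F i).symm ≪≫ (HDQIso _ i).symm ≪≫
    (DerivedCategory.homologyFunctor _ i).mapIso e ≪≫ HDQIso P i

/-- coherence of the cohomology sheaves of a perfect object on a locally Noetherian scheme -/
theorem isCohD_of_isPerfect [IsLocallyNoetherian X] (E : DCoh.D X) (hE : DCoh.IsPerfect E) :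
    DCoh.IsCohD E := by
  intro i
  have key : ∀ x : X, ∃ V : X.Opens, x ∈ V ∧ Coh.IsCoh ((DCoh.HD E i).restrict V.ι) := by
    intro x
    obtain ⟨V, P, hxV, hP, h⟩ := exists_local_model E hE x
    obtain ⟨e⟩ := h i
    have hc := isCoh_homology_of_isFinLocFree P hP.2 i
    refine ⟨V, hxV, ?_, ?_⟩
    · haveI := hc.1
      exact Groth.Agent.Helper13.QCohLocal.isQuasicoherent_of_iso e.symm
    · haveI := hc.2
      exact Groth.Agent.Helper13.FinType.isFiniteType_of_epi e.inv
  refine ⟨?_, ?_⟩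
  · apply Groth.Agent.Helper13.Ext.isQuasicoherent_of_forall_exists_restrict
    intro x
    obtain ⟨V, hxV, hV⟩ := key x
    exact ⟨V, hxV, hV.1⟩
  · apply isFiniteType_of_local
    intro x
    obtain ⟨V, hxV, hV⟩ := key x
    exact ⟨V, hxV, hV.2⟩

/-- boundedness of a perfect object on a quasi-compact scheme -/
theorem exists_bounds_of_isPerfect [CompactSpace X] (E : DCoh.D X) (hE : DCoh.IsPerfect E) :
    ∃ a b : ℤ, E.IsGE a ∧ E.IsLE b := by
  have key : ∀ x : X, ∃ (V : X.Opens) (a b : ℤ), x ∈ V ∧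
      ∀ i : ℤ, i < a ∨ b < i → IsZero ((DCoh.HD E i).restrict V.ι) := by
    intro x
    obtain ⟨V, P, hxV, hP, h⟩ := exists_local_model E hE x
    obtain ⟨a, b, hab⟩ := hP.1
    refine ⟨V, a, b, hxV, fun i hi => ?_⟩
    obtain ⟨e⟩ := h i
    exact IsZero.of_iso ((HomologicalComplex.ExactAt.of_isZero (hab i hi)).isZero_homology) e
  choose V a b hxV hV using key
  obtain ⟨t, ht⟩ := CompactSpace.elim_nhds_subcover (fun x => ((V x : X.Opens) : Set X))
    (fun x => (V x).isOpen.mem_nhds (hxV x))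
  obtain ⟨A, hA⟩ := Finset.exists_le (t.image (fun x => - a x))
  obtain ⟨B, hB⟩ := Finset.exists_le (t.image b)
  have hvan : ∀ i : ℤ, i < -A ∨ B < i → IsZero (DCoh.HD E i) := by
    intro i hi
    apply isZero_of_local
    intro y
    have hy : y ∈ ⋃ x ∈ t, ((V x : X.Opens) : Set X) := by rw [ht]; trivial
    simp only [Set.mem_iUnion] at hy
    obtain ⟨x, hxt, hyx⟩ := hy
    refine ⟨V x, hyx, hV x i ?_⟩
    have h1 : - a x ≤ A := hA _ (Finset.mem_image_of_mem _ hxt)
    have h2 : b x ≤ B := hB _ (Finset.mem_image_of_mem _ hxt)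
    rcases hi with hi | hi
    · left; omega
    · right; omega
  refine ⟨-A, B, ?_, ?_⟩
  · rw [DerivedCategory.isGE_iff]
    intro i hi
    exact hvan i (Or.inl hi)
  · rw [DerivedCategory.isLE_iff]
    intro i hi
    exact hvan i (Or.inr hi)

end Groth.Agent.Helper5.COHP
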