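import Groth.Agent.Lib.Helper5.KPerf3
import Groth.Agent.Lib.Helper11.DCRegular
import Groth.Agent.Lib.Helper11.DCStupid

/-!
# `K₀(R) ≅ K₀(D_perf(R))`
-/

set_option autoImplicit false
set_option linter.style.haveILetI false
set_option linter.unusedSectionVars false
set_option linter.unusedVariables false

open CategoryTheory CategoryTheory.Limits CategoryTheory.Pretriangulated ZeroObject

universe u

namespace Groth.Agent.Helper5.KPerf

open DerivedCategory Groth.Agent.Helper11.DC Groth.Agent.Helper5.K0Der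

attribute [local instance] HasDerivedCategory.standard

variable (R : Type u) [CommRing R]

/-- perfect objects -/
def Perf : ObjectProperty (Dual.D R) := fun K => DRing.IsPerfect R K

variable {R}

theorem perf_zero : Perf R (0 : Dual.D R) := isPerfect_of_isZero _ (isZero_zero _)

theorem perf_single {M : ModuleCat.{u} R} (h : Pfp R M) :
    Perf R ((singleFunctor (ModuleCat.{u} R) 0).obj M) := by
  obtain ⟨h1, h2⟩ := h
  exact isPerfect_single_of_finite_projective M

/-- Euler characteristic of a chosen representative. -/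
noncomputable def psiFun (K : Dual.D R) (h : Perf R K) : KZero.K0sub (Pfp R) := chi h.choose

theorem psiFun_eq (K : Dual.D R) (h : Perf R K) (E : DRing.Cx R) (a b : ℤ)
    (hE : DRing.VanishesOutside E a b) (pE : DRing.TermwiseFiniteProjective E)
    (e : DRing.toD E ≅ K) : psiFun K h = chi E := by
  obtain ⟨a', b', hE', pE', ⟨e'⟩⟩ := h.choose_spec
  exact chi_eq_of_iso _ _ a' b' a b hE' hE pE' pE (e' ≪≫ e.symm)

theorem psiFun_triangle (T : Triangle (Dual.D R)) (hT : T ∈ distTriang (Dual.D R))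
    (h1 : Perf R T.obj₁) (h2 : Perf R T.obj₂) (h3 : Perf R T.obj₃) :
    psiFun T.obj₂ h2 = psiFun T.obj₁ h1 + psiFun T.obj₃ h3 := by
  have h1' := h1
  have h2' := h2
  obtain ⟨E₁, a₁, b₁, v1, p1, ⟨e₁⟩⟩ := h1'
  obtain ⟨E₂, a₂, b₂, v2, p2, ⟨e₂⟩⟩ := h2'
  haveI : E₁.IsKProjective := isKProjective_of_vanishesAbove E₁ b₁
    (fun i hi => v1 i (Or.inr hi)) (fun i => (p1 i).2)
  obtain ⟨φ, ⟨e₃⟩⟩ := third_vertex T hT E₁ E₂ e₁.symm e₂.symm
  have hV : DRing.VanishesOutside (CochainComplex.mappingCone φ) (min (a₁ - 1) a₂)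
      (max b₁ b₂) := by
    intro i hi
    refine mappingCone_isZero φ i (v1 _ ?_) (v2 _ ?_)
    · rcases hi with hi | hi
      · left; lia
      · right; lia
    · rcases hi with hi | hi
      · left; lia
      · right; lia
  rw [psiFun_eq _ h1 E₁ a₁ b₁ v1 p1 e₁, psiFun_eq _ h2 E₂ a₂ b₂ v2 p2 e₂,
    psiFun_eq _ h3 (CochainComplex.mappingCone φ) _ _ hV (Pfp_cone φ p1 p2) e₃.symm,
    chi_cone φ a₁ b₁ a₂ b₂ v1 v2 p1 p2]
  abel

/-- `[K] ↦ χ(K)` -/
noncomputable def psi : KZero.K0tr (Perf R) →+ KZero.K0sub (Pfp R) :=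
  KTr.lift (Perf R) (fun x => psiFun x.1 x.2) (fun T h₁ h₂ h₃ hT => psiFun_triangle T hT h₁ h₂ h₃)

theorem psi_clTr (K : Dual.D R) (h : Perf R K) : psi (KZero.clTr (Perf R) K) = psiFun K h :=
  KTr.lift_clTr (Perf R) _ _ K h

/-- `[M] ↦ [M[0]]` -/
noncomputable def phi : KZero.K0sub (Pfp R) →+ KZero.K0tr (Perf R) :=
  KZ.lift (Pfp R) (fun x => KZero.clTr (Perf R) ((singleFunctor (ModuleCat.{u} R) 0).obj x.1)) (by
    intro S h₁ h₂ h₃ hS
    exact KTr.clTr_triangle (Perf R) _ hS.singleTriangle_distinguished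
      (perf_single h₁) (perf_single h₂) (perf_single h₃))

theorem phi_clSub (M : ModuleCat.{u} R) (hM : Pfp R M) :
    phi (KZero.clSub (Pfp R) M) =
      KZero.clTr (Perf R) ((singleFunctor (ModuleCat.{u} R) 0).obj M) :=
  KZ.lift_clSub (Pfp R) _ _ M hM

theorem chi_single (M : ModuleCat.{u} R) (hM : Pfp R M) :
    chi ((CochainComplex.singleFunctor (ModuleCat.{u} R) 0).obj M) = KZero.clSub (Pfp R) M := by
  unfold chi
  rw [finsum_eq_single _ 0]
  · simp only [Int.negOnePow_zero, Units.val_one, one_smul]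
    have e := HomologicalComplex.singleObjXSelf (ComplexShape.up ℤ) (0 : ℤ) M
    exact KZ.clSub_iso (Pfp R) e (Pfp_of_iso e.symm hM) hM (isZero_zero _)
      (Pfp_of_isZero (isZero_zero _))
  · intro i hi
    have hz : IsZero (((CochainComplex.singleFunctor (ModuleCat.{u} R) 0).obj M).X i) :=
      HomologicalComplex.isZero_single_obj_X _ _ _ _ hi
    rw [clSub_isZero' (Pfp R) hz, smul_zero]

theorem single_pfp (M : ModuleCat.{u} R) (hM : Pfp R M) :
    DRing.TermwiseFiniteProjective ((CochainComplex.singleFunctor (ModuleCat.{u} R) 0).obj M) := by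
  intro i
  by_cases hi : i = 0
  · subst hi
    exact Pfp_of_iso (HomologicalComplex.singleObjXSelf (ComplexShape.up ℤ) (0 : ℤ) M).symm hM
  · exact Pfp_of_isZero (HomologicalComplex.isZero_single_obj_X _ _ _ _ hi)

theorem psi_phi (x : KZero.K0sub (Pfp R)) : psi (phi x) = x := by
  induction x using KZ.induction_on (Pfp R) with
  | zero => simp
  | of X hX =>
    rw [phi_clSub X hX, psi_clTr _ (perf_single hX),
      psiFun_eq ((singleFunctor (ModuleCat.{u} R) 0).obj X) (perf_single hX)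
        ((CochainComplex.singleFunctor (ModuleCat.{u} R) 0).obj X) 0 0
        (single_vanishesOutside X) (single_pfp X hX)
        (show DRing.toD ((CochainComplex.singleFunctor (ModuleCat.{u} R) 0).obj X) ≅
          (singleFunctor (ModuleCat.{u} R) 0).obj X from Iso.refl _)]
    exact chi_single X hX
  | neg x hx => rw [map_neg, map_neg, hx]
  | add x y hx hy => rw [map_add, map_add, hx, hy]

theorem clTr_shift_mem (K : Dual.D R) (hK : Perf R K)
    (hm : KZero.clTr (Perf R) K ∈ (phi (R := R)).range) (n : ℤ) :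
    KZero.clTr (Perf R) (K⟦n⟧) ∈ (phi (R := R)).range := by
  induction n using Int.induction_on with
  | zero =>
    rw [KTr.clTr_iso (Perf R) ((shiftFunctorZero (Dual.D R) ℤ).app K) (perf_shift K 0 hK) hK
      perf_zero]
    exact hm
  | succ i hi =>
    let e : (K⟦(i : ℤ)⟧)⟦(1 : ℤ)⟧ ≅ K⟦(i : ℤ) + 1⟧ :=
      ((shiftFunctorAdd' (Dual.D R) (i : ℤ) 1 ((i : ℤ) + 1) rfl).app K).symm
    have h1 : Perf R ((K⟦(i : ℤ)⟧)⟦(1 : ℤ)⟧) := perf_shift _ 1 (perf_shift K i hK)
    rw [← KTr.clTr_iso (Perf R) e h1 (perf_shift K _ hK) perf_zero,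
      KTr.clTr_shift (Perf R) _ (perf_shift K i hK) h1 perf_zero]
    exact neg_mem hi
  | pred i hi =>
    let e : (K⟦-(i : ℤ) - 1⟧)⟦(1 : ℤ)⟧ ≅ K⟦-(i : ℤ)⟧ :=
      ((shiftFunctorAdd' (Dual.D R) (-(i : ℤ) - 1) 1 (-(i : ℤ)) (by ring)).app K).symm
    have h1 : Perf R ((K⟦-(i : ℤ) - 1⟧)⟦(1 : ℤ)⟧) := perf_shift _ 1 (perf_shift K _ hK)
    have h2 := KTr.clTr_shift (Perf R) _ (perf_shift K (-(i : ℤ) - 1) hK) h1 perf_zero
    rw [KTr.clTr_iso (Perf R) e h1 (perf_shift K _ hK) perf_zero] at h2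
    have h3 : KZero.clTr (Perf R) (K⟦-(i : ℤ) - 1⟧) = - KZero.clTr (Perf R) (K⟦-(i : ℤ)⟧) := by
      rw [h2, neg_neg]
    rw [h3]
    exact neg_mem hi

theorem thickLike : ThickLike (R := R)
    (fun K => Perf R K ∧ KZero.clTr (Perf R) K ∈ (phi (R := R)).range) where
  iso := by
    intro K L e ⟨h1, h2⟩
    have hL : Perf R L := isPerfect_of_iso e h1
    refine ⟨hL, ?_⟩
    rw [← KTr.clTr_iso (Perf R) e h1 hL perf_zero]
    exact h2
  shift := by
    intro K n ⟨h1, h2⟩
    exact ⟨perf_shift K n h1, clTr_shift_mem K h1 h2 n⟩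
  ext := by
    intro T hT ⟨h1, m1⟩ ⟨h3, m3⟩
    have h2 : Perf R T.obj₂ := (perf_two_of_three T hT).2.1 h1 h3
    refine ⟨h2, ?_⟩
    rw [KTr.clTr_triangle (Perf R) T hT h1 h2 h3]
    exact add_mem m1 m3
  zero := by
    intro K hK
    have h : Perf R K := isPerfect_of_isZero K hK
    refine ⟨h, ?_⟩
    rw [KTr.clTr_isZero (Perf R) hK h perf_zero]
    exact zero_mem _

theorem phi_surjective : Function.Surjective (phi (R := R)) := by
  intro y
  rw [← AddMonoidHom.mem_range]
  induction y using KTr.induction_on (Perf R) with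
  | zero => exact zero_mem _
  | of X hX =>
    have hX' := hX
    obtain ⟨E, a, b, hE, pE, ⟨e⟩⟩ := hX'
    have := (thickLike (R := R)).of_bounded E a b hE
      (fun i => ⟨perf_single (pE i), ⟨KZero.clSub (Pfp R) (E.X i), phi_clSub _ (pE i)⟩⟩)
    exact ((thickLike (R := R)).iso e this).2
  | neg x hx => exact neg_mem hx
  | add x y hx hy => exact add_mem hx hy

theorem phi_injective : Function.Injective (phi (R := R)) :=
  Function.LeftInverse.injective psi_phi

theorem main : ∃ φ : KZero.K0sub (Pfp R) ≃+ KZero.K0tr (Perf R),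
    (∀ (M : ModuleCat.{u} R), Pfp R M → φ (KZero.clSub (Pfp R) M) =
      KZero.clTr (Perf R) ((singleFunctor (ModuleCat.{u} R) 0).obj M)) ∧
    ∀ (E : DRing.Cx R) (a b : ℤ), DRing.VanishesOutside E a b → DRing.TermwiseFiniteProjective E →
      φ.symm (KZero.clTr (Perf R) (DRing.toD E)) =
        (Finset.Icc a b).sum (fun i => ((i.negOnePow : ℤˣ) : ℤ) • KZero.clSub (Pfp R) (E.X i)) := by
  refine ⟨AddEquiv.ofBijective phi ⟨phi_injective, phi_surjective⟩, ?_, ?_⟩
  · intro M hM
    exact phi_clSub M hM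
  · intro E a b hE pE
    have hP : Perf R (DRing.toD E) := ⟨E, a, b, hE, pE, ⟨Iso.refl _⟩⟩
    have key : ∀ y, (AddEquiv.ofBijective (phi (R := R))
        ⟨phi_injective, phi_surjective⟩).symm y = psi y := by
      intro y
      rw [AddEquiv.symm_apply_eq]
      obtain ⟨x, rfl⟩ := phi_surjective y
      rw [psi_phi]
      rfl
    rw [key, psi_clTr _ hP, psiFun_eq _ hP E a b hE pE (Iso.refl _)]
    unfold chi
    refine finsum_eq_sum_of_support_subset _ ?_
    intro i hi
    rw [Function.mem_support] at hi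
    rw [Finset.coe_Icc]
    constructor
    · by_contra h
      exact hi (by rw [clSub_isZero' (Pfp R) (hE i (Or.inl (not_le.1 h))), smul_zero])
    · by_contra h
      exact hi (by rw [clSub_isZero' (Pfp R) (hE i (Or.inr (not_le.1 h))), smul_zero])

end Groth.Agent.Helper5.KPerf
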