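import Groth.Agent.Lib.Helper5.LOC1

/-!
# Flat amplitude is local
-/

set_option autoImplicit false
set_option linter.unusedSectionVars false
set_option linter.unusedVariables false
set_option linter.style.haveILetI false

universe u

open CategoryTheory CategoryTheory.Limits AlgebraicGeometry HomologicalComplex

attribute [local instance] HasDerivedCategory.standard

namespace Groth.Agent.Helper5.LOC

open Groth.Agent.Helper5.LDer Groth.Agent.Helper5.RT Groth.Agent.Helper5.StalkCx
  Groth.Agent.Helper5.KRes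

variable {X : Scheme.{u}}

/-- flat amplitude in `[a, b]` is a local property -/
theorem hasFlatAmplitudeIn_of_local (E : DCoh.D X) (a b : ℤ) (hab : a ≤ b)
    (h : ∀ x : X, ∃ V : X.Opens, x ∈ V ∧ ∀ F : CochainComplex X.Modules ℤ,
      Nonempty (DCoh.toD X F ≅ E) →
      DCoh.HasFlatAmplitudeIn a b (DerivedCategory.Q.obj ((DCoh.restrictCx V).obj F))) :
    DCoh.HasFlatAmplitudeIn a b E := by
  obtain ⟨K, q, hK, hfl, hq, -⟩ :=
    KRes.exists_kFlat_resolution (DerivedCategory.Q.objPreimage E)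
  have e0 : DerivedCategory.Q.obj K ≅ E :=
    asIso (DerivedCategory.Q.map q) ≪≫ DerivedCategory.Q.objObjPreimageIso E
  have hT : ∀ x : X, ∃ V : X.Opens, x ∈ V ∧ ∀ j : ℤ, (j < a ∨ b < j) →
      SkyTorVanishing ((rCx V.ι).obj K) j := by
    intro x
    obtain ⟨V, hxV, hV⟩ := h x
    refine ⟨V, hxV, fun j hj => ?_⟩
    exact skyTorVanishing_of_hasTorAmplitudeIn
      (hasTorAmplitudeIn_of_hasFlatAmplitudeIn a b _ (hV K ⟨e0⟩)) j hj
  choose V hxV hTV using hT
  have hKV : ∀ x, DCoh.IsKFlat ((rCx (V x).ι).obj K) := fun x => isKFlat_restrict _ K hK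
  have hflV : ∀ x i, FlatMod.IsFlat (((rCx (V x).ι).obj K).X i) :=
    fun x i => isFlat_restrict _ _ (hfl i)
  have hex : ∀ j : ℤ, (j < a ∨ b < j) → K.ExactAt j := by
    intro j hj
    apply exactAt_of_local
    intro x
    exact ⟨V x, hxV x, exactAt_of_isZero_HD _ (hKV x) j (fun y N _ => hTV x j hj y N)⟩
  haveI : K.IsLE b := by
    rw [CochainComplex.isLE_iff]
    exact fun i hi => hex i (Or.inr hi)
  haveI : K.IsGE a := by
    rw [CochainComplex.isGE_iff]
    exact fun i hi => hex i (Or.inl hi)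
  have hcyc : FlatMod.IsFlat (K.cycles b) := by
    apply isFlat_of_local
    intro x
    refine ⟨V x, hxV x, isFlat_of_iso (restrictCyclesIso (V x).ι K b) ?_⟩
    exact isFlat_cycles _ (hKV x) (hflV x) b (fun y N _ j hj => hTV x j (Or.inr hj) y N)
  have hfl2 : ∀ i : ℤ, FlatMod.IsFlat ((K.truncLE b).X i) := by
    intro i
    rcases lt_trichotomy i b with hi | hi | hi
    · exact isFlat_of_iso (K.truncLEXIso b i hi).symm (hfl i)
    · subst hi
      exact isFlat_of_iso (K.truncLEXIsoCycles i).symm hcyc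
    · exact isFlat_of_isZero _ ((K.truncLE b).isZero_of_isStrictlyLE b i hi)
  have hK2 : DCoh.IsKFlat (K.truncLE b) :=
    isKFlat_of_flat_bddAbove _ b (fun i hi => (K.truncLE b).isZero_of_isStrictlyLE b i hi) hfl2
  have e1 : DerivedCategory.Q.obj (K.truncLE b) ≅ DerivedCategory.Q.obj K :=
    asIso (DerivedCategory.Q.map (K.ιTruncLE b))
  haveI : (K.truncLE b).IsGE a :=
    (HomologicalComplex.isSupported_iff_of_quasiIso (K.ιTruncLE b) _).mpr inferInstance
  have hcok : FlatMod.IsFlat (cokernel ((K.truncLE b).d (a - 1) a)) := by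
    apply isFlat_of_local
    intro x
    refine ⟨V x, hxV x, isFlat_of_iso (restrictCokernelIso (V x).ι (K.truncLE b) (a - 1) a) ?_⟩
    refine isFlat_cokernel_d _ (isKFlat_restrict _ _ hK2) a (isFlat_restrict _ _ (hfl2 a)) ?_
    have h1 := SkyTorVanishing.of_iso (restrictQIso (V x).ι e1).symm
      (hTV x (a - 1) (Or.inl (by omega)))
    exact fun y N _ => h1 y N
  have hfl3 : ∀ i : ℤ, FlatMod.IsFlat (((K.truncLE b).truncGE a).X i) := by
    intro i
    rcases lt_trichotomy i a with hi | hi | hi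
    · exact isFlat_of_isZero _ (((K.truncLE b).truncGE a).isZero_of_isStrictlyGE a i hi)
    · subst hi
      exact isFlat_of_iso (((K.truncLE b).truncGEXIsoOpcycles i ≪≫
        (K.truncLE b).opcyclesIsoSc' (i - 1) i (i + 1) (by simp) (by simp) ≪≫
        ((K.truncLE b).sc' (i - 1) i (i + 1)).opcyclesIsoCokernel)).symm hcok
    · exact isFlat_of_iso ((K.truncLE b).truncGEXIso a i hi).symm (hfl2 i)
  have e2 : DerivedCategory.Q.obj (K.truncLE b) ≅ DerivedCategory.Q.obj ((K.truncLE b).truncGE a) :=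
    asIso (DerivedCategory.Q.map ((K.truncLE b).πTruncGE a))
  refine ⟨(K.truncLE b).truncGE a, ?_, hfl3, ⟨e2.symm ≪≫ e1 ≪≫ e0⟩⟩
  intro i hi
  rcases hi with hi | hi
  · exact ((K.truncLE b).truncGE a).isZero_of_isStrictlyGE a i hi
  · exact IsZero.of_iso ((K.truncLE b).isZero_of_isStrictlyLE b i hi)
      ((K.truncLE b).truncGEXIso a i (by omega))

end Groth.Agent.Helper5.LOC
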