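import Groth.Agent.Lib.Helper5.FPC4

/-!
# Local models: scheme-level version and plumbing for restrictions
-/

set_option autoImplicit false
set_option linter.unusedSectionVars false
set_option linter.unusedVariables false
set_option linter.style.haveILetI false

universe u

open CategoryTheory CategoryTheory.Limits AlgebraicGeometry HomologicalComplex Pretriangulated

attribute [local instance] HasDerivedCategory.standard

namespace Groth.Agent.Helper5.FPC

open CochainComplex Groth.Agent.Helper5.LDer Groth.Agent.Helper5.KRes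
  Groth.Agent.Helper13.LocFree Groth.Agent.Helper5.RT Groth.Agent.Helper5.PC

variable {X : Scheme.{u}}

/-- local strictly perfect model of a complex of flat modules vanishing outside `[a, b]` which
receives an `(a - 1)`-connected morphism from a strictly perfect complex (scheme-level version) -/
theorem exists_local_model' (G P : CochainComplex X.Modules ℤ) (a b : ℤ)
    (hv : DCoh.VanishesOutside G a b) (hfl : ∀ i, FlatMod.IsFlat (G.X i))
    (aP bP : ℤ) (hvP : DCoh.VanishesOutside P aP bP) (hfP : ∀ i, FlatMod.IsFinLocFree (P.X i))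
    (α : DerivedCategory.Q.obj P ⟶ DerivedCategory.Q.obj G) (hα : IsConn (a - 1) α) (x : X) :
    ∃ (W : X.Opens), x ∈ W ∧
      ∃ P₃ : CochainComplex (W : Scheme.{u}).Modules ℤ, DCoh.IsStrictlyPerfect P₃ ∧
        DCoh.VanishesOutside P₃ a (max a bP) ∧
        Nonempty (DerivedCategory.Q.obj ((rCx W.ι).obj G) ≅ DerivedCategory.Q.obj P₃) := by
  have hP : DCoh.IsStrictlyPerfect P := ⟨⟨aP, bP, hvP⟩, hfP⟩
  obtain ⟨W, hxW, hW⟩ := Groth.Agent.S0944.result hP α x
  obtain ⟨β, hβ⟩ := hW
  set fac := (Scheme.Modules.restrictFunctor W.ι).mapDerivedCategoryFactors with hfac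
  have h1 : IsConn (a - 1) ((DCoh.restrictD W.ι).map α) := isConn_restrictD W.ι α (a - 1) hα
  have h2 : IsConn (a - 1) (DerivedCategory.Q.map β) := by
    refine h1.of_arrow_iso (Arrow.isoMk (fac.app P) (fac.app _) ?_)
    dsimp
    rw [hβ]
    simp only [Category.assoc, Iso.inv_hom_id_app]
    erw [Category.comp_id]
  obtain ⟨hT, hvT, ⟨e⟩⟩ := truncGE_model β a b aP bP
    (fun i hi => (Scheme.Modules.restrictFunctor W.ι).map_isZero (hvP i hi))
    (fun i => isFinLocFree_restrict W.ι _ (hfP i))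
    (fun i => isFlat_restrict W.ι _ (hfl i))
    (fun i hi => (Scheme.Modules.restrictFunctor W.ι).map_isZero (hv i hi)) h2
  exact ⟨W, hxW, _, hT, hvT, ⟨e⟩⟩

/-- the comparison between restricting to `V'` and restricting to `V` then to `V'` -/
noncomputable def restrictCxCompIso {V' V : X.Opens} (h : V' ≤ V) (F : CochainComplex X.Modules ℤ) :
    (DCoh.restrictCx V').obj F ≅ (rCx (X.homOfLE h)).obj ((DCoh.restrictCx V).obj F) :=
  (NatIso.mapHomologicalComplex
    (Scheme.Modules.restrictFunctorCongr (X.homOfLE_ι h).symm ≪≫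
      Scheme.Modules.restrictFunctorComp (X.homOfLE h) V.ι) (ComplexShape.up ℤ)).app F

/-- restricting a connected morphism to a smaller open -/
theorem exists_restrict_conn {V' V : X.Opens} (h : V' ≤ V) (F : CochainComplex X.Modules ℤ)
    (P : CochainComplex (V : Scheme.{u}).Modules ℤ)
    (α : DerivedCategory.Q.obj P ⟶ DerivedCategory.Q.obj ((DCoh.restrictCx V).obj F)) (m : ℤ)
    (hα : IsConn m α) :
    ∃ α' : DerivedCategory.Q.obj ((rCx (X.homOfLE h)).obj P) ⟶
      DerivedCategory.Q.obj ((DCoh.restrictCx V').obj F), IsConn m α' := by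
  set j := X.homOfLE h with hj
  set fac := (Scheme.Modules.restrictFunctor j).mapDerivedCategoryFactors with hfac
  have h1 : IsConn m ((DCoh.restrictD j).map α) := isConn_restrictD j α m hα
  refine ⟨(fac.app P).inv ≫ (DCoh.restrictD j).map α ≫ (fac.app _).hom ≫
    DerivedCategory.Q.map (restrictCxCompIso h F).inv, ?_⟩
  refine h1.of_arrow_iso (Arrow.isoMk (fac.app P) (fac.app _ ≪≫
    DerivedCategory.Q.mapIso (restrictCxCompIso h F).symm) ?_)
  dsimp
  simp only [Iso.hom_inv_id_app_assoc]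

/-- transfer of a strictly perfect local model over an open of an open to an open of `X` -/
theorem exists_model_of_local (x : X) (V : X.Opens) (hx : x ∈ V) (W : (V : Scheme.{u}).Opens)
    (hxW : (⟨x, hx⟩ : (V : Scheme.{u})) ∈ W) (F₁ : CochainComplex X.Modules ℤ)
    (P₃ : CochainComplex (W : Scheme.{u}).Modules ℤ) (hP₃ : DCoh.IsStrictlyPerfect P₃)
    (e : DerivedCategory.Q.obj ((rCx W.ι).obj ((DCoh.restrictCx V).obj F₁)) ≅
      DerivedCategory.Q.obj P₃) :
    ∃ V' : X.Opens, x ∈ V' ∧ ∃ E' : CochainComplex (V' : Scheme.{u}).Modules ℤ,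
      DCoh.IsStrictlyPerfect E' ∧ (∀ a b, DCoh.VanishesOutside P₃ a b → DCoh.VanishesOutside E' a b) ∧
      ∀ F : CochainComplex X.Modules ℤ, Nonempty (DCoh.toD X F ≅ DCoh.toD X F₁) →
        Nonempty (DerivedCategory.Q.obj ((DCoh.restrictCx V').obj F) ≅ DerivedCategory.Q.obj E') := by
  refine ⟨(W.ι ≫ V.ι).opensRange, ⟨⟨⟨x, hx⟩, hxW⟩, rfl⟩,
    (rCx (W.ι ≫ V.ι).isoOpensRange.inv).obj P₃, isStrictlyPerfect_restrict _ P₃ hP₃, ?_, ?_⟩
  · intro a b hv i hi
    exact (Scheme.Modules.restrictFunctor _).map_isZero (hv i hi)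
  · rintro F ⟨eF⟩
    have e2 : DerivedCategory.Q.obj ((rCx (W.ι ≫ V.ι)).obj F) ≅ DerivedCategory.Q.obj P₃ :=
      restrictQIso (W.ι ≫ V.ι) eF ≪≫
      DerivedCategory.Q.mapIso ((NatIso.mapHomologicalComplex
        (Scheme.Modules.restrictFunctorComp W.ι V.ι) (ComplexShape.up ℤ)).app F₁) ≪≫ e
    exact ⟨transferIso (W.ι ≫ V.ι) e2⟩

end Groth.Agent.Helper5.FPC
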