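import Groth.Agent.Lib.Helper5.TT1
import Groth.Agent.Lib.Helper5.TBC1
import Groth.Agent.Lib.Helper5.LTen8
import Groth.Agent.Lib.Helper11.TorAmp5
import Groth.Prelude.Def_DTor2
import Groth.Prelude.Def_DRing2

/-!
# Tor amplitude of `M~` on `Spec A` versus tor amplitude of `M`
-/

set_option autoImplicit false
set_option linter.unusedSectionVars false
set_option linter.unusedVariables false
set_option linter.style.haveILetI false

universe u

open CategoryTheory CategoryTheory.Limits AlgebraicGeometry MonoidalCategory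

attribute [local instance] HasDerivedCategory.standard

namespace Groth.Agent.Helper5.TT

open Groth.Agent.Helper13.Tensor

section

variable {R : CommRingCat.{u}}

/-- tilde reflects zero objects -/
lemma isZero_of_isZero_tilde (H : ModuleCat.{u} R) (h : IsZero ((tilde.functor R).obj H)) :
    IsZero H := by
  rw [IsZero.iff_id_eq_zero]
  apply (tilde.functor R).map_injective
  rw [CategoryTheory.Functor.map_id, Functor.map_zero]
  exact h.eq_of_src _ _

variable (N : ModuleCat.{u} R)

/-- `(M ⊗ N)^~ ≅ M^~ ⊗ N^~`, naturally in `M` -/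
noncomputable def tildeTensRightIso :
    tensorRight N ⋙ tilde.functor R ≅ tilde.functor R ⋙ DCoh.tensorRightMod (tilde N) :=
  NatIso.ofComponents (fun M => tildeTensorIso M N) (fun {M M'} g => by
    have h := tildeTensorHom_natural N g
    rw [← tensorRightMod_map] at h
    exact h)

end

section Main

open Groth.Agent.Helper11.TA Groth.Agent.Helper11.DC Groth.Agent.Helper5.LDer

variable (A : Type u) [CommRing A] [PreservesFiniteLimits (tilde.functor (CommRingCat.of A))]

instance : PreservesFiniteColimits (tilde.functor (CommRingCat.of A)) := TBC.pfc_tilde _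

instance : (tilde.functor (CommRingCat.of A)).Additive := TBC.additive_tilde _

/-- tilde on complexes -/
noncomputable abbrev tildeC : DRing.Cx A ⥤ CochainComplex (Spec (CommRingCat.of A)).Modules ℤ :=
  (tilde.functor (CommRingCat.of A)).mapHomologicalComplex (ComplexShape.up ℤ)

/-- tilde commutes with homology -/
noncomputable def tildeHomologyIso (K : DRing.Cx A) (i : ℤ) :
    ((tildeC A).obj K).homology i ≅ (tilde.functor (CommRingCat.of A)).obj (K.homology i) :=
  (K.sc i).mapHomologyIso (tilde.functor (CommRingCat.of A))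

/-- `Q (K~) ≅ (Q K)~` -/
noncomputable def QtildeIso (K : DRing.Cx A) :
    DerivedCategory.Q.obj ((tildeC A).obj K) ≅
      (DCoh.tildeD (CommRingCat.of A)).obj (DerivedCategory.Q.obj K) :=
  ((tilde.functor (CommRingCat.of A)).mapDerivedCategoryFactors.app K).symm

/-- the homology of a complex vanishes as soon as the cohomology sheaf of its tilde does -/
lemma isZero_homology_of_tilde (K : DRing.Cx A) (i : ℤ)
    (h : IsZero (DCoh.HD ((DCoh.tildeD (CommRingCat.of A)).obj (DerivedCategory.Q.obj K)) i)) :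
    IsZero (K.homology i) := by
  apply isZero_of_isZero_tilde (R := CommRingCat.of A)
  refine IsZero.of_iso h ((tildeHomologyIso A K i).symm ≪≫ (HDQIso _ i).symm ≪≫
    (DerivedCategory.homologyFunctor _ i).mapIso (QtildeIso A K))

/-- termwise tensor with `N` then tilde is tilde then termwise tensor with `N~` -/
noncomputable def tildeTensCxIso (N : ModuleCat.{u} A) (P : DRing.Cx A) :
    ((DCoh.tensorRightMod (tilde (R := CommRingCat.of A) N)).mapHomologicalComplex
      (ComplexShape.up ℤ)).obj ((tildeC A).obj P) ≅ (tildeC A).obj ((tens N).obj P) :=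
  (Functor.mapHomologicalComplexCompIso (Iso.refl (tilde.functor (CommRingCat.of A) ⋙
      DCoh.tensorRightMod (tilde (R := CommRingCat.of A) N))) (ComplexShape.up ℤ)).app P ≪≫
    ((Functor.mapHomologicalComplexCompIso (tildeTensRightIso (R := CommRingCat.of A) N)
      (ComplexShape.up ℤ)).app P).symm

variable {A}

theorem torVanCx_of_hasTorAmplitudeIn {a b : ℤ} (P : DRing.Cx A) (c : ℤ)
    (hc : DRing.VanishesAbove P c) (hp : ∀ i, Module.Projective A (P.X i))
    (h : DCoh.HasTorAmplitudeIn a b
      ((DCoh.tildeD (CommRingCat.of A)).obj (DerivedCategory.Q.obj P))) :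
    TorVanCx a b P := by
  intro N i hi
  refine IsZero.of_iso ?_ ((DerivedCategory.homologyFunctorFactors _ i).app _)
  change IsZero (((tens N).obj P).homology i)
  apply isZero_homology_of_tilde A
  have hKfl : DCoh.IsKFlat ((tildeC A).obj P) :=
    TildeSt.tilde_isKFlat (CommRingCat.of A) P
      (KF.KFl.of_flat_bddAbove P c hc (fun i => by haveI := hp i; infer_instance))
  haveI := hasLTensorMod (tilde (R := CommRingCat.of A) N)
  have hz := h (tilde (R := CommRingCat.of A) N) i hi
  refine IsZero.of_iso hz ((DerivedCategory.homologyFunctor _ i).mapIso ?_)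
  exact (QtildeIso A _).symm ≪≫ DerivedCategory.Q.mapIso (tildeTensCxIso A N P).symm ≪≫
    (LTensorModObjIso _ _ hKfl).symm ≪≫ (DCoh.LTensorMod _).mapIso (QtildeIso A P)

variable (A) in
lemma isFlat_tilde (N : ModuleCat.{u} A) [Module.Flat A N] :
    FlatMod.IsFlat ((tilde.functor (CommRingCat.of A)).obj N) := by
  intro x
  haveI := KF.flat_extendScalars (TildeSt.φx (CommRingCat.of A) x) N
  exact Module.Flat.of_linearEquiv
    ((TildeSt.tildeStalkNatIso (CommRingCat.of A) x).app N).symm.toLinearEquiv

theorem hasTorAmplitudeIn_of_tilde (M : Dual.D A) (a b : ℤ)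
    (h : DCoh.HasFlatAmplitudeIn a b ((DCoh.tildeD (CommRingCat.of A)).obj M)) :
    DRing.HasTorAmplitudeIn A a b M := by
  have hT := hasTorAmplitudeIn_of_hasFlatAmplitudeIn a b _ h
  obtain ⟨G, hG0, hGfl, ⟨eG⟩⟩ := h
  let K₀ := (DerivedCategory.Q (C := ModuleCat.{u} A)).objPreimage M
  let e₀ : DerivedCategory.Q.obj K₀ ≅ M := (DerivedCategory.Q (C := ModuleCat.{u} A)).objObjPreimageIso M
  have hH : ∀ i : ℤ, (i < a ∨ b < i) →
      IsZero ((DerivedCategory.homologyFunctor (ModuleCat.{u} A) i).obj M) := by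
    intro i hi
    refine IsZero.of_iso ?_ ((DerivedCategory.homologyFunctor _ i).mapIso e₀.symm ≪≫
      (DerivedCategory.homologyFunctorFactors _ i).app K₀)
    apply isZero_homology_of_tilde A
    exact IsZero.of_iso (isZero_HD_Q_of_isZero_X G i (hG0 i hi))
      ((DerivedCategory.homologyFunctor _ i).mapIso
        ((DCoh.tildeD (CommRingCat.of A)).mapIso e₀ ≪≫ eG.symm))
  obtain ⟨P, c, hc, hp, ⟨eP⟩⟩ := hasProjRes_of_homology M a b hH
  apply hasTorAmplitudeIn_of_torVan
  exact ⟨P, c, hc, hp, ⟨eP⟩, torVanCx_of_hasTorAmplitudeIn P c hc hp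
    (hasTorAmplitudeIn_of_iso ((DCoh.tildeD (CommRingCat.of A)).mapIso eP.symm) hT)⟩

theorem hasFlatAmplitudeIn_tilde (M : Dual.D A) (a b : ℤ)
    (h : DRing.HasTorAmplitudeIn A a b M) :
    DCoh.HasFlatAmplitudeIn a b ((DCoh.tildeD (CommRingCat.of A)).obj M) := by
  obtain ⟨E, hE0, hEfl, ⟨e⟩⟩ := h
  refine ⟨(tildeC A).obj E, fun i hi => (tilde.functor (CommRingCat.of A)).map_isZero (hE0 i hi),
    fun i => ?_, ⟨QtildeIso A E ≪≫ (DCoh.tildeD (CommRingCat.of A)).mapIso e⟩⟩
  haveI := hEfl i
  exact isFlat_tilde A (E.X i)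

end Main

end Groth.Agent.Helper5.TT
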