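import Groth.Agent.Lib.Helper5.TB4
import Groth.Agent.Lib.Helper5.LOC2
import Groth.Agent.S0914
import Groth.Agent.S7243

/-!
# Tilde bridge, part 5: `M~` is perfect iff `M` is
-/

set_option autoImplicit false
set_option linter.unusedSectionVars false
set_option linter.unusedVariables false
set_option linter.style.haveILetI false

universe u

open CategoryTheory CategoryTheory.Limits AlgebraicGeometry Pretriangulated

attribute [local instance] HasDerivedCategory.standard

namespace Groth.Agent.Helper5.TB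

open Groth.Agent.Helper11.MPC Groth.Agent.Helper11.DC Groth.Agent.Helper5.PC
  Groth.Agent.Helper5.PCT Groth.Agent.Helper5.TT Groth.Agent.Helper5.RT
  Groth.Agent.Helper11.TA Groth.Agent.Helper5.LDer

section Amp

variable {X : Scheme.{u}}

lemma hasFlatAmplitudeIn_mono2 {a a' b b' : ℤ} (ha : a' ≤ a) (hb : b ≤ b') {E : DCoh.D X}
    (h : DCoh.HasFlatAmplitudeIn a b E) : DCoh.HasFlatAmplitudeIn a' b' E := by
  obtain ⟨G, hv, hfl, he⟩ := h
  exact ⟨G, fun i hi => hv i (by omega), hfl, he⟩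

lemma hasFlatAmplitudeIn_of_iso' {a b : ℤ} {K K' : DCoh.D X} (e : K ≅ K')
    (h : DCoh.HasFlatAmplitudeIn a b K) : DCoh.HasFlatAmplitudeIn a b K' := by
  obtain ⟨G, hv, hfl, ⟨eG⟩⟩ := h
  exact ⟨G, hv, hfl, ⟨eG ≪≫ e⟩⟩

lemma hasFlatAmplitudeIn_restrict {U : Scheme.{u}} (j : U ⟶ X) [IsOpenImmersion j]
    (F : CochainComplex X.Modules ℤ) (a b : ℤ)
    (h : DCoh.HasFlatAmplitudeIn a b (DerivedCategory.Q.obj F)) :
    DCoh.HasFlatAmplitudeIn a b (DerivedCategory.Q.obj ((rCx j).obj F)) := by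
  obtain ⟨G, hv, hfl, ⟨eG⟩⟩ := h
  exact ⟨(rCx j).obj G, fun i hi => (Scheme.Modules.restrictFunctor j).map_isZero (hv i hi),
    fun i => isFlat_restrict j _ (hfl i), ⟨restrictQIso j eG⟩⟩

/-- on a quasi-compact scheme, locally finite tor dimension is finite tor dimension -/
theorem exists_hasFlatAmplitudeIn [CompactSpace X] (E : DCoh.D X)
    (h : DCoh.LocHasFiniteTorDim E) : ∃ a b : ℤ, DCoh.HasFlatAmplitudeIn a b E := by
  choose V a b hx hV using h
  obtain ⟨t, ht⟩ := isCompact_univ.elim_finite_subcover (fun x => ((V x : X.Opens) : Set X))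
    (fun x => (V x).isOpen) (fun y _ => Set.mem_iUnion.2 ⟨y, hx y⟩)
  set N : ℤ := ∑ x ∈ t, (|a x| + |b x|) with hN
  have hN0 : 0 ≤ N := Finset.sum_nonneg (fun x _ => by positivity)
  have hle : ∀ x ∈ t, |a x| + |b x| ≤ N := fun x hxt =>
    Finset.single_le_sum (f := fun x => |a x| + |b x|) (fun y _ => by positivity) hxt
  refine ⟨-N, N, Groth.Agent.Helper5.LOC.hasFlatAmplitudeIn_of_local E (-N) N (by omega)
    (fun y => ?_)⟩
  obtain ⟨x, hxt, hyx⟩ : ∃ x ∈ t, y ∈ (V x : Set X) := by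
    have := ht (Set.mem_univ y)
    simpa using this
  refine ⟨V x, hyx, fun F eF => hasFlatAmplitudeIn_mono2 ?_ ?_ (hV x F eF)⟩
  · have := hle x hxt
    have h1 := neg_abs_le (a x)
    have h2 := abs_nonneg (b x)
    omega
  · have := hle x hxt
    have h1 := le_abs_self (b x)
    have h2 := abs_nonneg (a x)
    omega

end Amp

section Main

variable (A : Type u) [CommRing A] [PreservesFiniteLimits (tilde.functor (CommRingCat.of A))]

theorem isPerfect_of_tilde (M : Dual.D A)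
    (h : DCoh.IsPerfect ((DCoh.tildeD (CommRingCat.of A)).obj M)) : DRing.IsPerfect A M := by
  obtain ⟨hpc, hloc⟩ := (Groth.Agent.S0914.result _).mp h
  have h1 : DRing.IsPseudoCoherent' A M :=
    pc'_of_forall_mpc (fun m => mpc_of_tilde A M m (hpc m))
  obtain ⟨a, b, hab⟩ := exists_hasFlatAmplitudeIn _ hloc
  have h2 : DRing.HasFiniteTorDimCx A M := ⟨a, b, (Groth.Agent.S7243.result A M a b).mp hab⟩
  exact (Groth.Agent.S6954.result A M).mpr ⟨h1, h2⟩

theorem tilde_isPerfect (M : Dual.D A) (h : DRing.IsPerfect A M) :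
    DCoh.IsPerfect ((DCoh.tildeD (CommRingCat.of A)).obj M) := by
  obtain ⟨h1, ⟨a, b, h2⟩⟩ := (Groth.Agent.S6954.result A M).mp h
  refine (Groth.Agent.S0914.result _).mpr ⟨fun m => tilde_mpc A M m (mpc_of_pc' h1 m), ?_⟩
  have h3 := (Groth.Agent.S7243.result A M a b).mpr h2
  intro x
  refine ⟨⊤, a, b, trivial, fun F' ⟨e⟩ => ?_⟩
  exact hasFlatAmplitudeIn_restrict _ F' a b (hasFlatAmplitudeIn_of_iso' e.symm h3)

theorem tilde_isPerfect_iff (M : Dual.D A) :
    DCoh.IsPerfect ((DCoh.tildeD (CommRingCat.of A)).obj M) ↔ DRing.IsPerfect A M :=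
  ⟨isPerfect_of_tilde A M, tilde_isPerfect A M⟩

end Main

end Groth.Agent.Helper5.TB
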