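import Groth.Agent.Lib.Helper5.KFAbs3

/-!
# The braiding of total complexes for a symmetric additive bifunctor
-/

set_option autoImplicit false
set_option linter.unusedSectionVars false
set_option linter.unusedVariables false
set_option linter.style.haveILetI false

universe v u

open CategoryTheory CategoryTheory.Limits HomologicalComplex

namespace Groth.Agent.Helper5.CXB

open Groth.Agent.Helper5.KFA

variable {𝒜 : Type u} [Category.{v} 𝒜] [Abelian 𝒜] (T : 𝒜 ⥤ 𝒜 ⥤ 𝒜) [T.Additive]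
  [∀ X, (T.obj X).Additive]
  [∀ (K₁ K₂ : CochainComplex 𝒜 ℤ),
    HomologicalComplex.HasMapBifunctor K₁ K₂ T (ComplexShape.up ℤ)]

/-- a symmetry of a bifunctor -/
structure Sym where
  σ : ∀ A B : 𝒜, (T.obj A).obj B ≅ (T.obj B).obj A
  nat_left : ∀ {A A' : 𝒜} (f : A ⟶ A') (B : 𝒜),
    (T.map f).app B ≫ (σ A' B).hom = (σ A B).hom ≫ (T.obj B).map f
  nat_right : ∀ (A : 𝒜) {B B' : 𝒜} (g : B ⟶ B'),
    (T.obj A).map g ≫ (σ A B').hom = (σ A B).hom ≫ (T.map g).app A
  symm : ∀ A B : 𝒜, (σ A B).hom ≫ (σ B A).hom = 𝟙 _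

variable {T}

namespace Sym

variable (s : Sym T)

@[reassoc]
lemma nat_left_assoc' {A A' : 𝒜} (f : A ⟶ A') (B : 𝒜) :
    (T.map f).app B ≫ (s.σ A' B).hom = (s.σ A B).hom ≫ (T.obj B).map f := s.nat_left f B

@[reassoc]
lemma nat_right_assoc' (A : 𝒜) {B B' : 𝒜} (g : B ⟶ B') :
    (T.obj A).map g ≫ (s.σ A B').hom = (s.σ A B).hom ≫ (T.map g).app A := s.nat_right A g

@[reassoc]
lemma symm' (A B : 𝒜) : (s.σ A B).hom ≫ (s.σ B A).hom = 𝟙 _ := s.symm A B

/-- the braiding in degree `n` -/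
noncomputable def βX (L K : CochainComplex 𝒜 ℤ) (n : ℤ) :
    (tens T L K).X n ⟶ (tens T K L).X n :=
  mapBifunctorDesc (fun p q h => (p * q).negOnePow •
    ((s.σ (L.X p) (K.X q)).hom ≫ ι T K L q p n (by dsimp at h; omega)))

@[reassoc]
lemma ι_βX (L K : CochainComplex 𝒜 ℤ) (p q n : ℤ) (h : p + q = n) :
    ι T L K p q n h ≫ s.βX L K n = (p * q).negOnePow •
      ((s.σ (L.X p) (K.X q)).hom ≫ ι T K L q p n (by omega)) := by
  unfold βX ι
  exact ι_mapBifunctorDesc _ _ _ _

lemma βX_d (L K : CochainComplex 𝒜 ℤ) (n n' : ℤ) (hn : n + 1 = n') :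
    s.βX L K n ≫ (tens T K L).d n n' = (tens T L K).d n n' ≫ s.βX L K n' := by
  apply hom_ext'
  intro p q hpq
  rw [ι_βX_assoc, Linear.units_smul_comp, Category.assoc,
    ι_d T K L q p n (by omega) n' hn (q + 1) (p + 1) rfl rfl,
    ι_d_assoc T L K p q n hpq n' hn (p + 1) (q + 1) rfl rfl]
  rw [Preadditive.comp_add, Preadditive.add_comp, smul_add, add_comm]
  congr 1
  · rw [Category.assoc, ι_βX, Linear.comp_units_smul, Linear.comp_units_smul, smul_smul,
      s.nat_left_assoc'_assoc]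
    congr 1
    rw [show (p + 1) * q = p * q + q by ring, Int.negOnePow_add]
  · rw [Linear.units_smul_comp, Category.assoc, ι_βX, Linear.comp_units_smul, smul_smul,
      s.nat_right_assoc'_assoc]
    congr 1
    rw [show p * (q + 1) = p * q + p by ring, Int.negOnePow_add, mul_left_comm,
      Int.units_mul_self, mul_one]

/-- the braiding morphism of complexes -/
noncomputable def βHom (L K : CochainComplex 𝒜 ℤ) : tens T L K ⟶ tens T K L where
  f n := s.βX L K n
  comm' n n' h := s.βX_d L K n n' h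

lemma βHom_βHom (L K : CochainComplex 𝒜 ℤ) : s.βHom L K ≫ s.βHom K L = 𝟙 _ := by
  ext n : 1
  apply hom_ext'
  intro p q hpq
  change ι T L K p q n hpq ≫ s.βX L K n ≫ s.βX K L n = ι T L K p q n hpq ≫ 𝟙 _
  rw [ι_βX_assoc, Linear.units_smul_comp, Category.assoc, ι_βX, Linear.comp_units_smul, smul_smul,
    s.symm'_assoc, Category.comp_id, mul_comm q p, Int.units_mul_self, one_smul]

/-- the braiding isomorphism of complexes -/
noncomputable def β (L K : CochainComplex 𝒜 ℤ) : tens T L K ≅ tens T K L where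
  hom := s.βHom L K
  inv := s.βHom K L
  hom_inv_id := s.βHom_βHom L K
  inv_hom_id := s.βHom_βHom K L

lemma β_naturality_left (K : CochainComplex 𝒜 ℤ) {L L' : CochainComplex 𝒜 ℤ} (f : L ⟶ L') :
    tensR T K f ≫ (s.β L' K).hom = (s.β L K).hom ≫ tensL T K f := by
  ext n : 1
  apply hom_ext'
  intro p q hpq
  change ι T L K p q n hpq ≫ (tensR T K f).f n ≫ s.βX L' K n =
    ι T L K p q n hpq ≫ s.βX L K n ≫ (tensL T K f).f n
  rw [ι_tensR_assoc, ι_βX, ι_βX_assoc, Linear.comp_units_smul, Linear.units_smul_comp,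
    Category.assoc, ι_tensL, s.nat_left_assoc'_assoc]

lemma β_naturality_right (L : CochainComplex 𝒜 ℤ) {K K' : CochainComplex 𝒜 ℤ} (g : K ⟶ K') :
    tensL T L g ≫ (s.β L K').hom = (s.β L K).hom ≫ tensR T L g := by
  ext n : 1
  apply hom_ext'
  intro p q hpq
  change ι T L K p q n hpq ≫ (tensL T L g).f n ≫ s.βX L K' n =
    ι T L K p q n hpq ≫ s.βX L K n ≫ (tensR T L g).f n
  rw [ι_tensL_assoc, ι_βX, ι_βX_assoc, Linear.comp_units_smul, Linear.units_smul_comp,
    Category.assoc, ι_tensR, s.nat_right_assoc'_assoc]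

end Sym

end Groth.Agent.Helper5.CXB
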