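import Groth.Agent.Lib.Helper5.KFAbs3

/-!
# Naturality of the associator of total complexes (abstract setting)
-/

set_option autoImplicit false
set_option linter.unusedSectionVars false
set_option linter.unusedVariables false
set_option linter.style.haveILetI false

universe v u

open CategoryTheory CategoryTheory.Limits HomologicalComplex

namespace Groth.Agent.Helper5.CXA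

open Groth.Agent.Helper5.KFA

variable {𝒜 : Type u} [Category.{v} 𝒜] [Abelian 𝒜] (T : 𝒜 ⥤ 𝒜 ⥤ 𝒜) [T.Additive]
  [∀ X, (T.obj X).Additive]
  [∀ (K₁ K₂ : CochainComplex 𝒜 ℤ),
    HomologicalComplex.HasMapBifunctor K₁ K₂ T (ComplexShape.up ℤ)]
  (a : bifunctorComp₁₂ T T ≅ bifunctorComp₂₃ T T)
  [∀ K₁ K₂ K₃ : CochainComplex 𝒜 ℤ,
    HasGoodTrifunctor₁₂Obj T T K₁ K₂ K₃ (ComplexShape.up ℤ) (ComplexShape.up ℤ)]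
  [∀ K₁ K₂ K₃ : CochainComplex 𝒜 ℤ,
    HasGoodTrifunctor₂₃Obj T T K₁ K₂ K₃ (ComplexShape.up ℤ) (ComplexShape.up ℤ)
      (ComplexShape.up ℤ)]

/-- the associator of total complexes -/
noncomputable def aC (K₁ K₂ K₃ : CochainComplex 𝒜 ℤ) :
    tens T (tens T K₁ K₂) K₃ ≅ tens T K₁ (tens T K₂ K₃) :=
  mapBifunctorAssociator a K₁ K₂ K₃ (ComplexShape.up ℤ) (ComplexShape.up ℤ) (ComplexShape.up ℤ)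

/-- the inclusion of a summand in `(K₁ ⊗ K₂) ⊗ K₃` -/
noncomputable abbrev ι₁₂ (K₁ K₂ K₃ : CochainComplex 𝒜 ℤ) (i₁ i₂ i₃ j : ℤ)
    (h : i₁ + i₂ + i₃ = j) :
    (T.obj ((T.obj (K₁.X i₁)).obj (K₂.X i₂))).obj (K₃.X i₃) ⟶ (tens T (tens T K₁ K₂) K₃).X j :=
  mapBifunctor₁₂.ι T T K₁ K₂ K₃ (ComplexShape.up ℤ) (ComplexShape.up ℤ) i₁ i₂ i₃ j h

/-- the inclusion of a summand in `K₁ ⊗ (K₂ ⊗ K₃)` -/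
noncomputable abbrev ι₂₃ (K₁ K₂ K₃ : CochainComplex 𝒜 ℤ) (i₁ i₂ i₃ j : ℤ)
    (h : i₁ + i₂ + i₃ = j) :
    (T.obj (K₁.X i₁)).obj ((T.obj (K₂.X i₂)).obj (K₃.X i₃)) ⟶ (tens T K₁ (tens T K₂ K₃)).X j :=
  mapBifunctor₂₃.ι T T K₁ K₂ K₃ (ComplexShape.up ℤ) (ComplexShape.up ℤ) (ComplexShape.up ℤ)
    i₁ i₂ i₃ j h

lemma ι₁₂_eq (K₁ K₂ K₃ : CochainComplex 𝒜 ℤ) (i₁ i₂ i₃ i₁₂ j : ℤ)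
    (h₁₂ : i₁ + i₂ = i₁₂) (h : i₁₂ + i₃ = j) :
    ι₁₂ T K₁ K₂ K₃ i₁ i₂ i₃ j (by omega) =
      (T.map (ι T K₁ K₂ i₁ i₂ i₁₂ h₁₂)).app (K₃.X i₃) ≫ ι T (tens T K₁ K₂) K₃ i₁₂ i₃ j h :=
  mapBifunctor₁₂.ι_eq T T K₁ K₂ K₃ (ComplexShape.up ℤ) (ComplexShape.up ℤ) i₁ i₂ i₃ i₁₂ j h₁₂ h

lemma ι₂₃_eq (K₁ K₂ K₃ : CochainComplex 𝒜 ℤ) (i₁ i₂ i₃ i₂₃ j : ℤ)
    (h₂₃ : i₂ + i₃ = i₂₃) (h : i₁ + i₂₃ = j) :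
    ι₂₃ T K₁ K₂ K₃ i₁ i₂ i₃ j (by omega) =
      (T.obj (K₁.X i₁)).map (ι T K₂ K₃ i₂ i₃ i₂₃ h₂₃) ≫ ι T K₁ (tens T K₂ K₃) i₁ i₂₃ j h :=
  mapBifunctor₂₃.ι_eq T T K₁ K₂ K₃ (ComplexShape.up ℤ) (ComplexShape.up ℤ) (ComplexShape.up ℤ)
    i₁ i₂ i₃ i₂₃ j h₂₃ h

lemma hom_ext₁₂ {K₁ K₂ K₃ : CochainComplex 𝒜 ℤ} {j : ℤ} {Y : 𝒜}
    {f g : (tens T (tens T K₁ K₂) K₃).X j ⟶ Y}
    (h : ∀ (i₁ i₂ i₃ : ℤ) (hj : i₁ + i₂ + i₃ = j),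
      ι₁₂ T K₁ K₂ K₃ i₁ i₂ i₃ j hj ≫ f = ι₁₂ T K₁ K₂ K₃ i₁ i₂ i₃ j hj ≫ g) : f = g :=
  mapBifunctor₁₂.hom_ext (fun i₁ i₂ i₃ hj => h i₁ i₂ i₃ hj)

/-- the components of the associator of objects, with unfolded types -/
def aApp (A B C : 𝒜) :
    (T.obj ((T.obj A).obj B)).obj C ⟶ (T.obj A).obj ((T.obj B).obj C) :=
  ((a.hom.app A).app B).app C

@[reassoc]
lemma aApp_naturality₁ {A A' : 𝒜} (f : A ⟶ A') (B C : 𝒜) :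
    (T.map ((T.map f).app B)).app C ≫ aApp T a A' B C =
      aApp T a A B C ≫ (T.map f).app ((T.obj B).obj C) :=
  congr_app (congr_app (a.hom.naturality f) B) C

@[reassoc]
lemma aApp_naturality₂ (A : 𝒜) {B B' : 𝒜} (g : B ⟶ B') (C : 𝒜) :
    (T.map ((T.obj A).map g)).app C ≫ aApp T a A B' C =
      aApp T a A B C ≫ (T.obj A).map ((T.map g).app C) :=
  congr_app ((a.hom.app A).naturality g) C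

@[reassoc]
lemma aApp_naturality₃ (A B : 𝒜) {C C' : 𝒜} (h : C ⟶ C') :
    (T.obj ((T.obj A).obj B)).map h ≫ aApp T a A B C' =
      aApp T a A B C ≫ (T.obj A).map ((T.obj B).map h) :=
  ((a.hom.app A).app B).naturality h

@[reassoc]
lemma ι₁₂_aC_hom (K₁ K₂ K₃ : CochainComplex 𝒜 ℤ) (i₁ i₂ i₃ j : ℤ) (h : i₁ + i₂ + i₃ = j) :
    ι₁₂ T K₁ K₂ K₃ i₁ i₂ i₃ j h ≫ (aC T a K₁ K₂ K₃).hom.f j =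
      aApp T a (K₁.X i₁) (K₂.X i₂) (K₃.X i₃) ≫ ι₂₃ T K₁ K₂ K₃ i₁ i₂ i₃ j h :=
  ι_mapBifunctorAssociatorX_hom a K₁ K₂ K₃ (ComplexShape.up ℤ) (ComplexShape.up ℤ)
    (ComplexShape.up ℤ) i₁ i₂ i₃ j h

@[reassoc]
lemma ι₁₂_map₁ {K₁ K₁' : CochainComplex 𝒜 ℤ} (f : K₁ ⟶ K₁') (K₂ K₃ : CochainComplex 𝒜 ℤ)
    (i₁ i₂ i₃ j : ℤ) (h : i₁ + i₂ + i₃ = j) :
    ι₁₂ T K₁ K₂ K₃ i₁ i₂ i₃ j h ≫ (tensR T K₃ (tensR T K₂ f)).f j =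
      (T.map ((T.map (f.f i₁)).app (K₂.X i₂))).app (K₃.X i₃) ≫
        ι₁₂ T K₁' K₂ K₃ i₁ i₂ i₃ j h := by
  rw [ι₁₂_eq T K₁ K₂ K₃ i₁ i₂ i₃ (i₁ + i₂) j rfl h,
    ι₁₂_eq T K₁' K₂ K₃ i₁ i₂ i₃ (i₁ + i₂) j rfl h, Category.assoc, ι_tensR,
    ← NatTrans.comp_app_assoc, ← T.map_comp, ι_tensR, T.map_comp, NatTrans.comp_app_assoc]

@[reassoc]
lemma ι₂₃_map₁ {K₁ K₁' : CochainComplex 𝒜 ℤ} (f : K₁ ⟶ K₁') (K₂ K₃ : CochainComplex 𝒜 ℤ)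
    (i₁ i₂ i₃ j : ℤ) (h : i₁ + i₂ + i₃ = j) :
    ι₂₃ T K₁ K₂ K₃ i₁ i₂ i₃ j h ≫ (tensR T (tens T K₂ K₃) f).f j =
      (T.map (f.f i₁)).app ((T.obj (K₂.X i₂)).obj (K₃.X i₃)) ≫
        ι₂₃ T K₁' K₂ K₃ i₁ i₂ i₃ j h := by
  rw [ι₂₃_eq T K₁ K₂ K₃ i₁ i₂ i₃ (i₂ + i₃) j rfl (by omega),
    ι₂₃_eq T K₁' K₂ K₃ i₁ i₂ i₃ (i₂ + i₃) j rfl (by omega), Category.assoc, ι_tensR,
    NatTrans.naturality_assoc]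

/-- naturality of the associator in the first variable -/
theorem aC_naturality₁ {K₁ K₁' : CochainComplex 𝒜 ℤ} (f : K₁ ⟶ K₁') (K₂ K₃ : CochainComplex 𝒜 ℤ) :
    tensR T K₃ (tensR T K₂ f) ≫ (aC T a K₁' K₂ K₃).hom =
      (aC T a K₁ K₂ K₃).hom ≫ tensR T (tens T K₂ K₃) f := by
  ext j : 1
  apply hom_ext₁₂
  intro i₁ i₂ i₃ hj
  change ι₁₂ T K₁ K₂ K₃ i₁ i₂ i₃ j hj ≫ (tensR T K₃ (tensR T K₂ f)).f j ≫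
    (aC T a K₁' K₂ K₃).hom.f j = ι₁₂ T K₁ K₂ K₃ i₁ i₂ i₃ j hj ≫ (aC T a K₁ K₂ K₃).hom.f j ≫
      (tensR T (tens T K₂ K₃) f).f j
  rw [ι₁₂_map₁_assoc, ι₁₂_aC_hom, ι₁₂_aC_hom_assoc, ι₂₃_map₁, aApp_naturality₁_assoc]

@[reassoc]
lemma ι₁₂_map₂ (K₁ : CochainComplex 𝒜 ℤ) {K₂ K₂' : CochainComplex 𝒜 ℤ} (g : K₂ ⟶ K₂')
    (K₃ : CochainComplex 𝒜 ℤ) (i₁ i₂ i₃ j : ℤ) (h : i₁ + i₂ + i₃ = j) :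
    ι₁₂ T K₁ K₂ K₃ i₁ i₂ i₃ j h ≫ (tensR T K₃ (tensL T K₁ g)).f j =
      (T.map ((T.obj (K₁.X i₁)).map (g.f i₂))).app (K₃.X i₃) ≫
        ι₁₂ T K₁ K₂' K₃ i₁ i₂ i₃ j h := by
  rw [ι₁₂_eq T K₁ K₂ K₃ i₁ i₂ i₃ (i₁ + i₂) j rfl h,
    ι₁₂_eq T K₁ K₂' K₃ i₁ i₂ i₃ (i₁ + i₂) j rfl h, Category.assoc, ι_tensR,
    ← NatTrans.comp_app_assoc, ← T.map_comp, ι_tensL, T.map_comp, NatTrans.comp_app_assoc]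

@[reassoc]
lemma ι₂₃_map₂ (K₁ : CochainComplex 𝒜 ℤ) {K₂ K₂' : CochainComplex 𝒜 ℤ} (g : K₂ ⟶ K₂')
    (K₃ : CochainComplex 𝒜 ℤ) (i₁ i₂ i₃ j : ℤ) (h : i₁ + i₂ + i₃ = j) :
    ι₂₃ T K₁ K₂ K₃ i₁ i₂ i₃ j h ≫ (tensL T K₁ (tensR T K₃ g)).f j =
      (T.obj (K₁.X i₁)).map ((T.map (g.f i₂)).app (K₃.X i₃)) ≫
        ι₂₃ T K₁ K₂' K₃ i₁ i₂ i₃ j h := by
  rw [ι₂₃_eq T K₁ K₂ K₃ i₁ i₂ i₃ (i₂ + i₃) j rfl (by omega),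
    ι₂₃_eq T K₁ K₂' K₃ i₁ i₂ i₃ (i₂ + i₃) j rfl (by omega), Category.assoc, ι_tensL,
    ← Functor.map_comp_assoc, ι_tensR, Functor.map_comp_assoc]

/-- naturality of the associator in the second variable -/
theorem aC_naturality₂ (K₁ : CochainComplex 𝒜 ℤ) {K₂ K₂' : CochainComplex 𝒜 ℤ} (g : K₂ ⟶ K₂')
    (K₃ : CochainComplex 𝒜 ℤ) :
    tensR T K₃ (tensL T K₁ g) ≫ (aC T a K₁ K₂' K₃).hom =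
      (aC T a K₁ K₂ K₃).hom ≫ tensL T K₁ (tensR T K₃ g) := by
  ext j : 1
  apply hom_ext₁₂
  intro i₁ i₂ i₃ hj
  change ι₁₂ T K₁ K₂ K₃ i₁ i₂ i₃ j hj ≫ (tensR T K₃ (tensL T K₁ g)).f j ≫
    (aC T a K₁ K₂' K₃).hom.f j = ι₁₂ T K₁ K₂ K₃ i₁ i₂ i₃ j hj ≫ (aC T a K₁ K₂ K₃).hom.f j ≫
      (tensL T K₁ (tensR T K₃ g)).f j
  rw [ι₁₂_map₂_assoc, ι₁₂_aC_hom, ι₁₂_aC_hom_assoc, ι₂₃_map₂, aApp_naturality₂_assoc]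

@[reassoc]
lemma ι₁₂_map₃ (K₁ K₂ : CochainComplex 𝒜 ℤ) {K₃ K₃' : CochainComplex 𝒜 ℤ} (k : K₃ ⟶ K₃')
    (i₁ i₂ i₃ j : ℤ) (h : i₁ + i₂ + i₃ = j) :
    ι₁₂ T K₁ K₂ K₃ i₁ i₂ i₃ j h ≫ (tensL T (tens T K₁ K₂) k).f j =
      (T.obj ((T.obj (K₁.X i₁)).obj (K₂.X i₂))).map (k.f i₃) ≫
        ι₁₂ T K₁ K₂ K₃' i₁ i₂ i₃ j h := by
  rw [ι₁₂_eq T K₁ K₂ K₃ i₁ i₂ i₃ (i₁ + i₂) j rfl h,
    ι₁₂_eq T K₁ K₂ K₃' i₁ i₂ i₃ (i₁ + i₂) j rfl h, Category.assoc, ι_tensL,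
    NatTrans.naturality_assoc]

@[reassoc]
lemma ι₂₃_map₃ (K₁ K₂ : CochainComplex 𝒜 ℤ) {K₃ K₃' : CochainComplex 𝒜 ℤ} (k : K₃ ⟶ K₃')
    (i₁ i₂ i₃ j : ℤ) (h : i₁ + i₂ + i₃ = j) :
    ι₂₃ T K₁ K₂ K₃ i₁ i₂ i₃ j h ≫ (tensL T K₁ (tensL T K₂ k)).f j =
      (T.obj (K₁.X i₁)).map ((T.obj (K₂.X i₂)).map (k.f i₃)) ≫
        ι₂₃ T K₁ K₂ K₃' i₁ i₂ i₃ j h := by
  rw [ι₂₃_eq T K₁ K₂ K₃ i₁ i₂ i₃ (i₂ + i₃) j rfl (by omega),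
    ι₂₃_eq T K₁ K₂ K₃' i₁ i₂ i₃ (i₂ + i₃) j rfl (by omega), Category.assoc, ι_tensL,
    ← Functor.map_comp_assoc, ι_tensL, Functor.map_comp_assoc]

/-- naturality of the associator in the third variable -/
theorem aC_naturality₃ (K₁ K₂ : CochainComplex 𝒜 ℤ) {K₃ K₃' : CochainComplex 𝒜 ℤ} (k : K₃ ⟶ K₃') :
    tensL T (tens T K₁ K₂) k ≫ (aC T a K₁ K₂ K₃').hom =
      (aC T a K₁ K₂ K₃).hom ≫ tensL T K₁ (tensL T K₂ k) := by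
  ext j : 1
  apply hom_ext₁₂
  intro i₁ i₂ i₃ hj
  change ι₁₂ T K₁ K₂ K₃ i₁ i₂ i₃ j hj ≫ (tensL T (tens T K₁ K₂) k).f j ≫
    (aC T a K₁ K₂ K₃').hom.f j = ι₁₂ T K₁ K₂ K₃ i₁ i₂ i₃ j hj ≫ (aC T a K₁ K₂ K₃).hom.f j ≫
      (tensL T K₁ (tensL T K₂ k)).f j
  rw [ι₁₂_map₃_assoc, ι₁₂_aC_hom, ι₁₂_aC_hom_assoc, ι₂₃_map₃, aApp_naturality₃_assoc]

end Groth.Agent.Helper5.CXA
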