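import Groth.Agent.Lib.Helper5.PCT5

/-!
# Pseudo-coherence at a point; direct summands of pseudo-coherent objects
-/

set_option autoImplicit false
set_option linter.unusedSectionVars false
set_option linter.unusedVariables false
set_option linter.style.haveILetI false

universe u

open CategoryTheory CategoryTheory.Limits AlgebraicGeometry Pretriangulated CochainComplex
  ZeroObject

attribute [local instance] HasDerivedCategory.standard

namespace Groth.Agent.Helper5.PCT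

open Groth.Agent.Helper5.PC Groth.Agent.Helper5.RT Groth.Agent.Helper5.LDer
  Groth.Agent.Helper5.FPC Groth.Agent.Helper5.BP Groth.Agent.Helper13.LocFree DerivedCategory

variable {X : Scheme.{u}}

/-- `m`-pseudo-coherence near a point -/
def PCAt (m : ℤ) (K : DCoh.D X) (x : X) : Prop :=
  ∃ (V : X.Opens), x ∈ V ∧ ∀ (F : CochainComplex X.Modules ℤ), Nonempty (DCoh.toD X F ≅ K) →
    ∃ (E : CochainComplex (V : Scheme.{u}).Modules ℤ)
      (α : DerivedCategory.Q.obj E ⟶ DerivedCategory.Q.obj ((DCoh.restrictCx V).obj F)),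
      DCoh.IsStrictlyPerfect E ∧
      (∀ i : ℤ, m < i → IsIso ((DerivedCategory.homologyFunctor _ i).map α)) ∧
      Epi ((DerivedCategory.homologyFunctor _ m).map α)

lemma isPseudoCoherentD_iff_forall_pcAt (m : ℤ) (K : DCoh.D X) :
    DCoh.IsPseudoCoherentD m K ↔ ∀ x : X, PCAt m K x := Iff.rfl

lemma pcAt_of_iso {m : ℤ} {K K' : DCoh.D X} {x : X} (e : K ≅ K') (h : PCAt m K x) :
    PCAt m K' x := by
  obtain ⟨V, hxV, hV⟩ := h
  exact ⟨V, hxV, fun F ⟨eF⟩ => hV F ⟨eF ≪≫ e.symm⟩⟩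

lemma pcAt_of_le {m m' : ℤ} (hm : m ≤ m') {K : DCoh.D X} {x : X} (h : PCAt m K x) :
    PCAt m' K x := by
  obtain ⟨V, hxV, hV⟩ := h
  refine ⟨V, hxV, fun F hF => ?_⟩
  obtain ⟨E, α, hE, h1, h2⟩ := hV F hF
  have hα : IsConn m' α := IsConn.of_le hm ⟨h1, h2⟩
  exact ⟨E, α, hE, hα.1, hα.2⟩

/-- the chain level version of a local model, at a point -/
theorem exists_chain_model_at (F : CochainComplex X.Modules ℤ) (m : ℤ) (x : X)
    (hF : PCAt m (DerivedCategory.Q.obj F) x) :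
    ∃ (V : X.Opens), x ∈ V ∧ ∃ (P : CochainComplex (V : Scheme.{u}).Modules ℤ)
      (a : P ⟶ (DCoh.restrictCx V).obj F), DCoh.IsStrictlyPerfect P ∧
        IsConn m (DerivedCategory.Q.map a) := by
  obtain ⟨V₀, hx, h⟩ := hF
  obtain ⟨E, α, hE, hα1, hα2⟩ := h F ⟨Iso.refl _⟩
  have hα : IsConn m α := ⟨hα1, hα2⟩
  obtain ⟨W, hxW, hW⟩ := Groth.Agent.S0944.result hE α ⟨x, hx⟩
  obtain ⟨β, hβ⟩ := hW
  have h2 : IsConn m (DerivedCategory.Q.map β) := by
    have h3 := isConn_rQ W.ι α m hα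
    have h4 : rQ W.ι α = DerivedCategory.Q.map β := by
      dsimp only [rQ, Iso.app_inv, Iso.app_hom]
      rw [hβ]
      simp only [Category.assoc, Iso.inv_hom_id_app_assoc, Iso.inv_hom_id_app]
      erw [Category.comp_id]
    rwa [h4] at h3
  set j := W.ι ≫ V₀.ι with hj
  let c : (rCx j.isoOpensRange.inv).obj ((rCx W.ι).obj ((DCoh.restrictCx V₀).obj F)) ≅
      (DCoh.restrictCx j.opensRange).obj F :=
    (rCx j.isoOpensRange.inv).mapIso ((NatIso.mapHomologicalComplex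
      (Scheme.Modules.restrictFunctorComp W.ι V₀.ι) (ComplexShape.up ℤ)).app F).symm ≪≫
    (NatIso.mapHomologicalComplex (restrictOpensRangeIso j) (ComplexShape.up ℤ)).app F
  refine ⟨j.opensRange, ⟨⟨⟨x, hx⟩, hxW⟩, rfl⟩, (rCx j.isoOpensRange.inv).obj ((rCx W.ι).obj E),
    (rCx j.isoOpensRange.inv).map β ≫ c.hom,
    isStrictlyPerfect_restrict _ _ (isStrictlyPerfect_restrict _ _ hE), ?_⟩
  rw [Functor.map_comp]
  refine IsConn.comp ?_ (isConn_of_isIso _)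
  rw [← rQ_Q_map]
  exact isConn_rQ _ _ m h2

theorem pcAt_Q_mappingCone {F₁ F₂ : CochainComplex X.Modules ℤ} (φ : F₁ ⟶ F₂) (m : ℤ) (x : X)
    (h₁ : PCAt (m + 1) (DerivedCategory.Q.obj F₁) x)
    (h₂ : PCAt m (DerivedCategory.Q.obj F₂) x) :
    PCAt m (DerivedCategory.Q.obj (mappingCone φ)) x := by
  obtain ⟨V₁, hx₁, P₁, a₁, hP₁, ha₁⟩ := exists_chain_model_at F₁ (m + 1) x h₁
  obtain ⟨V₂, hx₂, P₂, a₂, hP₂, ha₂⟩ := exists_chain_model_at F₂ m x h₂
  have ha₁' := isConn_restrict_chain (inf_le_left : V₁ ⊓ V₂ ≤ V₁) F₁ a₁ (m + 1) ha₁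
  have ha₂' := isConn_restrict_chain (inf_le_right : V₁ ⊓ V₂ ≤ V₂) F₂ a₂ m ha₂
  obtain ⟨W, hxW, P₃, α₃, hP₃, hα₃⟩ := exists_cone_conn φ (V₁ ⊓ V₂) x ⟨hx₁, hx₂⟩ m
    (isStrictlyPerfect_restrict _ P₁ hP₁) (isStrictlyPerfect_restrict _ P₂ hP₂) _ _ ha₁' ha₂'
  refine ⟨(W.ι ≫ (V₁ ⊓ V₂).ι).opensRange, ⟨⟨⟨x, ⟨hx₁, hx₂⟩⟩, hxW⟩, rfl⟩, ?_⟩
  rintro F ⟨eF⟩
  obtain ⟨α', hα'⟩ := exists_transfer_conn (W.ι ≫ (V₁ ⊓ V₂).ι) eF α₃ m hα₃
  exact ⟨_, α', isStrictlyPerfect_restrict _ P₃ hP₃, hα'.1, hα'.2⟩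

theorem pcAt_obj₃ (T : Triangle (DCoh.D X)) (hT : T ∈ distTriang (DCoh.D X)) (m : ℤ) (x : X)
    (h₁ : PCAt (m + 1) T.obj₁ x) (h₂ : PCAt m T.obj₂ x) : PCAt m T.obj₃ x := by
  obtain ⟨A, B, φ, ⟨e⟩⟩ := (DerivedCategory.mem_distTriang_iff T).mp hT
  have hA := pcAt_of_iso (Triangle.π₁.mapIso e) h₁
  have hB := pcAt_of_iso (Triangle.π₂.mapIso e) h₂
  exact pcAt_of_iso (Triangle.π₃.mapIso e).symm (pcAt_Q_mappingCone φ m x hA hB)

/-- an object whose cohomology vanishes in degrees `≥ m` near `x` is `m`-pseudo-coherent near `x` -/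
theorem pcAt_of_isZero_HD (K : DCoh.D X) (m : ℤ) (x : X) (V : X.Opens) (hx : x ∈ V)
    (h : ∀ i : ℤ, m ≤ i → IsZero (DCoh.HD ((DCoh.restrictD V.ι).obj K) i)) : PCAt m K x := by
  refine ⟨V, hx, fun F ⟨eF⟩ => ?_⟩
  have e : (DCoh.restrictD V.ι).obj K ≅ DerivedCategory.Q.obj ((DCoh.restrictCx V).obj F) :=
    (DCoh.restrictD V.ι).mapIso eF.symm ≪≫
      (Scheme.Modules.restrictFunctor V.ι).mapDerivedCategoryFactors.app F
  have hz : ∀ i : ℤ, m ≤ i →
      IsZero (DCoh.HD (DerivedCategory.Q.obj ((DCoh.restrictCx V).obj F)) i) := fun i hi =>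
    IsZero.of_iso (h i hi) ((DerivedCategory.homologyFunctor _ i).mapIso e.symm)
  have h0 : IsZero (0 : CochainComplex (V : Scheme.{u}).Modules ℤ) := isZero_zero _
  have hX : ∀ i : ℤ, IsZero ((0 : CochainComplex (V : Scheme.{u}).Modules ℤ).X i) := fun i =>
    (HomologicalComplex.eval _ _ i).map_isZero h0
  refine ⟨0, 0, ⟨⟨0, 0, fun i _ => hX i⟩, fun i => isFinLocFree_of_isZero (hX i)⟩,
    fun i hi => ?_, ?_⟩
  · exact PCM.isIso_of_isZero _ (isZero_HD_Q_of_isZero_X _ i (hX i)) (hz i hi.le)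
  · exact PCM.epi_of_isZero_tgt _ (hz m le_rfl)

/-- near a point, an `m`-pseudo-coherent object has vanishing cohomology in high degrees -/
theorem exists_isZero_HD_of_pcAt (K : DCoh.D X) (m : ℤ) (x : X) (h : PCAt m K x) :
    ∃ (V : X.Opens) (N : ℤ), x ∈ V ∧
      ∀ i : ℤ, N ≤ i → IsZero (DCoh.HD ((DCoh.restrictD V.ι).obj K) i) := by
  obtain ⟨V, hx, hV⟩ := h
  obtain ⟨E, α, ⟨⟨a, b, hv⟩, hf⟩, h1, h2⟩ := hV (DerivedCategory.Q.objPreimage K)
    ⟨DerivedCategory.Q.objObjPreimageIso K⟩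
  have e : (DCoh.restrictD V.ι).obj K ≅
      DerivedCategory.Q.obj ((DCoh.restrictCx V).obj (DerivedCategory.Q.objPreimage K)) :=
    (DCoh.restrictD V.ι).mapIso (DerivedCategory.Q.objObjPreimageIso K).symm ≪≫
      (Scheme.Modules.restrictFunctor V.ι).mapDerivedCategoryFactors.app _
  refine ⟨V, max m b + 1, hx, fun i hi => ?_⟩
  haveI := h1 i (by omega)
  have hz : IsZero (DCoh.HD (DerivedCategory.Q.obj E) i) :=
    isZero_HD_Q_of_isZero_X E i (hv i (Or.inr (by omega)))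
  exact IsZero.of_iso (IsZero.of_iso hz
    (asIso ((DerivedCategory.homologyFunctor _ i).map α)).symm)
    ((DerivedCategory.homologyFunctor _ i).mapIso e)

lemma isZero_HD_of_retract {Y : Scheme.{u}} {A B : DCoh.D Y} (r : A ⟶ B) (s : B ⟶ A)
    (hrs : r ≫ s = 𝟙 A) (i : ℤ) (h : IsZero (DCoh.HD B i)) : IsZero (DCoh.HD A i) := by
  rw [IsZero.iff_id_eq_zero]
  have h1 : (DerivedCategory.homologyFunctor Y.Modules i).map r ≫
      (DerivedCategory.homologyFunctor Y.Modules i).map s = 𝟙 _ := by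
    rw [← Functor.map_comp, hrs, CategoryTheory.Functor.map_id]
  rw [← h1, h.eq_of_tgt ((DerivedCategory.homologyFunctor Y.Modules i).map r) 0, zero_comp]

/-- direct summands of `m`-pseudo-coherent objects are `m`-pseudo-coherent -/
theorem pcAt_of_biprod (K L : DCoh.D X) [HasBinaryBiproduct K L] (m : ℤ) (x : X)
    (h : PCAt m (K ⊞ L) x) : PCAt m K x ∧ PCAt m L x := by
  obtain ⟨V, N, hxV, hN⟩ := exists_isZero_HD_of_pcAt _ m x h
  have hK : ∀ i : ℤ, N ≤ i → IsZero (DCoh.HD ((DCoh.restrictD V.ι).obj K) i) := fun i hi =>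
    isZero_HD_of_retract ((DCoh.restrictD V.ι).map biprod.inl) ((DCoh.restrictD V.ι).map biprod.fst)
      (by rw [← Functor.map_comp, biprod.inl_fst, CategoryTheory.Functor.map_id]) i (hN i hi)
  have hL : ∀ i : ℤ, N ≤ i → IsZero (DCoh.HD ((DCoh.restrictD V.ι).obj L) i) := fun i hi =>
    isZero_HD_of_retract ((DCoh.restrictD V.ι).map biprod.inr) ((DCoh.restrictD V.ι).map biprod.snd)
      (by rw [← Functor.map_comp, biprod.inr_snd, CategoryTheory.Functor.map_id]) i (hN i hi)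
  have hT₁ : Triangle.mk (biprod.inl : K ⟶ K ⊞ L) (biprod.snd : K ⊞ L ⟶ L) 0 ∈
      distTriang (DCoh.D X) := binaryBiproductTriangle_distinguished K L
  have hT₂ : Triangle.mk (biprod.inr : L ⟶ K ⊞ L) (biprod.fst : K ⊞ L ⟶ K) 0 ∈
      distTriang (DCoh.D X) := by
    refine isomorphic_distinguished _ (binaryBiproductTriangle_distinguished L K) _ ?_
    refine Triangle.isoMk _ _ (Iso.refl L) (biprod.braiding K L) (Iso.refl K) ?_ ?_ ?_
    · change (biprod.inr : L ⟶ K ⊞ L) ≫ (biprod.braiding K L).hom =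
        𝟙 L ≫ (biprod.inl : L ⟶ L ⊞ K)
      rw [Category.id_comp]
      apply biprod.hom_ext <;> simp
    · change (biprod.fst : K ⊞ L ⟶ K) ≫ 𝟙 K =
        (biprod.braiding K L).hom ≫ (biprod.snd : L ⊞ K ⟶ K)
      simp
    · change (0 : K ⟶ L⟦(1 : ℤ)⟧) ≫ (𝟙 L)⟦(1 : ℤ)⟧' = 𝟙 K ≫ 0
      rw [zero_comp, comp_zero]
  -- descending induction
  have key : ∀ n : ℕ, ∀ j : ℤ, m ≤ j → N ≤ j + n → PCAt j K x ∧ PCAt j L x := by
    intro n
    induction n with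
    | zero =>
      intro j hj hN'
      exact ⟨pcAt_of_isZero_HD K j x V hxV (fun i hi => hK i (by omega)),
        pcAt_of_isZero_HD L j x V hxV (fun i hi => hL i (by omega))⟩
    | succ n ih =>
      intro j hj hN'
      obtain ⟨h1, h2⟩ := ih (j + 1) (by omega) (by push_cast at hN'; omega)
      have hS : PCAt j (K ⊞ L) x := pcAt_of_le hj h
      exact ⟨pcAt_obj₃ _ hT₂ j x h2 hS, pcAt_obj₃ _ hT₁ j x h1 hS⟩
  obtain ⟨n, hn⟩ : ∃ n : ℕ, N ≤ m + n := ⟨(N - m).toNat, by omega⟩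
  exact key n m le_rfl hn

end Groth.Agent.Helper5.PCT
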