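import Groth.Agent.Lib.Helper5.BP1
import Groth.Agent.S0944

/-!
# The mapping cone of a morphism between perfect complexes is perfect
-/

set_option autoImplicit false
set_option linter.unusedSectionVars false
set_option linter.unusedVariables false
set_option linter.style.haveILetI false

universe u

open CategoryTheory CategoryTheory.Limits AlgebraicGeometry HomologicalComplex Opposite
  CategoryTheory.Pretriangulated

attribute [local instance] HasDerivedCategory.standard

namespace Groth.Agent.Helper5.BP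

open Groth.Agent.Helper13.LocFree Groth.Agent.Helper5.LDer Groth.Agent.Helper5.RT CochainComplex

variable {X : Scheme.{u}}

/-- restricting a local model to a smaller open -/
noncomputable def modelRestrict {V' V : X.Opens} (h : V' ≤ V) {F : CochainComplex X.Modules ℤ}
    {E : CochainComplex (V : Scheme.{u}).Modules ℤ}
    (e : DerivedCategory.Q.obj ((DCoh.restrictCx V).obj F) ≅ DerivedCategory.Q.obj E) :
    DerivedCategory.Q.obj ((DCoh.restrictCx V').obj F) ≅
      DerivedCategory.Q.obj ((rCx (X.homOfLE h)).obj E) :=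
  DerivedCategory.Q.mapIso ((NatIso.mapHomologicalComplex
    (Scheme.Modules.restrictFunctorCongr (X.homOfLE_ι h).symm ≪≫
      Scheme.Modules.restrictFunctorComp (X.homOfLE h) V.ι) (ComplexShape.up ℤ)).app F) ≪≫
    restrictQIso (X.homOfLE h) e

/-- local model of a mapping cone -/
theorem exists_cone_model {K₁ L₁ : CochainComplex X.Modules ℤ} (φ : K₁ ⟶ L₁) (V : X.Opens)
    (x : X) (hx : x ∈ V) (P₁ P₂ : CochainComplex (V : Scheme.{u}).Modules ℤ)
    (h₁ : DCoh.IsStrictlyPerfect P₁) (h₂ : DCoh.IsStrictlyPerfect P₂)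
    (e₁ : DerivedCategory.Q.obj ((DCoh.restrictCx V).obj K₁) ≅ DerivedCategory.Q.obj P₁)
    (e₂ : DerivedCategory.Q.obj ((DCoh.restrictCx V).obj L₁) ≅ DerivedCategory.Q.obj P₂) :
    ∃ (W : (V : Scheme.{u}).Opens), (⟨x, hx⟩ : (V : Scheme.{u})) ∈ W ∧
      ∃ P₃ : CochainComplex (W : Scheme.{u}).Modules ℤ, DCoh.IsStrictlyPerfect P₃ ∧
        Nonempty (DerivedCategory.Q.obj ((rCx (W.ι ≫ V.ι)).obj (mappingCone φ)) ≅
          DerivedCategory.Q.obj P₃) := by
  set ψ : DCoh.toD _ P₁ ⟶ DCoh.toD _ P₂ :=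
    e₁.inv ≫ DerivedCategory.Q.map ((DCoh.restrictCx V).map φ) ≫ e₂.hom with hψ
  obtain ⟨W, hxW, hW⟩ := Groth.Agent.S0944.result h₁ ψ ⟨x, hx⟩
  obtain ⟨β, hβ⟩ := hW
  refine ⟨W, hxW, mappingCone β, isStrictlyPerfect_mappingCone β
    (isStrictlyPerfect_restrict W.ι P₁ h₁) (isStrictlyPerfect_restrict W.ι P₂ h₂), ?_⟩
  set fac := (Scheme.Modules.restrictFunctor W.ι).mapDerivedCategoryFactors with hfac
  set g := (rCx W.ι).map ((DCoh.restrictCx V).map φ) with hg
  have nat : (DCoh.restrictD W.ι).map (DerivedCategory.Q.map ((DCoh.restrictCx V).map φ)) ≫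
      fac.hom.app ((DCoh.restrictCx V).obj L₁) =
      fac.hom.app ((DCoh.restrictCx V).obj K₁) ≫ DerivedCategory.Q.map g :=
    fac.hom.naturality ((DCoh.restrictCx V).map φ)
  have comm : DerivedCategory.Q.map g ≫ (restrictQIso W.ι e₂).hom =
      (restrictQIso W.ι e₁).hom ≫ DerivedCategory.Q.map β := by
    have hβ' : fac.hom.app P₁ ≫ DerivedCategory.Q.map β =
        (DCoh.restrictD W.ι).map ψ ≫ fac.hom.app P₂ := by
      rw [hβ]
      simp only [Category.assoc, Iso.inv_hom_id_app]
      erw [Category.comp_id]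
    change DerivedCategory.Q.map g ≫ (fac.inv.app ((DCoh.restrictCx V).obj L₁) ≫
        (DCoh.restrictD W.ι).map e₂.hom ≫
        fac.hom.app P₂) = (fac.inv.app ((DCoh.restrictCx V).obj K₁) ≫
        (DCoh.restrictD W.ι).map e₁.hom ≫ fac.hom.app P₁) ≫
        DerivedCategory.Q.map β
    rw [Category.assoc, Category.assoc, hβ', hψ, Functor.map_comp, Functor.map_comp]
    simp only [Category.assoc]
    rw [← Functor.map_comp_assoc, e₁.hom_inv_id, CategoryTheory.Functor.map_id, Category.id_comp]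
    have nat' : DerivedCategory.Q.map g ≫ fac.inv.app ((DCoh.restrictCx V).obj L₁) =
        fac.inv.app ((DCoh.restrictCx V).obj K₁) ≫
        (DCoh.restrictD W.ι).map (DerivedCategory.Q.map ((DCoh.restrictCx V).map φ)) := by
      rw [← cancel_mono (fac.hom.app ((DCoh.restrictCx V).obj L₁)), Category.assoc, Category.assoc, nat,
        Iso.inv_hom_id_app_assoc, Iso.inv_hom_id_app]
      exact Category.comp_id _
    rw [reassoc_of% nat']
  have iso3 := isoTriangleOfIso₁₂ _ _ (DerivedCategory.mappingCone_triangle_distinguished g)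
    (DerivedCategory.mappingCone_triangle_distinguished β) (restrictQIso W.ι e₁)
    (restrictQIso W.ι e₂) comm
  have c1 : (rCx (W.ι ≫ V.ι)).obj (mappingCone φ) ≅ mappingCone g :=
    (NatIso.mapHomologicalComplex (Scheme.Modules.restrictFunctorComp W.ι V.ι)
      (ComplexShape.up ℤ)).app _ ≪≫
    (rCx W.ι).mapIso (mappingCone.mapHomologicalComplexIso φ
      (Scheme.Modules.restrictFunctor V.ι)) ≪≫
    mappingCone.mapHomologicalComplexIso ((DCoh.restrictCx V).map φ)
      (Scheme.Modules.restrictFunctor W.ι)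
  exact ⟨DerivedCategory.Q.mapIso c1 ≪≫ Triangle.π₃.mapIso iso3⟩

end Groth.Agent.Helper5.BP
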