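import Groth.Agent.Lib.Helper5.FPC3
import Groth.Agent.Lib.Helper5.BP2

/-!
# Flat amplitude together with pseudo-coherence gives local strictly perfect models
-/

set_option autoImplicit false
set_option linter.unusedSectionVars false
set_option linter.unusedVariables false
set_option linter.style.haveILetI false

universe u

open CategoryTheory CategoryTheory.Limits AlgebraicGeometry HomologicalComplex Pretriangulated

attribute [local instance] HasDerivedCategory.standard

namespace Groth.Agent.Helper5.FPC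

open CochainComplex Groth.Agent.Helper5.LDer Groth.Agent.Helper5.KRes
  Groth.Agent.Helper13.LocFree Groth.Agent.Helper5.RT Groth.Agent.Helper5.PC

variable {X : Scheme.{u}}

/-- restriction to an open subscheme preserves the vanishing of cohomology sheaves -/
theorem isZero_HD_restrictD {U : Scheme.{u}} (j : U ⟶ X) [IsOpenImmersion j] (Z : DCoh.D X) (i : ℤ)
    (h : IsZero ((DerivedCategory.homologyFunctor X.Modules i).obj Z)) :
    IsZero ((DerivedCategory.homologyFunctor U.Modules i).obj ((DCoh.restrictD j).obj Z)) := by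
  set Z₀ := DerivedCategory.Q.objPreimage Z with hZ₀
  have e0 : DerivedCategory.Q.obj Z₀ ≅ Z := DerivedCategory.Q.objObjPreimageIso Z
  have h1 : IsZero (Z₀.homology i) :=
    IsZero.of_iso (IsZero.of_iso h ((DerivedCategory.homologyFunctor X.Modules i).mapIso e0))
      (HDQIso Z₀ i).symm
  have h2 := isZero_homology_restrict j Z₀ i h1
  have e1 : (DCoh.restrictD j).obj Z ≅ DerivedCategory.Q.obj ((rCx j).obj Z₀) :=
    (DCoh.restrictD j).mapIso e0.symm ≪≫
      (Scheme.Modules.restrictFunctor j).mapDerivedCategoryFactors.app Z₀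
  exact IsZero.of_iso (IsZero.of_iso h2 (HDQIso _ i))
    ((DerivedCategory.homologyFunctor U.Modules i).mapIso e1)

/-- restriction to an open subscheme preserves `IsConn` -/
theorem isConn_restrictD {U : Scheme.{u}} (j : U ⟶ X) [IsOpenImmersion j] {A B : DCoh.D X}
    (α : A ⟶ B) (m : ℤ) (h : IsConn m α) : IsConn m ((DCoh.restrictD j).map α) := by
  obtain ⟨Z, g, k, hT⟩ := distinguished_cocone_triangle α
  have hT' := (DCoh.restrictD j).map_distinguished _ hT
  have hz := (isConn_mor₁_iff _ hT m).mp h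
  exact (isConn_mor₁_iff _ hT' m).mpr (fun i hi => isZero_HD_restrictD j Z i (hz i hi))

/-- local strictly perfect model of a complex of flat modules vanishing outside `[a, b]` which
receives an `(a - 1)`-connected morphism from a strictly perfect complex -/
theorem exists_local_model (F₀ : CochainComplex X.Modules ℤ) (a b : ℤ)
    (hv : DCoh.VanishesOutside F₀ a b) (hfl : ∀ i, FlatMod.IsFlat (F₀.X i))
    (V : X.Opens) (x : X) (hx : x ∈ V) (P : CochainComplex (V : Scheme.{u}).Modules ℤ)
    (aP bP : ℤ) (hvP : DCoh.VanishesOutside P aP bP) (hfP : ∀ i, FlatMod.IsFinLocFree (P.X i))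
    (α : DerivedCategory.Q.obj P ⟶ DerivedCategory.Q.obj ((DCoh.restrictCx V).obj F₀))
    (hα : IsConn (a - 1) α) :
    ∃ (W : (V : Scheme.{u}).Opens), (⟨x, hx⟩ : (V : Scheme.{u})) ∈ W ∧
      ∃ P₃ : CochainComplex (W : Scheme.{u}).Modules ℤ, DCoh.IsStrictlyPerfect P₃ ∧
        DCoh.VanishesOutside P₃ a (max a bP) ∧
        Nonempty (DerivedCategory.Q.obj ((rCx (W.ι ≫ V.ι)).obj F₀) ≅
          DerivedCategory.Q.obj P₃) := by
  have hP : DCoh.IsStrictlyPerfect P := ⟨⟨aP, bP, hvP⟩, hfP⟩
  obtain ⟨W, hxW, hW⟩ := Groth.Agent.S0944.result hP α ⟨x, hx⟩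
  obtain ⟨β, hβ⟩ := hW
  set fac := (Scheme.Modules.restrictFunctor W.ι).mapDerivedCategoryFactors with hfac
  have h1 : IsConn (a - 1) ((DCoh.restrictD W.ι).map α) := isConn_restrictD W.ι α (a - 1) hα
  have h2 : IsConn (a - 1) (DerivedCategory.Q.map β) := by
    refine h1.of_arrow_iso (Arrow.isoMk (fac.app P) (fac.app _) ?_)
    dsimp
    rw [hβ]
    simp only [Category.assoc, Iso.inv_hom_id_app]
    erw [Category.comp_id]
  obtain ⟨hT, hvT, ⟨e⟩⟩ := truncGE_model β a b aP bP
    (fun i hi => (Scheme.Modules.restrictFunctor W.ι).map_isZero (hvP i hi))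
    (fun i => isFinLocFree_restrict W.ι _ (hfP i))
    (fun i => isFlat_restrict W.ι _ (isFlat_restrict V.ι _ (hfl i)))
    (fun i hi => (Scheme.Modules.restrictFunctor W.ι).map_isZero
      ((Scheme.Modules.restrictFunctor V.ι).map_isZero (hv i hi))) h2
  exact ⟨W, hxW, _, hT, hvT, ⟨DerivedCategory.Q.mapIso ((NatIso.mapHomologicalComplex
    (Scheme.Modules.restrictFunctorComp W.ι V.ι) (ComplexShape.up ℤ)).app F₀) ≪≫ e⟩⟩

end Groth.Agent.Helper5.FPC
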