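import Mathlib
import Groth.Agent.Lib.Helper5.FinComplete

set_option linter.style.haveILetI false

namespace Groth.Agent.Helper5.RigPrime

open Polynomial

/-- A Noetherian domain in which some nonzero element lies in every nonzero prime
has Krull dimension at most one. -/
theorem krullDimLE_one_of_forall_mem {B : Type*} [CommRing B] [IsDomain B] [IsNoetherianRing B]
    (f : B) (hf0 : f ≠ 0) (hf : ∀ p : Ideal B, p.IsPrime → p ≠ ⊥ → f ∈ p) :
    Ring.KrullDimLE 1 B := by
  classical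
  apply Ring.KrullDimLE.mk₁'
  intro p hp0 hp
  by_contra hnm
  obtain ⟨m, hm, hpm⟩ := Ideal.exists_le_maximal p hp.ne_top
  have hlt : p < m := lt_of_le_of_ne hpm (fun h => hnm (h ▸ hm))
  haveI := hm.isPrime
  have hm0 : m ≠ ⊥ := ne_bot_of_gt hlt
  set S := (Ideal.span {f}).minimalPrimes with hSdef
  have hS : S.Finite := Ideal.finite_minimalPrimes_of_isNoetherianRing _ _
  have pit : ∀ (g : B) (P : Ideal B), P ∈ (Ideal.span {g}).minimalPrimes → ∀ (Q : Ideal B),
      Q.IsPrime → Q ≠ ⊥ → Q ≤ P → Q = P := by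
    intro g P hP Q hQ hQ0 hQP
    by_contra hne
    have hQP' : Q < P := lt_of_le_of_ne hQP hne
    haveI := hP.1.1
    have h1 : P.height ≤ 1 := Ideal.height_le_one_of_isPrincipal_of_mem_minimalPrimes _ P hP
    have h2 : (⊥ : Ideal B).height < Q.height :=
      Ideal.height_strict_mono_of_isPrime (bot_lt_iff_ne_bot.mpr hQ0)
    have h3 : Q.height < P.height := Ideal.height_strict_mono_of_isPrime hQP'
    have h4 : 1 ≤ Q.height := Order.one_le_iff_pos.mpr (lt_of_le_of_lt bot_le h2)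
    exact absurd (lt_of_lt_of_le h3 h1) (not_lt.mpr h4)
  have hmS : ∀ P ∈ S, ¬ m ≤ P := by
    intro P hP hmP
    have := pit f P hP p hp hp0 (hpm.trans hmP)
    exact absurd (this ▸ hmP) (not_le_of_gt hlt)
  have hav : ¬ ((m : Set B) ⊆ ⋃ P ∈ (hS.toFinset : Set (Ideal B)), (P : Set B)) := by
    rw [Ideal.subset_union_prime ⊥ ⊥ (fun P hP _ _ => by
      rw [Set.Finite.mem_toFinset] at hP; exact hP.1.1)]
    rintro ⟨P, hP, hmP⟩
    rw [Set.Finite.mem_toFinset] at hP
    exact hmS P hP hmP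
  obtain ⟨g, hgm, hgS⟩ : ∃ g ∈ m, ∀ P ∈ S, g ∉ P := by
    rw [Set.not_subset] at hav
    obtain ⟨g, hgm, hg⟩ := hav
    refine ⟨g, hgm, fun P hP hgP => hg ?_⟩
    simp only [Set.mem_iUnion]
    exact ⟨P, by simpa using hP, hgP⟩
  have hfm : f ∈ m := hf m hm.isPrime hm0
  obtain ⟨P0, hP0, -⟩ := Ideal.exists_minimalPrimes_le (I := Ideal.span {f}) (J := m)
    (by rw [Ideal.span_le, Set.singleton_subset_iff]; exact hfm)
  have hg0 : g ≠ 0 := fun h => hgS P0 hP0 (h ▸ P0.zero_mem)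
  obtain ⟨p', hp', hp'm⟩ := Ideal.exists_minimalPrimes_le (I := Ideal.span {g}) (J := m)
    (by rw [Ideal.span_le, Set.singleton_subset_iff]; exact hgm)
  have hgp' : g ∈ p' := hp'.1.2 (Ideal.mem_span_singleton_self g)
  have hp'0 : p' ≠ ⊥ := fun h => hg0 (by rw [h] at hgp'; exact hgp')
  haveI := hp'.1.1
  have hfp' : f ∈ p' := hf p' hp'.1.1 hp'0
  obtain ⟨P1, hP1, hP1p'⟩ := Ideal.exists_minimalPrimes_le (I := Ideal.span {f}) (J := p')
    (by rw [Ideal.span_le, Set.singleton_subset_iff]; exact hfp')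
  have hfP1 : f ∈ P1 := hP1.1.2 (Ideal.mem_span_singleton_self f)
  have hP10 : P1 ≠ ⊥ := fun h => hf0 (by rw [h] at hfP1; exact hfP1)
  have : P1 = p' := pit g p' hp' P1 hP1.1.1 hP10 hP1p'
  exact hgS P1 hP1 (this ▸ hgp')

/-- Idempotents lift along an ideal for which the ring is adically complete. -/
theorem exists_idempotent_lift {B : Type*} [CommRing B] (J : Ideal B) [IsAdicComplete J B]
    (a₀ : B) (h : a₀ * a₀ - a₀ ∈ J) : ∃ e : B, e * e = e ∧ e - a₀ ∈ J := by
  rcases subsingleton_or_nontrivial B with hB | hB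
  · exact ⟨0, Subsingleton.elim _ _, by rw [Subsingleton.elim (0 - a₀) 0]; exact J.zero_mem⟩
  have hmonic : (X ^ 2 - X : B[X]).Monic := by
    apply monic_X_pow_sub
    rw [degree_X]
    norm_num
  have h1 : (X ^ 2 - X : B[X]).eval a₀ ∈ J := by
    simp only [eval_sub, eval_pow, eval_X]
    rw [pow_two]; exact h
  have h2 : IsUnit (Ideal.Quotient.mk J ((X ^ 2 - X : B[X]).derivative.eval a₀)) := by
    apply IsUnit.of_mul_eq_one (Ideal.Quotient.mk J ((X ^ 2 - X : B[X]).derivative.eval a₀))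
    rw [← map_mul, ← map_one (Ideal.Quotient.mk J), Ideal.Quotient.eq]
    simp only [derivative_sub, derivative_X_pow, derivative_X, eval_sub, eval_mul, eval_pow,
      eval_X, eval_one, Nat.cast_ofNat, eval_C]
    have : (2 * a₀ ^ (2 - 1) - 1) * (2 * a₀ ^ (2 - 1) - 1) - 1 =
        4 * (a₀ * a₀ - a₀) := by
      norm_num; ring
    rw [this]
    exact Ideal.mul_mem_left _ _ h
  obtain ⟨e, he, hea⟩ := HenselianRing.is_henselian (I := J) _ hmonic a₀ h1 h2
  refine ⟨e, ?_, hea⟩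
  have : e ^ 2 - e = 0 := by simpa [IsRoot] using he
  rw [pow_two] at this
  exact sub_eq_zero.mp this

theorem isLocalRing_of_complete_domain {B : Type*} [CommRing B] [IsDomain B]
    [IsNoetherianRing B] (J : Ideal B) [IsAdicComplete J B]
    (hmax : ∀ p : Ideal B, p.IsPrime → J ≤ p → p.IsMaximal) : IsLocalRing B := by
  have hJjac : J ≤ Ideal.jacobson ⊥ := IsAdicComplete.le_jacobson_bot J
  have hJmax : ∀ m : Ideal B, m.IsMaximal → J ≤ m := fun m hm =>
    hJjac.trans (sInf_le ⟨bot_le, hm⟩)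
  have hJtop : J ≠ ⊤ := by
    obtain ⟨m, hm⟩ := Ideal.exists_maximal B
    intro h; exact hm.ne_top (top_le_iff.mp (h ▸ hJmax m hm))
  haveI : Nontrivial (B ⧸ J) := Ideal.Quotient.nontrivial_iff.mpr hJtop
  have hsurj : Function.Surjective (Ideal.Quotient.mk J) := Ideal.Quotient.mk_surjective
  haveI : Ring.KrullDimLE 0 (B ⧸ J) := by
    rw [Ring.krullDimLE_zero_iff]
    intro P hP
    have h1 : (P.comap (Ideal.Quotient.mk J)).IsMaximal := hmax _ (hP.comap _) (by
      intro x hx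
      rw [Ideal.mem_comap, Ideal.Quotient.eq_zero_iff_mem.mpr hx]; exact P.zero_mem)
    have := Ideal.map_eq_top_or_isMaximal_of_surjective (Ideal.Quotient.mk J) hsurj h1
    rw [Ideal.map_comap_of_surjective _ hsurj] at this
    exact this.resolve_left hP.ne_top
  haveI : IsArtinianRing (B ⧸ J) := isArtinianRing_iff_krullDimLE_zero.mpr ‹_›
  obtain ⟨P, hP⟩ := Ideal.exists_maximal (B ⧸ J)
  haveI := hP.isPrime
  obtain ⟨r, hrP, hr, hrq⟩ := IsArtinianRing.exists_not_mem_forall_mem_of_ne P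
  obtain ⟨a₀, rfl⟩ := hsurj r
  have h0 : a₀ * a₀ - a₀ ∈ J := by
    rw [← Ideal.Quotient.eq, map_mul]; exact hr
  obtain ⟨e, he, hea⟩ := exists_idempotent_lift J a₀ h0
  have hmk : Ideal.Quotient.mk J a₀ = Ideal.Quotient.mk J e := (Ideal.Quotient.eq.mpr hea).symm
  have he01 : e = 0 ∨ e = 1 := by
    have : e * (e - 1) = 0 := by rw [mul_sub, he, mul_one, sub_self]
    rcases mul_eq_zero.mp this with h | h
    · exact Or.inl h
    · exact Or.inr (sub_eq_zero.mp h)
  have hr1 : Ideal.Quotient.mk J a₀ = 1 := by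
    rcases he01 with h | h
    · exfalso; apply hrP; rw [hmk, h, map_zero]; exact P.zero_mem
    · rw [hmk, h, map_one]
  have huniq : ∀ Q : Ideal (B ⧸ J), Q.IsPrime → Q = P := by
    intro Q hQ
    by_contra hne
    have := hrq Q hQ hne
    rw [hr1] at this
    exact hQ.ne_top ((Ideal.eq_top_iff_one Q).mpr this)
  apply IsLocalRing.of_unique_max_ideal
  refine ⟨P.comap (Ideal.Quotient.mk J), Ideal.comap_isMaximal_of_surjective _ hsurj, ?_⟩
  intro m hm
  have hJm := hJmax m hm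
  have hker : RingHom.ker (Ideal.Quotient.mk J) ≤ m := by rw [Ideal.mk_ker]; exact hJm
  have h1 : (m.map (Ideal.Quotient.mk J)).IsPrime :=
    Ideal.map_isPrime_of_surjective hsurj hker
  rw [← huniq _ h1, Ideal.comap_map_of_surjective _ hsurj, ← RingHom.ker_eq_comap_bot,
    sup_eq_left.mpr hker]

open Ring in
theorem tfae_domain (B : Type*) [CommRing B] [IsDomain B] [IsNoetherianRing B] (J : Ideal B)
    [IsAdicComplete J B] :
    List.TFAE [J ≠ ⊥ ∧ ∀ p : Ideal B, p.IsPrime → p ≠ ⊥ → J ≤ p,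
      ringKrullDim B = 1 ∧ J ≠ ⊥,
      ringKrullDim B = 1 ∧ (∀ m : Ideal B, m.IsMaximal → m = J.radical) ∧
        IsAdicComplete J.radical B] := by
  have hJjac : J ≤ Ideal.jacobson ⊥ := IsAdicComplete.le_jacobson_bot J
  have hJmax : ∀ m : Ideal B, m.IsMaximal → J ≤ m := fun m hm =>
    hJjac.trans (sInf_le ⟨bot_le, hm⟩)
  tfae_have 1 → 2 := by
    rintro ⟨hJ0, hJp⟩
    refine ⟨?_, hJ0⟩
    obtain ⟨f, hfJ, hf0⟩ := Submodule.exists_mem_ne_zero_of_ne_bot hJ0
    have h1 : KrullDimLE 1 B :=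
      krullDimLE_one_of_forall_mem f hf0 (fun p hp hp0 => hJp p hp hp0 hfJ)
    refine eq_of_le_of_not_lt (krullDimLE_iff (n := 1).mp h1) fun h ↦ ?_
    have : KrullDimLE 0 B := krullDimLE_iff.mpr (ENat.WithBot.lt_add_one_iff.mp h)
    have hbot : (⊥ : Ideal B).IsMaximal := Ring.krullDimLE_zero_iff.mp this ⊥ Ideal.isPrime_bot
    exact hJ0 (le_bot_iff.mp (hJmax ⊥ hbot))
  tfae_have 2 → 1 := by
    rintro ⟨hdim, hJ0⟩
    refine ⟨hJ0, fun p hp hp0 => ?_⟩
    have h1 : KrullDimLE 1 B := krullDimLE_iff.mpr hdim.le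
    exact hJmax p (hp.isMaximal_of_ne_bot hp0)
  tfae_have 2 → 3 := by
    rintro ⟨hdim, hJ0⟩
    have h1 : KrullDimLE 1 B := krullDimLE_iff.mpr hdim.le
    have hmax : ∀ p : Ideal B, p.IsPrime → J ≤ p → p.IsMaximal := by
      intro p hp hJp
      refine hp.isMaximal_of_ne_bot (fun h => hJ0 ?_)
      rw [h] at hJp
      exact le_bot_iff.mp hJp
    haveI : IsLocalRing B := isLocalRing_of_complete_domain J hmax
    refine ⟨hdim, ?_, ?_⟩
    · intro m hm
      apply le_antisymm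
      · rw [Ideal.radical_eq_sInf]
        refine le_sInf ?_
        rintro p ⟨hJp, hp⟩
        rw [IsLocalRing.eq_maximalIdeal hm, IsLocalRing.eq_maximalIdeal (hmax p hp hJp)]
      · exact hm.isPrime.radical_le_iff.mpr (hJmax m hm)
    · obtain ⟨k, hk⟩ := Ideal.exists_radical_pow_le_of_fg J (IsNoetherian.noetherian _)
      exact FinComplete.isAdicComplete_of_pow_le J J.radical k Ideal.le_radical hk
  tfae_have 3 → 2 := by
    rintro ⟨hdim, hm, -⟩
    refine ⟨hdim, fun hJ0 => ?_⟩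
    obtain ⟨m, hmm⟩ := Ideal.exists_maximal B
    have h1 := hm m hmm
    rw [hJ0, Ideal.radical_bot_of_isReduced] at h1
    rw [h1] at hmm
    have := ringKrullDim_eq_zero_of_isField (Ring.isField_iff_maximal_bot.mpr hmm)
    rw [this] at hdim
    exact zero_ne_one hdim
  tfae_finish

end Groth.Agent.Helper5.RigPrime
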