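import Mathlib.AlgebraicGeometry.Noetherian
import Groth.Agent.Lib.Helper5.ProConsScheme

set_option autoImplicit false

universe u

namespace Groth.Agent.Helper5.PC

open Topology Set Set.Notation AlgebraicGeometry CategoryTheory

section Top

variable {Y : Type*} [TopologicalSpace Y]

/-- a set open for the constructible topology contains, around each of its points `y`, the trace
on the closure of `y` of an open neighbourhood of `y` -/
theorem exists_isOpen_inter_closure_subset {s : Set Y} (hs : IsOpen[constructibleTopology Y] s)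
    {y : Y} (hy : y ∈ s) : ∃ O : Set Y, IsOpen O ∧ y ∈ O ∧ O ∩ closure {y} ⊆ s := by
  classical
  have hbasis := @TopologicalSpace.isTopologicalBasis_of_subbasis Y (constructibleTopology Y)
    (constructibleTopologySubbasis Y) rfl
  obtain ⟨v, hv, hyv, hvs⟩ := @TopologicalSpace.IsTopologicalBasis.exists_subset_of_mem_open Y
    (constructibleTopology Y) _ hbasis y s hy hs
  obtain ⟨f, ⟨hfin, hfsub⟩, rfl⟩ := hv
  have key : ∀ t ∈ f, ∃ o : Set Y, IsOpen o ∧ y ∈ o ∧ o ∩ closure {y} ⊆ t := by
    intro t ht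
    have hyt : y ∈ t := hyv t ht
    rcases hfsub ht with h | h
    · exact ⟨t, h.1, hyt, inter_subset_left⟩
    · refine ⟨univ, isOpen_univ, mem_univ y, ?_⟩
      rw [univ_inter]
      exact h.1.closure_subset_iff.mpr (singleton_subset_iff.mpr hyt)
  choose! o ho hyo hsub using key
  refine ⟨⋂ t ∈ f, o t, hfin.isOpen_biInter ho, mem_iInter₂.mpr hyo, ?_⟩
  intro z hz
  apply hvs
  rw [mem_sInter]
  intro t ht
  exact hsub t ht ⟨mem_iInter₂.mp hz.1 t ht, hz.2⟩

theorem mem_closure_singleton_subtype {V : Set Y} (y z : ↥V) :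
    z ∈ closure ({y} : Set ↥V) ↔ (z : Y) ∈ closure ({(y : Y)} : Set Y) := by
  rw [closure_subtype, image_singleton]

/-- in a Noetherian space, locally closed sets are constructible -/
theorem isConstructible_inter_of_noetherianSpace [TopologicalSpace.NoetherianSpace Y] {O Z : Set Y} (hO : IsOpen O)
    (hZ : IsClosed Z) : IsConstructible (O ∩ Z) := by
  have hretro : ∀ U : Set Y, IsRetrocompact U := fun U K _ _ => TopologicalSpace.NoetherianSpace.isCompact _
  have h1 : IsConstructible O := (hretro O).isConstructible hO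
  have h2 : IsConstructible Zᶜ := (hretro Zᶜ).isConstructible hZ.isOpen_compl
  exact h1.inter h2.of_compl

end Top

section Scheme

variable {X : Scheme.{u}}

/-- EGA IV 1.9.10, necessity -/
theorem nhds_of_isIndConstructible {E : Set X} (hE : ProCons.IsIndConstructible E) {x : X}
    (hx : x ∈ E) : (Subtype.val ⁻¹' E : Set ↥(closure ({x} : Set X))) ∈
      nhds (⟨x, subset_closure rfl⟩ : ↥(closure ({x} : Set X))) := by
  obtain ⟨V, hV, hxV⟩ := exists_isAffineOpen_mem x
  have h1 := isOpen_cT_affine_of_isIndConstructible hV hE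
  obtain ⟨O, hO, hyO, hsub⟩ := exists_isOpen_inter_closure_subset h1
    (y := (⟨x, hxV⟩ : ↥(V : Set X))) hx
  have hO' : IsOpen (Subtype.val '' O : Set X) := V.isOpen.isOpenMap_subtype_val _ hO
  have hmem : (Subtype.val ⁻¹' (Subtype.val '' O) : Set ↥(closure ({x} : Set X))) ∈
      nhds (⟨x, subset_closure rfl⟩ : ↥(closure ({x} : Set X))) :=
    (hO'.preimage continuous_subtype_val).mem_nhds ⟨⟨x, hxV⟩, hyO, rfl⟩
  refine Filter.mem_of_superset hmem ?_
  rintro ⟨z, hzcl⟩ ⟨z', hz'O, hz'z⟩
  have hz'z : (z' : X) = z := hz'z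
  have : z' ∈ O ∩ closure ({⟨x, hxV⟩} : Set ↥(V : Set X)) := by
    refine ⟨hz'O, ?_⟩
    rw [mem_closure_singleton_subtype, hz'z]
    exact hzcl
  have h2 := hsub this
  change (z' : X) ∈ E at h2
  rw [hz'z] at h2
  exact h2

/-- EGA IV 1.9.10, sufficiency in the locally Noetherian case -/
theorem isIndConstructible_of_nhds [IsLocallyNoetherian X] {E : Set X}
    (h : ∀ x ∈ E, (Subtype.val ⁻¹' E : Set ↥(closure ({x} : Set X))) ∈
      nhds (⟨x, subset_closure rfl⟩ : ↥(closure ({x} : Set X)))) :
    ProCons.IsIndConstructible E := by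
  rw [isIndConstructible_iff]
  intro V hV
  have := compactSpace_of_isAffineOpen hV
  have : IsNoetherianRing Γ(X, V) := IsLocallyNoetherian.component_noetherian ⟨V, hV⟩
  have hN : TopologicalSpace.NoetherianSpace ↥(V : Set X) := noetherianSpace_of_isAffineOpen V hV
  rw [@isOpen_iff_forall_mem_open ↥(V : Set X) (constructibleTopology ↥(V : Set X))]
  intro y hy
  have hx : (y : X) ∈ E := hy
  have h1 := h y hx
  rw [mem_nhds_subtype] at h1
  obtain ⟨t, ht, hsub⟩ := h1
  rw [mem_nhds_iff] at ht
  obtain ⟨O, hOt, hO, hyO⟩ := ht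
  refine ⟨((V : Set X) ↓∩ O) ∩ closure {y}, ?_, ?_, ⟨hyO, subset_closure rfl⟩⟩
  · rintro z ⟨hzO, hzcl⟩
    rw [mem_closure_singleton_subtype] at hzcl
    exact hsub (a := ⟨z, hzcl⟩) (hOt hzO)
  · exact (isClopen_cT_of_isConstructible (isConstructible_inter_of_noetherianSpace
      (hO.preimage continuous_subtype_val) isClosed_closure)).1

end Scheme

end Groth.Agent.Helper5.PC
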