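import Groth.Agent.Lib.Helper5.ARSys9

set_option autoImplicit false
set_option linter.style.haveILetI false
set_option linter.unusedSectionVars false

universe w v u

open CategoryTheory CategoryTheory.Limits Opposite ARSys

namespace Groth.Agent.Helper5.ARS

variable {C : Type u} [Category.{v} C] [Abelian C] {A : Type w} [CommRing A] [Linear A C]

/-- Quotients modulo powers of `J` exist. -/
theorem exists_isQuot (J : Ideal A) (hJ : J.FG ∨ HasCoproducts.{w} C) (N : ℕ) (X : C) :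
    ∃ (Q : C) (p : X ⟶ Q), IsQuot (J ^ N) p := by
  obtain ⟨ι, a, hcop, ha⟩ := exists_gens (C := C) J hJ N
  haveI := hcop
  exact ⟨_, cokernel.π (dmap a X), by rw [← ha]; exact isQuot_cokernel_dmap a X⟩

theorem eq_zero_of_homKilledBy_pow_zero (J : Ideal A) {X Y : C} (φ : X ⟶ Y)
    (h : HomKilledBy (J ^ 0) φ) : φ = 0 := by
  have h1 : (1 : A) ∈ J ^ 0 := by rw [pow_zero, Ideal.one_eq_top]; trivial
  have := h 1 h1
  rwa [one_smul] at this

/-- The system of quotients `X_{n+r} / J^{n+1} X_{n+r}`. -/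
theorem exists_quotSys (J : Ideal A) (hJ : J.FG ∨ HasCoproducts.{w} C) (X : PS C) (r : ℕ) :
    ∃ (Y : PS C) (q : (shift C r).obj X ⟶ Y), ∀ n : ℕ, IsQuot (J ^ (n + 1)) (q.app (op n)) := by
  have hQ : ∀ n : ℕ, ∃ (Q : C) (p : X.obj (op (n + r)) ⟶ Q), IsQuot (J ^ (n + 1)) p :=
    fun n => exists_isQuot J hJ (n + 1) _
  choose Q p hp using hQ
  have hm : ∀ (n m : ℕ) (h : n ≤ m), ∃ t : Q m ⟶ Q n,
      p m ≫ t = tr X (Nat.add_le_add_right h r) ≫ p n := fun n m h =>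
    IsQuotLemmas.exists_desc (hp m) _
      (homKilledBy_of_target (KilledBy.mono (pow_succ_le_pow_succ J h) (hp n).1) _)
  choose t ht using hm
  let Y : PS C :=
    { obj := fun k => Q k.unop
      map := fun {k l} φ => t l.unop k.unop (leOfHom φ.unop)
      map_id := fun k => by
        apply IsQuotLemmas.hom_ext (hp k.unop)
        rw [ht, Category.comp_id]
        exact (congrArg (· ≫ p k.unop) (tr_refl X _)).trans (Category.id_comp _)
      map_comp := fun {k l m} φ ψ => by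
        apply IsQuotLemmas.hom_ext (hp k.unop)
        rw [ht, ← Category.assoc, ht, Category.assoc, ht, ← Category.assoc, tr_comp] }
  refine ⟨Y, { app := fun k => p k.unop
               naturality := fun k l φ => (ht l.unop k.unop (leOfHom φ.unop)).symm }, ?_⟩
  intro n
  exact hp n

theorem kernel_tr_comp_eq_zero_of_quot (J : Ideal A) (X Y : PS C) (r : ℕ)
    (q : (shift C r).obj X ⟶ Y) (hq : ∀ n : ℕ, IsQuot (J ^ (n + 1)) (q.app (op n)))
    (hY : IsAdic J Y) (M N k j : ℕ) (hMN : M ≤ N) (e : N = k + r) (hj : j + r ≤ M) (hjk : j ≤ k)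
    {Z : C} (φ : X.obj (op N) ⟶ Z) (hφ : HomKilledBy (J ^ (j + 1)) φ) :
    kernel.ι (tr X hMN) ≫ φ = 0 := by
  subst e
  let qn : ∀ n : ℕ, X.obj (op (n + r)) ⟶ Y.obj (op n) := fun n => q.app (op n)
  have hqn : ∀ n : ℕ, IsQuot (J ^ (n + 1)) (qn n) := hq
  have qnat : ∀ (n m : ℕ) (h : n ≤ m),
      tr X (Nat.add_le_add_right h r) ≫ qn n = qn m ≫ tr Y h := fun n m h =>
    q.naturality (homOfLE h).op
  haveI : Epi (qn k) := IsQuotLemmas.epi (hqn k)
  obtain ⟨φ', hφ'⟩ := IsQuotLemmas.exists_desc (hqn k) φ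
    (HomKilledBy.mono (pow_succ_le_pow_succ J hjk) hφ)
  have hφ'k : HomKilledBy (J ^ (j + 1)) φ' := homKilledBy_of_epi_comp (qn k) φ' (by rw [hφ']; exact hφ)
  obtain ⟨φ'', hφ''⟩ := IsQuotLemmas.exists_desc (hY.2 j k hjk) φ' hφ'k
  have e1 : tr X (Nat.add_le_add_right hjk r) = tr X hMN ≫ tr X hj := (tr_comp _ _ _).symm
  rw [← hφ', ← hφ'', ← Category.assoc (qn k), ← qnat j k hjk, e1]
  simp only [Category.assoc]
  rw [← Category.assoc, kernel.condition, zero_comp]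

theorem kernel_tr_comp_eq_zero_of_fker_aux (J : Ideal A) (X : PS C) (hX : IsStrict X) (r : ℕ)
    (H : ∀ n : ℕ, SubLEIdeal (J ^ (n - r)) (Fker X n)) (n' : ℕ) :
    ∀ (d : ℕ) {Z : C} (ψ : X.obj (op (n' + d)) ⟶ Z), HomKilledBy (J ^ (n' + 1 - r)) ψ →
      kernel.ι (tr X (Nat.le_add_right n' d)) ≫ ψ = 0 := by
  intro d
  induction d with
  | zero =>
    intro Z ψ _
    have h1 : tr X (Nat.le_add_right n' 0) = 𝟙 _ := tr_refl X n'
    haveI : Mono (tr X (Nat.le_add_right n' 0)) := by rw [h1]; infer_instance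
    rw [kernel.ι_of_mono, zero_comp]
  | succ d ih =>
    intro Z ψ hψ
    haveI := hX (n' + d) (n' + d + 1) (Nat.le_succ _)
    have hψ' : HomKilledBy (J ^ (n' + d + 1 - r)) ψ :=
      HomKilledBy.mono (Ideal.pow_le_pow_right (by omega)) hψ
    have h0 := H (n' + d + 1) Z ψ hψ'
    have h1 : kernel.ι (tr X (Nat.le_succ (n' + d))) ≫ ψ = 0 := by
      have h0' : (kernelSubobject (tr X (Nat.le_succ (n' + d)))).arrow ≫ ψ = 0 := h0
      rw [← kernelSubobject_arrow, Category.assoc] at h0'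
      exact (cancel_epi _).1 (h0'.trans comp_zero.symm)
    have hψ₁ := Abelian.comp_epiDesc (tr X (Nat.le_succ (n' + d))) ψ h1
    have hk₁ : HomKilledBy (J ^ (n' + 1 - r)) (Abelian.epiDesc (tr X (Nat.le_succ (n' + d))) ψ h1) :=
      homKilledBy_of_epi_comp (tr X (Nat.le_succ (n' + d))) _ (by rw [hψ₁]; exact hψ)
    have ih' := ih _ hk₁
    have e2 : (kernel.ι (tr X (Nat.le_add_right n' (d + 1))) ≫ tr X (Nat.le_succ (n' + d))) ≫
        tr X (Nat.le_add_right n' d) = 0 := by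
      rw [Category.assoc, tr_comp]
      exact kernel.condition _
    rw [← hψ₁, ← Category.assoc, ← kernel.lift_ι _ _ e2, Category.assoc, ih', comp_zero]

theorem kernel_tr_comp_eq_zero_of_fker (J : Ideal A) (X : PS C) (hX : IsStrict X) (r : ℕ)
    (H : ∀ n : ℕ, SubLEIdeal (J ^ (n - r)) (Fker X n)) {n' N : ℕ} (h : n' ≤ N) {Z : C}
    (ψ : X.obj (op N) ⟶ Z) (hψ : HomKilledBy (J ^ (n' + 1 - r)) ψ) :
    kernel.ι (tr X h) ≫ ψ = 0 := by
  obtain ⟨d, rfl⟩ := Nat.exists_eq_add_of_le h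
  exact kernel_tr_comp_eq_zero_of_fker_aux J X hX r H n' d ψ hψ

theorem isARAdic_of_fker (J : Ideal A) (hJ : J.FG ∨ HasCoproducts.{w} C) (X : PS C)
    (hX : IsStrict X) (kX : TermKilled J X) (r : ℕ)
    (H : ∀ n : ℕ, SubLEIdeal (J ^ (n - r)) (Fker X n)) : IsARAdic J X := by
  obtain ⟨Y, q, hq⟩ := exists_quotSys J hJ X r
  refine isARAdic_of_quot J X kX r Y q hq ⟨fun n => (hq n).1, fun n m h => ?_⟩
  let qn : ∀ n : ℕ, X.obj (op (n + r)) ⟶ Y.obj (op n) := fun n => q.app (op n)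
  have hqn : ∀ n : ℕ, IsQuot (J ^ (n + 1)) (qn n) := hq
  have qnat : ∀ (n m : ℕ) (h : n ≤ m),
      tr X (Nat.add_le_add_right h r) ≫ qn n = qn m ≫ tr Y h := fun n m h =>
    q.naturality (homOfLE h).op
  haveI : ∀ n, Epi (qn n) := fun n => IsQuotLemmas.epi (hqn n)
  haveI := hX (n + r) (m + r) (Nat.add_le_add_right h r)
  haveI : Epi (tr Y h) := by
    haveI : Epi (qn m ≫ tr Y h) := by rw [← qnat n m h]; infer_instance
    exact epi_of_epi (qn m) _
  refine ⟨(hq n).1, fun Z φ hφ => ?_⟩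
  have hk : kernel.ι (tr X (Nat.add_le_add_right h r)) ≫ (qn m ≫ φ) = 0 :=
    kernel_tr_comp_eq_zero_of_fker J X hX r H _ _
      (HomKilledBy.mono (Ideal.pow_le_pow_right (by omega)) (HomKilledBy.comp_left hφ _))
  have h1 := Abelian.comp_epiDesc (tr X (Nat.add_le_add_right h r)) (qn m ≫ φ) hk
  obtain ⟨φ'', hφ''⟩ := IsQuotLemmas.exists_desc (hqn n)
    (Abelian.epiDesc (tr X (Nat.add_le_add_right h r)) (qn m ≫ φ) hk)
    (homKilledBy_of_epi_comp (tr X (Nat.add_le_add_right h r)) _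
      (by rw [h1]; exact HomKilledBy.comp_left hφ _))
  have hfac : tr Y h ≫ φ'' = φ := by
    rw [← cancel_epi (qn m), ← Category.assoc, ← qnat n m h, Category.assoc, hφ'', h1]
  refine ⟨φ'', hfac, fun ψ' hψ' => ?_⟩
  have hψ'' : tr Y h ≫ ψ' = φ := hψ'
  rw [← cancel_epi (tr Y h), hψ'', hfac]

theorem fker_of_isARAdic (J : Ideal A) (hJ : J.FG ∨ HasCoproducts.{w} C) (X : PS C)
    (hX : IsStrict X) (h : IsARAdic J X) :
    ∃ r : ℕ, 0 < r ∧ ∀ n : ℕ, SubLEIdeal (J ^ (n - r)) (Fker X n) := by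
  obtain ⟨r, Y, q, hq, hY⟩ := exists_quot_of_isARAdic J hJ X hX h
  refine ⟨r + 1, Nat.succ_pos r, fun n Z φ hφ => ?_⟩
  by_cases hn : n ≤ r + 1
  · have : n - (r + 1) = 0 := by omega
    rw [this] at hφ
    rw [eq_zero_of_homKilledBy_pow_zero J φ hφ, comp_zero]
  · obtain ⟨m, rfl⟩ : ∃ m, n = m + 1 := ⟨n - 1, by omega⟩
    show (kernelSubobject (tr X (Nat.le_succ m))).arrow ≫ φ = 0
    rw [← kernelSubobject_arrow, Category.assoc]
    have hexp : m + 1 - (r + 1) = (m - r - 1) + 1 := by omega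
    rw [hexp] at hφ
    rw [kernel_tr_comp_eq_zero_of_quot J X Y r q hq hY m (m + 1) (m + 1 - r) (m - r - 1)
      (Nat.le_succ m) (by omega) (by omega) (by omega) φ hφ, comp_zero]

end Groth.Agent.Helper5.ARS
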