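import Groth.Agent.Lib.Helper5.ARSys10

set_option autoImplicit false
set_option linter.style.haveILetI false
set_option linter.unusedSectionVars false

universe w v u

open CategoryTheory CategoryTheory.Limits Opposite ARSys

namespace Groth.Agent.Helper5.ARS

variable {C : Type u} [Category.{v} C] [Abelian C]

/-- The uniform Mittag-Leffler condition is inherited along isomorphisms up to translation
(source from target). -/
theorem isMLAR_of_isARIso {N X : PS C} (u : N ⟶ X) (hu : IsARIso u) (hX : IsMLAR X) :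
    IsMLAR N := by
  rw [isARIso_iff] at hu
  obtain ⟨⟨a, ha⟩, ⟨b, hb⟩⟩ := hu
  obtain ⟨c, hc⟩ := (isMLAR_iff' X).1 hX
  rw [isMLAR_iff']
  refine ⟨a + b + c, fun n k h => le_antisymm (imageSubobject_tr_anti _ _ h) ?_⟩
  have h1 : n + a + b ≤ n + (a + b + c) := by omega
  have h2 : n + a + b + c ≤ k + b := by omega
  have h3 : n + a + b ≤ k + b := by omega
  have h4 : n + a ≤ n + (a + b + c) := by omega
  have h5 : n + a ≤ k := by omega
  -- step 1
  have hx : imageSubobject (u.app (op (n + (a + b + c))) ≫ tr X h1) ≤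
      imageSubobject (tr X h3) := by
    have e : tr X h1 = tr X (by omega : n + a + b + c ≤ n + (a + b + c)) ≫
        tr X (Nat.le_add_right (n + a + b) c) := (tr_comp _ _ _).symm
    rw [e, ← Category.assoc]
    exact (imageSubobject_comp_le _ _).trans (hc (n + a + b) (k + b) h2).ge
  obtain ⟨T₁, π₁, hπ₁, xt, fac₁⟩ := exists_fac_of_imageSubobject_le hx
  -- step 2
  obtain ⟨T₂, π₂, hπ₂, yt, fac₂⟩ := hb.exists_fac (le_refl (k + b)) xt
  -- step 3
  have hd : (π₂ ≫ π₁ ≫ tr N h4 - yt ≫ tr N h5) ≫ u.app (op (n + a)) = 0 := by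
    rw [Preadditive.sub_comp, sub_eq_zero]
    simp only [Category.assoc]
    rw [tr_naturality u h4, tr_naturality u h5, ← Category.assoc yt, ← fac₂]
    have e1 : tr X h4 = tr X h1 ≫ tr X (Nat.le_add_right (n + a) b) := (tr_comp _ _ _).symm
    rw [e1, ← Category.assoc (u.app _), ← Category.assoc π₁, fac₁]
    simp only [Category.assoc, tr_comp]
  have h0 := ha n (n + a) le_rfl T₂ _ hd
  rw [Preadditive.sub_comp, sub_eq_zero] at h0
  haveI : Epi (π₂ ≫ π₁) := epi_comp' hπ₂ hπ₁
  refine imageSubobject_le_of_fac (π₂ ≫ π₁) yt ?_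
  simp only [Category.assoc, tr_comp] at h0
  rw [Category.assoc]
  exact h0

theorem isMLAR_iff_of_isARIso {N X : PS C} (u : N ⟶ X) (hu : IsARIso u) :
    IsMLAR N ↔ IsMLAR X := by
  refine ⟨fun hN => ?_, isMLAR_of_isARIso u hu⟩
  obtain ⟨r, hr⟩ := (isMLAR_iff' N).1 hN
  have h1 := isARIso_comp (isARIso_imgSysι N r) hu
  exact isMLAR_of_strict _ (isStrict_imgSys N r hr) h1.2

section

variable {A : Type w} [CommRing A] [Linear A C]

/-- In a short exact sequence, if the sub is uniformly Mittag-Leffler and the middle term is adic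
up to translation, then so is the quotient. -/
theorem isARAdic_X₃ (J : Ideal A) (S : ShortComplex (PS C)) (hS : S.ShortExact)
    (k₃ : TermKilled J S.X₃) (h₁ : IsMLAR S.X₁) (h₂ : IsARAdic J S.X₂) : IsARAdic J S.X₃ := by
  obtain ⟨_, Y, u, hY, hu⟩ := h₂
  rw [isARIso_iff] at hu
  obtain ⟨⟨a, ha⟩, ⟨b, hb⟩⟩ := hu
  haveI := hS.mono_f
  haveI := hS.epi_g
  let w : Y ⟶ S.X₃ := u ≫ S.g
  let N : PS C := kernel w
  let ιN : N ⟶ Y := kernel.ι w
  have hιN : ιN ≫ w = 0 := kernel.condition w
  have hlift : (ιN ≫ u) ≫ S.g = 0 := by rw [Category.assoc]; exact hιN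
  let u' : N ⟶ S.X₁ := hS.exact.lift (ιN ≫ u) hlift
  have hu' : u' ≫ S.f = ιN ≫ u := hS.exact.lift_f _ _
  have hu'app : ∀ n : ℕ, u'.app (op n) ≫ S.f.app (op n) = ιN.app (op n) ≫ u.app (op n) :=
    fun n => congrArg (fun t => t.app (op n)) hu'
  haveI : ∀ n : ℕ, Mono (ιN.app (op n)) := fun n => mono_kernel_ι_app w (op n)
  have hwapp : ∀ n : ℕ, w.app (op n) = u.app (op n) ≫ S.g.app (op n) := fun n => rfl
  -- `u'` is an isomorphism up to translation
  have hu'iso : IsARIso u' := by
    rw [isARIso_iff]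
    constructor
    · refine ⟨a, fun n k h T t ht => ?_⟩
      have h1 := ha n k h T (t ≫ ιN.app (op k)) (by
        rw [Category.assoc, ← hu'app, ← Category.assoc, ht, zero_comp])
      rw [Category.assoc, ← tr_naturality ιN, ← Category.assoc] at h1
      exact (cancel_mono (ιN.app (op n))).1 (h1.trans zero_comp.symm)
    · refine ⟨b, cokerNull_of_exists_fac fun n k hk => ?_⟩
      haveI := ses_mono_app S hS n
      obtain ⟨T', π, hπ, y, fac⟩ := hb.exists_fac hk (S.f.app (op k))
      have hy : y ≫ w.app (op n) = 0 := by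
        rw [hwapp, ← Category.assoc, ← fac]
        simp only [Category.assoc]
        rw [tr_naturality S.g, ← Category.assoc (S.f.app _), ses_zero_app S hS, zero_comp,
          comp_zero]
      obtain ⟨yN, hyN⟩ := exists_lift_kernel_app w y hy
      refine ⟨T', π, hπ, yN, ?_⟩
      rw [← cancel_mono (S.f.app (op n))]
      simp only [Category.assoc]
      rw [hu'app, ← Category.assoc yN, hyN, ← fac, tr_naturality S.f]
  have hN : IsMLAR N := isMLAR_of_isARIso u' hu'iso h₁
  obtain ⟨R, hR⟩ := (isMLAR_iff' N).1 hN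
  -- the strict subsystem of universal images
  let j : imgSys N R ⟶ Y := imgSysι N R ≫ ιN
  haveI : Mono j := mono_comp _ _
  let S' : ShortComplex (PS C) := ShortComplex.mk j (cokernel.π j) (cokernel.condition j)
  have hS' : S'.ShortExact := ShortComplex.ShortExact.mk (ShortComplex.exact_cokernel j)
  have hY'' : IsAdic J (cokernel j) := isAdic_X₃ J S' hS' (isStrict_imgSys N R hR) hY
  have hjw : j ≫ w = 0 := by
    show (imgSysι N R ≫ ιN) ≫ w = 0
    rw [Category.assoc, hιN, comp_zero]
  let w'' : cokernel j ⟶ S.X₃ := cokernel.desc j w hjw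
  have hw'' : cokernel.π j ≫ w'' = w := cokernel.π_desc j w hjw
  have hw''app : ∀ n : ℕ, (cokernel.π j).app (op n) ≫ w''.app (op n) = w.app (op n) :=
    fun n => congrArg (fun t => t.app (op n)) hw''
  haveI : ∀ n : ℕ, Epi ((cokernel.π j).app (op n)) := fun n => epi_cokernel_π_app j (op n)
  obtain ⟨R', hR'⟩ := (isARNull_cokernel_iff' (imgSysι N R)).1 (isARNull_cokernel_imgSysι N R)
  refine ⟨k₃, cokernel j, w'', hY'', ?_⟩
  rw [isARIso_iff]
  constructor
  · refine ⟨R', fun n k h T t ht => ?_⟩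
    obtain ⟨T₁, π₁, hπ₁, y, fac₁⟩ := surjective_up_to_refinements_of_epi
      ((cokernel.π j).app (op k)) t
    have hy : y ≫ w.app (op k) = 0 := by
      rw [← hw''app, ← Category.assoc, ← fac₁, Category.assoc, ht, comp_zero]
    obtain ⟨yN, hyN⟩ := exists_lift_kernel_app w y hy
    obtain ⟨T₂, π₂, hπ₂, x', fac₂⟩ := hR'.exists_fac h yN
    rw [← cancel_epi π₁, ← cancel_epi π₂, comp_zero, comp_zero]
    calc π₂ ≫ π₁ ≫ t ≫ tr (cokernel j) (le_of_add_le_left h)
        = π₂ ≫ (π₁ ≫ t) ≫ tr (cokernel j) (le_of_add_le_left h) := by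
          simp only [Category.assoc]
      _ = π₂ ≫ y ≫ tr Y (le_of_add_le_left h) ≫ (cokernel.π j).app (op n) := by
          rw [fac₁]; simp only [Category.assoc]; rw [tr_naturality (cokernel.π j)]
      _ = (π₂ ≫ yN ≫ tr N (le_of_add_le_left h)) ≫ ιN.app (op n) ≫
            (cokernel.π j).app (op n) := by
          have e := tr_naturality ιN (le_of_add_le_left h)
          rw [← hyN]; simp only [Category.assoc]
          rw [← Category.assoc (tr N _), e]; simp only [Category.assoc]; rfl
      _ = x' ≫ (j ≫ cokernel.π j).app (op n) := by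
          rw [fac₂]; simp only [Category.assoc, NatTrans.comp_app, j]
      _ = 0 := by rw [cokernel.condition]; exact comp_zero
  · refine ⟨b, fun n k h => ?_⟩
    haveI := ses_epi_app S hS k
    calc imageSubobject (tr S.X₃ (le_of_add_le_left h))
        = imageSubobject (S.g.app (op k) ≫ tr S.X₃ (le_of_add_le_left h)) :=
          (imageSubobject_epi_comp _ _).symm
      _ = imageSubobject (tr S.X₂ (le_of_add_le_left h) ≫ S.g.app (op n)) := by
          rw [tr_naturality S.g]
      _ ≤ imageSubobject (u.app (op n) ≫ S.g.app (op n)) :=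
          imageSubobject_comp_mono (hb n k h) _
      _ = imageSubobject ((cokernel.π j).app (op n) ≫ w''.app (op n)) := by
          rw [hw''app]; rfl
      _ ≤ imageSubobject (w''.app (op n)) := imageSubobject_comp_le _ _

end

end Groth.Agent.Helper5.ARS
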