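import Groth.Agent.Lib.Helper5.ARSys11

set_option autoImplicit false
set_option linter.style.haveILetI false
set_option linter.unusedSectionVars false

universe w v u

open CategoryTheory CategoryTheory.Limits Opposite ARSys

namespace Groth.Agent.Helper5.ARS

variable {C : Type u} [Category.{v} C] [Abelian C] {A : Type w} [CommRing A] [Linear A C]

omit [Abelian C] in
theorem tr_naturality_assoc {X Y : PS C} (f : X ⟶ Y) {n m : ℕ} (h : n ≤ m) {Z : C}
    (k : Y.obj (op n) ⟶ Z) : tr X h ≫ f.app (op n) ≫ k = f.app (op m) ≫ tr Y h ≫ k := by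
  rw [← Category.assoc, tr_naturality f h, Category.assoc]

/-- In a short exact sequence, if the middle term is uniformly Mittag-Leffler (and termwise
killed) and the quotient is adic up to translation, then the sub is uniformly Mittag-Leffler. -/
theorem isMLAR_X₁ (J : Ideal A) (hJ : J.FG ∨ HasCoproducts.{w} C) (S : ShortComplex (PS C))
    (hS : S.ShortExact) (k₂ : TermKilled J S.X₂) (h₂ : IsMLAR S.X₂) (h₃ : IsARAdic J S.X₃) :
    IsMLAR S.X₁ := by
  obtain ⟨_, Y, u, hY, hu⟩ := h₃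
  rw [isARIso_iff] at hu
  obtain ⟨⟨a, ha⟩, ⟨b, hb⟩⟩ := hu
  obtain ⟨c, hc⟩ := (isMLAR_iff' S.X₂).1 h₂
  rw [isMLAR_iff']
  refine ⟨a + c, fun n k h => le_antisymm (imageSubobject_tr_anti _ _ h) ?_⟩
  obtain ⟨ι, g, hcop, hg⟩ := exists_gens (C := C) J hJ (n + 1)
  haveI := hcop
  have hm : n + a ≤ n + (a + c) := by omega
  have hmk : n + a ≤ k := by omega
  have hmkb : n + a ≤ k + b := by omega
  have hkb : k ≤ k + b := Nat.le_add_right k b
  have hnk : n ≤ k := by omega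
  have hna : n ≤ n + a := Nat.le_add_right n a
  haveI := ses_mono_app S hS n
  haveI := ses_epi_app S hS k
  have hkill : HomKilledBy (Ideal.span (Set.range g)) (tr S.X₂ hnk) := by
    rw [hg]; exact homKilledBy_of_target (k₂ n) _
  have hqY : IsQuot (Ideal.span (Set.range g)) (tr Y hnk) := by rw [hg]; exact hY.2 n k hnk
  -- step 1
  have hx : imageSubobject (S.f.app (op (n + (a + c))) ≫ tr S.X₂ hm) ≤
      imageSubobject (tr S.X₂ hmkb) := by
    have e : tr S.X₂ hm = tr S.X₂ (by omega : n + a + c ≤ n + (a + c)) ≫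
        tr S.X₂ (Nat.le_add_right (n + a) c) := (tr_comp _ _ _).symm
    rw [e, ← Category.assoc]
    exact (imageSubobject_comp_le _ _).trans (hc (n + a) (k + b) (by omega)).ge
  obtain ⟨T₁, π₁, hπ₁, x₂, fac₁⟩ := exists_fac_of_imageSubobject_le hx
  -- step 2
  have hz : (x₂ ≫ S.g.app (op (k + b))) ≫ tr S.X₃ hmkb = 0 := by
    rw [Category.assoc, ← tr_naturality S.g, ← Category.assoc, ← fac₁]
    simp only [Category.assoc]
    rw [← tr_naturality_assoc S.f hm, ses_zero_app S hS, comp_zero, comp_zero]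
  -- step 3
  obtain ⟨T₂, π₂, hπ₂, y, fac₂⟩ := hb.exists_fac (le_refl (k + b)) (x₂ ≫ S.g.app (op (k + b)))
  -- step 4
  have hy : y ≫ tr Y hnk = 0 := by
    have h1 : (y ≫ tr Y hmk) ≫ u.app (op (n + a)) = 0 := by
      rw [Category.assoc, tr_naturality u, ← Category.assoc, ← fac₂]
      simp only [Category.assoc, tr_comp]
      rw [← Category.assoc x₂, hz, comp_zero]
    have h2 := ha n (n + a) le_rfl T₂ _ h1
    rw [Category.assoc, tr_comp] at h2
    exact h2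
  -- step 5
  obtain ⟨T₃, π₃, hπ₃, s, fac₃⟩ := exists_fac_dmap_of_isQuot g hqY y hy
  -- step 6
  obtain ⟨T₄, π₄, hπ₄, s₂, fac₄⟩ := surjective_up_to_refinements_of_epi
    (Limits.Sigma.map (fun _ : ι => S.g.app (op k)))
    (s ≫ Limits.Sigma.map (fun _ : ι => u.app (op k)))
  have hx'' : (s₂ ≫ dmap g (S.X₂.obj (op k))) ≫ S.g.app (op k) =
      (π₄ ≫ π₃ ≫ π₂ ≫ x₂ ≫ tr S.X₂ hkb) ≫ S.g.app (op k) := by
    simp only [Category.assoc]
    rw [← dmap_naturality, ← Category.assoc s₂, ← fac₄]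
    simp only [Category.assoc]
    rw [dmap_naturality, ← Category.assoc s, ← fac₃]
    simp only [Category.assoc]
    rw [← fac₂, tr_naturality S.g]
    simp only [Category.assoc]
  -- step 7
  have hd : (π₄ ≫ π₃ ≫ π₂ ≫ x₂ ≫ tr S.X₂ hkb - s₂ ≫ dmap g (S.X₂.obj (op k))) ≫
      S.g.app (op k) = 0 := by
    rw [Preadditive.sub_comp, hx'', sub_self]
  obtain ⟨T₅, π₅, hπ₅, x₁', fac₅⟩ := ses_exact_app S hS k _ hd
  -- step 8
  haveI : Epi (π₅ ≫ π₄ ≫ π₃ ≫ π₂ ≫ π₁) :=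
    epi_comp' hπ₅ (epi_comp' hπ₄ (epi_comp' hπ₃ (epi_comp' hπ₂ hπ₁)))
  refine imageSubobject_le_of_fac (π₅ ≫ π₄ ≫ π₃ ≫ π₂ ≫ π₁) x₁' ?_
  rw [← cancel_mono (S.f.app (op n))]
  have e1 : tr S.X₂ hkb ≫ tr S.X₂ hnk = tr S.X₂ hmkb ≫ tr S.X₂ hna := by
    rw [tr_comp, tr_comp]
  symm
  calc (x₁' ≫ tr S.X₁ hnk) ≫ S.f.app (op n)
      = (x₁' ≫ S.f.app (op k)) ≫ tr S.X₂ hnk := by
        simp only [Category.assoc]; rw [tr_naturality S.f]
    _ = π₅ ≫ π₄ ≫ π₃ ≫ π₂ ≫ (x₂ ≫ tr S.X₂ hmkb) ≫ tr S.X₂ hna := by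
        rw [← fac₅, Preadditive.comp_sub, Preadditive.sub_comp]
        simp only [Category.assoc]
        rw [dmap_comp_eq_zero g _ hkill, comp_zero, comp_zero, sub_zero, e1]
    _ = π₅ ≫ π₄ ≫ π₃ ≫ π₂ ≫ π₁ ≫ S.f.app (op (n + (a + c))) ≫ tr S.X₂ (Nat.le_add_right n (a + c)) := by
        rw [← fac₁]; simp only [Category.assoc, tr_comp]
    _ = ((π₅ ≫ π₄ ≫ π₃ ≫ π₂ ≫ π₁) ≫ tr S.X₁ (Nat.le_add_right n (a + c))) ≫ S.f.app (op n) := by
        simp only [Category.assoc]; rw [tr_naturality S.f]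

end Groth.Agent.Helper5.ARS
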