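import Groth.Agent.Lib.Helper5.ARSys1

set_option autoImplicit false
set_option linter.style.haveILetI false
set_option linter.unusedSectionVars false

universe w v u

open CategoryTheory CategoryTheory.Limits Opposite ARSys

namespace Groth.Agent.Helper5.ARS

variable {C : Type u} [Category.{v} C] [Abelian C]

theorem imageSubobject_tr_anti (X : PS C) {n m k : ℕ} (h₁ : n ≤ m) (h₂ : m ≤ k) :
    imageSubobject (tr X (h₁.trans h₂)) ≤ imageSubobject (tr X h₁) := by
  rw [← tr_comp X h₁ h₂]
  exact imageSubobject_comp_le _ _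

/-- If the cokernel of `u : Y ⟶ X` is killed by translation by `r`, the images of the
transition maps of length `≥ r` are contained in the image of `u`. -/
theorem imageSubobject_tr_le_of_cokernel_null {X Y : PS C} (u : Y ⟶ X) (r : ℕ)
    (hr : ∀ n : ℕ, tr X (Nat.le_add_right n r) ≫ cokernel.π (u.app (op n)) = 0)
    (s : ℕ) (hs : r ≤ s) (n : ℕ) :
    imageSubobject (tr X (Nat.le_add_right n s)) ≤ imageSubobject (u.app (op n)) :=
  le_trans (imageSubobject_tr_anti X (Nat.le_add_right n r) (Nat.add_le_add_left hs n))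
    (imageSubobject_le_of_comp_cokernel_π _ _ (hr n))

/-- If `Y` is strict, the image of `u : Y ⟶ X` is contained in the image of every transition
map. -/
theorem imageSubobject_app_le_of_isStrict {X Y : PS C} (u : Y ⟶ X) (hY : IsStrict Y)
    {n m : ℕ} (h : n ≤ m) :
    imageSubobject (u.app (op n)) ≤ imageSubobject (tr X h) := by
  haveI := hY n m h
  rw [← imageSubobject_epi_comp (tr Y h) (u.app (op n)), tr_naturality u h]
  exact imageSubobject_comp_le _ _

theorem universal_images_of_strict {X Y : PS C} (u : Y ⟶ X) (hY : IsStrict Y)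
    (hu : IsARNull (cokernel u)) :
    ∃ r : ℕ, ∀ s : ℕ, r ≤ s → ∀ n : ℕ,
      imageSubobject (tr X (Nat.le_add_right n s)) = imageSubobject (u.app (op n)) := by
  obtain ⟨r, hr⟩ := (isARNull_cokernel_iff u).1 hu
  exact ⟨r, fun s hs n => le_antisymm (imageSubobject_tr_le_of_cokernel_null u r hr s hs n)
    (imageSubobject_app_le_of_isStrict u hY _)⟩

theorem isMLAR_iff (X : PS C) :
    IsMLAR X ↔ ∃ r : ℕ, ∀ s : ℕ, r ≤ s → ∀ n : ℕ,
      imageSubobject (tr X (Nat.le_add_right n s)) =
        imageSubobject (tr X (Nat.le_add_right n r)) := Iff.rfl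

theorem isML_iff (X : PS C) :
    IsML X ↔ ∀ n : ℕ, ∃ r : ℕ, ∀ s : ℕ, r ≤ s →
      imageSubobject (tr X (Nat.le_add_right n s)) =
        imageSubobject (tr X (Nat.le_add_right n r)) := Iff.rfl

theorem isMLAR_of_strict {X Y : PS C} (u : Y ⟶ X) (hY : IsStrict Y)
    (hu : IsARNull (cokernel u)) : IsMLAR X := by
  obtain ⟨r, hr⟩ := universal_images_of_strict u hY hu
  rw [isMLAR_iff]
  exact ⟨r, fun s hs n => (hr s hs n).trans (hr r le_rfl n).symm⟩

theorem isMLAR_iff' (X : PS C) :
    IsMLAR X ↔ ∃ r : ℕ, ∀ (n k : ℕ) (h : n + r ≤ k),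
      imageSubobject (tr X ((Nat.le_add_right n r).trans h)) =
        imageSubobject (tr X (Nat.le_add_right n r)) := by
  rw [isMLAR_iff]
  constructor
  · rintro ⟨r, hr⟩
    refine ⟨r, fun n k h => ?_⟩
    obtain ⟨s, rfl⟩ := Nat.exists_eq_add_of_le ((Nat.le_add_right n r).trans h)
    exact hr s (by omega) n
  · rintro ⟨r, hr⟩
    exact ⟨r, fun s hs n => hr n (n + s) (by omega)⟩

/-- The canonical morphism `X[r] ⟶ X`. -/
def shiftNat (X : PS C) (r : ℕ) : (shift C r).obj X ⟶ X where
  app n := tr X (Nat.le_add_right n.unop r)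
  naturality n m f := by
    show X.map _ ≫ X.map _ = X.map _ ≫ X.map _
    rw [← X.map_comp, ← X.map_comp]
    rfl

@[simp]
theorem shiftNat_app (X : PS C) (r n : ℕ) :
    (shiftNat X r).app (op n) = tr X (Nat.le_add_right n r) := rfl

/-- The system of images of the transition maps of length `r`. -/
noncomputable def imgSys (X : PS C) (r : ℕ) : PS C := Abelian.image (shiftNat X r)

noncomputable def imgSysι (X : PS C) (r : ℕ) : imgSys X r ⟶ X := Abelian.image.ι (shiftNat X r)

noncomputable def imgSysπ (X : PS C) (r : ℕ) : (shift C r).obj X ⟶ imgSys X r :=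
  Abelian.factorThruImage (shiftNat X r)

instance (X : PS C) (r : ℕ) : Mono (imgSysι X r) :=
  inferInstanceAs (Mono (Abelian.image.ι (shiftNat X r)))

instance (X : PS C) (r : ℕ) : Epi (imgSysπ X r) :=
  inferInstanceAs (Epi (Abelian.factorThruImage (shiftNat X r)))

/-- Components of `imgSysι`. -/
noncomputable def imgι (X : PS C) (r n : ℕ) : (imgSys X r).obj (op n) ⟶ X.obj (op n) :=
  (imgSysι X r).app (op n)

/-- Components of `imgSysπ`. -/
noncomputable def imgπ (X : PS C) (r n : ℕ) : X.obj (op (n + r)) ⟶ (imgSys X r).obj (op n) :=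
  (imgSysπ X r).app (op n)

instance (X : PS C) (r n : ℕ) : Mono (imgι X r n) :=
  (NatTrans.mono_iff_mono_app (imgSysι X r)).1 inferInstance _

instance (X : PS C) (r n : ℕ) : Epi (imgπ X r n) :=
  (NatTrans.epi_iff_epi_app (imgSysπ X r)).1 inferInstance _

theorem imgSys_fac (X : PS C) (r : ℕ) : imgSysπ X r ≫ imgSysι X r = shiftNat X r :=
  Abelian.image.fac _

theorem img_fac (X : PS C) (r n : ℕ) :
    imgπ X r n ≫ imgι X r n = tr X (Nat.le_add_right n r) := by
  have := congrArg (fun t => t.app (op n)) (imgSys_fac X r)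
  exact this

theorem imgι_tr (X : PS C) (r : ℕ) {n m : ℕ} (h : n ≤ m) :
    tr (imgSys X r) h ≫ imgι X r n = imgι X r m ≫ tr X h :=
  tr_naturality (imgSysι X r) h

theorem imageSubobject_imgι (X : PS C) (r n : ℕ) :
    imageSubobject (imgι X r n) = imageSubobject (tr X (Nat.le_add_right n r)) := by
  rw [← img_fac, imageSubobject_epi_comp]

theorem isARNull_kernel_of_mono {X Y : PS C} (u : X ⟶ Y) [Mono u] : IsARNull (kernel u) := by
  rw [isARNull_kernel_iff]
  refine ⟨0, fun n T t ht => ?_⟩
  haveI : Mono (u.app (op (n + 0))) := (NatTrans.mono_iff_mono_app _).1 inferInstance _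
  rw [(cancel_mono (u.app (op (n + 0)))).1 (ht.trans zero_comp.symm), zero_comp]

theorem isARNull_cokernel_of_epi {X Y : PS C} (u : X ⟶ Y) [Epi u] : IsARNull (cokernel u) := by
  rw [isARNull_cokernel_iff]
  refine ⟨0, fun n => ?_⟩
  haveI : Epi (u.app (op n)) := (NatTrans.epi_iff_epi_app _).1 inferInstance _
  have : cokernel.π (u.app (op n)) = 0 := by
    rw [← cancel_epi (u.app (op n)), cokernel.condition, comp_zero]
  rw [this, comp_zero]

theorem isARNull_cokernel_imgSysι (X : PS C) (r : ℕ) : IsARNull (cokernel (imgSysι X r)) := by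
  rw [isARNull_cokernel_iff]
  refine ⟨r, fun n => ?_⟩
  show tr X (Nat.le_add_right n r) ≫ cokernel.π (imgι X r n) = 0
  rw [← img_fac, Category.assoc, cokernel.condition, comp_zero]

theorem isARIso_imgSysι (X : PS C) (r : ℕ) : IsARIso (imgSysι X r) :=
  ⟨isARNull_kernel_of_mono _, isARNull_cokernel_imgSysι X r⟩

/-- Under the uniform Mittag-Leffler condition the system of images is strict. -/
theorem isStrict_imgSys (X : PS C) (r : ℕ)
    (hr : ∀ (n k : ℕ) (h : n + r ≤ k),
      imageSubobject (tr X ((Nat.le_add_right n r).trans h)) =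
        imageSubobject (tr X (Nat.le_add_right n r))) : IsStrict (imgSys X r) := by
  intro n m h
  have hf : (imgπ X r m ≫ tr (imgSys X r) h) ≫ imgι X r n =
      tr X (h.trans (Nat.le_add_right m r)) := by
    rw [Category.assoc, imgι_tr, ← Category.assoc, img_fac, tr_comp]
  haveI : Epi (imgπ X r m ≫ tr (imgSys X r) h) := by
    refine epi_of_imageSubobject_le _ _ _ hf ?_
    rw [imageSubobject_imgι]
    exact (hr n (m + r) (by omega)).ge
  exact epi_of_epi (imgπ X r m) _

end Groth.Agent.Helper5.ARS
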