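import Groth.Agent.Lib.Helper5.ARSys2

set_option autoImplicit false
set_option linter.style.haveILetI false
set_option linter.unusedSectionVars false

universe w v u

open CategoryTheory CategoryTheory.Limits Opposite ARSys

namespace Groth.Agent.Helper5.ARS

variable {C : Type u} [Category.{v} C] [Abelian C]

section SES

variable (S : ShortComplex (PS C)) (hS : S.ShortExact)

include hS

theorem ses_mono_app (n : ℕ) : Mono (S.f.app (op n)) :=
  haveI := hS.mono_f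
  (NatTrans.mono_iff_mono_app S.f).1 inferInstance _

theorem ses_epi_app (n : ℕ) : Epi (S.g.app (op n)) :=
  haveI := hS.epi_g
  (NatTrans.epi_iff_epi_app S.g).1 inferInstance _

theorem ses_zero_app (n : ℕ) : S.f.app (op n) ≫ S.g.app (op n) = 0 := by
  rw [← NatTrans.comp_app, S.zero]; rfl

theorem ses_exact_app (n : ℕ) {A : C} (y : A ⟶ S.X₂.obj (op n)) (hy : y ≫ S.g.app (op n) = 0) :
    ∃ (A' : C) (π : A' ⟶ A) (_ : Epi π) (x : A' ⟶ S.X₁.obj (op n)),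
      π ≫ y = x ≫ S.f.app (op n) :=
  (hS.exact.map ((evaluation _ _).obj (op n))).exact_up_to_refinements y hy

/-- A quotient of a uniformly Mittag-Leffler system is uniformly Mittag-Leffler. -/
theorem isMLAR_X₃ (hY : IsMLAR S.X₂) : IsMLAR S.X₃ := by
  obtain ⟨r, hr⟩ := (isMLAR_iff _).1 hY
  rw [isMLAR_iff]
  refine ⟨r, fun s hs n => ?_⟩
  have key : ∀ t : ℕ, imageSubobject (tr S.X₃ (Nat.le_add_right n t)) =
      imageSubobject (tr S.X₂ (Nat.le_add_right n t) ≫ S.g.app (op n)) := by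
    intro t
    haveI := ses_epi_app S hS (n + t)
    rw [tr_naturality S.g, imageSubobject_epi_comp]
  rw [key s, key r]
  exact imageSubobject_comp_congr (hr s hs n) _

/-- An extension of uniformly Mittag-Leffler systems is uniformly Mittag-Leffler. -/
theorem isMLAR_X₂ (hX : IsMLAR S.X₁) (hZ : IsMLAR S.X₃) : IsMLAR S.X₂ := by
  obtain ⟨r₁, hr₁⟩ := (isMLAR_iff' _).1 hX
  obtain ⟨r₃, hr₃⟩ := (isMLAR_iff' _).1 hZ
  rw [isMLAR_iff']
  refine ⟨r₁ + r₃, fun n k h => le_antisymm (imageSubobject_tr_anti _ _ h) ?_⟩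
  have hk1 : n + r₁ ≤ k := by omega
  have hk3 : n + r₁ + r₃ ≤ k := by omega
  have h13 : n + r₁ ≤ n + (r₁ + r₃) := by omega
  -- step 1: the image in `Z`
  haveI := ses_epi_app S hS k
  have hz : imageSubobject (tr S.X₂ h13 ≫ S.g.app (op (n + r₁))) ≤
      imageSubobject (tr S.X₂ hk1 ≫ S.g.app (op (n + r₁))) := by
    rw [tr_naturality S.g h13, tr_naturality S.g hk1, imageSubobject_epi_comp (S.g.app (op k))]
    refine le_trans (imageSubobject_comp_le _ _) ?_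
    have h1 := hr₃ (n + r₁) k hk3
    have h2 : imageSubobject (tr S.X₃ h13) ≤
        imageSubobject (tr S.X₃ (Nat.le_add_right (n + r₁) r₃)) := by
      have : tr S.X₃ h13 = tr S.X₃ (by omega : n + r₁ + r₃ ≤ n + (r₁ + r₃)) ≫
          tr S.X₃ (Nat.le_add_right (n + r₁) r₃) := (tr_comp _ _ _).symm
      rw [this]
      exact imageSubobject_comp_le _ _
    exact h2.trans h1.ge
  obtain ⟨A₁, π₁, hπ₁, y₁, fac₁⟩ := exists_fac_of_imageSubobject_le hz
  -- step 2: the difference comes from `X`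
  have hd : (π₁ ≫ tr S.X₂ h13 - y₁ ≫ tr S.X₂ hk1) ≫ S.g.app (op (n + r₁)) = 0 := by
    rw [Preadditive.sub_comp, Category.assoc, Category.assoc, fac₁, sub_self]
  obtain ⟨A₂, π₂, hπ₂, x₂, fac₂⟩ := ses_exact_app S hS (n + r₁) _ hd
  -- step 3: use the Mittag-Leffler condition for `X`
  have hx : imageSubobject (x₂ ≫ tr S.X₁ (Nat.le_add_right n r₁)) ≤
      imageSubobject (tr S.X₁ ((Nat.le_add_right n r₁).trans hk1)) :=
    (imageSubobject_comp_le _ _).trans (hr₁ n k hk1).ge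
  obtain ⟨A₃, π₃, hπ₃, x₃, fac₃⟩ := exists_fac_of_imageSubobject_le hx
  -- conclusion
  haveI : Epi (π₃ ≫ π₂ ≫ π₁) := epi_comp' hπ₃ (epi_comp' hπ₂ hπ₁)
  refine imageSubobject_le_of_fac (π₃ ≫ π₂ ≫ π₁) (x₃ ≫ S.f.app (op k) + π₃ ≫ π₂ ≫ y₁) ?_
  have e1 : tr S.X₂ (Nat.le_add_right n (r₁ + r₃)) =
      tr S.X₂ h13 ≫ tr S.X₂ (Nat.le_add_right n r₁) := (tr_comp _ _ _).symm
  have e2 : tr S.X₂ ((Nat.le_add_right n (r₁ + r₃)).trans h) =
      tr S.X₂ hk1 ≫ tr S.X₂ (Nat.le_add_right n r₁) := (tr_comp _ _ _).symm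
  have e3 : π₂ ≫ π₁ ≫ tr S.X₂ h13 = x₂ ≫ S.f.app (op (n + r₁)) + π₂ ≫ y₁ ≫ tr S.X₂ hk1 := by
    rw [← fac₂, Preadditive.comp_sub, sub_add_cancel]
  have nat1 := tr_naturality S.f (Nat.le_add_right n r₁)
  have nat2 := tr_naturality S.f ((Nat.le_add_right n r₁).trans hk1)
  calc (π₃ ≫ π₂ ≫ π₁) ≫ tr S.X₂ (Nat.le_add_right n (r₁ + r₃))
      = π₃ ≫ (π₂ ≫ π₁ ≫ tr S.X₂ h13) ≫ tr S.X₂ (Nat.le_add_right n r₁) := by
        rw [e1]; simp only [Category.assoc]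
    _ = π₃ ≫ (x₂ ≫ S.f.app (op (n + r₁)) + π₂ ≫ y₁ ≫ tr S.X₂ hk1) ≫
          tr S.X₂ (Nat.le_add_right n r₁) := by rw [e3]
    _ = (π₃ ≫ x₂ ≫ tr S.X₁ (Nat.le_add_right n r₁)) ≫ S.f.app (op n) +
          π₃ ≫ π₂ ≫ y₁ ≫ tr S.X₂ hk1 ≫ tr S.X₂ (Nat.le_add_right n r₁) := by
        rw [Preadditive.add_comp, Preadditive.comp_add]
        simp only [Category.assoc]
        rw [nat1]
    _ = (x₃ ≫ tr S.X₁ ((Nat.le_add_right n r₁).trans hk1)) ≫ S.f.app (op n) +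
          π₃ ≫ π₂ ≫ y₁ ≫ tr S.X₂ hk1 ≫ tr S.X₂ (Nat.le_add_right n r₁) := by rw [fac₃]
    _ = (x₃ ≫ S.f.app (op k) + π₃ ≫ π₂ ≫ y₁) ≫
          tr S.X₂ ((Nat.le_add_right n (r₁ + r₃)).trans h) := by
        rw [e2, Preadditive.add_comp]
        simp only [Category.assoc]
        rw [nat2, tr_comp]

end SES

end Groth.Agent.Helper5.ARS
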