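import Groth.Agent.Lib.Helper5.ARSys3

set_option autoImplicit false
set_option linter.style.haveILetI false
set_option linter.unusedSectionVars false

universe w v u

open CategoryTheory CategoryTheory.Limits Opposite ARSys

namespace Groth.Agent.Helper5.ARS

variable {C : Type u} [Category.{v} C] [Abelian C]

/-- An inverse up to translation by `r` of a morphism of projective systems. -/
structure ShiftInv {X Y : PS C} (u : X ⟶ Y) (r : ℕ) where
  v : ∀ n : ℕ, Y.obj (op (n + r)) ⟶ X.obj (op n)
  nat : ∀ (n m : ℕ) (h : n ≤ m),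
    tr Y (Nat.add_le_add_right h r) ≫ v n = v m ≫ tr X h
  v_u : ∀ n : ℕ, v n ≫ u.app (op n) = tr Y (Nat.le_add_right n r)
  u_v : ∀ n : ℕ, u.app (op (n + r)) ≫ v n = tr X (Nat.le_add_right n r)

/-- A monomorphism with cokernel killed by translation by `r` has an inverse up to translation. -/
noncomputable def shiftInvOfMono {X Y : PS C} (u : X ⟶ Y) [Mono u] (r : ℕ)
    (hr : ∀ n : ℕ, tr Y (Nat.le_add_right n r) ≫ cokernel.π (u.app (op n)) = 0) :
    ShiftInv u r :=
  haveI : ∀ n : ℕ, Mono (u.app (op n)) := fun n => (NatTrans.mono_iff_mono_app u).1 inferInstance _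
  { v := fun n => Abelian.monoLift (u.app (op n)) _ (hr n)
    nat := fun n m h => by
      rw [← cancel_mono (u.app (op n)), Category.assoc, Category.assoc, Abelian.monoLift_comp,
        tr_naturality u h, ← Category.assoc, Abelian.monoLift_comp, tr_comp, tr_comp]
    v_u := fun n => Abelian.monoLift_comp _ _ _
    u_v := fun n => by
      rw [← cancel_mono (u.app (op n)), Category.assoc, Abelian.monoLift_comp,
        tr_naturality u] }

/-- An epimorphism with kernel killed by translation by `r` has an inverse up to translation. -/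
noncomputable def shiftInvOfEpi {X Y : PS C} (u : X ⟶ Y) [Epi u] (r : ℕ)
    (hr : ∀ n : ℕ, kernel.ι (u.app (op (n + r))) ≫ tr X (Nat.le_add_right n r) = 0) :
    ShiftInv u r :=
  haveI : ∀ n : ℕ, Epi (u.app (op n)) := fun n => (NatTrans.epi_iff_epi_app u).1 inferInstance _
  { v := fun n => Abelian.epiDesc (u.app (op (n + r))) _ (hr n)
    nat := fun n m h => by
      rw [← cancel_epi (u.app (op (m + r))), ← Category.assoc, ← tr_naturality u,
        Category.assoc, Abelian.comp_epiDesc, ← Category.assoc, Abelian.comp_epiDesc, tr_comp,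
        tr_comp]
    v_u := fun n => by
      rw [← cancel_epi (u.app (op (n + r))), ← Category.assoc, Abelian.comp_epiDesc,
        tr_naturality u]
    u_v := fun n => Abelian.comp_epiDesc _ _ _ }

section Lim

variable [HasLimitsOfShape ℕᵒᵖ C]

theorem limit_π_tr (X : PS C) {n m : ℕ} (h : n ≤ m) :
    limit.π X (op m) ≫ tr X h = limit.π X (op n) :=
  limit.w X (homOfLE h).op

theorem isIso_limMap_of_shiftInv {X Y : PS C} (u : X ⟶ Y) (r : ℕ) (s : ShiftInv u r) :
    IsIso (limMap u) := by
  let c : Cone X :=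
    { pt := limit Y
      π :=
        { app := fun n => limit.π Y (op (n.unop + r)) ≫ s.v n.unop
          naturality := fun n m f => by
            have h : m.unop ≤ n.unop := leOfHom f.unop
            have e : X.map f = tr X h := rfl
            dsimp
            rw [Category.id_comp, e, Category.assoc, ← s.nat m.unop n.unop h, ← Category.assoc,
              limit_π_tr] } }
  refine ⟨limit.lift X c, ?_, ?_⟩
  · apply limit.hom_ext
    rintro ⟨n⟩
    rw [Category.assoc, limit.lift_π, Category.id_comp]
    show limMap u ≫ limit.π Y (op (n + r)) ≫ s.v n = _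
    rw [← Category.assoc, limMap_π, Category.assoc, s.u_v, limit_π_tr]
  · apply limit.hom_ext
    rintro ⟨n⟩
    rw [Category.assoc, limMap_π, ← Category.assoc, limit.lift_π, Category.id_comp]
    show (limit.π Y (op (n + r)) ≫ s.v n) ≫ u.app (op n) = _
    rw [Category.assoc, s.v_u, limit_π_tr]

theorem limMap_comp' {X Y Z : PS C} (f : X ⟶ Y) (g : Y ⟶ Z) :
    limMap (f ≫ g) = limMap f ≫ limMap g := by
  apply limit.hom_ext
  intro n
  simp

end Lim

/-- Data extracted from an isomorphism up to translation: the image factorisation and the two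
inverses up to translation. -/
theorem exists_shiftInv_of_isARIso {X Y : PS C} (u : X ⟶ Y) (hu : IsARIso u) :
    ∃ (r₁ r₂ : ℕ), Nonempty (ShiftInv (Abelian.factorThruImage u) r₁) ∧
      Nonempty (ShiftInv (Abelian.image.ι u) r₂) := by
  obtain ⟨r₁, hr₁⟩ := (isARNull_kernel_iff u).1 hu.1
  obtain ⟨r₂, hr₂⟩ := (isARNull_cokernel_iff u).1 hu.2
  have hfac : ∀ n : ℕ, (Abelian.factorThruImage u).app (op n) ≫ (Abelian.image.ι u).app (op n) =
      u.app (op n) := fun n => by
    rw [← NatTrans.comp_app, Abelian.image.fac]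
  refine ⟨r₁, r₂, ⟨shiftInvOfEpi _ r₁ fun n => ?_⟩, ⟨shiftInvOfMono _ r₂ fun n => ?_⟩⟩
  · apply hr₁
    rw [← hfac, ← Category.assoc, kernel.condition, zero_comp]
  · haveI : Epi ((Abelian.factorThruImage u).app (op n)) :=
      (NatTrans.epi_iff_epi_app _).1 inferInstance _
    apply comp_cokernel_π_of_imageSubobject_le
    rw [← imageSubobject_epi_comp ((Abelian.factorThruImage u).app (op n)), hfac]
    exact imageSubobject_le_of_comp_cokernel_π _ _ (hr₂ n)

theorem isIso_limMap_of_isARIso [HasLimitsOfShape ℕᵒᵖ C] {X Y : PS C} (u : X ⟶ Y)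
    (hu : IsARIso u) : IsIso (limMap u) := by
  obtain ⟨r₁, r₂, ⟨s₁⟩, ⟨s₂⟩⟩ := exists_shiftInv_of_isARIso u hu
  haveI := isIso_limMap_of_shiftInv _ r₁ s₁
  haveI := isIso_limMap_of_shiftInv _ r₂ s₂
  rw [← Abelian.image.fac u, limMap_comp']
  infer_instance

end Groth.Agent.Helper5.ARS
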