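import Groth.Agent.Lib.Helper5.ARSys4

set_option autoImplicit false
set_option linter.style.haveILetI false
set_option linter.unusedSectionVars false

universe w v u

open CategoryTheory CategoryTheory.Limits Opposite ARSys

namespace Groth.Agent.Helper5.ARS

section Lin

variable {C : Type u} [Category.{v} C] {A : Type w} [CommRing A] [Preadditive C] [Linear A C]

theorem smul_eq_comp_smul_id {X Y : C} (a : A) (φ : X ⟶ Y) : a • φ = φ ≫ (a • 𝟙 Y) := by
  rw [Linear.comp_smul, Category.comp_id]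

theorem smul_eq_smul_id_comp {X Y : C} (a : A) (φ : X ⟶ Y) : a • φ = (a • 𝟙 X) ≫ φ := by
  rw [Linear.smul_comp, Category.id_comp]

theorem KilledBy.mono {I I' : Ideal A} (h : I ≤ I') {X : C} (hX : KilledBy I' X) : KilledBy I X :=
  fun a ha => hX a (h ha)

theorem HomKilledBy.mono {I I' : Ideal A} (h : I ≤ I') {X Y : C} {φ : X ⟶ Y}
    (hφ : HomKilledBy I' φ) : HomKilledBy I φ :=
  fun a ha => hφ a (h ha)

theorem homKilledBy_of_target {I : Ideal A} {X Y : C} (hY : KilledBy I Y) (φ : X ⟶ Y) :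
    HomKilledBy I φ := fun a ha => by
  rw [smul_eq_comp_smul_id, hY a ha, comp_zero]

theorem homKilledBy_of_source {I : Ideal A} {X Y : C} (hX : KilledBy I X) (φ : X ⟶ Y) :
    HomKilledBy I φ := fun a ha => by
  rw [smul_eq_smul_id_comp, hX a ha, zero_comp]

theorem HomKilledBy.comp_left {I : Ideal A} {X Y Z : C} {φ : Y ⟶ Z} (hφ : HomKilledBy I φ)
    (ψ : X ⟶ Y) : HomKilledBy I (ψ ≫ φ) := fun a ha => by
  rw [← Linear.comp_smul, hφ a ha, comp_zero]

theorem HomKilledBy.comp_right {I : Ideal A} {X Y Z : C} {φ : X ⟶ Y} (hφ : HomKilledBy I φ)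
    (ψ : Y ⟶ Z) : HomKilledBy I (φ ≫ ψ) := fun a ha => by
  rw [← Linear.smul_comp, hφ a ha, zero_comp]

theorem killedBy_iff_homKilledBy_id {I : Ideal A} {X : C} :
    KilledBy I X ↔ HomKilledBy I (𝟙 X) := Iff.rfl

namespace IsQuotLemmas

variable {I : Ideal A} {X Q : C} {p : X ⟶ Q}

theorem hom_ext (hp : IsQuot I p) {Y : C} (φ ψ : Q ⟶ Y) (h : p ≫ φ = p ≫ ψ) : φ = ψ := by
  obtain ⟨χ, _, hχ⟩ := hp.2 Y (p ≫ φ) (HomKilledBy.comp_left (homKilledBy_of_source hp.1 φ) p)
  rw [hχ φ rfl, hχ ψ h.symm]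

theorem epi (hp : IsQuot I p) : Epi p := ⟨fun φ ψ h => hom_ext hp φ ψ h⟩

theorem exists_desc (hp : IsQuot I p) {Y : C} (φ : X ⟶ Y) (hφ : HomKilledBy I φ) :
    ∃ ψ : Q ⟶ Y, p ≫ ψ = φ :=
  (hp.2 Y φ hφ).exists

end IsQuotLemmas

theorem pow_succ_le_pow_succ (J : Ideal A) {n m : ℕ} (h : n ≤ m) : J ^ (m + 1) ≤ J ^ (n + 1) :=
  Ideal.pow_le_pow_right (Nat.succ_le_succ h)

/-- A morphism from a translate of a `J`-adic system to a system whose `n`-th term is killed by
`J^(n+1)` factors uniquely through the canonical translation map. -/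
theorem exists_unique_factor_shift (J : Ideal A) (X Y : PS C) (hX : IsAdic J X)
    (hY : TermKilled J Y) (r : ℕ) (f : (shift C r).obj X ⟶ Y) :
    ∃! g : X ⟶ Y, ∀ n : ℕ, f.app (op n) = shiftMap X r n ≫ g.app (op n) := by
  let fn : ∀ n : ℕ, X.obj (op (n + r)) ⟶ Y.obj (op n) := fun n => f.app (op n)
  have hq : ∀ n : ℕ, IsQuot (J ^ (n + 1)) (tr X (Nat.le_add_right n r)) := fun n => hX.2 n _ _
  have hfn : ∀ (n m : ℕ) (h : n ≤ m),
      tr X (Nat.add_le_add_right h r) ≫ fn n = fn m ≫ tr Y h := fun n m h =>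
    f.naturality (homOfLE h).op
  have hg : ∀ n : ℕ, ∃ ψ : X.obj (op n) ⟶ Y.obj (op n), tr X (Nat.le_add_right n r) ≫ ψ = fn n :=
    fun n => IsQuotLemmas.exists_desc (hq n) (fn n) (homKilledBy_of_target (hY n) _)
  choose g hg using hg
  have hnat : ∀ (n m : ℕ) (h : n ≤ m), tr X h ≫ g n = g m ≫ tr Y h := by
    intro n m h
    apply IsQuotLemmas.hom_ext (hq m)
    rw [← Category.assoc, tr_comp, ← Category.assoc, hg m, ← hfn n m h, ← hg n,
      ← Category.assoc, tr_comp]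
  refine ⟨{ app := fun k => g k.unop
            naturality := fun k l φ => hnat l.unop k.unop (leOfHom φ.unop) }, ?_, ?_⟩
  · intro n
    exact (hg n).symm
  · intro g' hg'
    ext ⟨n⟩
    apply IsQuotLemmas.hom_ext (hq n)
    show _ = tr X (Nat.le_add_right n r) ≫ g n
    rw [hg n]
    exact (hg' n).symm

end Lin

end Groth.Agent.Helper5.ARS
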