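import Groth.Agent.Lib.Helper5.ARSys5

set_option autoImplicit false
set_option linter.style.haveILetI false
set_option linter.unusedSectionVars false

universe w v u

open CategoryTheory CategoryTheory.Limits Opposite ARSys

namespace Groth.Agent.Helper5.ARS

variable {C : Type u} [Category.{v} C] [Abelian C]

/-- The kernel of `u` is killed by transition maps of length `≥ r`. -/
def KerNull {X Y : PS C} (u : X ⟶ Y) (r : ℕ) : Prop :=
  ∀ (n k : ℕ) (h : n + r ≤ k) (T : C) (t : T ⟶ X.obj (op k)),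
    t ≫ u.app (op k) = 0 → t ≫ tr X (le_of_add_le_left h) = 0

/-- The cokernel of `u` is killed by transition maps of length `≥ r`. -/
def CokerNull {X Y : PS C} (u : X ⟶ Y) (r : ℕ) : Prop :=
  ∀ (n k : ℕ) (h : n + r ≤ k),
    imageSubobject (tr Y (le_of_add_le_left h)) ≤ imageSubobject (u.app (op n))

theorem isARNull_kernel_iff' {X Y : PS C} (u : X ⟶ Y) :
    IsARNull (kernel u) ↔ ∃ r, KerNull u r := by
  rw [isARNull_kernel_iff]
  constructor
  · rintro ⟨r, hr⟩
    refine ⟨r, fun n k h T t ht => ?_⟩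
    have h1 := hr n T (t ≫ tr X h) (by
      rw [Category.assoc, tr_naturality u, ← Category.assoc, ht, zero_comp])
    rw [Category.assoc, tr_comp] at h1
    exact h1
  · rintro ⟨r, hr⟩
    exact ⟨r, fun n T t ht => hr n (n + r) le_rfl T t ht⟩

theorem isARNull_cokernel_iff' {X Y : PS C} (u : X ⟶ Y) :
    IsARNull (cokernel u) ↔ ∃ r, CokerNull u r := by
  rw [isARNull_cokernel_iff]
  constructor
  · rintro ⟨r, hr⟩
    refine ⟨r, fun n k h => ?_⟩
    exact (imageSubobject_tr_anti Y (Nat.le_add_right n r) h).trans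
      (imageSubobject_le_of_comp_cokernel_π _ _ (hr n))
  · rintro ⟨r, hr⟩
    exact ⟨r, fun n => comp_cokernel_π_of_imageSubobject_le _ _ (hr n (n + r) le_rfl)⟩

theorem isARIso_iff {X Y : PS C} (u : X ⟶ Y) :
    IsARIso u ↔ (∃ r, KerNull u r) ∧ ∃ r, CokerNull u r := by
  unfold IsARIso
  rw [isARNull_kernel_iff', isARNull_cokernel_iff']

theorem KerNull.mono {X Y : PS C} {u : X ⟶ Y} {r r' : ℕ} (h : KerNull u r) (hr : r ≤ r') :
    KerNull u r' := fun n k hk T t ht => h n k (by omega) T t ht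

theorem CokerNull.mono {X Y : PS C} {u : X ⟶ Y} {r r' : ℕ} (h : CokerNull u r) (hr : r ≤ r') :
    CokerNull u r' := fun n k hk => h n k (by omega)

/-- Element form of `CokerNull`. -/
theorem CokerNull.exists_fac {X Y : PS C} {u : X ⟶ Y} {r : ℕ} (h : CokerNull u r)
    {n k : ℕ} (hk : n + r ≤ k) {T : C} (t : T ⟶ Y.obj (op k)) :
    ∃ (T' : C) (π : T' ⟶ T) (_ : Epi π) (x : T' ⟶ X.obj (op n)),
      π ≫ t ≫ tr Y (le_of_add_le_left hk) = x ≫ u.app (op n) :=
  exists_fac_of_imageSubobject_le ((imageSubobject_comp_le t _).trans (h n k hk))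

theorem cokerNull_of_exists_fac {X Y : PS C} {u : X ⟶ Y} {r : ℕ}
    (h : ∀ (n k : ℕ) (hk : n + r ≤ k), ∃ (T' : C) (π : T' ⟶ Y.obj (op k)) (_ : Epi π)
      (x : T' ⟶ X.obj (op n)), π ≫ tr Y (le_of_add_le_left hk) = x ≫ u.app (op n)) :
    CokerNull u r := fun n k hk => by
  obtain ⟨T', π, hπ, x, fac⟩ := h n k hk
  exact imageSubobject_le_of_fac π x fac

theorem kerNull_comp {X Y Z : PS C} {u : X ⟶ Y} {v : Y ⟶ Z} {r₁ r₂ : ℕ}
    (hu : KerNull u r₁) (hv : KerNull v r₂) : KerNull (u ≫ v) (r₁ + r₂) := by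
  intro n k h T t ht
  have hk' : n + r₁ + r₂ ≤ k := by omega
  have h1 := hv (n + r₁) k hk' T (t ≫ u.app (op k)) (by
    rw [Category.assoc]; exact ht)
  have h2 := hu n (n + r₁) le_rfl T (t ≫ tr X (le_of_add_le_left hk')) (by
    rw [Category.assoc, tr_naturality u, ← Category.assoc, h1])
  rw [Category.assoc, tr_comp] at h2
  exact h2

theorem cokerNull_comp {X Y Z : PS C} {u : X ⟶ Y} {v : Y ⟶ Z} {r₁ r₂ : ℕ}
    (hu : CokerNull u r₁) (hv : CokerNull v r₂) : CokerNull (u ≫ v) (r₁ + r₂) := by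
  apply cokerNull_of_exists_fac
  intro n k hk
  have hk' : n + r₁ + r₂ ≤ k := by omega
  obtain ⟨T₁, π₁, hπ₁, y, fac₁⟩ := hv.exists_fac hk' (𝟙 (Z.obj (op k)))
  rw [Category.id_comp] at fac₁
  obtain ⟨T₂, π₂, hπ₂, x, fac₂⟩ := hu.exists_fac (le_refl (n + r₁)) y
  haveI : Epi (π₂ ≫ π₁) := epi_comp' hπ₂ hπ₁
  refine ⟨T₂, π₂ ≫ π₁, inferInstance, x, ?_⟩
  calc (π₂ ≫ π₁) ≫ tr Z (le_of_add_le_left hk)
      = π₂ ≫ (π₁ ≫ tr Z (le_of_add_le_left hk')) ≫ tr Z (Nat.le_add_right n r₁) := by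
        simp only [Category.assoc, tr_comp]
    _ = (π₂ ≫ y ≫ tr Y (Nat.le_add_right n r₁)) ≫ v.app (op n) := by
        rw [fac₁]; simp only [Category.assoc]; rw [tr_naturality v]
    _ = x ≫ (u ≫ v).app (op n) := by
        rw [fac₂, Category.assoc]; rfl

theorem isARIso_comp {X Y Z : PS C} {u : X ⟶ Y} {v : Y ⟶ Z} (hu : IsARIso u) (hv : IsARIso v) :
    IsARIso (u ≫ v) := by
  rw [isARIso_iff] at hu hv ⊢
  obtain ⟨⟨a, ha⟩, ⟨b, hb⟩⟩ := hu
  obtain ⟨⟨c, hc⟩, ⟨d, hd⟩⟩ := hv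
  exact ⟨⟨_, kerNull_comp ha hc⟩, ⟨_, cokerNull_comp hb hd⟩⟩

/-- If `s ≫ u` and `s` are isomorphisms up to translation, so is `u`. -/
theorem isARIso_of_comp_left {W X Y : PS C} {s : W ⟶ X} {u : X ⟶ Y} (hv : IsARIso (s ≫ u))
    (hs : IsARIso s) : IsARIso u := by
  rw [isARIso_iff] at hv hs ⊢
  obtain ⟨⟨a, ha⟩, ⟨b, hb⟩⟩ := hv
  obtain ⟨_, ⟨d, hd⟩⟩ := hs
  constructor
  · refine ⟨a + d, fun n k h T t ht => ?_⟩
    have hk' : n + a + d ≤ k := by omega
    obtain ⟨T', π, hπ, w, fac⟩ := hd.exists_fac hk' t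
    have h1 : w ≫ (s ≫ u).app (op (n + a)) = 0 := by
      rw [NatTrans.comp_app, ← Category.assoc, ← fac]
      simp only [Category.assoc]
      rw [tr_naturality u, ← Category.assoc t, ht, zero_comp, comp_zero]
    have h2 := ha n (n + a) le_rfl T' w h1
    rw [← cancel_epi π, comp_zero]
    calc π ≫ t ≫ tr X (le_of_add_le_left h)
        = (π ≫ t ≫ tr X (le_of_add_le_left hk')) ≫ tr X (Nat.le_add_right n a) := by
          simp only [Category.assoc, tr_comp]
      _ = (w ≫ tr W (Nat.le_add_right n a)) ≫ s.app (op n) := by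
          rw [fac]; simp only [Category.assoc]; rw [tr_naturality s]
      _ = 0 := by rw [h2, zero_comp]
  · exact ⟨b, fun n k h => (hb n k h).trans
      (imageSubobject_comp_le (s.app (op n)) (u.app (op n)))⟩

/-- If `s ≫ u` and `u` are isomorphisms up to translation, so is `s`. -/
theorem isARIso_of_comp_right {W X Y : PS C} {s : W ⟶ X} {u : X ⟶ Y} (hv : IsARIso (s ≫ u))
    (hu : IsARIso u) : IsARIso s := by
  rw [isARIso_iff] at hv hu ⊢
  obtain ⟨⟨a, ha⟩, ⟨b, hb⟩⟩ := hv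
  obtain ⟨⟨c, hc⟩, _⟩ := hu
  constructor
  · refine ⟨a, fun n k h T t ht => ha n k h T t ?_⟩
    rw [NatTrans.comp_app, ← Category.assoc, ht, zero_comp]
  · refine ⟨c + b, cokerNull_of_exists_fac fun n k hk => ?_⟩
    have hk' : n + c + b ≤ k := by omega
    obtain ⟨T', π, hπ, w, fac⟩ := hb.exists_fac hk' (u.app (op k))
    have hd : (π ≫ tr X (le_of_add_le_left hk') - w ≫ s.app (op (n + c))) ≫
        u.app (op (n + c)) = 0 := by
      rw [Preadditive.sub_comp, Category.assoc, tr_naturality u, fac, NatTrans.comp_app,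
        Category.assoc, sub_self]
    have h2 := hc n (n + c) le_rfl T' _ hd
    rw [Preadditive.sub_comp, sub_eq_zero] at h2
    refine ⟨T', π, hπ, w ≫ tr W (Nat.le_add_right n c), ?_⟩
    calc π ≫ tr X (le_of_add_le_left hk)
        = (π ≫ tr X (le_of_add_le_left hk')) ≫ tr X (Nat.le_add_right n c) := by
          simp only [Category.assoc, tr_comp]
      _ = (w ≫ tr W (Nat.le_add_right n c)) ≫ s.app (op n) := by
          rw [h2]; simp only [Category.assoc]; rw [tr_naturality s]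

theorem isARIso_of_mono_of_epi {X Y : PS C} (u : X ⟶ Y) [Mono u] [Epi u] : IsARIso u :=
  ⟨isARNull_kernel_of_mono u, isARNull_cokernel_of_epi u⟩

theorem isARIso_shiftNat (X : PS C) (r : ℕ) : IsARIso (shiftNat X r) := by
  rw [isARIso_iff]
  constructor
  · refine ⟨r, fun n k h T t ht => ?_⟩
    have key : ∀ (t' : T ⟶ X.obj (op (k + r))), t' ≫ tr X (Nat.le_add_right k r) = 0 →
        t' ≫ tr X (Nat.add_le_add_right (le_of_add_le_left h) r) = 0 := by
      intro t' ht'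
      have : tr X (Nat.add_le_add_right (le_of_add_le_left h) r) =
          tr X (Nat.le_add_right k r) ≫ tr X h := (tr_comp _ _ _).symm
      rw [this, ← Category.assoc, ht', zero_comp]
    exact key t ht
  · refine ⟨r, fun n k h => ?_⟩
    show _ ≤ imageSubobject (tr X (Nat.le_add_right n r))
    exact imageSubobject_tr_anti X _ h

end Groth.Agent.Helper5.ARS
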