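import Groth.Agent.Lib.Helper5.ARSys6
import Mathlib.RingTheory.Finiteness.Ideal

set_option autoImplicit false
set_option linter.style.haveILetI false
set_option linter.unusedSectionVars false

universe w v u

open CategoryTheory CategoryTheory.Limits Opposite ARSys

namespace Groth.Agent.Helper5.ARS

section AnnHom

variable {C : Type u} [Category.{v} C] {A : Type w} [CommRing A] [Preadditive C] [Linear A C]

/-- The ideal of scalars killing a morphism. -/
def annHom {X Y : C} (φ : X ⟶ Y) : Ideal A where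
  carrier := {b | b • φ = 0}
  add_mem' := fun {b c} hb hc => by
    show (b + c) • φ = 0
    rw [add_smul, hb, hc, add_zero]
  zero_mem' := zero_smul _ _
  smul_mem' := fun c b hb => by
    show (c • b) • φ = 0
    rw [smul_eq_mul, mul_smul, hb, smul_zero]

theorem mem_annHom {X Y : C} (φ : X ⟶ Y) (b : A) : b ∈ annHom φ ↔ b • φ = 0 := Iff.rfl

theorem homKilledBy_iff_le_annHom {I : Ideal A} {X Y : C} (φ : X ⟶ Y) :
    HomKilledBy I φ ↔ I ≤ annHom φ := Iff.rfl

theorem homKilledBy_span {ι : Type*} (a : ι → A) {X Y : C} (φ : X ⟶ Y)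
    (h : ∀ j, a j • φ = 0) : HomKilledBy (Ideal.span (Set.range a)) φ := by
  rw [homKilledBy_iff_le_annHom, Ideal.span_le]
  rintro _ ⟨j, rfl⟩
  exact h j

end AnnHom

section DMap

variable {C : Type u} [Category.{v} C] [Abelian C] {A : Type w} [CommRing A] [Linear A C]
variable {ι : Type*} (a : ι → A) [HasCoproductsOfShape ι C]

/-- The "multiplication by the generators" map `∐ X ⟶ X`. -/
noncomputable def dmap (X : C) : (∐ fun _ : ι => X) ⟶ X :=
  Sigma.desc fun j => a j • 𝟙 X

@[reassoc]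
theorem ι_dmap (X : C) (j : ι) : Sigma.ι (fun _ : ι => X) j ≫ dmap a X = a j • 𝟙 X :=
  Sigma.ι_desc _ _

@[reassoc]
theorem dmap_naturality {X Y : C} (h : X ⟶ Y) :
    Limits.Sigma.map (fun _ : ι => h) ≫ dmap a Y = dmap a X ≫ h := by
  apply Sigma.hom_ext
  intro j
  rw [Sigma.ι_map_assoc, ι_dmap, ι_dmap_assoc, ← smul_eq_comp_smul_id, ← smul_eq_smul_id_comp]

theorem dmap_comp_eq_zero {X Y : C} (φ : X ⟶ Y)
    (hφ : HomKilledBy (Ideal.span (Set.range a)) φ) : dmap a X ≫ φ = 0 := by
  apply Sigma.hom_ext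
  intro j
  rw [ι_dmap_assoc, comp_zero, ← smul_eq_smul_id_comp]
  exact hφ _ (Ideal.subset_span ⟨j, rfl⟩)

theorem homKilledBy_of_dmap_comp {X Y : C} (φ : X ⟶ Y) (h : dmap a X ≫ φ = 0) :
    HomKilledBy (Ideal.span (Set.range a)) φ := by
  apply homKilledBy_span
  intro j
  rw [smul_eq_smul_id_comp, ← ι_dmap, Category.assoc, h, comp_zero]

theorem isQuot_cokernel_dmap (X : C) :
    IsQuot (Ideal.span (Set.range a)) (cokernel.π (dmap a X)) := by
  constructor
  · rw [killedBy_iff_homKilledBy_id]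
    apply homKilledBy_span
    intro j
    rw [← cancel_epi (cokernel.π (dmap a X)), comp_zero, Linear.comp_smul, Category.comp_id,
      smul_eq_smul_id_comp, ← ι_dmap, Category.assoc, cokernel.condition, comp_zero]
  · intro Y φ hφ
    refine ⟨cokernel.desc _ φ (dmap_comp_eq_zero a φ hφ), cokernel.π_desc _ _ _, ?_⟩
    intro ψ hψ
    rw [← cancel_epi (cokernel.π (dmap a X)), hψ, cokernel.π_desc]

/-- The kernel of a quotient map modulo `I` is `I X`, in refinement form. -/
theorem exists_fac_dmap_of_isQuot {X Q : C} {p : X ⟶ Q}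
    (hp : IsQuot (Ideal.span (Set.range a)) p) {T : C} (t : T ⟶ X) (ht : t ≫ p = 0) :
    ∃ (T' : C) (π : T' ⟶ T) (_ : Epi π) (s : T' ⟶ ∐ fun _ : ι => X), π ≫ t = s ≫ dmap a X := by
  have hc := isQuot_cokernel_dmap a X
  obtain ⟨e, he⟩ := IsQuotLemmas.exists_desc hp (cokernel.π (dmap a X))
    (homKilledBy_of_target hc.1 _)
  have h0 : t ≫ cokernel.π (dmap a X) = 0 := by
    rw [← he, ← Category.assoc, ht, zero_comp]
  exact (CokernelCofork.IsColimit.comp_π_eq_zero_iff_up_to_refinements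
    (cokernelIsCokernel (dmap a X)) t).1 h0

/-- Conversely an epimorphism with target killed by `I` and kernel contained in `I X` is a quotient
map modulo `I`. -/
theorem isQuot_of_exists_fac {X Q : C} {p : X ⟶ Q} [Epi p]
    (hQ : KilledBy (Ideal.span (Set.range a)) Q)
    (h : ∀ {T : C} (t : T ⟶ X), t ≫ p = 0 →
      ∃ (T' : C) (π : T' ⟶ T) (_ : Epi π) (s : T' ⟶ ∐ fun _ : ι => X), π ≫ t = s ≫ dmap a X) :
    IsQuot (Ideal.span (Set.range a)) p := by
  refine ⟨hQ, fun Y φ hφ => ?_⟩
  have hk : kernel.ι p ≫ φ = 0 := by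
    obtain ⟨T', π, hπ, s, fac⟩ := h (kernel.ι p) (kernel.condition p)
    rw [← cancel_epi π, comp_zero, ← Category.assoc, fac, Category.assoc,
      dmap_comp_eq_zero a φ hφ, comp_zero]
  refine ⟨Abelian.epiDesc p φ hk, Abelian.comp_epiDesc p φ hk, ?_⟩
  intro ψ hψ
  rw [← cancel_epi p, hψ, Abelian.comp_epiDesc]

end DMap

section Gens

variable {C : Type u} [Category.{v} C] [Abelian C] {A : Type w} [CommRing A]

/-- Generators of an ideal indexed by a type over which coproducts exist. -/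
theorem exists_gens (J : Ideal A) (hJ : J.FG ∨ HasCoproducts.{w} C) (N : ℕ) :
    ∃ (ι : Type w) (a : ι → A), HasCoproductsOfShape ι C ∧
      Ideal.span (Set.range a) = J ^ N := by
  rcases hJ with hJ | hJ
  · obtain ⟨S, hS⟩ : (J ^ N).FG := Ideal.FG.pow hJ
    refine ⟨↥S, fun x => x.1, inferInstance, ?_⟩
    rw [Subtype.range_coe_subtype]
    exact hS
  · refine ⟨↥(J ^ N), fun x => x.1, inferInstance, ?_⟩
    rw [Subtype.range_coe_subtype]
    exact Ideal.span_eq _

end Gens

end Groth.Agent.Helper5.ARS
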