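import Groth.Agent.Lib.Helper5.ARSys7

set_option autoImplicit false
set_option linter.style.haveILetI false
set_option linter.unusedSectionVars false

universe w v u

open CategoryTheory CategoryTheory.Limits Opposite ARSys

namespace Groth.Agent.Helper5.ARS

variable {C : Type u} [Category.{v} C] [Abelian C] {A : Type w} [CommRing A] [Linear A C]

theorem killedBy_of_epi {I : Ideal A} {X Y : C} (g : X ⟶ Y) [Epi g] (hX : KilledBy I X) :
    KilledBy I Y := fun a ha => by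
  rw [← cancel_epi g, comp_zero, ← smul_eq_comp_smul_id, smul_eq_smul_id_comp, hX a ha, zero_comp]

theorem killedBy_of_mono {I : Ideal A} {X Y : C} (f : X ⟶ Y) [Mono f] (hY : KilledBy I Y) :
    KilledBy I X := fun a ha => by
  rw [← cancel_mono f, zero_comp, ← smul_eq_smul_id_comp, smul_eq_comp_smul_id, hY a ha, comp_zero]

section SES

variable (J : Ideal A) (S : ShortComplex (PS C)) (hS : S.ShortExact)

include hS

theorem termKilled_X₃ (h₂ : TermKilled J S.X₂) : TermKilled J S.X₃ := fun n =>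
  haveI := ses_epi_app S hS n
  killedBy_of_epi (S.g.app (op n)) (h₂ n)

theorem termKilled_X₁ (h₂ : TermKilled J S.X₂) : TermKilled J S.X₁ := fun n =>
  haveI := ses_mono_app S hS n
  killedBy_of_mono (S.f.app (op n)) (h₂ n)

/-- A morphism out of `X₂_n` killing `X₁_n` descends to `X₃_n`. -/
theorem ses_exists_desc (n : ℕ) {Y : C} (ψ : S.X₂.obj (op n) ⟶ Y)
    (hψ : S.f.app (op n) ≫ ψ = 0) : ∃ ψ' : S.X₃.obj (op n) ⟶ Y, S.g.app (op n) ≫ ψ' = ψ := by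
  haveI := ses_epi_app S hS n
  have hk : kernel.ι (S.g.app (op n)) ≫ ψ = 0 := by
    obtain ⟨T', π, hπ, x, fac⟩ := ses_exact_app S hS n (kernel.ι (S.g.app (op n)))
      (kernel.condition _)
    rw [← cancel_epi π, comp_zero, ← Category.assoc, fac, Category.assoc, hψ, comp_zero]
  exact ⟨Abelian.epiDesc _ ψ hk, Abelian.comp_epiDesc _ ψ hk⟩

/-- Quotient of an adic system by a strict subsystem is adic. -/
theorem isAdic_X₃ (h₁ : IsStrict S.X₁) (h₂ : IsAdic J S.X₂) : IsAdic J S.X₃ := by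
  refine ⟨termKilled_X₃ J S hS h₂.1, fun n m h => ?_⟩
  haveI := ses_epi_app S hS n
  haveI := ses_epi_app S hS m
  haveI := h₁ n m h
  haveI : Epi (tr S.X₂ h) := IsQuotLemmas.epi (h₂.2 n m h)
  haveI : Epi (tr S.X₃ h) := by
    haveI : Epi (S.g.app (op m) ≫ tr S.X₃ h) := by
      rw [← tr_naturality S.g h]; infer_instance
    exact epi_of_epi (S.g.app (op m)) _
  refine ⟨termKilled_X₃ J S hS h₂.1 n, fun Y φ hφ => ?_⟩
  obtain ⟨ψ₂, hψ₂⟩ := IsQuotLemmas.exists_desc (h₂.2 n m h) (S.g.app (op m) ≫ φ)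
    (HomKilledBy.comp_left hφ _)
  have h0 : S.f.app (op n) ≫ ψ₂ = 0 := by
    rw [← cancel_epi (tr S.X₁ h), comp_zero, ← Category.assoc, tr_naturality S.f h, Category.assoc,
      hψ₂, ← Category.assoc, ses_zero_app S hS, zero_comp]
  obtain ⟨ψ, hψ⟩ := ses_exists_desc S hS n ψ₂ h0
  have hfac : tr S.X₃ h ≫ ψ = φ := by
    rw [← cancel_epi (S.g.app (op m)), ← Category.assoc, ← tr_naturality S.g h, Category.assoc,
      hψ, hψ₂]
  refine ⟨ψ, hfac, fun ψ' hψ' => ?_⟩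
  have hψ'' : tr S.X₃ h ≫ ψ' = φ := hψ'
  rw [← cancel_epi (tr S.X₃ h), hψ'', hfac]

/-- In a short exact sequence with strict, termwise killed middle term and adic quotient, the
subsystem is strict. -/
theorem isStrict_X₁ (hJ : J.FG ∨ HasCoproducts.{w} C) (k₂ : TermKilled J S.X₂)
    (h₂ : IsStrict S.X₂) (h₃ : IsAdic J S.X₃) : IsStrict S.X₁ := by
  intro n m h
  obtain ⟨ι, a, hcop, ha⟩ := exists_gens (C := C) J hJ (n + 1)
  haveI := hcop
  have hq : IsQuot (Ideal.span (Set.range a)) (tr S.X₃ h) := by rw [ha]; exact h₃.2 n m h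
  have hkill : HomKilledBy (Ideal.span (Set.range a)) (tr S.X₂ h) := by
    rw [ha]; exact homKilledBy_of_target (k₂ n) _
  haveI := h₂ n m h
  haveI := ses_epi_app S hS m
  haveI := ses_mono_app S hS n
  rw [epi_iff_surjective_up_to_refinements]
  intro T x'
  obtain ⟨T₁, π₁, hπ₁, y₁, fac₁⟩ := surjective_up_to_refinements_of_epi (tr S.X₂ h)
    (x' ≫ S.f.app (op n))
  have hz : (y₁ ≫ S.g.app (op m)) ≫ tr S.X₃ h = 0 := by
    rw [Category.assoc, ← tr_naturality S.g h, ← Category.assoc, ← fac₁]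
    simp only [Category.assoc]
    rw [ses_zero_app S hS, comp_zero, comp_zero]
  obtain ⟨T₂, π₂, hπ₂, s, fac₂⟩ := exists_fac_dmap_of_isQuot a hq _ hz
  obtain ⟨T₃, π₃, hπ₃, s', fac₃⟩ := surjective_up_to_refinements_of_epi
    (Limits.Sigma.map (fun _ : ι => S.g.app (op m))) s
  have hw : (π₃ ≫ π₂ ≫ y₁ - s' ≫ dmap a (S.X₂.obj (op m))) ≫ S.g.app (op m) = 0 := by
    rw [Preadditive.sub_comp, sub_eq_zero]
    simp only [Category.assoc]
    rw [← dmap_naturality, ← Category.assoc s', ← fac₃, Category.assoc, ← fac₂]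
  obtain ⟨T₄, π₄, hπ₄, x'', fac₄⟩ := ses_exact_app S hS m _ hw
  haveI : Epi (π₄ ≫ π₃ ≫ π₂ ≫ π₁) := epi_comp' hπ₄ (epi_comp' hπ₃ (epi_comp' hπ₂ hπ₁))
  refine ⟨T₄, π₄ ≫ π₃ ≫ π₂ ≫ π₁, inferInstance, x'', ?_⟩
  rw [← cancel_mono (S.f.app (op n))]
  calc ((π₄ ≫ π₃ ≫ π₂ ≫ π₁) ≫ x') ≫ S.f.app (op n)
      = π₄ ≫ π₃ ≫ π₂ ≫ (π₁ ≫ x' ≫ S.f.app (op n)) := by simp only [Category.assoc]
    _ = π₄ ≫ (π₃ ≫ π₂ ≫ y₁ - s' ≫ dmap a (S.X₂.obj (op m))) ≫ tr S.X₂ h := by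
        rw [fac₁, Preadditive.sub_comp]
        simp only [Category.assoc]
        rw [dmap_comp_eq_zero a _ hkill, comp_zero, sub_zero]
    _ = (x'' ≫ tr S.X₁ h) ≫ S.f.app (op n) := by
        rw [← Category.assoc π₄, fac₄]
        simp only [Category.assoc]
        rw [tr_naturality S.f h]

/-- An extension of adic systems which is termwise killed is adic. -/
theorem isAdic_X₂ (hJ : J.FG ∨ HasCoproducts.{w} C) (k₂ : TermKilled J S.X₂)
    (h₁ : IsAdic J S.X₁) (h₃ : IsAdic J S.X₃) : IsAdic J S.X₂ := by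
  refine ⟨k₂, fun n m h => ?_⟩
  obtain ⟨ι, a, hcop, ha⟩ := exists_gens (C := C) J hJ (n + 1)
  haveI := hcop
  have hq₁ : IsQuot (Ideal.span (Set.range a)) (tr S.X₁ h) := by rw [ha]; exact h₁.2 n m h
  have hq₃ : IsQuot (Ideal.span (Set.range a)) (tr S.X₃ h) := by rw [ha]; exact h₃.2 n m h
  have hkill : HomKilledBy (Ideal.span (Set.range a)) (tr S.X₂ h) := by
    rw [ha]; exact homKilledBy_of_target (k₂ n) _
  haveI := ses_epi_app S hS m
  haveI := ses_epi_app S hS n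
  haveI := ses_mono_app S hS n
  haveI := ses_mono_app S hS m
  haveI : Epi (tr S.X₁ h) := IsQuotLemmas.epi hq₁
  haveI : Epi (tr S.X₃ h) := IsQuotLemmas.epi hq₃
  -- the transition map of the middle term is an epimorphism
  haveI : Epi (tr S.X₂ h) := by
    rw [epi_iff_surjective_up_to_refinements]
    intro T y
    obtain ⟨T₁, π₁, hπ₁, z₁, fac₁⟩ := surjective_up_to_refinements_of_epi (tr S.X₃ h)
      (y ≫ S.g.app (op n))
    obtain ⟨T₂, π₂, hπ₂, y₂, fac₂⟩ := surjective_up_to_refinements_of_epi (S.g.app (op m)) z₁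
    have hd : (π₂ ≫ π₁ ≫ y - y₂ ≫ tr S.X₂ h) ≫ S.g.app (op n) = 0 := by
      rw [Preadditive.sub_comp, sub_eq_zero]
      simp only [Category.assoc]
      rw [fac₁, tr_naturality S.g h, ← Category.assoc y₂, ← fac₂, Category.assoc]
    obtain ⟨T₃, π₃, hπ₃, x, fac₃⟩ := ses_exact_app S hS n _ hd
    obtain ⟨T₄, π₄, hπ₄, x₄, fac₄⟩ := surjective_up_to_refinements_of_epi (tr S.X₁ h) x
    haveI : Epi (π₄ ≫ π₃ ≫ π₂ ≫ π₁) := epi_comp' hπ₄ (epi_comp' hπ₃ (epi_comp' hπ₂ hπ₁))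
    refine ⟨T₄, π₄ ≫ π₃ ≫ π₂ ≫ π₁, inferInstance, x₄ ≫ S.f.app (op m) + π₄ ≫ π₃ ≫ y₂, ?_⟩
    have e : π₃ ≫ π₂ ≫ π₁ ≫ y = x ≫ S.f.app (op n) + π₃ ≫ y₂ ≫ tr S.X₂ h := by
      rw [← fac₃, Preadditive.comp_sub, sub_add_cancel]
    calc (π₄ ≫ π₃ ≫ π₂ ≫ π₁) ≫ y = π₄ ≫ (π₃ ≫ π₂ ≫ π₁ ≫ y) := by simp only [Category.assoc]
      _ = (π₄ ≫ x) ≫ S.f.app (op n) + π₄ ≫ π₃ ≫ y₂ ≫ tr S.X₂ h := by
          rw [e, Preadditive.comp_add]; simp only [Category.assoc]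
      _ = (x₄ ≫ S.f.app (op m) + π₄ ≫ π₃ ≫ y₂) ≫ tr S.X₂ h := by
          rw [fac₄, Preadditive.add_comp]
          simp only [Category.assoc]
          rw [tr_naturality S.f h]
  rw [← ha]
  refine isQuot_of_exists_fac a (by rw [ha]; exact k₂ n) ?_
  intro T t ht
  -- `g t` lies in `I X₃`
  have hz : (t ≫ S.g.app (op m)) ≫ tr S.X₃ h = 0 := by
    rw [Category.assoc, ← tr_naturality S.g h, ← Category.assoc, ht, zero_comp]
  obtain ⟨T₂, π₂, hπ₂, s, fac₂⟩ := exists_fac_dmap_of_isQuot a hq₃ _ hz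
  obtain ⟨T₃, π₃, hπ₃, s', fac₃⟩ := surjective_up_to_refinements_of_epi
    (Limits.Sigma.map (fun _ : ι => S.g.app (op m))) s
  have hw : (π₃ ≫ π₂ ≫ t - s' ≫ dmap a (S.X₂.obj (op m))) ≫ S.g.app (op m) = 0 := by
    rw [Preadditive.sub_comp, sub_eq_zero]
    simp only [Category.assoc]
    rw [← dmap_naturality, ← Category.assoc s', ← fac₃, Category.assoc, ← fac₂]
  obtain ⟨T₄, π₄, hπ₄, x', fac₄⟩ := ses_exact_app S hS m _ hw
  -- `x'` dies in `X₁_n`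
  have hx' : x' ≫ tr S.X₁ h = 0 := by
    rw [← cancel_mono (S.f.app (op n)), zero_comp, Category.assoc, tr_naturality S.f h,
      ← Category.assoc, ← fac₄, Preadditive.comp_sub, Preadditive.sub_comp]
    simp only [Category.assoc]
    rw [ht, dmap_comp_eq_zero a _ hkill]
    simp
  obtain ⟨T₅, π₅, hπ₅, s₁, fac₅⟩ := exists_fac_dmap_of_isQuot a hq₁ _ hx'
  haveI : Epi (π₅ ≫ π₄ ≫ π₃ ≫ π₂) := epi_comp' hπ₅ (epi_comp' hπ₄ (epi_comp' hπ₃ hπ₂))
  refine ⟨T₅, π₅ ≫ π₄ ≫ π₃ ≫ π₂, inferInstance,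
    s₁ ≫ Limits.Sigma.map (fun _ : ι => S.f.app (op m)) + π₅ ≫ π₄ ≫ s', ?_⟩
  have e : π₄ ≫ π₃ ≫ π₂ ≫ t = x' ≫ S.f.app (op m) + π₄ ≫ s' ≫ dmap a (S.X₂.obj (op m)) := by
    rw [← fac₄, Preadditive.comp_sub, sub_add_cancel]
  calc (π₅ ≫ π₄ ≫ π₃ ≫ π₂) ≫ t = π₅ ≫ (π₄ ≫ π₃ ≫ π₂ ≫ t) := by simp only [Category.assoc]
    _ = (π₅ ≫ x') ≫ S.f.app (op m) + π₅ ≫ π₄ ≫ s' ≫ dmap a (S.X₂.obj (op m)) := by
        rw [e, Preadditive.comp_add]; simp only [Category.assoc]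
    _ = (s₁ ≫ Limits.Sigma.map (fun _ : ι => S.f.app (op m)) + π₅ ≫ π₄ ≫ s') ≫
          dmap a (S.X₂.obj (op m)) := by
        rw [fac₅, Preadditive.add_comp]
        simp only [Category.assoc]
        rw [dmap_naturality]

end SES

end Groth.Agent.Helper5.ARS
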