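import Groth.Agent.Lib.Helper5.ARSys8

set_option autoImplicit false
set_option linter.style.haveILetI false
set_option linter.unusedSectionVars false

universe w v u

open CategoryTheory CategoryTheory.Limits Opposite ARSys

namespace Groth.Agent.Helper5.ARS

variable {C : Type u} [Category.{v} C] [Abelian C] {A : Type w} [CommRing A] [Linear A C]

theorem homKilledBy_of_epi_comp {I : Ideal A} {X Y Z : C} (p : X ⟶ Y) [Epi p] (φ : Y ⟶ Z)
    (h : HomKilledBy I (p ≫ φ)) : HomKilledBy I φ := fun a ha => by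
  rw [← cancel_epi p, comp_zero, Linear.comp_smul]
  exact h a ha

/-- Termwise quotient maps `X[r] ⟶ Y` onto an adic system make `X` adic up to translation. -/
theorem isARAdic_of_quot (J : Ideal A) (X : PS C) (kX : TermKilled J X) (r : ℕ) (Y : PS C)
    (q : (shift C r).obj X ⟶ Y) (hq : ∀ n : ℕ, IsQuot (J ^ (n + 1)) (q.app (op n)))
    (hY : IsAdic J Y) : IsARAdic J X := by
  refine ⟨kX, Y, ?_⟩
  -- components of `q` with explicit types
  let qn : ∀ n : ℕ, X.obj (op (n + r)) ⟶ Y.obj (op n) := fun n => q.app (op n)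
  have hqn : ∀ n : ℕ, IsQuot (J ^ (n + 1)) (qn n) := hq
  have qnat : ∀ (n m : ℕ) (h : n ≤ m),
      tr X (Nat.add_le_add_right h r) ≫ qn n = qn m ≫ tr Y h := fun n m h =>
    q.naturality (homOfLE h).op
  haveI : ∀ n, Epi (qn n) := fun n => IsQuotLemmas.epi (hqn n)
  -- the induced maps `Y_n ⟶ X_n`
  have hσ : ∀ n : ℕ, ∃ σ : Y.obj (op n) ⟶ X.obj (op n), qn n ≫ σ = tr X (Nat.le_add_right n r) :=
    fun n => IsQuotLemmas.exists_desc (hqn n) _ (homKilledBy_of_target (kX n) _)
  choose σ hσ using hσ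
  have σnat : ∀ (n m : ℕ) (h : n ≤ m), tr Y h ≫ σ n = σ m ≫ tr X h := by
    intro n m h
    rw [← cancel_epi (qn m), ← Category.assoc, ← qnat n m h, Category.assoc, hσ, ← Category.assoc,
      hσ, tr_comp, tr_comp]
  let u : Y ⟶ X :=
    { app := fun k => σ k.unop
      naturality := fun k l φ => σnat l.unop k.unop (leOfHom φ.unop) }
  refine ⟨u, hY, ?_⟩
  have hqu : q ≫ u = shiftNat X r := by
    ext ⟨n⟩
    exact hσ n
  have hqiso : IsARIso q := by
    rw [isARIso_iff]
    constructor
    · refine ⟨r, fun n k h T t ht => ?_⟩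
      have key : ∀ (t' : T ⟶ X.obj (op (k + r))), t' ≫ qn k = 0 →
          t' ≫ tr X (Nat.add_le_add_right (le_of_add_le_left h) r) = 0 := by
        intro t' ht'
        obtain ⟨φ', hφ'⟩ := IsQuotLemmas.exists_desc (hqn k)
          (tr X (Nat.add_le_add_right (le_of_add_le_left h) r))
          (homKilledBy_of_target (KilledBy.mono (Ideal.pow_le_pow_right (by omega))
            (kX (n + r))) _)
        rw [← hφ', ← Category.assoc, ht', zero_comp]
      exact key t ht
    · haveI : Epi q := (NatTrans.epi_iff_epi_app q).2 (fun k => by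
        obtain ⟨k⟩ := k
        exact (inferInstance : Epi (qn k)))
      exact (isARNull_cokernel_iff' q).1 (isARNull_cokernel_of_epi q)
  exact isARIso_of_comp_left (by rw [hqu]; exact isARIso_shiftNat X r) hqiso

/-- If `X` is strict, a morphism `u : Y ⟶ X` with cokernel null up to translation is an
epimorphism. -/
theorem epi_of_isStrict_of_cokerNull {X Y : PS C} (u : Y ⟶ X) (hX : IsStrict X)
    (hu : IsARNull (cokernel u)) : Epi u := by
  obtain ⟨r, hr⟩ := (isARNull_cokernel_iff u).1 hu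
  refine (NatTrans.epi_iff_epi_app u).2 (fun k => ?_)
  obtain ⟨n⟩ := k
  haveI := hX n (n + r) (Nat.le_add_right n r)
  have h0 : cokernel.π (u.app (op n)) = 0 := by
    rw [← cancel_epi (tr X (Nat.le_add_right n r)), hr n, comp_zero]
  exact Preadditive.epi_of_cokernel_zero h0

/-- A strict system which is adic up to translation receives termwise quotient maps from a
translate onto an adic system. -/
theorem exists_quot_of_isARAdic (J : Ideal A) (hJ : J.FG ∨ HasCoproducts.{w} C) (X : PS C)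
    (hX : IsStrict X) (h : IsARAdic J X) :
    ∃ (r : ℕ) (Y : PS C) (q : (shift C r).obj X ⟶ Y),
      (∀ n : ℕ, IsQuot (J ^ (n + 1)) (q.app (op n))) ∧ IsAdic J Y := by
  obtain ⟨kX, Y, u, hY, hu⟩ := h
  haveI : Epi u := epi_of_isStrict_of_cokerNull u hX hu.2
  haveI : ∀ n : ℕ, Epi (u.app (op n)) := fun n => (NatTrans.epi_iff_epi_app u).1 inferInstance _
  obtain ⟨r, hr⟩ := (isARNull_kernel_iff u).1 hu.1
  let s := shiftInvOfEpi u r (fun n => hr n _ _ (kernel.condition _))
  let q : (shift C r).obj X ⟶ Y :=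
    { app := fun k => s.v k.unop
      naturality := fun k l φ => s.nat l.unop k.unop (leOfHom φ.unop) }
  refine ⟨r, Y, q, fun n => ?_, hY⟩
  show IsQuot (J ^ (n + 1)) (s.v n)
  obtain ⟨ι, a, hcop, ha⟩ := exists_gens (C := C) J hJ (n + 1)
  haveI := hcop
  have hqY : IsQuot (Ideal.span (Set.range a)) (tr Y (Nat.le_add_right n r)) := by
    rw [ha]; exact hY.2 n _ _
  haveI : Epi (tr Y (Nat.le_add_right n r)) := IsQuotLemmas.epi hqY
  haveI : Epi (s.v n) := by
    haveI : Epi (u.app (op (n + r)) ≫ s.v n) := by rw [s.u_v]; infer_instance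
    exact epi_of_epi (u.app (op (n + r))) _
  rw [← ha]
  refine isQuot_of_exists_fac a (by rw [ha]; exact hY.1 n) ?_
  intro T t ht
  obtain ⟨T₁, π₁, hπ₁, y, fac₁⟩ := surjective_up_to_refinements_of_epi (u.app (op (n + r))) t
  have hy : y ≫ tr Y (Nat.le_add_right n r) = 0 := by
    rw [← s.u_v, ← Category.assoc, ← fac₁, Category.assoc, ht, comp_zero]
  obtain ⟨T₂, π₂, hπ₂, s', fac₂⟩ := exists_fac_dmap_of_isQuot a hqY y hy
  haveI : Epi (π₂ ≫ π₁) := epi_comp' hπ₂ hπ₁
  refine ⟨T₂, π₂ ≫ π₁, inferInstance, s' ≫ Limits.Sigma.map (fun _ : ι => u.app (op (n + r))), ?_⟩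
  rw [Category.assoc, fac₁, ← Category.assoc, fac₂, Category.assoc, Category.assoc,
    dmap_naturality]

end Groth.Agent.Helper5.ARS
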