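import Mathlib

/-!
# Absolutely integrally closed rings: localizations at primes are strictly henselian
-/

set_option autoImplicit false
set_option linter.style.haveILetI false
set_option linter.unusedSectionVars false

namespace Groth.Agent.Helper5.AbsIntClosed

open Polynomial IsLocalRing

universe u

/-- `A` is absolutely integrally closed: every monic polynomial splits into linear factors. -/
def AIC (A : Type u) [CommRing A] : Prop :=
  ∀ f : A[X], f.Monic → ∃ s : Multiset A, f = (s.map fun a => X - C a).prod

/-- Absolute integral closedness passes to localizations. -/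
theorem aic_localization {A : Type u} [CommRing A] (hA : AIC A) (M : Submonoid A)
    (S : Type u) [CommRing S] [Algebra A S] [IsLocalization M S] : AIC S := by
  classical
  intro f hf
  rcases subsingleton_or_nontrivial S with hS | hS
  · exact ⟨0, Subsingleton.elim _ _⟩
  set n := f.natDegree with hn
  obtain ⟨b, hb⟩ := IsLocalization.exist_integer_multiples_of_finset M
    ((Finset.range n).image f.coeff)
  set σ : S := algebraMap A S b with hσ
  have hσu : IsUnit σ := IsLocalization.map_units S b
  set h := f.scaleRoots σ with hh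
  have hhm : h.Monic := (monic_scaleRoots_iff σ).mpr hf
  have hlift : h ∈ lifts (algebraMap A S) := by
    rw [lifts_iff_coeff_lifts]
    intro i
    rw [hh, coeff_scaleRoots]
    rcases lt_trichotomy i n with hi | hi | hi
    · obtain ⟨a, ha⟩ := hb (f.coeff i) (Finset.mem_image_of_mem _ (Finset.mem_range.mpr hi))
      refine ⟨a * b ^ (n - i - 1), ?_⟩
      rw [map_mul, ha, map_pow, Algebra.smul_def, ← hσ, ← hn]
      have e : σ ^ (n - i) = σ * σ ^ (n - i - 1) := by
        rw [← pow_succ']
        congr 1
        omega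
      rw [e]
      ring
    · subst hi
      refine ⟨1, ?_⟩
      rw [map_one, ← hn, Nat.sub_self, pow_zero, mul_one, hn]
      exact hf.coeff_natDegree.symm
    · refine ⟨0, ?_⟩
      rw [map_zero, coeff_eq_zero_of_natDegree_lt (hn ▸ hi), zero_mul]
  obtain ⟨g, hgh, -, hgm⟩ := lifts_and_natDegree_eq_and_monic hlift hhm
  obtain ⟨s, hs⟩ := hA g hgm
  -- factorization of `h`
  have hhfac : h = ((s.map (algebraMap A S)).map fun a => X - C a).prod := by
    rw [← hgh, hs, Polynomial.map_multiset_prod, Multiset.map_map, Multiset.map_map]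
    congr 1
    refine Multiset.map_congr rfl fun a _ => ?_
    simp
  obtain ⟨t, ht⟩ : ∃ t, t = s.map (algebraMap A S) := ⟨_, rfl⟩
  rw [← ht] at hhfac
  have hcard : t.card = n := by
    have h1 := natDegree_multiset_prod_X_sub_C_eq_card t
    rw [← hhfac, hh, natDegree_scaleRoots] at h1
    exact h1.symm
  obtain ⟨τ, hτ⟩ := hσu
  -- evaluate at `C σ * X`
  have e1 : eval₂ C (C σ * X) h = C σ ^ n * f := by
    rw [hh, scaleRoots_eval₂_mul, eval₂_C_X]
  have e2 : eval₂ C (C σ * X) h =
      C σ ^ n * ((t.map fun β => (↑τ⁻¹ : S) * β).map fun a => X - C a).prod := by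
    rw [hhfac, eval₂_multiset_prod, Multiset.map_map, Multiset.map_map]
    have h3 : ∀ β : S, eval₂ C (C σ * X) (X - C β) = C σ * (X - C ((↑τ⁻¹ : S) * β)) := by
      intro β
      rw [eval₂_sub, eval₂_X, eval₂_C, mul_sub, ← C_mul, ← mul_assoc, ← hτ, Units.mul_inv,
        one_mul]
    have h4 : Multiset.map ((eval₂ C (C σ * X)) ∘ fun a => X - C a) t =
        Multiset.map (fun β => C σ * (X - C ((↑τ⁻¹ : S) * β))) t :=
      Multiset.map_congr rfl fun β _ => h3 β
    rw [h4]
    have h5 : Multiset.map (fun β => C σ * (X - C ((↑τ⁻¹ : S) * β))) t =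
        Multiset.map (fun q => C σ * q)
          (Multiset.map ((fun a => X - C a) ∘ fun β => (↑τ⁻¹ : S) * β) t) := by
      rw [Multiset.map_map]
      rfl
    rw [h5, Multiset.prod_map_mul, Multiset.map_const', Multiset.prod_replicate,
      Multiset.card_map, hcard, Multiset.map_id']
  refine ⟨t.map fun β => (↑τ⁻¹ : S) * β, ?_⟩
  have hCu : IsUnit (C σ ^ n : S[X]) := by
    rw [← hτ]
    exact (τ.isUnit.map C).pow n
  exact hCu.mul_left_cancel (e1.symm.trans e2)


/-- An absolutely integrally closed local ring is henselian. -/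
theorem henselianLocalRing_of_aic {R : Type u} [CommRing R] [IsLocalRing R] (hR : AIC R) :
    HenselianLocalRing R := by
  refine { toIsLocalRing := inferInstance, is_henselian := ?_ }
  intro P hP a₀ h₁ _
  obtain ⟨s, rfl⟩ := hR P hP
  rw [eval_multiset_prod, Multiset.map_map,
    (maximalIdeal.isMaximal R).isPrime.multiset_prod_mem_iff_exists_mem] at h₁
  obtain ⟨q, hq, hqm⟩ := h₁
  obtain ⟨β, hβ, rfl⟩ := Multiset.mem_map.mp hq
  simp only [Function.comp_apply, eval_sub, eval_X, eval_C] at hqm
  refine ⟨β, ?_, ?_⟩
  · rw [IsRoot.def, eval_multiset_prod, Multiset.map_map]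
    apply Multiset.prod_eq_zero
    rw [Multiset.mem_map]
    exact ⟨β, hβ, by simp⟩
  · have := Submodule.neg_mem _ hqm
    rwa [neg_sub] at this

/-- The residue field of an absolutely integrally closed local ring is separably closed. -/
theorem isSepClosed_residueField_of_aic {R : Type u} [CommRing R] [IsLocalRing R] (hR : AIC R) :
    IsSepClosed (ResidueField R) := by
  apply IsSepClosed.of_exists_root
  intro p hpm hpirr _
  have hlift : p ∈ lifts (residue R) :=
    (mem_lifts p).mpr (map_surjective _ residue_surjective p)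
  obtain ⟨P, hPp, hPdeg, hPm⟩ := lifts_and_natDegree_eq_and_monic hlift hpm
  obtain ⟨s, hs⟩ := hR P hPm
  have hcard : s.card = p.natDegree := by
    rw [← hPdeg, hs, natDegree_multiset_prod_X_sub_C_eq_card]
  have hpos : 0 < p.natDegree := natDegree_pos_iff_degree_pos.mpr (degree_pos_of_irreducible hpirr)
  obtain ⟨β, hβ⟩ := Multiset.card_pos_iff_exists_mem.mp (hcard ▸ hpos)
  refine ⟨residue R β, ?_⟩
  rw [← hPp, eval_map, eval₂_at_apply, hs, eval_multiset_prod, Multiset.map_map]
  have : (Multiset.map (eval β ∘ fun a => X - C a) s).prod = 0 := by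
    apply Multiset.prod_eq_zero
    rw [Multiset.mem_map]
    exact ⟨β, hβ, by simp⟩
  rw [this, map_zero]

end Groth.Agent.Helper5.AbsIntClosed
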