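import Mathlib

/-! Consequences of the Artin–Rees lemma. -/

set_option autoImplicit false
set_option linter.style.haveILetI false

namespace Groth.Agent.Helper5.ArtinRees

variable {A : Type*} [CommRing A] [IsNoetherianRing A] (I : Ideal A)

lemma exists_inf_le {M : Type*} [AddCommGroup M] [Module A M] [Module.Finite A M]
    (N : Submodule A M) : ∃ c : ℕ, ∀ n : ℕ, I ^ (n + c) • ⊤ ⊓ N ≤ I ^ n • N := by
  obtain ⟨k, hk⟩ := Ideal.exists_pow_inf_eq_pow_smul I N
  refine ⟨k, fun n => ?_⟩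
  rw [hk (n + k) (Nat.le_add_left _ _), Nat.add_sub_cancel]
  exact Submodule.smul_mono le_rfl inf_le_right

lemma exists_preimage {L M : Type*} [AddCommGroup L] [Module A L]
    [AddCommGroup M] [Module A M] [Module.Finite A M] (β : L →ₗ[A] M) :
    ∃ c : ℕ, ∀ n : ℕ, ∀ y : L, β y ∈ (I ^ (n + c) • ⊤ : Submodule A M) →
      ∃ w ∈ (I ^ n • ⊤ : Submodule A L), β w = β y := by
  obtain ⟨c, hc⟩ := exists_inf_le I (LinearMap.range β)
  refine ⟨c, fun n y hy => ?_⟩
  have h1 : β y ∈ I ^ n • LinearMap.range β := hc n ⟨hy, LinearMap.mem_range_self β y⟩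
  rw [← Submodule.map_top, ← Submodule.map_smul''] at h1
  obtain ⟨w, hw, hwy⟩ := h1
  exact ⟨w, hw, hwy⟩

lemma exists_preimage_mono {L M : Type*} [AddCommGroup L] [Module A L]
    [AddCommGroup M] [Module A M] [Module.Finite A M] (β : L →ₗ[A] M) :
    ∃ c : ℕ, ∀ c' ≥ c, ∀ n : ℕ, ∀ y : L, β y ∈ (I ^ (n + c') • ⊤ : Submodule A M) →
      ∃ w ∈ (I ^ n • ⊤ : Submodule A L), β w = β y := by
  obtain ⟨c, hc⟩ := exists_preimage I β
  refine ⟨c, fun c' hc' n y hy => hc n y ?_⟩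
  refine Submodule.smul_mono_left (Ideal.pow_le_pow_right ?_) hy
  omega

end Groth.Agent.Helper5.ArtinRees
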