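import Mathlib
import Groth.Agent.Lib.Helper5.ArtinRees

/-! Approximate lifting of homomorphisms modulo powers of an ideal. -/

set_option autoImplicit false
set_option linter.style.haveILetI false

namespace Groth.Agent.Helper5.ArtinRees

variable {A : Type*} [CommRing A] (I : Ideal A)

/-- a map from a finite free module with values in `J N` lies in `J Hom`. -/
lemma mem_smul_top_of_forall_mem {a : ℕ} {N : Type*} [AddCommGroup N] [Module A N]
    (J : Ideal A) (ψ : (Fin a → A) →ₗ[A] N) (h : ∀ x, ψ x ∈ (J • ⊤ : Submodule A N)) :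
    ψ ∈ (J • ⊤ : Submodule A ((Fin a → A) →ₗ[A] N)) := by
  classical
  let Φ : Fin a → N →ₗ[A] ((Fin a → A) →ₗ[A] N) := fun i =>
    (LinearMap.smulRightₗ : ((Fin a → A) →ₗ[A] A) →ₗ[A] N →ₗ[A] ((Fin a → A) →ₗ[A] N))
      (LinearMap.proj i)
  have hψ : ψ = ∑ i, Φ i (ψ (fun j => if i = j then 1 else 0)) := by
    refine LinearMap.ext fun x => ?_
    rw [LinearMap.sum_apply]
    conv_lhs => rw [LinearMap.pi_apply_eq_sum_univ ψ x]
    apply Finset.sum_congr rfl
    intro i _
    simp [Φ, LinearMap.smulRightₗ_apply]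
  rw [hψ]
  refine Submodule.sum_mem _ fun i _ => ?_
  have h1 : Φ i (ψ (fun j => if i = j then 1 else 0)) ∈
      Submodule.map (Φ i) (J • ⊤ : Submodule A N) := Submodule.mem_map_of_mem (h _)
  rw [Submodule.map_smul''] at h1
  exact Submodule.smul_mono le_rfl le_top h1

lemma apply_mem_of_mem_smul_top {F N : Type*} [AddCommGroup F] [Module A F]
    [AddCommGroup N] [Module A N] (J : Ideal A) (z : F →ₗ[A] N)
    (hz : z ∈ (J • ⊤ : Submodule A (F →ₗ[A] N))) (x : F) : z x ∈ (J • ⊤ : Submodule A N) := by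
  have h1 : LinearMap.applyₗ x z ∈ Submodule.map (LinearMap.applyₗ x : (F →ₗ[A] N) →ₗ[A] N)
      (J • ⊤ : Submodule A (F →ₗ[A] N)) := Submodule.mem_map_of_mem hz
  rw [Submodule.map_smul''] at h1
  exact Submodule.smul_mono le_rfl le_top h1

variable [IsNoetherianRing A]

/-- Approximate lifting: a homomorphism `M → N/I^(n+c)N` agrees modulo `I^n N` with
an honest homomorphism `M → N`. -/
theorem exists_approx_lift (M N : Type*) [AddCommGroup M] [Module A M] [Module.Finite A M]
    [AddCommGroup N] [Module A N] [Module.Finite A N] :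
    ∃ c : ℕ, ∀ (n : ℕ) (ψ : M →ₗ[A] N ⧸ (I ^ (n + c) • ⊤ : Submodule A N)),
      ∃ φ : M →ₗ[A] N, ∀ (m : M) (y : N), Submodule.Quotient.mk y = ψ m →
        φ m - y ∈ (I ^ n • ⊤ : Submodule A N) := by
  obtain ⟨b, π, hπ⟩ := Module.Finite.exists_fin' A M
  obtain ⟨a, j', hj'⟩ := Module.Finite.exists_fin' A (LinearMap.ker π)
  set j : (Fin a → A) →ₗ[A] (Fin b → A) := (LinearMap.ker π).subtype ∘ₗ j' with hj
  have hrange : LinearMap.range j = LinearMap.ker π := by
    rw [hj, LinearMap.range_comp, LinearMap.range_eq_top.mpr hj', Submodule.map_top,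
      Submodule.range_subtype]
  obtain ⟨c, hc⟩ := exists_preimage I (LinearMap.lcomp A N j)
  refine ⟨c, fun n ψ => ?_⟩
  obtain ⟨t, ht⟩ := Module.projective_lifting_property
    (I ^ (n + c) • ⊤ : Submodule A N).mkQ (ψ ∘ₗ π) (Submodule.mkQ_surjective _)
  have ht' : ∀ x, Submodule.Quotient.mk (t x) = ψ (π x) := fun x => by
    have := congrArg (fun f => f x) ht
    simpa using this
  have h1 : LinearMap.lcomp A N j t ∈
      (I ^ (n + c) • ⊤ : Submodule A ((Fin a → A) →ₗ[A] N)) := by
    apply mem_smul_top_of_forall_mem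
    intro x
    rw [LinearMap.lcomp_apply, ← Submodule.Quotient.mk_eq_zero, ht']
    have : π (j x) = 0 := by
      have : j x ∈ LinearMap.ker π := by rw [← hrange]; exact LinearMap.mem_range_self j x
      exact this
    rw [this, map_zero]
  obtain ⟨w, hw, hwt⟩ := hc n t h1
  have hker : LinearMap.ker π ≤ LinearMap.ker (t - w) := by
    rw [← hrange]
    rintro _ ⟨x, rfl⟩
    rw [LinearMap.mem_ker, LinearMap.sub_apply, sub_eq_zero]
    have := congrArg (fun f => f x) hwt
    simp only [LinearMap.lcomp_apply] at this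
    exact this.symm
  let φ : M →ₗ[A] N := (LinearMap.ker π).liftQ (t - w) hker ∘ₗ
    (π.quotKerEquivOfSurjective hπ).symm.toLinearMap
  have hφ : ∀ x, φ (π x) = t x - w x := by
    intro x
    have : (π.quotKerEquivOfSurjective hπ).symm (π x) = Submodule.Quotient.mk x := by
      rw [LinearEquiv.symm_apply_eq]
      rfl
    simp only [φ, LinearMap.comp_apply, LinearEquiv.coe_coe, this]
    rfl
  refine ⟨φ, fun m y hy => ?_⟩
  obtain ⟨x, rfl⟩ := hπ m
  rw [hφ]
  have h2 : t x - y ∈ (I ^ n • ⊤ : Submodule A N) := by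
    have : t x - y ∈ (I ^ (n + c) • ⊤ : Submodule A N) := by
      rw [← Submodule.Quotient.eq, ht', hy]
    exact Submodule.smul_mono_left (Ideal.pow_le_pow_right (Nat.le_add_right n c)) this
  have h3 : w x ∈ (I ^ n • ⊤ : Submodule A N) := apply_mem_of_mem_smul_top _ w hw x
  have : t x - w x - y = (t x - y) - w x := by abel
  rw [this]
  exact sub_mem h2 h3

end Groth.Agent.Helper5.ArtinRees
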