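import Mathlib
import Groth.Agent.Lib.Helper5.ArtinRees2

/-! `Hom(M,N)/I^n → Hom(M, N/I^n)` has kernel killed by a fixed power of `I`. -/

set_option autoImplicit false
set_option linter.style.haveILetI false

namespace Groth.Agent.Helper5.ArtinRees

variable {A : Type*} [CommRing A] (I : Ideal A) [IsNoetherianRing A]

theorem exists_smul_hom_mem (M N : Type*) [AddCommGroup M] [Module A M] [Module.Finite A M]
    [AddCommGroup N] [Module A N] [Module.Finite A N] :
    ∃ c : ℕ, ∀ (n : ℕ) (φ : M →ₗ[A] N), (∀ m, φ m ∈ (I ^ n • ⊤ : Submodule A N)) →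
      ∀ a ∈ I ^ c, a • φ ∈ (I ^ n • ⊤ : Submodule A (M →ₗ[A] N)) := by
  obtain ⟨b, π, hπ⟩ := Module.Finite.exists_fin' A M
  -- Ξ : Hom(M,N) → Hom(F,N)
  set Ξ : (M →ₗ[A] N) →ₗ[A] ((Fin b → A) →ₗ[A] N) := LinearMap.lcomp A N π with hΞ
  have hΞinj : Function.Injective Ξ := by
    intro φ₁ φ₂ h
    ext m
    obtain ⟨x, rfl⟩ := hπ m
    have := congrArg (fun f => f x) h
    simpa [hΞ] using this
  obtain ⟨c, hc⟩ := exists_inf_le I (LinearMap.range Ξ)
  refine ⟨c, fun n φ hφ a ha => ?_⟩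
  have h1 : Ξ φ ∈ (I ^ n • ⊤ : Submodule A ((Fin b → A) →ₗ[A] N)) := by
    apply mem_smul_top_of_forall_mem
    intro x
    exact hφ (π x)
  have h2 : a • Ξ φ ∈ I ^ n • LinearMap.range Ξ := by
    by_cases hn : c ≤ n
    · have h3 : Ξ φ ∈ I ^ (n - c) • LinearMap.range Ξ :=
        hc (n - c) ⟨by rwa [Nat.sub_add_cancel hn], LinearMap.mem_range_self Ξ φ⟩
      have h4 := Submodule.smul_mem_smul ha h3
      rw [← mul_smul, ← pow_add, add_comm, Nat.sub_add_cancel hn] at h4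
      exact h4
    · exact Submodule.smul_mem_smul (Ideal.pow_le_pow_right (by omega) ha)
        (LinearMap.mem_range_self Ξ φ)
  rw [← Submodule.map_top, ← Submodule.map_smul''] at h2
  obtain ⟨φ', hφ', h5⟩ := h2
  have : φ' = a • φ := hΞinj (by rw [h5, map_smul])
  rw [← this]
  exact hφ'

end Groth.Agent.Helper5.ArtinRees
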