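import Mathlib
import Groth.Agent.Lib.Helper5.ArtinRees3

/-! Finite modules with isomorphic reductions have isomorphic completions. -/

set_option autoImplicit false
set_option linter.style.haveILetI false

namespace Groth.Agent.Helper5.ArtinRees

universe u
variable {A : Type u} [CommRing A] (I : Ideal A) [IsNoetherianRing A]

lemma bijective_map_of_sub_mem {M : Type u} [AddCommGroup M] [Module A M] [Module.Finite A M]
    (ψ : M →ₗ[A] M) (h : ∀ m, ψ m - m ∈ (I • ⊤ : Submodule A M)) :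
    Function.Bijective (AdicCompletion.map I ψ) := by
  have hsurj : Function.Surjective (AdicCompletion.map I ψ) := by
    apply AdicCompletion.map_surjective_of_mkQ_comp_surjective
    intro y
    obtain ⟨m, rfl⟩ := Submodule.mkQ_surjective _ y
    refine ⟨m, ?_⟩
    simp only [LinearMap.comp_apply, Submodule.mkQ_apply]
    rw [Submodule.Quotient.eq]
    exact h m
  haveI : Module.Finite (AdicCompletion I A) (AdicCompletion I M) :=
    Module.Finite.equiv (AdicCompletion.ofTensorProductEquivOfFiniteNoetherian I M)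
  exact ⟨OrzechProperty.injective_of_surjective_endomorphism _ hsurj, hsurj⟩

theorem nonempty_equiv_of_equiv {M N : Type u} [AddCommGroup M] [Module A M] [Module.Finite A M]
    [AddCommGroup N] [Module A N] [Module.Finite A N] :
    ∃ n : ℕ, Nonempty ((M ⧸ (I ^ n • ⊤ : Submodule A M)) ≃ₗ[A] (N ⧸ (I ^ n • ⊤ : Submodule A N))) →
      Nonempty (AdicCompletion I M ≃ₗ[AdicCompletion I A] AdicCompletion I N) := by
  obtain ⟨c₁, hc₁⟩ := exists_approx_lift I M N
  obtain ⟨c₂, hc₂⟩ := exists_approx_lift I N M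
  refine ⟨max c₁ c₂ + 1, ?_⟩
  rintro ⟨e⟩
  -- rewrite the exponent
  obtain ⟨n₁, hn₁, hn₁'⟩ : ∃ n₁, max c₁ c₂ + 1 = n₁ + c₁ ∧ 1 ≤ n₁ :=
    ⟨max c₁ c₂ + 1 - c₁, by omega, by omega⟩
  obtain ⟨n₂, hn₂, hn₂'⟩ : ∃ n₂, max c₁ c₂ + 1 = n₂ + c₂ ∧ 1 ≤ n₂ :=
    ⟨max c₁ c₂ + 1 - c₂, by omega, by omega⟩
  have hI1 : I ^ n₁ ≤ I := by
    have : I ^ n₁ ≤ I ^ 1 := Ideal.pow_le_pow_right hn₁'
    rwa [pow_one] at this
  have hI2 : I ^ n₂ ≤ I := by
    have : I ^ n₂ ≤ I ^ 1 := Ideal.pow_le_pow_right hn₂'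
    rwa [pow_one] at this
  -- approximate lifts
  have h1 : ∃ φ : M →ₗ[A] N, ∀ (m : M) (y : N),
      (Submodule.Quotient.mk y : N ⧸ (I ^ (max c₁ c₂ + 1) • ⊤ : Submodule A N)) =
        e (Submodule.Quotient.mk m) → φ m - y ∈ (I • ⊤ : Submodule A N) := by
    generalize max c₁ c₂ + 1 = k at e hn₁
    subst hn₁
    obtain ⟨φ, hφ⟩ := hc₁ n₁ (e.toLinearMap ∘ₗ Submodule.mkQ _)
    exact ⟨φ, fun m y hy => Submodule.smul_mono_left hI1 (hφ m y hy)⟩
  have h2 : ∃ φ' : N →ₗ[A] M, ∀ (y : N) (m : M),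
      (Submodule.Quotient.mk m : M ⧸ (I ^ (max c₁ c₂ + 1) • ⊤ : Submodule A M)) =
        e.symm (Submodule.Quotient.mk y) → φ' y - m ∈ (I • ⊤ : Submodule A M) := by
    generalize max c₁ c₂ + 1 = k at e hn₂
    subst hn₂
    obtain ⟨φ', hφ'⟩ := hc₂ n₂ (e.symm.toLinearMap ∘ₗ Submodule.mkQ _)
    exact ⟨φ', fun y m hm => Submodule.smul_mono_left hI2 (hφ' y m hm)⟩
  obtain ⟨φ, hφ⟩ := h1
  obtain ⟨φ', hφ'⟩ := h2
  have hmapI : ∀ {P Q : Type u} [AddCommGroup P] [Module A P] [AddCommGroup Q] [Module A Q]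
      (f : P →ₗ[A] Q) (x : P), x ∈ (I • ⊤ : Submodule A P) → f x ∈ (I • ⊤ : Submodule A Q) := by
    intro P Q _ _ _ _ f x hx
    have : f x ∈ Submodule.map f (I • ⊤ : Submodule A P) := Submodule.mem_map_of_mem hx
    rw [Submodule.map_smul''] at this
    exact Submodule.smul_mono le_rfl le_top this
  have hA : ∀ m, (φ' ∘ₗ φ) m - m ∈ (I • ⊤ : Submodule A M) := by
    intro m
    obtain ⟨y, hy⟩ := Submodule.Quotient.mk_surjective _ (e (Submodule.Quotient.mk m))
    have e1 := hφ m y hy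
    have e2 := hφ' y m (by rw [hy, LinearEquiv.symm_apply_apply])
    have e3 := hmapI φ' _ e1
    have : (φ' ∘ₗ φ) m - m = φ' (φ m - y) + (φ' y - m) := by
      rw [LinearMap.comp_apply, map_sub]; abel
    rw [this]
    exact add_mem e3 e2
  have hB : ∀ y, (φ ∘ₗ φ') y - y ∈ (I • ⊤ : Submodule A N) := by
    intro y
    obtain ⟨m, hm⟩ := Submodule.Quotient.mk_surjective _ (e.symm (Submodule.Quotient.mk y))
    have e1 := hφ' y m hm
    have e2 := hφ m y (by rw [hm, LinearEquiv.apply_symm_apply])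
    have e3 := hmapI φ _ e1
    have : (φ ∘ₗ φ') y - y = φ (φ' y - m) + (φ m - y) := by
      rw [LinearMap.comp_apply, map_sub]; abel
    rw [this]
    exact add_mem e3 e2
  have bA := bijective_map_of_sub_mem I (φ' ∘ₗ φ) hA
  have bB := bijective_map_of_sub_mem I (φ ∘ₗ φ') hB
  rw [← AdicCompletion.map_comp] at bA bB
  have hinj : Function.Injective (AdicCompletion.map I φ) := by
    have := bA.1
    rw [LinearMap.coe_comp] at this
    exact Function.Injective.of_comp this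
  have hsurj : Function.Surjective (AdicCompletion.map I φ) := by
    have := bB.2
    rw [LinearMap.coe_comp] at this
    exact Function.Surjective.of_comp this
  exact ⟨LinearEquiv.ofBijective (AdicCompletion.map I φ) ⟨hinj, hsurj⟩⟩

end Groth.Agent.Helper5.ArtinRees
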