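import Mathlib

/-!
# Base change along a pushout of rings preserves exactness of `A`-universally exact sequences

Pure algebra: `A → B`, `A → A'`, `C = A' ⊗[A] B`, `B'` flat over `C`.  If a sequence of `B`-modules
stays exact after `A' ⊗[A] -`, then it stays exact after `B' ⊗[B] -`.
-/

set_option autoImplicit false
set_option linter.unusedSectionVars false
set_option linter.unusedVariables false

universe u

open TensorProduct

namespace Groth.Agent.Helper5.BCF

variable {A A' B B' C : Type u} [CommRing A] [CommRing A'] [CommRing B] [CommRing B'] [CommRing C]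
  [Algebra A A'] [Algebra A B] [Algebra A C] [Algebra A' C] [Algebra B C]
  [IsScalarTower A A' C] [IsScalarTower A B C] [Algebra.IsPushout A A' B C]
  [Algebra C B'] [Algebra A' B'] [Algebra B B'] [IsScalarTower A' C B'] [IsScalarTower B C B']
  {M₁ M₂ M₃ : Type u} [AddCommGroup M₁] [AddCommGroup M₂] [AddCommGroup M₃]
  [Module B M₁] [Module B M₂] [Module B M₃] [Module A M₁] [Module A M₂] [Module A M₃]
  [IsScalarTower A B M₁] [IsScalarTower A B M₂] [IsScalarTower A B M₃]

/-- naturality of `Algebra.IsPushout.cancelBaseChange` (inverse direction) -/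
lemma cancel_symm_nat (u : M₁ →ₗ[B] M₂) (y : A' ⊗[A] M₁) :
    (u.baseChange C) ((Algebra.IsPushout.cancelBaseChange A A' B C M₁).symm y) =
      (Algebra.IsPushout.cancelBaseChange A A' B C M₂).symm
        (((u.restrictScalars A).lTensor A') y) := by
  induction y with
  | zero => simp
  | add a b ha hb => simp only [map_add, ha, hb]
  | tmul s m =>
    rw [Algebra.IsPushout.cancelBaseChange_symm_tmul, LinearMap.baseChange_tmul,
      LinearMap.lTensor_tmul, Algebra.IsPushout.cancelBaseChange_symm_tmul]
    rfl

/-- naturality of `Algebra.IsPushout.cancelBaseChange` -/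
lemma cancel_nat (u : M₁ →ₗ[B] M₂) (x : C ⊗[B] M₁) :
    ((u.restrictScalars A).lTensor A') (Algebra.IsPushout.cancelBaseChange A A' B C M₁ x) =
      Algebra.IsPushout.cancelBaseChange A A' B C M₂ ((u.baseChange C) x) := by
  have h := cancel_symm_nat (C := C) u (Algebra.IsPushout.cancelBaseChange A A' B C M₁ x)
  rw [LinearEquiv.symm_apply_apply] at h
  rw [h, LinearEquiv.apply_symm_apply]

/-- exactness after `C ⊗[B] -` from exactness after `A' ⊗[A] -` -/
lemma exact_baseChange_pushout (u : M₁ →ₗ[B] M₂) (v : M₂ →ₗ[B] M₃)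
    (h : Function.Exact ((u.restrictScalars A).lTensor A') ((v.restrictScalars A).lTensor A')) :
    Function.Exact (u.baseChange C) (v.baseChange C) := by
  intro x
  have h1 := h (Algebra.IsPushout.cancelBaseChange A A' B C M₂ x)
  rw [cancel_nat (C := C) v x] at h1
  constructor
  · intro hx
    rw [hx, map_zero] at h1
    obtain ⟨y, hy⟩ := h1.mp rfl
    refine ⟨(Algebra.IsPushout.cancelBaseChange A A' B C M₁).symm y, ?_⟩
    rw [cancel_symm_nat (C := C) u y, hy, LinearEquiv.symm_apply_apply]
  · rintro ⟨y, rfl⟩
    have h2 : ((u.restrictScalars A).lTensor A')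
        (Algebra.IsPushout.cancelBaseChange A A' B C M₁ y) ∈
        Set.range ((u.restrictScalars A).lTensor A') := ⟨_, rfl⟩
    rw [cancel_nat (C := C) u y] at h2
    have h3 := h1.mpr h2
    exact (Algebra.IsPushout.cancelBaseChange A A' B C M₃).injective (by rw [h3, map_zero])

/-- naturality of `AlgebraTensorModule.cancelBaseChange` -/
lemma cancel'_nat (u : M₁ →ₗ[B] M₂) (x : B' ⊗[C] (C ⊗[B] M₁)) :
    (u.lTensor B') (TensorProduct.AlgebraTensorModule.cancelBaseChange B C B' B' M₁ x) =
      TensorProduct.AlgebraTensorModule.cancelBaseChange B C B' B' M₂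
        (((u.baseChange C).lTensor B') x) := by
  induction x with
  | zero => simp
  | add a b ha hb => simp only [map_add, ha, hb]
  | tmul b' y =>
    induction y with
    | zero => simp
    | add a b ha hb => simp only [tmul_add, map_add, ha, hb]
    | tmul c m =>
      simp

/-- the main algebra lemma: exactness after `B' ⊗[B] -` from exactness after `A' ⊗[A] -` -/
theorem exact_lTensor_of_exact_pushout [Module.Flat C B'] (u : M₁ →ₗ[B] M₂) (v : M₂ →ₗ[B] M₃)
    (h : Function.Exact ((u.restrictScalars A).lTensor A') ((v.restrictScalars A).lTensor A')) :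
    Function.Exact (u.lTensor B') (v.lTensor B') := by
  have h1 : Function.Exact (u.baseChange C) (v.baseChange C) :=
    exact_baseChange_pushout (C := C) u v h
  have h2 : Function.Exact ((u.baseChange C).lTensor B') ((v.baseChange C).lTensor B') :=
    Module.Flat.lTensor_exact B' h1
  intro x
  obtain ⟨x', rfl⟩ :=
    (TensorProduct.AlgebraTensorModule.cancelBaseChange B C B' B' M₂).surjective x
  rw [cancel'_nat (C := C) v x']
  have h3 := h2 x'
  constructor
  · intro hx
    have hx' : ((v.baseChange C).lTensor B') x' = 0 :=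
      (TensorProduct.AlgebraTensorModule.cancelBaseChange B C B' B' M₃).injective
        (by rw [hx, map_zero])
    obtain ⟨y, hy⟩ := h3.mp hx'
    refine ⟨TensorProduct.AlgebraTensorModule.cancelBaseChange B C B' B' M₁ y, ?_⟩
    rw [cancel'_nat (C := C) u y, hy]
  · rintro ⟨y, hy⟩
    obtain ⟨y', rfl⟩ :=
      (TensorProduct.AlgebraTensorModule.cancelBaseChange B C B' B' M₁).surjective y
    rw [cancel'_nat (C := C) u y'] at hy
    have hy' := (TensorProduct.AlgebraTensorModule.cancelBaseChange B C B' B' M₂).injective hy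
    have h4 := h3.mpr ⟨y', hy'⟩
    rw [h4, map_zero]

end Groth.Agent.Helper5.BCF
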