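import Groth.Agent.Lib.Helper5.SkyMod2
import Groth.Agent.Lib.Helper5.StalkCx6
import Groth.Agent.Lib.Helper5.KFlat12

/-!
# Pullback preserves quasi-isomorphisms between K-flat complexes
-/

set_option autoImplicit false
set_option linter.unusedSectionVars false
set_option linter.unusedVariables false
set_option linter.style.haveILetI false

universe u

open CategoryTheory CategoryTheory.Limits AlgebraicGeometry MonoidalCategory

namespace Groth.Agent.Helper5.KF

variable {R R' : Type u} [CommRing R] [CommRing R'] (φ : R →+* R')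

/-- extension of scalars of an acyclic K-flat complex is acyclic -/
theorem exactAt_extC_of_KFl_of_acyclic (C : DRing.Cx R) (hC : KFl C)
    (hC' : ∀ i : ℤ, IsZero (C.homology i)) (n : ℤ) : ((extC φ).obj C).ExactAt n := by
  apply exactAt_of_elements
  intro z hz
  have hmod := modAcyclic_of_KFl_of_acyclic C hC hC'
  obtain ⟨s, hs⟩ := hmod ((ModuleCat.restrictScalars φ).obj (ModuleCat.of R' R')) (n - 1) n (n + 1)
    (by omega) rfl z hz
  exact ⟨s, hs⟩

open CochainComplex in
/-- extension of scalars preserves quasi-isomorphisms between K-flat complexes -/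
theorem quasiIso_extC_of_KFl {K L : DRing.Cx R} (g : K ⟶ L) (hg : QuasiIso g) (hK : KFl K)
    (hL : KFl L) : QuasiIso ((extC φ).map g) := by
  rw [quasiIso_iff_acyclic_mappingCone] at hg ⊢
  intro n
  have h1 : KFl (mappingCone g) := KFl.cone g hK hL
  have h2 := exactAt_extC_of_KFl_of_acyclic φ (mappingCone g) h1
    (fun i => (HomologicalComplex.exactAt_iff_isZero_homology _ _).mp (hg i)) n
  exact h2.of_iso (mappingCone.mapHomologicalComplexIso g (ModuleCat.extendScalars φ))

end Groth.Agent.Helper5.KF

namespace Groth.Agent.Helper5.Sky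

variable {X Y : Scheme.{u}}

/-- pullback preserves quasi-isomorphisms between K-flat complexes -/
theorem quasiIso_pullback_of_kflat (f : X ⟶ Y) {K L : CochainComplex Y.Modules ℤ} (g : K ⟶ L)
    (hg : QuasiIso g) (hK : DCoh.IsKFlat K) (hL : DCoh.IsKFlat L) :
    QuasiIso (((Scheme.Modules.pullback f).mapHomologicalComplex (ComplexShape.up ℤ)).map g) := by
  apply StalkCx.quasiIso_of_stalks
  intro x
  have hgx : QuasiIso (((DerSch.stalkFunctor Y (f.base x)).mapHomologicalComplex
      (ComplexShape.up ℤ)).map g) := inferInstance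
  have h1 := KF.quasiIso_extC_of_KFl (φst f x) _ hgx (isKFlat_stalk (f.base x) K hK)
    (isKFlat_stalk (f.base x) L hL)
  let e := NatIso.mapHomologicalComplex (pullbackStalkIso f x) (ComplexShape.up ℤ)
  have nat := e.hom.naturality g
  have h2 : QuasiIso (e.hom.app K ≫ ((DerSch.stalkFunctor Y (f.base x) ⋙
      ModuleCat.extendScalars (φst f x)).mapHomologicalComplex (ComplexShape.up ℤ)).map g) := by
    haveI : QuasiIso (((DerSch.stalkFunctor Y (f.base x) ⋙
        ModuleCat.extendScalars (φst f x)).mapHomologicalComplex (ComplexShape.up ℤ)).map g) := h1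
    exact quasiIso_comp _ _
  rw [← nat] at h2
  exact (quasiIso_iff_comp_right _ (e.hom.app L)).mp h2

end Groth.Agent.Helper5.Sky
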