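import Groth.Agent.Lib.Helper5.BCF1
import Groth.Agent.Lib.Helper5.LDer2
import Groth.Agent.Lib.Helper5.LTen2

/-!
# Extension of scalars of an acyclic bounded above complex of `A`-flat `B`-modules along the
base change `B → B'` of `A → A'` is acyclic
-/

set_option autoImplicit false
set_option linter.unusedSectionVars false
set_option linter.unusedVariables false
set_option linter.style.haveILetI false

universe u

open CategoryTheory CategoryTheory.Limits TensorProduct MonoidalCategory

namespace Groth.Agent.Helper5.BCF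

open Groth.Agent.Helper5.KF

attribute [local instance] Algebra.TensorProduct.rightAlgebra

variable {A B A' B' : Type u} [CommRing A] [CommRing B] [CommRing A'] [CommRing B']
  (α : A →+* B) (γ : A →+* A') (β' : A' →+* B') (γ' : B →+* B')

/-- restriction of scalars of an acyclic complex is acyclic -/
lemma isZero_homology_rsC (K : DRing.Cx B) (i : ℤ) (h : IsZero (K.homology i)) :
    IsZero (((rsC α).obj K).homology i) := by
  have e : ((rsC α).obj K).homology i ≅ (ModuleCat.restrictScalars α).obj (K.homology i) :=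
    (K.sc i).mapHomologyIso (ModuleCat.restrictScalars α)
  exact IsZero.of_iso ((ModuleCat.restrictScalars α).map_isZero h) e

theorem exactAt_extC_of_relFlat
    (hflat : letI := γ.toAlgebra; letI := α.toAlgebra
      ∃ φ : A' ⊗[A] B →+* B', (∀ a b, φ (a ⊗ₜ b) = β' a * γ' b) ∧ φ.Flat)
    (K : DRing.Cx B) (b : ℤ) (hb : ∀ i : ℤ, b < i → IsZero (K.X i))
    (hfl : ∀ i : ℤ, Module.Flat A ((ModuleCat.restrictScalars α).obj (K.X i)))
    (hK : ∀ i : ℤ, IsZero (K.homology i)) (n : ℤ) :
    ((extC γ').obj K).ExactAt n := by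
  -- the complex of `A`-modules
  have hresK : KFl ((rsC α).obj K) :=
    KFl.of_flat_bddAbove ((rsC α).obj K) b
      (fun i hi => (ModuleCat.restrictScalars α).map_isZero (hb i hi)) hfl
  have hmod : ModAcyclic ((rsC α).obj K) :=
    modAcyclic_of_KFl_of_acyclic _ hresK (fun i => isZero_homology_rsC α K i (hK i))
  -- instances
  letI iAA' : Algebra A A' := γ.toAlgebra
  letI iAB : Algebra A B := α.toAlgebra
  obtain ⟨φ, hφ, hφflat⟩ := hflat
  letI iA'B' : Algebra A' B' := β'.toAlgebra
  letI iBB' : Algebra B B' := γ'.toAlgebra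
  letI iCB' : Algebra (A' ⊗[A] B) B' := φ.toAlgebra
  haveI : IsScalarTower A' (A' ⊗[A] B) B' :=
    IsScalarTower.of_algebraMap_eq fun r => by
      change β' r = φ (r ⊗ₜ 1)
      rw [hφ, map_one, mul_one]
  haveI : IsScalarTower B (A' ⊗[A] B) B' :=
    IsScalarTower.of_algebraMap_eq fun r => by
      change γ' r = φ (1 ⊗ₜ r)
      rw [hφ, map_one, one_mul]
  haveI : Module.Flat (A' ⊗[A] B) B' := hφflat
  letI iM : ∀ i : ℤ, Module A (K.X i) := fun i => Module.compHom (K.X i) α
  haveI : ∀ i : ℤ, IsScalarTower A B (K.X i) := fun i =>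
    IsScalarTower.of_algebraMap_smul fun r x => rfl
  -- exactness over `A'`
  have hex : Function.Exact (((K.d (n - 1) n).hom.restrictScalars A).lTensor A')
      (((K.d n (n + 1)).hom.restrictScalars A).lTensor A') := by
    intro x
    constructor
    · intro hx
      obtain ⟨s, hs⟩ := hmod (ModuleCat.of A A') (n - 1) n (n + 1) (by omega) rfl x hx
      exact ⟨s, hs⟩
    · rintro ⟨y, rfl⟩
      rw [← LinearMap.comp_apply, ← LinearMap.lTensor_comp]
      have h0 : (K.d n (n + 1)).hom.restrictScalars A ∘ₗ (K.d (n - 1) n).hom.restrictScalars A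
          = 0 := by
        ext m
        exact congr($(K.d_comp_d (n - 1) n (n + 1)) m)
      rw [h0, LinearMap.lTensor_zero, LinearMap.zero_apply]
  have hex' := exact_lTensor_of_exact_pushout (C := A' ⊗[A] B) (B' := B')
    (K.d (n - 1) n).hom (K.d n (n + 1)).hom hex
  apply exactAt_of_elements
  intro z hz
  obtain ⟨w, hw⟩ := (hex' z).mp hz
  exact ⟨w, hw⟩

end Groth.Agent.Helper5.BCF
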