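import Groth.Agent.Lib.Helper5.KFlat14

/-!
# K-flat replacement of a morphism from a K-flat complex
-/

set_option autoImplicit false
set_option linter.unusedSectionVars false
set_option linter.unusedVariables false
set_option linter.style.haveILetI false

universe u

open CategoryTheory CategoryTheory.Limits MonoidalCategory HomologicalComplex ZeroObject TensorProduct

namespace Groth.Agent.Helper5.KF

variable {A : Type u} [CommRing A]

/-- a product of flat modules is flat -/
lemma flat_prod (X Y : Type u) [AddCommGroup X] [Module A X] [AddCommGroup Y] [Module A Y]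
    [Module.Flat A X] [Module.Flat A Y] : Module.Flat A (X × Y) := by
  rw [Module.Flat.iff_rTensor_preserves_injective_linearMap]
  intro N N' _ _ _ _ f hf
  have h1 : Function.Injective (f.rTensor X) :=
    Module.Flat.rTensor_preserves_injective_linearMap f hf
  have h2 : Function.Injective (f.rTensor Y) :=
    Module.Flat.rTensor_preserves_injective_linearMap f hf
  have key : (TensorProduct.prodRight A A N' X Y).toLinearMap ∘ₗ f.rTensor (X × Y) =
      ((f.rTensor X).prodMap (f.rTensor Y)) ∘ₗ (TensorProduct.prodRight A A N X Y).toLinearMap := by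
    apply TensorProduct.ext'
    rintro n ⟨x, y⟩
    simp
  intro t t' htt'
  apply (TensorProduct.prodRight A A N X Y).injective
  apply Prod.map_injective.mpr ⟨h1, h2⟩
  have e1 := LinearMap.congr_fun key t
  have e2 := LinearMap.congr_fun key t'
  simp only [LinearMap.coe_comp, LinearEquiv.coe_coe, Function.comp_apply,
    LinearMap.prodMap_apply] at e1 e2
  rw [Prod.map_apply, Prod.map_apply, ← e1, ← e2, htt']

namespace Rel

section Resolution

variable (M : DRing.Cx A) (s₀ : Stage M)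

/-- the stages, obtained by attaching cells repeatedly -/
noncomputable def stage : ℕ → Stage M
  | 0 => s₀
  | n + 1 => ⟨stepL (stage n).L (stage n).g, stepg (stage n).L (stage n).g⟩

noncomputable def stageι (n : ℕ) : (stage M s₀ n).L ⟶ (stage M s₀ (n + 1)).L :=
  stepι (stage M s₀ n).L (stage M s₀ n).g

lemma stageι_g (n : ℕ) : stageι M s₀ n ≫ (stage M s₀ (n + 1)).g = (stage M s₀ n).g :=
  stepι_stepg _ _

lemma stage_KFl (h₀ : KFl s₀.L) : ∀ n : ℕ, KFl (stage M s₀ n).L
  | 0 => h₀
  | n + 1 => KFl.step _ _ (stage_KFl h₀ n)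

lemma flat_stepL' (L : DRing.Cx A) (g : L ⟶ M) (n : ℤ) (h : Module.Flat A (L.X n)) :
    Module.Flat A ((stepL L g).X n) :=
  show Module.Flat A ((Cell L g n →₀ A) × L.X n) from flat_prod _ _

lemma stage_flat (h₀ : ∀ q : ℤ, Module.Flat A (s₀.L.X q)) :
    ∀ (n : ℕ) (q : ℤ), Module.Flat A ((stage M s₀ n).L.X q)
  | 0, q => h₀ q
  | n + 1, q => flat_stepL' M _ _ q (stage_flat h₀ n q)

lemma stage_kill (k : ℕ) (n : ℤ) (x : (stage M s₀ k).L.X (n + 1)) (m : M.X n)
    (hx : (stage M s₀ k).L.d (n + 1) (n + 1 + 1) x = 0)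
    (hm : M.d n (n + 1) m = (stage M s₀ k).g.f (n + 1) x) :
    ∃ y : (stage M s₀ (k + 1)).L.X n,
      (stage M s₀ (k + 1)).L.d n (n + 1) y = (stageι M s₀ k).f (n + 1) x ∧
        (stage M s₀ (k + 1)).g.f n y = m :=
  step_kill _ _ n x m hx hm

/-- the sequence of stages -/
noncomputable def resF : ℕ ⥤ DRing.Cx A := Functor.ofSequence (stageι M s₀)

lemma resF_map_succ (n : ℕ) : (resF M s₀).map (homOfLE (Nat.le_add_right n 1)) = stageι M s₀ n :=
  Functor.ofSequence_map_homOfLE_succ _ n

noncomputable def resCocone : Cocone (resF M s₀) where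
  pt := M
  ι := NatTrans.ofSequence (fun n => (stage M s₀ n).g) (by
    intro n
    have h := stageι_g M s₀ n
    rw [resF_map_succ]
    exact h.trans (Category.comp_id _).symm)

/-- the resolution -/
noncomputable def resK : DRing.Cx A := colimit (resF M s₀)

noncomputable def resf : resK M s₀ ⟶ M := colimit.desc (resF M s₀) (resCocone M s₀)

lemma ι_resf (n : ℕ) : colimit.ι (resF M s₀) n ≫ resf M s₀ = (stage M s₀ n).g :=
  colimit.ι_desc _ _

lemma ι_resf_apply (n : ℕ) (q : ℤ) (y : (stage M s₀ n).L.X q) :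
    (resf M s₀).f q ((colimit.ι (resF M s₀) n).f q y) = (stage M s₀ n).g.f q y :=
  app (congrArg (fun φ => φ.f q) (ι_resf M s₀ n)) y

lemma stageι_ι_apply (n : ℕ) (q : ℤ) (y : (stage M s₀ n).L.X q) :
    (colimit.ι (resF M s₀) (n + 1)).f q ((stageι M s₀ n).f q y) = (colimit.ι (resF M s₀) n).f q y := by
  have := colimit.w (resF M s₀) (homOfLE (Nat.le_add_right n 1))
  rw [resF_map_succ] at this
  exact app (congrArg (fun φ => φ.f q) this) y

theorem resK_KFl (h₀ : KFl s₀.L) : KFl (resK M s₀) :=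
  G.KFl.of_isColimit (resF M s₀) (colimit.cocone (resF M s₀)) (colimit.isColimit (resF M s₀))
    (fun n => stage_KFl M s₀ h₀ n)

theorem resK_flat (h₀ : ∀ q : ℤ, Module.Flat A (s₀.L.X q)) (q : ℤ) :
    Module.Flat A ((resK M s₀).X q) :=
  G.flat_X_of_isColimit (resF M s₀) (colimit.cocone (resF M s₀)) (colimit.isColimit (resF M s₀))
    (fun n q => stage_flat M s₀ h₀ n q) q

lemma res_kill (k : ℕ) (n : ℤ) (x : (stage M s₀ k).L.X (n + 1)) (m : M.X n)
    (hx : (stage M s₀ k).L.d (n + 1) (n + 1 + 1) x = 0)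
    (hm : M.d n (n + 1) m = (stage M s₀ k).g.f (n + 1) x) :
    ∃ y : (resK M s₀).X n,
      (resK M s₀).d n (n + 1) y = (colimit.ι (resF M s₀) k).f (n + 1) x ∧ (resf M s₀).f n y = m := by
  obtain ⟨y', hy'1, hy'2⟩ := stage_kill M s₀ k n x m hx hm
  refine ⟨(colimit.ι (resF M s₀) (k + 1)).f n y', ?_, ?_⟩
  · have e1 := app ((colimit.ι (resF M s₀) (k + 1)).comm n (n + 1)) y'
    have e2 := stageι_ι_apply M s₀ k (n + 1) x
    exact e1.trans ((congrArg (fun t => (colimit.ι (resF M s₀) (k + 1)).f (n + 1) t) hy'1).trans e2)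
  · rw [ι_resf_apply, hy'2]

theorem resf_quasiIso : QuasiIso (resf M s₀) := by
  apply quasiIso_of_elements
  · rintro n n' rfl x m hx hfx
    obtain ⟨j, x', rfl⟩ := G.X_exists_rep (resF M s₀) (colimit.cocone (resF M s₀))
      (colimit.isColimit (resF M s₀)) (n + 1) x
    have h1 : (colimit.ι (resF M s₀) j).f (n + 1 + 1)
        (((resF M s₀).obj j).d (n + 1) (n + 1 + 1) x') = 0 :=
      (app ((colimit.ι (resF M s₀) j).comm (n + 1) (n + 1 + 1)).symm x').trans hx
    obtain ⟨k, u, hu⟩ := G.X_ker (resF M s₀) (colimit.cocone (resF M s₀))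
      (colimit.isColimit (resF M s₀)) (n + 1 + 1) j _ h1
    set x'' : (stage M s₀ k).L.X (n + 1) := ((resF M s₀).map u).f (n + 1) x' with hx''
    have hdx'' : (stage M s₀ k).L.d (n + 1) (n + 1 + 1) x'' = 0 :=
      (app (((resF M s₀).map u).comm (n + 1) (n + 1 + 1)) x').trans hu
    have hιx'' : (colimit.ι (resF M s₀) k).f (n + 1) x'' = (colimit.ι (resF M s₀) j).f (n + 1) x' :=
      app (congrArg (fun φ => φ.f (n + 1)) (colimit.w (resF M s₀) u)) x'
    have hg : M.d n (n + 1) m = (stage M s₀ k).g.f (n + 1) x'' := by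
      rw [← ι_resf_apply, hιx'']
      exact hfx.symm
    obtain ⟨y, hy, -⟩ := res_kill M s₀ k n x'' m hdx'' hg
    exact ⟨y, hy.trans hιx''⟩
  · rintro n n' rfl m hm
    obtain ⟨y, hy, hy'⟩ := res_kill M s₀ 0 (n + 1) 0 m (map_zero _) (by rw [hm, map_zero])
    refine ⟨y, 0, ?_, ?_⟩
    · exact hy.trans (map_zero ((colimit.ι (resF M s₀) 0).f (n + 1 + 1)).hom)
    · rw [hy', map_zero, add_zero]

end Resolution

end Rel

end Groth.Agent.Helper5.KF
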