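import Groth.Agent.Lib.Helper5.BCF2
import Groth.Agent.Lib.Helper5.KFlat15
import Groth.Agent.Lib.Helper12.FlatModBC2

/-!
# Base change of a morphism preserves quasi-isomorphisms between bounded above complexes
of modules flat over the base
-/

set_option autoImplicit false
set_option linter.unusedSectionVars false
set_option linter.unusedVariables false
set_option linter.style.haveILetI false

universe u

open CategoryTheory CategoryTheory.Limits TensorProduct MonoidalCategory AlgebraicGeometry

namespace Groth.Agent.Helper5.BCF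

open Groth.Agent.Helper5.KF

section Ring

variable {A B A' B' : Type u} [CommRing A] [CommRing B] [CommRing A'] [CommRing B']
  (α : A →+* B) (γ : A →+* A') (β' : A' →+* B') (γ' : B →+* B')

lemma flat_rs_of_iso {M M' : ModuleCat.{u} B} (e : M ≅ M')
    (h : Module.Flat A ((ModuleCat.restrictScalars α).obj M)) :
    Module.Flat A ((ModuleCat.restrictScalars α).obj M') :=
  Module.Flat.of_linearEquiv (((ModuleCat.restrictScalars α).mapIso e).toLinearEquiv).symm

lemma flat_rs_biprod (M₁ M₂ : ModuleCat.{u} B)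
    (h₁ : Module.Flat A ((ModuleCat.restrictScalars α).obj M₁))
    (h₂ : Module.Flat A ((ModuleCat.restrictScalars α).obj M₂)) :
    Module.Flat A ((ModuleCat.restrictScalars α).obj (M₁ ⊞ M₂)) := by
  apply flat_rs_of_iso α (ModuleCat.biprodIsoProd M₁ M₂).symm
  letI : Module A M₁ := Module.compHom M₁ α
  letI : Module A M₂ := Module.compHom M₂ α
  haveI : Module.Flat A M₁ := h₁
  haveI : Module.Flat A M₂ := h₂
  exact (flat_prod M₁ M₂ : Module.Flat A (M₁ × M₂))

open CochainComplex HomComplex in
theorem quasiIso_extC_of_relFlat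
    (hflat : letI := γ.toAlgebra; letI := α.toAlgebra
      ∃ φ : A' ⊗[A] B →+* B', (∀ a b, φ (a ⊗ₜ b) = β' a * γ' b) ∧ φ.Flat)
    {P N : DRing.Cx B} (π : P ⟶ N) (hπ : QuasiIso π) (b : ℤ)
    (hPb : ∀ i : ℤ, b < i → IsZero (P.X i)) (hNb : ∀ i : ℤ, b < i → IsZero (N.X i))
    (hP : ∀ i : ℤ, Module.Flat A ((ModuleCat.restrictScalars α).obj (P.X i)))
    (hN : ∀ i : ℤ, Module.Flat A ((ModuleCat.restrictScalars α).obj (N.X i))) :
    QuasiIso ((extC γ').map π) := by
  rw [quasiIso_iff_acyclic_mappingCone] at hπ ⊢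
  intro n
  have hb : ∀ i : ℤ, b < i → IsZero ((mappingCone π).X i) := by
    intro i hi
    refine IsZero.of_iso ?_ (HomologicalComplex.homotopyCofiber.XIsoBiprod π i (i + 1) rfl)
    rw [IsZero.iff_id_eq_zero]
    apply biprod.hom_ext
    · exact (hPb (i + 1) (by omega)).eq_of_tgt _ _
    · exact (hNb i hi).eq_of_tgt _ _
  have hfl : ∀ i : ℤ, Module.Flat A ((ModuleCat.restrictScalars α).obj ((mappingCone π).X i)) :=
    fun i => flat_rs_of_iso α (HomologicalComplex.homotopyCofiber.XIsoBiprod π i (i + 1) rfl).symm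
      (flat_rs_biprod α _ _ (hP (i + 1)) (hN i))
  have h2 := exactAt_extC_of_relFlat α γ β' γ' hflat (mappingCone π) b hb hfl
    (fun i => (HomologicalComplex.exactAt_iff_isZero_homology _ _).mp (hπ i)) n
  exact h2.of_iso (mappingCone.mapHomologicalComplexIso π (ModuleCat.extendScalars γ'))

end Ring

section Scheme

open Groth.Agent.Helper5.Sky Groth.Agent.Helper12.FlatModBC

variable {X S X' S' : Scheme.{u}} {f : X ⟶ S} {f' : X' ⟶ S'} {g' : X' ⟶ X} {g : S' ⟶ S}

/-- a module flat over `X` is flat over `S` when `f : X ⟶ S` is flat -/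
lemma isFlatOver_of_isFlat [Flat f] (M : X.Modules) (hM : FlatMod.IsFlat M) :
    FlatMod.IsFlatOver f M := by
  intro x
  letI : Algebra (S.presheaf.stalk (f.base x)) (X.presheaf.stalk x) := (f.stalkMap x).hom.toAlgebra
  letI := FlatMod.moduleStalkOver f M x
  haveI : IsScalarTower (S.presheaf.stalk (f.base x)) (X.presheaf.stalk x) (M.presheaf.stalk x) :=
    IsScalarTower.of_algebraMap_smul fun r m => rfl
  haveI : Module.Flat (S.presheaf.stalk (f.base x)) (X.presheaf.stalk x) := Flat.stalkMap f x
  haveI : Module.Flat (X.presheaf.stalk x) (M.presheaf.stalk x) := hM x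
  exact Module.Flat.trans (S.presheaf.stalk (f.base x)) (X.presheaf.stalk x) (M.presheaf.stalk x)

/-- base change of a flat morphism preserves quasi-isomorphisms between bounded above complexes
of modules flat over the base -/
theorem quasiIso_pullback_of_relFlat (hc : IsPullback g' f' f g)
    {P N : CochainComplex X.Modules ℤ} (π : P ⟶ N) (hπ : QuasiIso π) (b : ℤ)
    (hPb : ∀ i : ℤ, b < i → IsZero (P.X i)) (hNb : ∀ i : ℤ, b < i → IsZero (N.X i))
    (hP : ∀ i : ℤ, FlatMod.IsFlatOver f (P.X i)) (hN : ∀ i : ℤ, FlatMod.IsFlatOver f (N.X i)) :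
    QuasiIso (((Scheme.Modules.pullback g').mapHomologicalComplex (ComplexShape.up ℤ)).map π) := by
  apply StalkCx.quasiIso_of_stalks
  intro x'
  have hgx : QuasiIso (((DerSch.stalkFunctor X (g'.base x')).mapHomologicalComplex
      (ComplexShape.up ℤ)).map π) := inferInstance
  have h1 : QuasiIso ((extC (φst g' x')).map
      (((DerSch.stalkFunctor X (g'.base x')).mapHomologicalComplex (ComplexShape.up ℤ)).map π)) :=
    quasiIso_extC_of_relFlat (f.stalkMap (g'.base x')).hom (gam hc x').hom (f'.stalkMap x').hom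
      (φst g' x') (flat_tensor_stalk hc x') _ hgx b
      (fun i hi => (DerSch.stalkFunctor X (g'.base x')).map_isZero (hPb i hi))
      (fun i hi => (DerSch.stalkFunctor X (g'.base x')).map_isZero (hNb i hi))
      (fun i => hP i (g'.base x')) (fun i => hN i (g'.base x'))
  let e := NatIso.mapHomologicalComplex (pullbackStalkIso g' x') (ComplexShape.up ℤ)
  have nat := e.hom.naturality π
  have h2 : QuasiIso (e.hom.app P ≫ ((DerSch.stalkFunctor X (g'.base x') ⋙
      ModuleCat.extendScalars (φst g' x')).mapHomologicalComplex (ComplexShape.up ℤ)).map π) := by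
    haveI : QuasiIso (((DerSch.stalkFunctor X (g'.base x') ⋙
        ModuleCat.extendScalars (φst g' x')).mapHomologicalComplex (ComplexShape.up ℤ)).map π) := h1
    exact quasiIso_comp _ _
  rw [← nat] at h2
  exact (quasiIso_iff_comp_right _ (e.hom.app N)).mp h2

end Scheme

end Groth.Agent.Helper5.BCF
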