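import Groth.Agent.Lib.Helper5.RT2
import Groth.Agent.Lib.Helper13.LocFree4

/-!
# Direct sums of finite locally free modules; mapping cones of strictly perfect complexes
-/

set_option autoImplicit false
set_option linter.unusedSectionVars false
set_option linter.unusedVariables false
set_option linter.style.haveILetI false

universe u

open CategoryTheory CategoryTheory.Limits AlgebraicGeometry HomologicalComplex Opposite

attribute [local instance] HasDerivedCategory.standard

namespace Groth.Agent.Helper5.BP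

open Groth.Agent.Helper13.LocFree Groth.Agent.Helper5.LDer Groth.Agent.Helper5.RT

variable {X : Scheme.{u}}

/-- the direct sum of two free modules of finite rank is free -/
noncomputable def freeModBiprodIso (a b : ℕ) :
    FlatMod.freeMod X a ⊞ FlatMod.freeMod X b ≅ FlatMod.freeMod X (a + b) where
  hom := biprod.desc (Sigma.desc (fun i : Fin a => ι (X := X) (a + b) (Fin.castAdd b i)))
    (Sigma.desc (fun j : Fin b => ι (X := X) (a + b) (Fin.natAdd a j)))
  inv := Sigma.desc (fun k : Fin (a + b) => Fin.addCases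
    (fun i => ι (X := X) a i ≫ biprod.inl) (fun j => ι (X := X) b j ≫ biprod.inr) k)
  hom_inv_id := by
    apply biprod.hom_ext'
    · apply Sigma.hom_ext
      intro i
      simp [ι]
    · apply Sigma.hom_ext
      intro j
      simp [ι]
  inv_hom_id := by
    apply Sigma.hom_ext
    intro k
    refine Fin.addCases (fun i => ?_) (fun j => ?_) k
    · simp [ι]
    · simp [ι]

/-- the direct sum of two finite locally free modules is finite locally free -/
theorem isFinLocFree_biprod (A B : X.Modules) (hA : FlatMod.IsFinLocFree A)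
    (hB : FlatMod.IsFinLocFree B) : FlatMod.IsFinLocFree (A ⊞ B) := by
  intro x
  obtain ⟨U₁, n₁, hx₁, ⟨e₁⟩⟩ := hA x
  obtain ⟨U₂, n₂, hx₂, ⟨e₂⟩⟩ := hB x
  obtain ⟨e₁'⟩ := free_of_le A (inf_le_left : U₁ ⊓ U₂ ≤ U₁) n₁ e₁
  obtain ⟨e₂'⟩ := free_of_le B (inf_le_right : U₁ ⊓ U₂ ≤ U₂) n₂ e₂
  refine ⟨U₁ ⊓ U₂, n₁ + n₂, ⟨hx₁, hx₂⟩, ⟨?_⟩⟩
  haveI : PreservesBinaryBiproduct A B (Scheme.Modules.restrictFunctor (U₁ ⊓ U₂).ι) :=
    preservesBinaryBiproduct_of_preservesBinaryCoproduct _
  change (Scheme.Modules.restrictFunctor (U₁ ⊓ U₂).ι).obj (A ⊞ B) ≅ _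
  exact (Scheme.Modules.restrictFunctor (U₁ ⊓ U₂).ι).mapBiprod A B ≪≫
    biprod.mapIso e₁' e₂' ≪≫ freeModBiprodIso n₁ n₂

/-- the mapping cone of a morphism of strictly perfect complexes is strictly perfect -/
theorem isStrictlyPerfect_mappingCone {P₁ P₂ : CochainComplex X.Modules ℤ} (β : P₁ ⟶ P₂)
    (h₁ : DCoh.IsStrictlyPerfect P₁) (h₂ : DCoh.IsStrictlyPerfect P₂) :
    DCoh.IsStrictlyPerfect (CochainComplex.mappingCone β) := by
  obtain ⟨⟨a₁, b₁, hv₁⟩, hf₁⟩ := h₁
  obtain ⟨⟨a₂, b₂, hv₂⟩, hf₂⟩ := h₂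
  have hX : ∀ i : ℤ, (CochainComplex.mappingCone β).X i ≅ P₁.X (i + 1) ⊞ P₂.X i := fun i =>
    HomologicalComplex.homotopyCofiber.XIsoBiprod β i (i + 1) rfl
  refine ⟨⟨min (a₁ - 1) a₂, max (b₁ - 1) b₂, ?_⟩, ?_⟩
  · intro i hi
    refine IsZero.of_iso ?_ (hX i)
    rw [biprod_isZero_iff]
    constructor
    · apply hv₁
      rcases hi with hi | hi
      · left
        have := min_le_left (a₁ - 1) a₂
        omega
      · right
        have := le_max_left (b₁ - 1) b₂
        omega
    · apply hv₂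
      rcases hi with hi | hi
      · left
        have := min_le_right (a₁ - 1) a₂
        omega
      · right
        have := le_max_right (b₁ - 1) b₂
        omega
  · intro i
    exact isFinLocFree_of_iso (hX i).symm (isFinLocFree_biprod _ _ (hf₁ (i + 1)) (hf₂ i))

end Groth.Agent.Helper5.BP
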