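import Mathlib

/-! Presentation of the affine blow-up algebra `A[a₁/a₀, …, aₙ/a₀]` for a weakly regular sequence. -/

set_option autoImplicit false
universe u
open MvPolynomial

namespace Groth.Agent.Helper5.BlowupAlg

variable {A : Type u} [CommRing A] {n : ℕ} (a : Fin (n + 1) → A)

/-- The generator `a₀ T_i - a_{i+1}`. -/
noncomputable def gen (i : Fin n) : MvPolynomial (Fin n) A := C (a 0) * X i - C (a i.succ)

/-- The ideal generated by the first `k` generators. -/
noncomputable def J (k : ℕ) : Ideal (MvPolynomial (Fin n) A) :=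
  Ideal.span (gen a '' {i | i.val < k})

/-- The ideal `(a₀, …, a_{k-1})`. -/
def I (k : ℕ) : Ideal A := Ideal.span (a '' {j | j.val < k})

theorem J_mono {k l : ℕ} (h : k ≤ l) : J a k ≤ J a l :=
  Ideal.span_mono (Set.image_mono fun _ hi => lt_of_lt_of_le hi h)

theorem gen_mem_J {k : ℕ} (i : Fin n) (h : i.val < k) : gen a i ∈ J a k :=
  Ideal.subset_span ⟨i, h, rfl⟩

theorem J_succ (k : ℕ) (hk : k < n) :
    J a (k + 1) = J a k ⊔ Ideal.span {gen a ⟨k, hk⟩} := by
  apply le_antisymm
  · unfold J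
    rw [Ideal.span_le]
    rintro _ ⟨i, hi, rfl⟩
    rcases Nat.lt_succ_iff_lt_or_eq.mp hi with h | h
    · exact Ideal.mem_sup_left (Ideal.subset_span ⟨i, h, rfl⟩)
    · have : i = ⟨k, hk⟩ := Fin.ext h
      rw [this]
      exact Ideal.mem_sup_right (Ideal.subset_span rfl)
  · refine sup_le (J_mono a (Nat.le_succ k)) ?_
    rw [Ideal.span_singleton_le_iff_mem]
    exact gen_mem_J a _ (Nat.lt_succ_self k)

theorem J_eq_span_range : J a n = Ideal.span (Set.range (gen a)) := by
  unfold J
  congr 1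
  ext x
  constructor
  · rintro ⟨i, -, rfl⟩; exact ⟨i, rfl⟩
  · rintro ⟨i, rfl⟩; exact ⟨i, i.isLt, rfl⟩

theorem K_eq (k : ℕ) :
    J a k ⊔ Ideal.span {C (a 0)} = (I a (k + 1)).map (C : A →+* MvPolynomial (Fin n) A) := by
  have h0 : (C (a 0) : MvPolynomial (Fin n) A) ∈ (I a (k + 1)).map C :=
    Ideal.mem_map_of_mem _ (Ideal.subset_span ⟨0, Nat.succ_pos k, rfl⟩)
  apply le_antisymm
  · refine sup_le ?_ ?_
    · unfold J
      rw [Ideal.span_le]
      rintro _ ⟨i, hi, rfl⟩
      unfold gen
      refine Ideal.sub_mem _ (Ideal.mul_mem_right _ _ h0) ?_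
      exact Ideal.mem_map_of_mem _ (Ideal.subset_span ⟨i.succ, by
        show i.succ.val < k + 1
        rw [Fin.val_succ]
        exact Nat.succ_lt_succ hi, rfl⟩)
    · rw [Ideal.span_singleton_le_iff_mem]
      exact h0
  · rw [Ideal.map_le_iff_le_comap]
    unfold I
    rw [Ideal.span_le]
    rintro _ ⟨j, hj, rfl⟩
    show C (a j) ∈ J a k ⊔ Ideal.span {C (a 0)}
    induction j using Fin.cases with
    | zero => exact Ideal.mem_sup_right (Ideal.subset_span rfl)
    | succ i =>
      have hi : i.val < k := by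
        have : i.succ.val < k + 1 := hj
        rw [Fin.val_succ] at this
        omega
      have : (C (a i.succ) : MvPolynomial (Fin n) A) = C (a 0) * X i - gen a i := by
        unfold gen; ring
      rw [this]
      refine Ideal.sub_mem _ ?_ (Ideal.mem_sup_left (gen_mem_J a i hi))
      exact Ideal.mem_sup_right (Ideal.mul_mem_right _ _ (Ideal.subset_span rfl))

theorem ofList_take (k : ℕ) : Ideal.ofList ((List.ofFn a).take k) = I a k := by
  unfold Ideal.ofList I
  congr 1
  ext r
  simp only [Set.mem_ofPred_eq, Set.mem_image]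
  rw [List.mem_take_iff_getElem]
  constructor
  · rintro ⟨i, hi, rfl⟩
    rw [List.length_ofFn] at hi
    refine ⟨⟨i, by omega⟩, by simp; omega, ?_⟩
    rw [List.getElem_ofFn]
  · rintro ⟨j, hj, rfl⟩
    refine ⟨j.val, ?_, ?_⟩
    · rw [List.length_ofFn]
      exact lt_min hj j.isLt
    · rw [List.getElem_ofFn]

theorem reg (ha : RingTheory.Sequence.IsWeaklyRegular A (List.ofFn a)) (j : Fin (n + 1)) (x : A)
    (hx : a j * x ∈ I a j.val) : x ∈ I a j.val := by
  have h := ha.regular_mod_prev j.val (by rw [List.length_ofFn]; exact j.isLt)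
  rw [List.getElem_ofFn, ofList_take] at h
  have h1 : (a j) • (Submodule.Quotient.mk x : A ⧸ (I a j.val • ⊤ : Submodule A A)) =
      (a j) • (Submodule.Quotient.mk 0 : A ⧸ (I a j.val • ⊤ : Submodule A A)) := by
    rw [← Submodule.Quotient.mk_smul, ← Submodule.Quotient.mk_smul, smul_zero,
      Submodule.Quotient.mk_zero, Submodule.Quotient.mk_eq_zero, smul_eq_mul]
    simpa using hx
  have h2 := h h1
  rw [Submodule.Quotient.mk_zero, Submodule.Quotient.mk_eq_zero] at h2
  simpa using h2

theorem nzd (ha : RingTheory.Sequence.IsWeaklyRegular A (List.ofFn a)) :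
    ∀ k, k ≤ n → ∀ g : MvPolynomial (Fin n) A, C (a 0) * g ∈ J a k → g ∈ J a k := by
  intro k
  induction k with
  | zero =>
    intro _ g hg
    have hJ0 : J a 0 = ⊥ := by
      unfold J
      simp
    rw [hJ0, Ideal.mem_bot] at hg ⊢
    ext m
    have := congrArg (coeff m) hg
    rw [coeff_C_mul, coeff_zero] at this
    have h2 := reg a ha 0 (coeff m g) (by rw [this]; exact Submodule.zero_mem _)
    have hI0 : I a (0 : Fin (n + 1)).val = ⊥ := by
      unfold I
      simp
    rw [hI0, Ideal.mem_bot] at h2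
    rw [h2, coeff_zero]
  | succ k ih =>
    intro hk g hg
    have hk' : k < n := hk
    rw [J_succ a k hk', Submodule.mem_sup] at hg
    obtain ⟨j, hj, y, hy, hjy⟩ := hg
    obtain ⟨h, rfl⟩ := Ideal.mem_span_singleton'.mp hy
    set i : Fin n := ⟨k, hk'⟩ with hi
    -- `a_{i+1} h ∈ K`
    have h1 : C (a i.succ) * h ∈ (I a (k + 1)).map (C : A →+* MvPolynomial (Fin n) A) := by
      rw [← K_eq]
      have : C (a i.succ) * h = C (a 0) * (X i * h - g) + j := by
        have hg' : h * gen a i = C (a 0) * g - j := by rw [← hjy]; ring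
        unfold gen at hg'
        linear_combination (-1 : MvPolynomial (Fin n) A) * hg'
      rw [this]
      refine Ideal.add_mem _ ?_ (Ideal.mem_sup_left hj)
      exact Ideal.mem_sup_right (Ideal.mul_mem_right _ _ (Ideal.subset_span rfl))
    have h2 : h ∈ (I a (k + 1)).map (C : A →+* MvPolynomial (Fin n) A) := by
      rw [mem_map_C_iff] at h1 ⊢
      intro m
      have := h1 m
      rw [coeff_C_mul] at this
      have hval : (i.succ : Fin (n + 1)).val = k + 1 := by rw [Fin.val_succ]
      have h3 := reg a ha i.succ (coeff m h) (by rw [hval]; exact this)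
      rwa [hval] at h3
    rw [← K_eq, Submodule.mem_sup] at h2
    obtain ⟨j', hj', z, hz, hjz⟩ := h2
    obtain ⟨h', rfl⟩ := Ideal.mem_span_singleton'.mp hz
    have h4 : C (a 0) * (g - h' * gen a i) ∈ J a k := by
      have : C (a 0) * (g - h' * gen a i) = j + j' * gen a i := by
        rw [← hjz] at hjy
        linear_combination (-1 : MvPolynomial (Fin n) A) * hjy
      rw [this]
      exact Ideal.add_mem _ hj (Ideal.mul_mem_right _ _ hj')
    have h5 := ih (Nat.le_of_succ_le hk) _ h4
    have h6 : g = (g - h' * gen a i) + h' * gen a i := by ring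
    rw [J_succ a k hk', h6]
    refine Ideal.add_mem _ (Ideal.mem_sup_left h5) (Ideal.mem_sup_right ?_)
    exact Ideal.mul_mem_left _ _ (Ideal.subset_span rfl)

theorem nzd_pow (ha : RingTheory.Sequence.IsWeaklyRegular A (List.ofFn a)) (N : ℕ)
    (g : MvPolynomial (Fin n) A) (hg : C (a 0) ^ N * g ∈ J a n) : g ∈ J a n := by
  induction N with
  | zero => simpa using hg
  | succ N ih =>
    apply ih
    apply nzd a ha n le_rfl
    rw [← mul_assoc, ← pow_succ']
    exact hg

/-- Modulo `J`, `a₀^N g` is a constant. -/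
theorem exists_const (g : MvPolynomial (Fin n) A) :
    ∃ (N : ℕ) (r : A), C (a 0) ^ N * g - C r ∈ J a n := by
  induction g using MvPolynomial.induction_on with
  | C c => exact ⟨0, c, by simp⟩
  | add p q hp hq =>
    obtain ⟨N1, r1, h1⟩ := hp
    obtain ⟨N2, r2, h2⟩ := hq
    refine ⟨N1 + N2, a 0 ^ N2 * r1 + a 0 ^ N1 * r2, ?_⟩
    have : C (a 0) ^ (N1 + N2) * (p + q) - C (a 0 ^ N2 * r1 + a 0 ^ N1 * r2) =
        C (a 0) ^ N2 * (C (a 0) ^ N1 * p - C r1) + C (a 0) ^ N1 * (C (a 0) ^ N2 * q - C r2) := by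
      simp only [map_add, map_mul, map_pow]
      ring
    rw [this]
    exact Ideal.add_mem _ (Ideal.mul_mem_left _ _ h1) (Ideal.mul_mem_left _ _ h2)
  | mul_X p i hp =>
    obtain ⟨N, r, h⟩ := hp
    refine ⟨N + 1, r * a i.succ, ?_⟩
    have : C (a 0) ^ (N + 1) * (p * X i) - C (r * a i.succ) =
        (C (a 0) * X i) * (C (a 0) ^ N * p - C r) + C r * gen a i := by
      unfold gen
      simp only [map_mul]
      ring
    rw [this]
    exact Ideal.add_mem _ (Ideal.mul_mem_left _ _ h)
      (Ideal.mul_mem_left _ _ (gen_mem_J a i i.isLt))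

theorem ker_eq (ha : RingTheory.Sequence.IsWeaklyRegular A (List.ofFn a))
    (L : Type*) [CommRing L] [Algebra A L] [IsLocalization.Away (a 0) L]
    (φ : MvPolynomial (Fin n) A →ₐ[A] L)
    (hφ : ∀ i, algebraMap A L (a 0) * φ (X i) = algebraMap A L (a i.succ)) :
    RingHom.ker φ = Ideal.span (Set.range (gen a)) := by
  rw [← J_eq_span_range]
  apply le_antisymm
  · intro g hg
    rw [RingHom.mem_ker] at hg
    obtain ⟨N, r, h⟩ := exists_const a g
    have hker : J a n ≤ RingHom.ker φ := by
      rw [J_eq_span_range, Ideal.span_le]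
      rintro _ ⟨i, rfl⟩
      show φ (gen a i) = 0
      unfold gen
      rw [map_sub, map_mul, ← MvPolynomial.algebraMap_eq, AlgHom.commutes, AlgHom.commutes, hφ,
        sub_self]
    have h1 : φ (C (a 0) ^ N * g - C r) = 0 := hker h
    rw [map_sub, map_mul, hg, mul_zero, zero_sub, neg_eq_zero, ← MvPolynomial.algebraMap_eq,
      AlgHom.commutes] at h1
    obtain ⟨⟨_, k, rfl⟩, hk⟩ := (IsLocalization.map_eq_zero_iff (Submonoid.powers (a 0)) L r).mp h1
    apply nzd_pow a ha (k + N)
    have : C (a 0) ^ (k + N) * g = C (a 0) ^ k * (C (a 0) ^ N * g - C r) + C (a 0 ^ k * r) := by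
      simp only [map_mul, map_pow]
      ring
    rw [this]
    have hk' : a 0 ^ k * r = 0 := hk
    rw [hk', map_zero, add_zero]
    exact Ideal.mul_mem_left _ _ h
  · rw [J_eq_span_range, Ideal.span_le]
    rintro _ ⟨i, rfl⟩
    show φ (gen a i) = 0
    unfold gen
    rw [map_sub, map_mul, ← MvPolynomial.algebraMap_eq, AlgHom.commutes, AlgHom.commutes, hφ,
      sub_self]

end Groth.Agent.Helper5.BlowupAlg
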