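import Groth.Agent.Lib.Helper5.TBB5
import Groth.Agent.Lib.Helper9.RelPC4
import Groth.Agent.Lib.Helper24.TildePush1
import Groth.Agent.Lib.Helper14.TildeExact

/-!
# Relative pseudo-coherence in chart form versus the ring-level notion, part 1: one chart
-/

set_option autoImplicit false
set_option linter.unusedSectionVars false
set_option linter.unusedVariables false
set_option linter.style.haveILetI false

universe u

open CategoryTheory CategoryTheory.Limits AlgebraicGeometry TopologicalSpace

attribute [local instance] HasDerivedCategory.standard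

namespace Groth.Agent.Helper5.CHP

open Groth.Agent.Helper5.TB Groth.Agent.Helper5.RPR Groth.Agent.Helper11
  Groth.Agent.Helper5.TBA Groth.Agent.Helper5.RT Groth.Agent.Helper5.PCT Groth.Agent.Helper5.TT
  Groth.Agent.Helper5.KF Groth.Agent.Helper9.RelPC

section B0

variable {X Y : Scheme.{u}} (e : X ≅ Y)

/-- pushforward along an isomorphism is restriction along its inverse -/
noncomputable def pushIsoRestrict :
    Scheme.Modules.pushforward e.hom ≅ Scheme.Modules.restrictFunctor e.inv :=
  (Functor.rightUnitor _).symm ≪≫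
    Functor.isoWhiskerLeft _ (Scheme.Modules.restrictFunctorAdjCounitIso e.inv).symm ≪≫
    (Functor.associator _ _ _).symm ≪≫
    Functor.isoWhiskerRight (Scheme.Modules.pushforwardComp e.hom e.inv ≪≫
      Scheme.Modules.pushforwardCongr e.hom_inv_id ≪≫ Scheme.Modules.pushforwardId X) _ ≪≫
    Functor.leftUnitor _

end B0

section K1

variable {X Y : Scheme.{u}} (K : DCoh.D X) {U : X.Opens} (hU : IsAffineOpen U) (V : Y.Opens)
  {n : ℕ} (φ : MvPolynomial (Fin n) Γ(Y, V) →+* Γ(X, U))

/-- the chart morphism through `Spec Γ(X, U)` -/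
lemma chartImm_eq : hU.isoSpec.hom ≫ Spec.map (CommRingCat.ofHom φ) = DerSch.chartImm U φ := by
  unfold DerSch.chartImm
  rw [hU.isoSpec_hom]

/-- restriction to `Spec Γ(X, U)` followed by direct image along `Spec φ` is direct image along
the chart morphism -/
noncomputable def chartPushNatIso :
    Scheme.Modules.restrictFunctor hU.isoSpec.inv ⋙
      Scheme.Modules.pushforward (Spec.map (CommRingCat.ofHom φ)) ≅
      Scheme.Modules.pushforward (DerSch.chartImm U φ) :=
  Functor.isoWhiskerRight (pushIsoRestrict hU.isoSpec).symm _ ≪≫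
    Scheme.Modules.pushforwardComp _ _ ≪≫ Scheme.Modules.pushforwardCongr (chartImm_eq hU V φ)

/-- on complexes -/
noncomputable def chartPushCxIso (H : CochainComplex (U : Scheme.{u}).Modules ℤ) :
    (DerSch.pushCx (Spec.map (CommRingCat.ofHom φ))).obj ((rCx hU.isoSpec.inv).obj H) ≅
      (DerSch.pushCx (DerSch.chartImm U φ)).obj H := by
  haveI i1 : (Scheme.Modules.restrictFunctor hU.isoSpec.inv ⋙
      Scheme.Modules.pushforward (Spec.map (CommRingCat.ofHom φ))).PreservesZeroMorphisms :=
    inferInstance
  haveI i2 : (Scheme.Modules.pushforward (DerSch.chartImm U φ)).PreservesZeroMorphisms :=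
    inferInstance
  exact (@NatIso.mapHomologicalComplex _ _ _ _ _ _ _ _ _ i1 i2
    (chartPushNatIso hU V φ) (ComplexShape.up ℤ)).app H

/-- direct image of the tilde of a complex along `Spec φ` -/
noncomputable def tildePushCxIso (K₀ : DRing.Cx Γ(X, U)) :
    (DerSch.pushCx (Spec.map (CommRingCat.ofHom φ))).obj ((tildeC Γ(X, U)).obj K₀) ≅
      (tildeC (MvPolynomial (Fin n) Γ(Y, V))).obj ((rsC φ).obj K₀) := by
  haveI i1 : (tilde.functor (CommRingCat.of Γ(X, U)) ⋙
      Scheme.Modules.pushforward (Spec.map (CommRingCat.ofHom φ))).PreservesZeroMorphisms :=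
    inferInstance
  haveI i2 : (ModuleCat.restrictScalars φ ⋙
      tilde.functor (CommRingCat.of (MvPolynomial (Fin n) Γ(Y, V)))).PreservesZeroMorphisms :=
    inferInstance
  exact (@NatIso.mapHomologicalComplex _ _ _ _ _ _ _ _ _ i1 i2
    (Groth.Agent.Helper24.TildePush.tildePushIso (CommRingCat.ofHom φ)).symm
    (ComplexShape.up ℤ)).app K₀

end K1

end Groth.Agent.Helper5.CHP
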