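import Groth.Agent.Lib.Helper5.CHP1

/-!
# Relative pseudo-coherence in chart form versus the ring-level notion, part 2: the chart test in
terms of a complex of modules representing the object on the affine open
-/

set_option autoImplicit false
set_option linter.unusedSectionVars false
set_option linter.unusedVariables false
set_option linter.style.haveILetI false

universe u

open CategoryTheory CategoryTheory.Limits AlgebraicGeometry TopologicalSpace

attribute [local instance] HasDerivedCategory.standard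

namespace Groth.Agent.Helper5.CHP

open Groth.Agent.Helper5.TB Groth.Agent.Helper5.RPR Groth.Agent.Helper11
  Groth.Agent.Helper5.TBA Groth.Agent.Helper5.RT Groth.Agent.Helper5.PCT Groth.Agent.Helper5.TT
  Groth.Agent.Helper5.KF Groth.Agent.Helper9.RelPC

instance pfl_tilde_of (B : Type u) [CommRing B] :
    PreservesFiniteLimits (tilde.functor (CommRingCat.of B)) :=
  Groth.Agent.Helper14.tilde_preservesFiniteLimits

variable {X Y : Scheme.{u}} (K : DCoh.D X) {U : X.Opens} (hU : IsAffineOpen U) (V : Y.Opens)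
  {n : ℕ} (φ : MvPolynomial (Fin n) Γ(Y, V) →+* Γ(X, U))

/-- the chart image of a representing complex, in terms of a complex of modules representing the
object on `U` -/
noncomputable def keyIso (hφ : Function.Surjective φ) (M : Dual.D Γ(X, U))
    (e : chart K hU ≅ (DCoh.tildeD Γ(X, U)).obj M)
    (G : CochainComplex X.Modules ℤ) (eG : DCoh.toD X G ≅ K) :
    DCoh.toD (Spec (CommRingCat.of (MvPolynomial (Fin n) Γ(Y, V))))
        ((DerSch.pushCx (DerSch.chartImm U φ)).obj ((DCoh.restrictCx U).obj G)) ≅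
      (DCoh.tildeD (CommRingCat.of (MvPolynomial (Fin n) Γ(Y, V)))).obj
        ((DRing.restrictD φ).obj M) := by
  let K₀ := (DerivedCategory.Q (C := ModuleCat.{u} Γ(X, U))).objPreimage M
  let e₀ : DerivedCategory.Q.obj K₀ ≅ M :=
    (DerivedCategory.Q (C := ModuleCat.{u} Γ(X, U))).objObjPreimageIso M
  let GA : CochainComplex (Spec Γ(X, U)).Modules ℤ :=
    (rCx hU.isoSpec.inv).obj ((rCx U.ι).obj G)
  let e1 : chart K hU ≅ DerivedCategory.Q.obj GA :=
    (DCoh.restrictD hU.isoSpec.inv).mapIso ((DCoh.restrictD U.ι).mapIso eG.symm ≪≫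
      (Scheme.Modules.restrictFunctor U.ι).mapDerivedCategoryFactors.app G) ≪≫
    (Scheme.Modules.restrictFunctor hU.isoSpec.inv).mapDerivedCategoryFactors.app _
  let e' : DerivedCategory.Q.obj ((tildeC Γ(X, U)).obj K₀) ≅ DerivedCategory.Q.obj GA :=
    QtildeIso Γ(X, U) K₀ ≪≫ (DCoh.tildeD Γ(X, U)).mapIso e₀ ≪≫ e.symm ≪≫ e1
  haveI : IsClosedImmersion (Spec.map (CommRingCat.ofHom φ)) :=
    IsClosedImmersion.spec_of_surjective _ hφ
  let p1 := pushQIso (Spec.map (CommRingCat.ofHom φ)) e'
  exact (DerivedCategory.Q.mapIso (chartPushCxIso hU V φ ((rCx U.ι).obj G))).symm ≪≫ p1.symm ≪≫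
    DerivedCategory.Q.mapIso (tildePushCxIso V φ K₀) ≪≫
    QtildeIso (MvPolynomial (Fin n) Γ(Y, V)) ((rsC φ).obj K₀) ≪≫
    (DCoh.tildeD (CommRingCat.of (MvPolynomial (Fin n) Γ(Y, V)))).mapIso
      (((ModuleCat.restrictScalars.{u} φ).mapDerivedCategoryFactors.app K₀).symm ≪≫
        (DRing.restrictD φ).mapIso e₀)

theorem chartPC_iff (hφ : Function.Surjective φ) (m : ℤ) (M : Dual.D Γ(X, U))
    (e : chart K hU ≅ (DCoh.tildeD Γ(X, U)).obj M) :
    DerSch.ChartPC m K U V φ ↔
      DRing.IsPseudoCoherent (MvPolynomial (Fin n) Γ(Y, V)) m ((DRing.restrictD φ).obj M) := by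
  constructor
  · intro h
    let G := (DerivedCategory.Q (C := X.Modules)).objPreimage K
    let eG : DCoh.toD X G ≅ K := (DerivedCategory.Q (C := X.Modules)).objObjPreimageIso K
    exact mpc_of_tilde _ _ m (isPseudoCoherentD_of_iso (keyIso K hU V φ hφ M e G eG) (h G ⟨eG⟩))
  · intro h G ⟨eG⟩
    exact isPseudoCoherentD_of_iso (keyIso K hU V φ hφ M e G eG).symm (tilde_mpc _ _ m h)

end Groth.Agent.Helper5.CHP
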