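import Mathlib

/-!
# A form of Nakayama's lemma for extension of scalars along a surjective ring map
-/

set_option autoImplicit false
set_option linter.unusedSectionVars false
set_option linter.unusedVariables false
set_option linter.style.haveILetI false

universe u

open CategoryTheory CategoryTheory.Limits

namespace Groth.Agent.Helper5.US

/-- extension of scalars only depends on the ring homomorphism -/
noncomputable def extendScalarsCongr {A B : Type u} [CommRing A] [CommRing B] {f g : A →+* B}
    (h : f = g) : ModuleCat.extendScalars.{u, u, u} f ≅ ModuleCat.extendScalars.{u, u, u} g := by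
  subst h
  exact Iso.refl _

theorem subsingleton_of_isZero_extendScalars_residue {A : Type u} [CommRing A] [IsLocalRing A]
    (M : ModuleCat.{u} A) [Module.Finite A M]
    (h : IsZero ((ModuleCat.extendScalars.{u, u, u} (IsLocalRing.residue A)).obj M)) :
    Subsingleton M := by
  have h1 := ModuleCat.subsingleton_of_isZero h
  rw [← IsLocalRing.subsingleton_tensorProduct (R := A) (M := M)]
  exact h1

/-- Nakayama: a finite module over a local ring whose extension of scalars along a surjective
ring homomorphism to a nonzero ring vanishes, is zero -/
theorem subsingleton_of_isZero_extendScalars {A B : Type u} [CommRing A] [CommRing B]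
    [IsLocalRing A] [Nontrivial B] (φ : A →+* B) (hφ : Function.Surjective φ)
    (M : ModuleCat.{u} A) [Module.Finite A M]
    (h : IsZero ((ModuleCat.extendScalars.{u, u, u} φ).obj M)) : Subsingleton M := by
  have hker : RingHom.ker φ ≤ RingHom.ker (IsLocalRing.residue A) := by
    intro a ha
    rw [RingHom.mem_ker] at ha ⊢
    rw [IsLocalRing.residue_eq_zero_iff]
    by_contra hn
    have hu : IsUnit a := by
      by_contra hnu
      exact hn ((IsLocalRing.mem_maximalIdeal a).mpr hnu)
    have := hu.map φ
    rw [ha] at this
    exact not_isUnit_zero this
  let ψ : B →+* IsLocalRing.ResidueField A :=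
    φ.liftOfSurjective hφ ⟨IsLocalRing.residue A, hker⟩
  have hcomp : ψ.comp φ = IsLocalRing.residue A :=
    RingHom.liftOfSurjective_comp φ hφ ⟨IsLocalRing.residue A, hker⟩
  have h2 : IsZero ((ModuleCat.extendScalars.{u, u, u} ψ).obj
      ((ModuleCat.extendScalars.{u, u, u} φ).obj M)) := Functor.map_isZero _ h
  have h3 : IsZero ((ModuleCat.extendScalars.{u, u, u} (IsLocalRing.residue A)).obj M) :=
    IsZero.of_iso h2 ((extendScalarsCongr hcomp).symm.app M ≪≫
      (ModuleCat.extendScalarsComp φ ψ).app M)
  exact subsingleton_of_isZero_extendScalars_residue M h3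

end Groth.Agent.Helper5.US
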