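import Groth.Agent.Lib.Helper5.CHP2
import Groth.Agent.Lib.Helper11.PcHom1
import Groth.Agent.Lib.Helper5.US1

/-!
# Relative pseudo-coherence in chart form versus the ring-level notion, part 3: ring-level
transport between models of a principal localisation, and change of the base ring to a principal
localisation
-/

set_option autoImplicit false
set_option linter.unusedSectionVars false
set_option linter.unusedVariables false
set_option linter.style.haveILetI false

universe u

open CategoryTheory CategoryTheory.Limits

attribute [local instance] HasDerivedCategory.standard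

namespace Groth.Agent.Helper5.CHP

open Groth.Agent.Helper11 Groth.Agent.Helper11.MPC Groth.Agent.Helper11.TA
  Groth.Agent.Helper11.PcHom Groth.Agent.Helper5.RPR

section Transport

variable {R A B₁ B₂ : Type u} [CommRing R] [CommRing A] [CommRing B₁] [CommRing B₂]
  [Algebra R A] [Algebra A B₁] [Algebra A B₂] [Algebra R B₁] [Algebra R B₂]
  [IsScalarTower R A B₁] [IsScalarTower R A B₂]

/-- extension of scalars to `B₁` then restriction along a presentation of `B₁` is extension of
scalars to an isomorphic `B₂` then restriction along the transported presentation -/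
noncomputable def esRsTransportNatIso (e : B₁ ≃ₐ[A] B₂) {n : ℕ}
    (α : MvPolynomial (Fin n) R →+* B₁) (α' : MvPolynomial (Fin n) R →+* B₂)
    (hα' : ∀ p, α' p = e (α p)) :
    ModuleCat.extendScalars.{u, u, u} (algebraMap A B₁) ⋙ ModuleCat.restrictScalars.{u} α ≅
      ModuleCat.extendScalars.{u, u, u} (algebraMap A B₂) ⋙ ModuleCat.restrictScalars.{u} α' :=
  Functor.isoWhiskerLeft _ (rsEsNatIso α (e : B₁ →+* B₂) e.bijective α' hα') ≪≫
    (Functor.associator _ _ _).symm ≪≫
    Functor.isoWhiskerRight ((ModuleCat.extendScalarsComp (algebraMap A B₁) (e : B₁ →+* B₂)).symm ≪≫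
      Groth.Agent.Helper5.US.extendScalarsCongr (by
        ext x
        exact e.commutes x)) _

theorem rel_transport (e : B₁ ≃ₐ[A] B₂) (K : DRing.Cx A) (m : ℤ)
    (h : DerCA.IsRelPseudoCoherent R B₁ m
      (DerivedCategory.Q.obj ((esC (algebraMap A B₁)).obj K))) :
    DerCA.IsRelPseudoCoherent R B₂ m
      (DerivedCategory.Q.obj ((esC (algebraMap A B₂)).obj K)) := by
  obtain ⟨n, α, hα, hvia⟩ := h
  let eR : B₁ →ₐ[R] B₂ :=
    { (e : B₁ →+* B₂) with
      commutes' := fun r => by
        show e (algebraMap R B₁ r) = algebraMap R B₂ r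
        rw [IsScalarTower.algebraMap_apply R A B₁, IsScalarTower.algebraMap_apply R A B₂]
        exact e.commutes _ }
  let α' : MvPolynomial (Fin n) R →ₐ[R] B₂ := eR.comp α
  have hα' : Function.Surjective α' := e.surjective.comp hα
  refine ⟨n, α', hα', ?_⟩
  haveI i1 : (ModuleCat.extendScalars.{u, u, u} (algebraMap A B₁) ⋙
      ModuleCat.restrictScalars.{u} (α : MvPolynomial (Fin n) R →+* B₁)).PreservesZeroMorphisms :=
    inferInstance
  haveI i2 : (ModuleCat.extendScalars.{u, u, u} (algebraMap A B₂) ⋙
      ModuleCat.restrictScalars.{u} (α' : MvPolynomial (Fin n) R →+* B₂)).PreservesZeroMorphisms :=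
    inferInstance
  let c : ((ModuleCat.restrictScalars.{u}
        (α : MvPolynomial (Fin n) R →+* B₁)).mapHomologicalComplex (ComplexShape.up ℤ)).obj
          ((esC (algebraMap A B₁)).obj K) ≅
      ((ModuleCat.restrictScalars.{u}
        (α' : MvPolynomial (Fin n) R →+* B₂)).mapHomologicalComplex (ComplexShape.up ℤ)).obj
          ((esC (algebraMap A B₂)).obj K) :=
    (@NatIso.mapHomologicalComplex _ _ _ _ _ _ _ _ _ i1 i2
      (esRsTransportNatIso e (α : MvPolynomial (Fin n) R →+* B₁)
        (α' : MvPolynomial (Fin n) R →+* B₂) (fun p => rfl)) (ComplexShape.up ℤ)).app K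
  exact mpc_of_iso
    (((ModuleCat.restrictScalars.{u}
        (α : MvPolynomial (Fin n) R →+* B₁)).mapDerivedCategoryFactors.app _) ≪≫
      DerivedCategory.Q.mapIso c ≪≫
      ((ModuleCat.restrictScalars.{u}
        (α' : MvPolynomial (Fin n) R →+* B₂)).mapDerivedCategoryFactors.app _).symm) hvia

end Transport

section Away

variable {R A A' : Type u} [CommRing R] [CommRing A] [CommRing A'] [Algebra R A] [Algebra A A']
  [Algebra R A'] [IsScalarTower R A A']

/-- relative pseudo-coherence over a principal localisation does not depend on the model of the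
localisation -/
theorem rel_loc_iff (a : A) [IsLocalization.Away a A'] (K : DRing.Cx A) (m : ℤ) :
    DerCA.IsRelPseudoCoherent R A' m
        (DerivedCategory.Q.obj ((esC (algebraMap A A')).obj K)) ↔
      DerCA.IsRelPseudoCoherent R (Localization.Away a) m
        (DerivedCategory.Q.obj ((esC (algebraMap A (Localization.Away a))).obj K)) := by
  let e : Localization.Away a ≃ₐ[A] A' := IsLocalization.algEquiv (Submonoid.powers a) _ _
  exact ⟨rel_transport e.symm K m, rel_transport e K m⟩

end Away

section Base

variable {R R' B : Type u} [CommRing R] [CommRing R'] [CommRing B] [Algebra R R'] [Algebra R' B]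
  [Algebra R B] [IsScalarTower R R' B]

/-- relative pseudo-coherence does not change when the base ring is replaced by a principal
localisation over which the algebra lives -/
theorem rel_base_loc_iff (r : R) [IsLocalization.Away r R'] [Algebra.FiniteType R' B]
    (N : Dual.D B) (m : ℤ) :
    DerCA.IsRelPseudoCoherent R' B m N ↔ DerCA.IsRelPseudoCoherent R B m N := by
  have h1 : MoreMor.IsPseudoCoherentHom R R' := hom_away r
  haveI : Algebra.FiniteType R R' := finiteType_of_hom h1
  exact rel_trans_iff (rel_of_hom h1) N m

end Base

end Groth.Agent.Helper5.CHP
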