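import Groth.Agent.Lib.Helper5.CHP3

/-!
# Relative pseudo-coherence in chart form versus the ring-level notion, part 4: the complex of
modules representing an object on a smaller affine open
-/

set_option autoImplicit false
set_option linter.unusedSectionVars false
set_option linter.unusedVariables false
set_option linter.style.haveILetI false

universe u

open CategoryTheory CategoryTheory.Limits AlgebraicGeometry TopologicalSpace

attribute [local instance] HasDerivedCategory.standard

namespace Groth.Agent.Helper5.CHP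

open Groth.Agent.Helper5.TB Groth.Agent.Helper5.RPR Groth.Agent.Helper11
  Groth.Agent.Helper5.TBA Groth.Agent.Helper5.RT Groth.Agent.Helper5.PCT Groth.Agent.Helper5.TT
  Groth.Agent.Helper5.KF Groth.Agent.Helper9.RelPC Groth.Agent.Helper11.TA
  Groth.Agent.Helper5.LDer

section Tilde

variable {A A' : Type u} [CommRing A] [CommRing A'] (θ : A →+* A')
  [IsOpenImmersion (Spec.map (CommRingCat.ofHom θ))]

/-- restriction of tilde along an open immersion of affine schemes is tilde of the extension of
scalars, on modules -/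
noncomputable def restrictTildeNatIso' :
    tilde.functor (CommRingCat.of A) ⋙
        Scheme.Modules.restrictFunctor (Spec.map (CommRingCat.ofHom θ)) ≅
      ModuleCat.extendScalars.{u, u, u} θ ⋙ tilde.functor (CommRingCat.of A') :=
  Functor.isoWhiskerLeft _
      (Scheme.Modules.restrictFunctorIsoPullback (Spec.map (CommRingCat.ofHom θ))) ≪≫
    Groth.Agent.Helper13.Pullback.tildePullbackIso (CommRingCat.ofHom θ)

/-- on complexes -/
noncomputable def restrictTildeCxIso' (K : DRing.Cx A) :
    (rCx (Spec.map (CommRingCat.ofHom θ))).obj ((tildeC A).obj K) ≅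
      (tildeC A').obj ((esC θ).obj K) := by
  haveI i1 : (tilde.functor (CommRingCat.of A) ⋙
      Scheme.Modules.restrictFunctor (Spec.map (CommRingCat.ofHom θ))).PreservesZeroMorphisms :=
    inferInstance
  haveI i2 : (ModuleCat.extendScalars.{u, u, u} θ ⋙
      tilde.functor (CommRingCat.of A')).PreservesZeroMorphisms := inferInstance
  exact (@NatIso.mapHomologicalComplex _ _ _ _ _ _ _ _ _ i1 i2
    (restrictTildeNatIso' θ) (ComplexShape.up ℤ)).app K

end Tilde

section Chart

variable {X : Scheme.{u}} (E : DCoh.D X)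

/-- the chart of `E` on `U` through a representing complex and the open immersion `fromSpec` -/
noncomputable def chartIso {U : X.Opens} (hU : IsAffineOpen U)
    (G : CochainComplex X.Modules ℤ) (eG : DCoh.toD X G ≅ E) :
    chart E hU ≅ DerivedCategory.Q.obj ((rCx hU.fromSpec).obj G) :=
  (DCoh.restrictD hU.isoSpec.inv).mapIso ((DCoh.restrictD U.ι).mapIso eG.symm ≪≫
      (Scheme.Modules.restrictFunctor U.ι).mapDerivedCategoryFactors.app G) ≪≫
    (Scheme.Modules.restrictFunctor hU.isoSpec.inv).mapDerivedCategoryFactors.app _ ≪≫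
    DerivedCategory.Q.mapIso ((NatIso.mapHomologicalComplex
      (Scheme.Modules.restrictFunctorComp hU.isoSpec.inv U.ι) (ComplexShape.up ℤ)).app G).symm

variable {U U' : X.Opens} (hU : IsAffineOpen U) (hU' : IsAffineOpen U') (h : U' ≤ U)

/-- the restriction map on sections -/
noncomputable abbrev resΓ : Γ(X, U) →+* Γ(X, U') := (X.presheaf.map (homOfLE h).op).hom

lemma specMap_resΓ_fromSpec :
    Spec.map (CommRingCat.ofHom (resΓ h)) ≫ hU.fromSpec = hU'.fromSpec :=
  hU.map_fromSpec hU' (homOfLE h).op

theorem isOpenImmersion_specMap_resΓ (hU : IsAffineOpen U) (hU' : IsAffineOpen U') :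
    IsOpenImmersion (Spec.map (CommRingCat.ofHom (resΓ h))) := by
  haveI : IsOpenImmersion (Spec.map (CommRingCat.ofHom (resΓ h)) ≫ hU.fromSpec) := by
    rw [specMap_resΓ_fromSpec hU hU' h]
    infer_instance
  exact IsOpenImmersion.of_comp _ hU.fromSpec

/-- if `K` represents `E` on `U` then the extension of scalars of `K` represents `E` on a smaller
affine open `U'` -/
noncomputable def reprLoc (K : DRing.Cx Γ(X, U))
    (e : chart E hU ≅ (DCoh.tildeD Γ(X, U)).obj (DerivedCategory.Q.obj K)) :
    chart E hU' ≅ (DCoh.tildeD Γ(X, U')).obj (DerivedCategory.Q.obj ((esC (resΓ h)).obj K)) := by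
  let G := (DerivedCategory.Q (C := X.Modules)).objPreimage E
  let eG : DCoh.toD X G ≅ E := (DerivedCategory.Q (C := X.Modules)).objObjPreimageIso E
  haveI := isOpenImmersion_specMap_resΓ h hU hU'
  let j := Spec.map (CommRingCat.ofHom (resΓ h))
  let c : (rCx hU'.fromSpec).obj G ≅ (rCx j).obj ((rCx hU.fromSpec).obj G) :=
    (NatIso.mapHomologicalComplex
      (Scheme.Modules.restrictFunctorCongr (specMap_resΓ_fromSpec hU hU' h).symm)
      (ComplexShape.up ℤ)).app G ≪≫
    (NatIso.mapHomologicalComplex
      (Scheme.Modules.restrictFunctorComp j hU.fromSpec) (ComplexShape.up ℤ)).app G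
  let e2 : DerivedCategory.Q.obj ((rCx hU.fromSpec).obj G) ≅
      DerivedCategory.Q.obj ((tildeC Γ(X, U)).obj K) :=
    (chartIso E hU G eG).symm ≪≫ e ≪≫ (QtildeIso Γ(X, U) K).symm
  exact chartIso E hU' G eG ≪≫ DerivedCategory.Q.mapIso c ≪≫ restrictQIso j e2 ≪≫
    DerivedCategory.Q.mapIso (restrictTildeCxIso' (resΓ h) K) ≪≫
    QtildeIso Γ(X, U') ((esC (resΓ h)).obj K)

end Chart

end Groth.Agent.Helper5.CHP
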