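import Groth.Agent.Lib.Helper5.CHP4

/-!
# Relative pseudo-coherence in chart form versus the ring-level notion, part 5: ring-level
restriction to principal localisations and gluing, in unbundled form
-/

set_option autoImplicit false
set_option linter.unusedSectionVars false
set_option linter.unusedVariables false
set_option linter.style.haveILetI false

universe u

open CategoryTheory CategoryTheory.Limits

attribute [local instance] HasDerivedCategory.standard

namespace Groth.Agent.Helper5.CHP

open Groth.Agent.Helper11 Groth.Agent.Helper11.MPC Groth.Agent.Helper11.TA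
  Groth.Agent.Helper11.PcHom Groth.Agent.Helper5.RPR

variable {R R' A A' : Type u} [CommRing R] [CommRing R'] [CommRing A] [CommRing A']

/-- restriction of relative pseudo-coherence to principal localisations of the algebra and of the
base -/
theorem ring_restrict (ρ : R →+* R') (ψ : R →+* A) (θ : A →+* A') (ψ' : R' →+* A')
    (hsq : θ.comp ψ = ψ'.comp ρ) (a : A) (ha : @IsLocalization.Away A _ a A' _ θ.toAlgebra)
    (r : R) (hr : @IsLocalization.Away R _ r R' _ ρ.toAlgebra) (hft : ψ'.FiniteType)
    (K : DRing.Cx A) (m : ℤ)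
    (h : @DerCA.IsRelPseudoCoherent R A _ _ ψ.toAlgebra m (DerivedCategory.Q.obj K)) :
    @DerCA.IsRelPseudoCoherent R' A' _ _ ψ'.toAlgebra m
      (DerivedCategory.Q.obj ((esC θ).obj K)) := by
  letI algRA : Algebra R A := ψ.toAlgebra
  letI algAA' : Algebra A A' := θ.toAlgebra
  letI algRR' : Algebra R R' := ρ.toAlgebra
  letI algR'A' : Algebra R' A' := ψ'.toAlgebra
  letI algRA' : Algebra R A' := (θ.comp ψ).toAlgebra
  haveI : IsScalarTower R A A' := IsScalarTower.of_algebraMap_eq (fun _ => rfl)
  haveI : IsScalarTower R R' A' := IsScalarTower.of_algebraMap_eq (fun x => by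
    show (θ.comp ψ) x = (ψ'.comp ρ) x
    rw [hsq])
  haveI : IsLocalization.Away a A' := ha
  haveI : IsLocalization.Away r R' := hr
  haveI : Algebra.FiniteType R' A' := hft
  have h1 := rel_away a K m h
  have h2 : DerCA.IsRelPseudoCoherent R A' m
      (DerivedCategory.Q.obj ((esC (algebraMap A A')).obj K)) := (rel_loc_iff a K m).mpr h1
  exact (rel_base_loc_iff r _ m).mpr h2

/-- gluing of relative pseudo-coherence along principal localisations of the algebra, the base
being allowed to shrink to principal localisations -/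
theorem ring_glue (ψ : R →+* A) (hψ : ψ.FiniteType) {k : ℕ} (a : Fin k → A)
    (hspan : Ideal.span (Set.range a) = ⊤) (r : Fin k → R)
    (R' A' : Fin k → Type u) [∀ i, CommRing (R' i)] [∀ i, CommRing (A' i)]
    (ρ : ∀ i, R →+* R' i) (θ : ∀ i, A →+* A' i) (ψ' : ∀ i, R' i →+* A' i)
    (hsq : ∀ i, (θ i).comp ψ = (ψ' i).comp (ρ i))
    (ha : ∀ i, @IsLocalization.Away A _ (a i) (A' i) _ (θ i).toAlgebra)
    (hr : ∀ i, @IsLocalization.Away R _ (r i) (R' i) _ (ρ i).toAlgebra)
    (hft : ∀ i, (ψ' i).FiniteType) (K : DRing.Cx A) (m : ℤ)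
    (h : ∀ i, @DerCA.IsRelPseudoCoherent (R' i) (A' i) _ _ (ψ' i).toAlgebra m
      (DerivedCategory.Q.obj ((esC (θ i)).obj K))) :
    @DerCA.IsRelPseudoCoherent R A _ _ ψ.toAlgebra m (DerivedCategory.Q.obj K) := by
  letI algRA : Algebra R A := ψ.toAlgebra
  haveI : Algebra.FiniteType R A := hψ
  refine (rel_cover_iff K m a hspan).mpr (fun i => ?_)
  letI algAA' : Algebra A (A' i) := (θ i).toAlgebra
  letI algRR' : Algebra R (R' i) := (ρ i).toAlgebra
  letI algR'A' : Algebra (R' i) (A' i) := (ψ' i).toAlgebra
  letI algRA' : Algebra R (A' i) := ((θ i).comp ψ).toAlgebra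
  haveI : IsScalarTower R A (A' i) := IsScalarTower.of_algebraMap_eq (fun _ => rfl)
  haveI : IsScalarTower R (R' i) (A' i) := IsScalarTower.of_algebraMap_eq (fun x => by
    show ((θ i).comp ψ) x = ((ψ' i).comp (ρ i)) x
    rw [hsq i])
  haveI : IsLocalization.Away (a i) (A' i) := ha i
  haveI : IsLocalization.Away (r i) (R' i) := hr i
  haveI : Algebra.FiniteType (R' i) (A' i) := hft i
  have h2 : DerCA.IsRelPseudoCoherent R (A' i) m
      (DerivedCategory.Q.obj ((esC (algebraMap A (A' i))).obj K)) :=
    (rel_base_loc_iff (r i) _ m).mp (h i)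
  exact (rel_loc_iff (a i) K m).mp h2

end Groth.Agent.Helper5.CHP
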