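import Groth.Agent.Lib.Helper5.CHP5

/-!
# Relative pseudo-coherence in chart form versus the ring-level notion, part 6: the ring-level
condition on affine pairs; restriction to principal opens and gluing
-/

set_option autoImplicit false
set_option linter.unusedSectionVars false
set_option linter.unusedVariables false
set_option linter.style.haveILetI false

universe u

open CategoryTheory CategoryTheory.Limits AlgebraicGeometry TopologicalSpace Opposite

attribute [local instance] HasDerivedCategory.standard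

namespace Groth.Agent.Helper5.CHP

open Groth.Agent.Helper5.TB Groth.Agent.Helper5.RPR Groth.Agent.Helper11
  Groth.Agent.Helper5.TBA Groth.Agent.Helper5.RT Groth.Agent.Helper5.PCT Groth.Agent.Helper5.TT
  Groth.Agent.Helper5.KF Groth.Agent.Helper9.RelPC Groth.Agent.Helper11.TA
  Groth.Agent.Helper5.LDer Groth.Agent.Helper11.MPC

variable {X S : Scheme.{u}} (f : X ⟶ S) (E : DCoh.D X) (m : ℤ)

/-- the ring-level relative `m`-pseudo-coherence of `E` on an affine pair -/
def RelPC {U : X.Opens} (hU : IsAffineOpen U) {V : S.Opens} (hV : IsAffineOpen V)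
    (hUV : U ≤ f ⁻¹ᵁ V) : Prop :=
  ∀ M : Dual.D Γ(X, U), Nonempty (chart E hU ≅ (DCoh.tildeD Γ(X, U)).obj M) →
    @DerCA.IsRelPseudoCoherent Γ(S, V) Γ(X, U) _ _ (f.appLE V U hUV).hom.toAlgebra m M

lemma relPC_congr {U U' : X.Opens} (hU : IsAffineOpen U) (hU' : IsAffineOpen U') {V V' : S.Opens}
    (hV : IsAffineOpen V) (hV' : IsAffineOpen V') (hUV : U ≤ f ⁻¹ᵁ V) (hUV' : U' ≤ f ⁻¹ᵁ V')
    (e1 : U = U') (e2 : V = V') (h : RelPC f E m hU hV hUV) : RelPC f E m hU' hV' hUV' := by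
  subst e1
  subst e2
  exact h

/-- two complexes of modules representing `E` on `U` are isomorphic -/
lemma repr_unique {U : X.Opens} (hU : IsAffineOpen U) (M M' : Dual.D Γ(X, U))
    (e : chart E hU ≅ (DCoh.tildeD Γ(X, U)).obj M)
    (e' : chart E hU ≅ (DCoh.tildeD Γ(X, U)).obj M') : Nonempty (M ≅ M') := by
  haveI := Groth.Agent.Helper29.QcD.full Γ(X, U)
  haveI := Groth.Agent.Helper29.QcD.faithful Γ(X, U)
  exact ⟨(DCoh.tildeD Γ(X, U)).preimageIso (e.symm ≪≫ e')⟩

lemma rel_of_iso' {U : X.Opens} {V : S.Opens} (hUV : U ≤ f ⁻¹ᵁ V) {M M' : Dual.D Γ(X, U)}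
    (e : M ≅ M')
    (h : @DerCA.IsRelPseudoCoherent Γ(S, V) Γ(X, U) _ _ (f.appLE V U hUV).hom.toAlgebra m M) :
    @DerCA.IsRelPseudoCoherent Γ(S, V) Γ(X, U) _ _ (f.appLE V U hUV).hom.toAlgebra m M' := by
  letI := (f.appLE V U hUV).hom.toAlgebra
  exact rel_of_iso e m h

section

variable [LocallyOfFiniteType f] {U : X.Opens} (hU : IsAffineOpen U) {V : S.Opens}
  (hV : IsAffineOpen V) (hUV : U ≤ f ⁻¹ᵁ V)

lemma appLE_sq (a : Γ(X, U)) (r : Γ(S, V)) (hle : X.basicOpen a ≤ f ⁻¹ᵁ S.basicOpen r) :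
    (resΓ (X.basicOpen_le a)).comp (f.appLE V U hUV).hom =
      (f.appLE (S.basicOpen r) (X.basicOpen a) hle).hom.comp (resΓ (S.basicOpen_le r)) := by
  have h1 := f.appLE_map hUV (homOfLE (X.basicOpen_le a)).op
  have h2 := f.map_appLE hle (homOfLE (S.basicOpen_le r)).op
  have h3 : f.appLE V U hUV ≫ X.presheaf.map (homOfLE (X.basicOpen_le a)).op =
      S.presheaf.map (homOfLE (S.basicOpen_le r)).op ≫
        f.appLE (S.basicOpen r) (X.basicOpen a) hle := h1.trans h2.symm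
  exact congrArg CommRingCat.Hom.hom h3

theorem relPC_restrict (hE : DCoh.IsQCohD E) (a : Γ(X, U)) (r : Γ(S, V))
    (hle : X.basicOpen a ≤ f ⁻¹ᵁ S.basicOpen r) (H : RelPC f E m hU hV hUV) :
    RelPC f E m (hU.basicOpen a) (hV.basicOpen r) hle := by
  intro M' ⟨e'⟩
  obtain ⟨M, ⟨eM⟩⟩ := exists_model E hE hU
  let K := (DerivedCategory.Q (C := ModuleCat.{u} Γ(X, U))).objPreimage M
  let e₀ : DerivedCategory.Q.obj K ≅ M :=
    (DerivedCategory.Q (C := ModuleCat.{u} Γ(X, U))).objObjPreimageIso M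
  have hK := rel_of_iso' f m hUV e₀.symm (H M ⟨eM⟩)
  have h1 := ring_restrict (resΓ (S.basicOpen_le r)) (f.appLE V U hUV).hom
    (resΓ (X.basicOpen_le a)) (f.appLE (S.basicOpen r) (X.basicOpen a) hle).hom
    (appLE_sq f hUV a r hle) a (hU.isLocalization_basicOpen a) r (hV.isLocalization_basicOpen r)
    (f.finiteType_appLE (hV.basicOpen r) (hU.basicOpen a) hle) K m hK
  have e2 := reprLoc E hU (hU.basicOpen a) (X.basicOpen_le a) K
    (eM ≪≫ (DCoh.tildeD Γ(X, U)).mapIso e₀.symm)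
  obtain ⟨i⟩ := repr_unique E (hU.basicOpen a) _ M' e2 e'
  exact rel_of_iso' f m hle i h1

theorem relPC_glue {k : ℕ} (a : Fin k → Γ(X, U)) (hspan : Ideal.span (Set.range a) = ⊤)
    (r : Fin k → Γ(S, V)) (hle : ∀ i, X.basicOpen (a i) ≤ f ⁻¹ᵁ S.basicOpen (r i))
    (H : ∀ i, RelPC f E m (hU.basicOpen (a i)) (hV.basicOpen (r i)) (hle i)) :
    RelPC f E m hU hV hUV := by
  intro M ⟨eM⟩
  let K := (DerivedCategory.Q (C := ModuleCat.{u} Γ(X, U))).objPreimage M
  let e₀ : DerivedCategory.Q.obj K ≅ M :=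
    (DerivedCategory.Q (C := ModuleCat.{u} Γ(X, U))).objObjPreimageIso M
  refine rel_of_iso' f m hUV e₀ ?_
  refine ring_glue (f.appLE V U hUV).hom (f.finiteType_appLE hV hU hUV) a hspan r
    (fun i => Γ(S, S.basicOpen (r i))) (fun i => Γ(X, X.basicOpen (a i)))
    (fun i => resΓ (S.basicOpen_le (r i))) (fun i => resΓ (X.basicOpen_le (a i)))
    (fun i => (f.appLE (S.basicOpen (r i)) (X.basicOpen (a i)) (hle i)).hom)
    (fun i => appLE_sq f hUV (a i) (r i) (hle i))
    (fun i => hU.isLocalization_basicOpen (a i)) (fun i => hV.isLocalization_basicOpen (r i))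
    (fun i => f.finiteType_appLE (hV.basicOpen (r i)) (hU.basicOpen (a i)) (hle i)) K m
    (fun i => H i _ ⟨reprLoc E hU (hU.basicOpen (a i)) (X.basicOpen_le (a i)) K
      (eM ≪≫ (DCoh.tildeD Γ(X, U)).mapIso e₀.symm)⟩)

end

end Groth.Agent.Helper5.CHP
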