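import Groth.Agent.Lib.Helper5.CHP6

/-!
# Relative pseudo-coherence in chart form versus the ring-level notion, part 7: charts versus the
ring-level condition on one affine pair
-/

set_option autoImplicit false
set_option linter.unusedSectionVars false
set_option linter.unusedVariables false
set_option linter.style.haveILetI false

universe u

open CategoryTheory CategoryTheory.Limits AlgebraicGeometry TopologicalSpace Opposite

attribute [local instance] HasDerivedCategory.standard

namespace Groth.Agent.Helper5.CHP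

open Groth.Agent.Helper5.TB Groth.Agent.Helper5.RPR Groth.Agent.Helper11
  Groth.Agent.Helper5.TBA Groth.Agent.Helper5.RT Groth.Agent.Helper5.PCT Groth.Agent.Helper5.TT
  Groth.Agent.Helper5.KF Groth.Agent.Helper9.RelPC Groth.Agent.Helper11.TA
  Groth.Agent.Helper5.LDer Groth.Agent.Helper11.MPC

variable {X S : Scheme.{u}} (f : X ⟶ S) (E : DCoh.D X) (m : ℤ)

/-- a chart whose test holds gives the ring-level condition on that affine pair -/
theorem relPC_of_chart {U : X.Opens} (hU : IsAffineOpen U) {V : S.Opens} (hV : IsAffineOpen V)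
    (hUV : U ≤ f ⁻¹ᵁ V) {n : ℕ} (φ : MvPolynomial (Fin n) Γ(S, V) →+* Γ(X, U))
    (hφ : DerSch.IsChart f U V hUV φ) (h : DerSch.ChartPC m E U V φ) :
    RelPC f E m hU hV hUV := by
  intro M ⟨e⟩
  letI := (f.appLE V U hUV).hom.toAlgebra
  have h1 := (chartPC_iff E hU V φ hφ.1 m M e).mp h
  let α : MvPolynomial (Fin n) Γ(S, V) →ₐ[Γ(S, V)] Γ(X, U) :=
    { toRingHom := φ
      commutes' := fun r => by
        have := congrArg (fun g => g r) hφ.2
        exact this }
  exact ⟨n, α, hφ.1, h1⟩

/-- the ring-level condition on an affine pair gives a chart whose test holds -/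
theorem chart_of_relPC (hE : DCoh.IsQCohD E) {U : X.Opens} (hU : IsAffineOpen U) {V : S.Opens}
    (hV : IsAffineOpen V) (hUV : U ≤ f ⁻¹ᵁ V) (H : RelPC f E m hU hV hUV) :
    ∃ (n : ℕ) (φ : MvPolynomial (Fin n) Γ(S, V) →+* Γ(X, U)),
      DerSch.IsChart f U V hUV φ ∧ DerSch.ChartPC m E U V φ := by
  obtain ⟨M, ⟨eM⟩⟩ := exists_model E hE hU
  letI := (f.appLE V U hUV).hom.toAlgebra
  obtain ⟨n, α, hα, hvia⟩ := H M ⟨eM⟩
  refine ⟨n, (α : MvPolynomial (Fin n) Γ(S, V) →+* Γ(X, U)), ⟨hα, ?_⟩, ?_⟩
  · ext r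
    exact α.commutes r
  · exact (chartPC_iff E hU V _ hα m M eM).mpr hvia

end Groth.Agent.Helper5.CHP
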