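import Groth.Agent.Lib.Helper5.CHP8

/-!
# Relative pseudo-coherence in chart form versus the ring-level notion, part 9: the statement in
terms of representing complexes
-/

set_option autoImplicit false
set_option linter.unusedSectionVars false
set_option linter.unusedVariables false
set_option linter.style.haveILetI false

universe u

open CategoryTheory CategoryTheory.Limits AlgebraicGeometry TopologicalSpace Opposite

attribute [local instance] HasDerivedCategory.standard

namespace Groth.Agent.Helper5.CHP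

open Groth.Agent.Helper5.TB Groth.Agent.Helper5.RPR Groth.Agent.Helper11
  Groth.Agent.Helper5.TBA Groth.Agent.Helper5.RT Groth.Agent.Helper5.PCT Groth.Agent.Helper5.TT
  Groth.Agent.Helper5.KF Groth.Agent.Helper9.RelPC Groth.Agent.Helper11.TA
  Groth.Agent.Helper5.LDer Groth.Agent.Helper11.MPC

variable {X S : Scheme.{u}} (f : X ⟶ S) (E : DCoh.D X) (m : ℤ)

/-- the chart of `E` on `U` through a representing complex and direct image along
`U ≅ Spec Γ(X, U)` -/
noncomputable def chartPushIso {U : X.Opens} (hU : IsAffineOpen U)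
    (G : CochainComplex X.Modules ℤ) (eG : DCoh.toD X G ≅ E) :
    chart E hU ≅ DCoh.toD (Spec Γ(X, U))
      ((DerSch.pushCx hU.isoSpec.hom).obj ((DCoh.restrictCx U).obj G)) :=
  (DCoh.restrictD hU.isoSpec.inv).mapIso ((DCoh.restrictD U.ι).mapIso eG.symm ≪≫
      (Scheme.Modules.restrictFunctor U.ι).mapDerivedCategoryFactors.app G) ≪≫
    (Scheme.Modules.restrictFunctor hU.isoSpec.inv).mapDerivedCategoryFactors.app _ ≪≫
    DerivedCategory.Q.mapIso ((NatIso.mapHomologicalComplex
      (pushIsoRestrict hU.isoSpec).symm (ComplexShape.up ℤ)).app ((rCx U.ι).obj G))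

theorem main [LocallyOfFiniteType f] (hE : DCoh.IsQCohD E) :
    DerSch.IsPseudoCoherentRel f m E ↔
      ∀ (U : X.affineOpens) (V : S.affineOpens) (h : (U : X.Opens) ≤ f ⁻¹ᵁ (V : S.Opens))
        (G : CochainComplex X.Modules ℤ), Nonempty (DCoh.toD X G ≅ E) →
        ∀ M : Dual.D Γ(X, (U : X.Opens)),
          Nonempty ((DCoh.tildeD Γ(X, (U : X.Opens))).obj M ≅
            DCoh.toD _ ((DerSch.pushCx U.2.isoSpec.hom).obj
              ((DCoh.restrictCx (U : X.Opens)).obj G))) →
          @DerCA.IsRelPseudoCoherent Γ(S, (V : S.Opens)) Γ(X, (U : X.Opens)) _ _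
            (f.appLE (V : S.Opens) (U : X.Opens) h).hom.toAlgebra m M := by
  rw [rel_iff_relPC f E m hE]
  constructor
  · intro H U V h G ⟨eG⟩ M ⟨eM⟩
    exact H U.1 U.2 V.1 V.2 h M ⟨chartPushIso E U.2 G eG ≪≫ eM.symm⟩
  · intro H U hU V hV hUV M ⟨e⟩
    let G := (DerivedCategory.Q (C := X.Modules)).objPreimage E
    let eG : DCoh.toD X G ≅ E := (DerivedCategory.Q (C := X.Modules)).objObjPreimageIso E
    exact H ⟨U, hU⟩ ⟨V, hV⟩ hUV G ⟨eG⟩ M ⟨e.symm ≪≫ chartPushIso E hU G eG⟩

end Groth.Agent.Helper5.CHP
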