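import Mathlib

/-!
# Abstract mate calculus for a square of adjunctions

`F ⊣ G`, `Sx ⊣ Kx`, `Sy ⊣ Ky`, `E ⊣ R` and an isomorphism `κ : Kx ⋙ G ≅ R ⋙ Ky` of right
adjoints.  The induced isomorphism `lam : F ⋙ Sx ≅ Sy ⋙ E` of left adjoints and the mate
`sig : G ⋙ Sy ⟶ Sx ⋙ R` compute the images of the unit and counit of `F ⊣ G`.
-/

set_option autoImplicit false

universe v₁ v₂ v₃ v₄ u₁ u₂ u₃ u₄

open CategoryTheory

namespace Groth.Agent.Helper5.CI

variable {𝒳 : Type u₁} {𝒴 : Type u₂} {𝒜 : Type u₃} {ℬ : Type u₄}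
  [Category.{v₁} 𝒳] [Category.{v₂} 𝒴] [Category.{v₃} 𝒜] [Category.{v₄} ℬ]
  {F : 𝒴 ⥤ 𝒳} {G : 𝒳 ⥤ 𝒴} {Sx : 𝒳 ⥤ 𝒜} {Kx : 𝒜 ⥤ 𝒳} {Sy : 𝒴 ⥤ ℬ} {Ky : ℬ ⥤ 𝒴}
  {E : ℬ ⥤ 𝒜} {R : 𝒜 ⥤ ℬ}
  (adjF : F ⊣ G) (adjx : Sx ⊣ Kx) (adjy : Sy ⊣ Ky) (adjE : E ⊣ R) (κ : Kx ⋙ G ≅ R ⋙ Ky)

/-- the induced isomorphism of left adjoints -/
noncomputable def lam : F ⋙ Sx ≅ Sy ⋙ E :=
  (adjF.comp adjx).leftAdjointUniq ((adjy.comp adjE).ofNatIsoRight κ.symm)

/-- the mate of `κ` -/
noncomputable def sig (M : 𝒳) : Sy.obj (G.obj M) ⟶ R.obj (Sx.obj M) :=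
  Sy.map (G.map (adjx.unit.app M)) ≫ Sy.map (κ.hom.app (Sx.obj M)) ≫
    adjy.counit.app (R.obj (Sx.obj M))

@[reassoc]
lemma sig_naturality {M N : 𝒳} (g : M ⟶ N) :
    Sy.map (G.map g) ≫ sig adjx adjy κ N = sig adjx adjy κ M ≫ R.map (Sx.map g) := by
  unfold sig
  have h1 := adjx.unit.naturality g
  have h2 := κ.hom.naturality (Sx.map g)
  have h3 := adjy.counit.naturality (R.map (Sx.map g))
  simp only [Functor.id_obj, Functor.comp_obj, Functor.id_map, Functor.comp_map] at h1 h2 h3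
  rw [← Sy.map_comp_assoc, ← G.map_comp, h1, G.map_comp, Sy.map_comp_assoc,
    ← Sy.map_comp_assoc (G.map (Kx.map (Sx.map g))), h2, Sy.map_comp_assoc]
  simp only [Category.assoc]
  rw [← h3]

lemma map_counit (M : 𝒳) :
    Sx.map (adjF.counit.app M) =
      (lam adjF adjx adjy adjE κ).hom.app (G.obj M) ≫ E.map (sig adjx adjy κ M) ≫
        adjE.counit.app (Sx.obj M) := by
  have h0 := Adjunction.leftAdjointUniq_hom_app_counit (adjF.comp adjx)
    ((adjy.comp adjE).ofNatIsoRight κ.symm) (Sx.obj M)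
  have h1 : Sx.map (adjF.counit.app M) =
      Sx.map (F.map (G.map (adjx.unit.app M))) ≫ (adjF.comp adjx).counit.app (Sx.obj M) := by
    rw [Adjunction.comp_counit_app]
    have h2 := adjF.counit.naturality (adjx.unit.app M)
    dsimp at h2
    rw [← Sx.map_comp_assoc, h2, Sx.map_comp_assoc]
    have h3 := adjx.left_triangle_components M
    rw [h3, Category.comp_id]
  rw [h1, ← h0]
  have h4 := (lam adjF adjx adjy adjE κ).hom.naturality (G.map (adjx.unit.app M))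
  unfold lam at h4 ⊢
  dsimp only [Functor.comp_obj, Functor.comp_map, Functor.id_obj] at h4 ⊢
  rw [reassoc_of% h4]
  congr 1
  unfold sig
  simp [Adjunction.ofNatIsoRight]

lemma map_unit (C : 𝒴) :
    Sy.map (adjF.unit.app C) ≫ sig adjx adjy κ (F.obj C) ≫
      R.map ((lam adjF adjx adjy adjE κ).hom.app C) = adjE.unit.app (Sy.obj C) := by
  have h0 := Adjunction.unit_leftAdjointUniq_hom_app (adjF.comp adjx)
    ((adjy.comp adjE).ofNatIsoRight κ.symm) C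
  have h0' : adjF.unit.app C ≫ G.map (adjx.unit.app (F.obj C)) ≫
      G.map (Kx.map ((lam adjF adjx adjy adjE κ).hom.app C)) =
      adjy.unit.app C ≫ Ky.map (adjE.unit.app (Sy.obj C)) ≫ κ.inv.app (E.obj (Sy.obj C)) := by
    simpa [lam, Adjunction.ofNatIsoRight] using h0
  have h1 := adjy.counit.naturality (R.map ((lam adjF adjx adjy adjE κ).hom.app C))
  have h2 := κ.hom.naturality ((lam adjF adjx adjy adjE κ).hom.app C)
  have h3 := adjy.counit.naturality (adjE.unit.app (Sy.obj C))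
  have h4 := adjy.left_triangle_components C
  dsimp only [Functor.comp_obj, Functor.comp_map, Functor.id_obj, Functor.id_map] at h1 h2 h3 h4
  unfold sig
  simp only [Category.assoc]
  rw [← h1, ← Sy.map_comp_assoc (κ.hom.app _), ← h2, Sy.map_comp_assoc,
    ← Sy.map_comp_assoc (G.map _), ← Sy.map_comp_assoc (adjF.unit.app C), h0']
  simp only [Functor.map_comp, Category.assoc]
  rw [← Sy.map_comp_assoc (κ.inv.app _), Iso.inv_hom_id_app, Sy.map_id, Category.id_comp]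
  dsimp only [Functor.comp_obj]
  rw [h3, reassoc_of% h4]

end Groth.Agent.Helper5.CI
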