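import Mathlib

/-!
# Extension and restriction of scalars along a surjective ring homomorphism

The counit `B ⊗_A T ⟶ T` is an isomorphism; the unit `T ⟶ B ⊗_A T` is an isomorphism when the
kernel kills `T`.
-/

set_option autoImplicit false
set_option linter.style.haveILetI false

universe u

open CategoryTheory TensorProduct

namespace Groth.Agent.Helper5.CI

open ChangeOfRings

variable {A B : Type u} [CommRing A] [CommRing B] (φ : A →+* B)

lemma tmul_eq_one_tmul (T : ModuleCat.{u} A) (a : A) (t : T) :
    (φ a) ⊗ₜ[A,φ] t = (1 : B) ⊗ₜ[A,φ] (a • t) := by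
  letI : Module A B := Module.compHom B φ
  rw [← TensorProduct.smul_tmul]
  congr 1
  change φ a = φ a * 1
  rw [mul_one]

variable {φ}

lemma exists_one_tmul (hφ : Function.Surjective φ) (T : ModuleCat.{u} A)
    (z : (ModuleCat.extendScalars φ).obj T) : ∃ t : T, z = (1 : B) ⊗ₜ[A,φ] t := by
  letI : Module A B := Module.compHom B φ
  induction z using TensorProduct.induction_on with
  | zero => exact ⟨0, (TensorProduct.tmul_zero _ _).symm⟩
  | tmul b t =>
    obtain ⟨a, rfl⟩ := hφ b
    exact ⟨a • t, tmul_eq_one_tmul φ T a t⟩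
  | add z₁ z₂ h₁ h₂ =>
    obtain ⟨t₁, rfl⟩ := h₁
    obtain ⟨t₂, rfl⟩ := h₂
    exact ⟨t₁ + t₂, (TensorProduct.tmul_add _ _ _).symm⟩

theorem isIso_counit_of_surjective (hφ : Function.Surjective φ) (T : ModuleCat.{u} B) :
    IsIso ((ModuleCat.extendRestrictScalarsAdj φ).counit.app T) := by
  rw [ConcreteCategory.isIso_iff_bijective]
  constructor
  · intro z z' h
    obtain ⟨t, rfl⟩ := exists_one_tmul hφ _ z
    obtain ⟨t', rfl⟩ := exists_one_tmul hφ _ z'
    have e1 := ModuleCat.extendRestrictScalarsAdj_counit_app_apply_one_tmul (f := φ) T t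
    have e2 := ModuleCat.extendRestrictScalarsAdj_counit_app_apply_one_tmul (f := φ) T t'
    have : t = t' := by
      rw [← e1, ← e2]
      exact h
    rw [this]
  · intro t
    exact ⟨(1 : B) ⊗ₜ[A,φ] t,
      ModuleCat.extendRestrictScalarsAdj_counit_app_apply_one_tmul (f := φ) T t⟩

theorem isIso_unit_of_ker_smul (hφ : Function.Surjective φ) (T : ModuleCat.{u} A)
    (hT : ∀ a : A, φ a = 0 → ∀ t : T, a • t = 0) :
    IsIso ((ModuleCat.extendRestrictScalarsAdj φ).unit.app T) := by
  letI : Module A B := Module.compHom B φ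
  have key : ∀ (a a' : A), φ a = φ a' → ∀ t : T, a • t = a' • t := by
    intro a a' h t
    have := hT (a - a') (by rw [map_sub, h, sub_self]) t
    rwa [sub_smul, sub_eq_zero] at this
  have hs : ∀ b : B, φ (Function.surjInv hφ b) = b := Function.surjInv_eq hφ
  let ψ : B ⊗[A] T →ₗ[A] T := TensorProduct.lift
    { toFun := fun b =>
        { toFun := fun t => Function.surjInv hφ b • t
          map_add' := fun t t' => smul_add _ _ _
          map_smul' := fun a t => smul_comm _ _ _ }
      map_add' := fun b b' => by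
        ext t
        change Function.surjInv hφ (b + b') • t =
          Function.surjInv hφ b • t + Function.surjInv hφ b' • t
        rw [← add_smul]
        exact key _ _ (by rw [hs, map_add, hs, hs]) t
      map_smul' := fun a b => by
        ext t
        change Function.surjInv hφ (φ a * b) • t = a • Function.surjInv hφ b • t
        rw [← mul_smul]
        exact key _ _ (by rw [hs, map_mul, hs]) t }
  have hψ : ∀ t : T, ψ ((1 : B) ⊗ₜ[A] t) = t := by
    intro t
    change Function.surjInv hφ (1 : B) • t = t
    have := key (Function.surjInv hφ (1 : B)) 1 (by rw [hs, map_one]) t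
    rwa [one_smul] at this
  rw [ConcreteCategory.isIso_iff_bijective]
  constructor
  · intro t t' h
    have h' : ((1 : B) ⊗ₜ[A,φ] t : (ModuleCat.extendScalars φ).obj T) = (1 : B) ⊗ₜ[A,φ] t' := h
    have := congrArg ψ h'
    exact (hψ t).symm.trans (this.trans (hψ t'))
  · intro z
    obtain ⟨t, rfl⟩ := exists_one_tmul hφ T z
    exact ⟨t, rfl⟩

end Groth.Agent.Helper5.CI
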