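import Groth.Agent.Lib.Helper5.SkyMod2
import Groth.Agent.Lib.Helper5.CI1
import Groth.Agent.Lib.Helper5.CI2
import Groth.Agent.Lib.Helper5.StalkCx6

/-!
# Stalks of the direct image along a closed immersion
-/

set_option autoImplicit false
set_option linter.unusedSectionVars false
set_option linter.unusedVariables false
set_option linter.style.haveILetI false

universe u

open CategoryTheory CategoryTheory.Limits AlgebraicGeometry Opposite TopologicalSpace

namespace Groth.Agent.Helper5.CI

open Groth.Agent.Helper5.Sky Groth.Agent.Helper5.StalkCx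

variable {X Y : Scheme.{u}} (f : X ⟶ Y) (x : X)

/-- the comparison `(f_* M)_{f x} ⟶ M_x`, as the mate of `pushSkyNatIso` -/
noncomputable def sigma (M : X.Modules) :
    (DerSch.stalkFunctor Y (f.base x)).obj ((Scheme.Modules.pushforward f).obj M) ⟶
      (ModuleCat.restrictScalars (φst f x)).obj ((DerSch.stalkFunctor X x).obj M) :=
  sig (stalkSkyAdj x) (stalkSkyAdj (f.base x)) (pushSkyNatIso f x) M

lemma sigma_germ (M : X.Modules) (V : Y.Opens) (hy : f.base x ∈ V)
    (s : Γ((Scheme.Modules.pushforward f).obj M, V)) :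
    sigma f x M (((Scheme.Modules.pushforward f).obj M).presheaf.germ V (f.base x) hy s) =
      M.presheaf.germ (f ⁻¹ᵁ V) x hy (s : Γ(M, f ⁻¹ᵁ V)) := by
  unfold sigma sig
  change ((stalkSkyAdj (f.base x)).counit.app _)
    (((DerSch.stalkFunctor Y (f.base x)).map ((pushSkyNatIso f x).hom.app _))
      (((DerSch.stalkFunctor Y (f.base x)).map
        ((Scheme.Modules.pushforward f).map ((stalkSkyAdj x).unit.app M)))
        (((Scheme.Modules.pushforward f).obj M).presheaf.germ V (f.base x) hy s))) = _
  have e1 := DerSch.stalkFunctor_map_germ (f.base x)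
    ((Scheme.Modules.pushforward f).map ((stalkSkyAdj x).unit.app M)) V hy s
  have e2 := DerSch.stalkFunctor_map_germ (f.base x)
    ((pushSkyNatIso f x).hom.app ((DerSch.stalkFunctor X x).obj M)) V hy
    (((Scheme.Modules.pushforward f).map ((stalkSkyAdj x).unit.app M)).app V s)
  refine (congrArg ((stalkSkyAdj (f.base x)).counit.app _)
    ((congrArg ((DerSch.stalkFunctor Y (f.base x)).map ((pushSkyNatIso f x).hom.app _)) e1).trans
      e2)).trans ?_
  exact counit_germ (f.base x) _ V hy _

lemma sigma_eq (M : X.Modules)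
    (t : ((Scheme.Modules.pushforward f).obj M).presheaf.stalk (f.base x)) :
    (sigma f x M).hom t = TopCat.Presheaf.stalkPushforward Ab.{u} f.base M.presheaf x t := by
  obtain ⟨V, hy, s, rfl⟩ :=
    TopCat.Presheaf.exists_germ_eq ((Scheme.Modules.pushforward f).obj M).presheaf t
  refine (sigma_germ f x M V hy s).trans ?_
  exact (TopCat.Presheaf.stalkPushforward_germ_apply Ab.{u} f.base M.presheaf V x hy s).symm

theorem isIso_sigma [IsClosedImmersion f] (M : X.Modules) : IsIso (sigma f x M) := by
  have h1 : IsIso (TopCat.Presheaf.stalkPushforward Ab.{u} f.base M.presheaf x) :=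
    TopCat.Presheaf.stalkPushforward.stalkPushforward_iso_of_isInducing Ab.{u}
      f.isClosedEmbedding.isEmbedding.isInducing M.presheaf x
  have h2 := (ConcreteCategory.isIso_iff_bijective _).1 h1
  rw [ConcreteCategory.isIso_iff_bijective]
  have h3 : ((sigma f x M).hom : _ → _) =
      (TopCat.Presheaf.stalkPushforward Ab.{u} f.base M.presheaf x : _ → _) :=
    funext (sigma_eq f x M)
  exact h3 ▸ h2

lemma sigma_naturality {M N : X.Modules} (g : M ⟶ N) :
    (DerSch.stalkFunctor Y (f.base x)).map ((Scheme.Modules.pushforward f).map g) ≫ sigma f x N =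
      sigma f x M ≫ (ModuleCat.restrictScalars (φst f x)).map ((DerSch.stalkFunctor X x).map g) :=
  sig_naturality (stalkSkyAdj x) (stalkSkyAdj (f.base x)) (pushSkyNatIso f x) g

/-- sections over an empty open vanish -/
lemma section_eq_zero_of_eq_bot (M : X.Modules) (U : X.Opens) (hU : U = ⊥) (s : Γ(M, U)) :
    s = 0 := by
  have hT : IsTerminal (((toAbSheaf X).obj M).obj.obj (op U)) :=
    TopCat.Sheaf.isTerminalOfEqEmpty ((toAbSheaf X).obj M) hU
  have hZ : IsZero (((toAbSheaf X).obj M).obj.obj (op U)) :=
    (IsZero.iff_id_eq_zero _).2 (hT.hom_ext _ _)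
  haveI := AddCommGrpCat.subsingleton_of_isZero hZ
  exact Subsingleton.elim (α := ((toAbSheaf X).obj M).obj.obj (op U)) s 0

theorem isZero_stalk_pushforward [IsClosedImmersion f] (M : X.Modules) (y : Y)
    (hy : y ∉ Set.range f.base) :
    IsZero ((DerSch.stalkFunctor Y y).obj ((Scheme.Modules.pushforward f).obj M)) := by
  haveI : Subsingleton ((DerSch.stalkFunctor Y y).obj ((Scheme.Modules.pushforward f).obj M)) := by
    refine ⟨fun t t' => ?_⟩
    have key : ∀ t : ((Scheme.Modules.pushforward f).obj M).presheaf.stalk y, t = 0 := by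
      intro t
      obtain ⟨V, hV, s, rfl⟩ :=
        TopCat.Presheaf.exists_germ_eq ((Scheme.Modules.pushforward f).obj M).presheaf t
      let W : Y.Opens := V ⊓ ⟨(Set.range f.base)ᶜ, f.isClosedEmbedding.isClosed_range.isOpen_compl⟩
      have hW : y ∈ W := ⟨hV, hy⟩
      have hle : W ≤ V := inf_le_left
      have h1 := TopCat.Presheaf.germ_res_apply ((Scheme.Modules.pushforward f).obj M).presheaf
        (homOfLE hle) y hW s
      rw [← h1]
      have hbot : f ⁻¹ᵁ W = ⊥ := by
        ext z
        simp only [Opens.coe_bot, Set.mem_empty_iff_false, iff_false]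
        intro hz
        exact hz.2 ⟨z, rfl⟩
      have h2 : (((Scheme.Modules.pushforward f).obj M).presheaf.map (homOfLE hle).op) s =
          (0 : Γ((Scheme.Modules.pushforward f).obj M, W)) :=
        section_eq_zero_of_eq_bot M (f ⁻¹ᵁ W) hbot
          ((((Scheme.Modules.pushforward f).obj M).presheaf.map (homOfLE hle).op) s)
      rw [h2]
      exact map_zero (((Scheme.Modules.pushforward f).obj M).presheaf.germ W y hW).hom
    exact (key t).trans (key t').symm
  exact ModuleCat.isZero_of_subsingleton _

end Groth.Agent.Helper5.CI
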