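import Groth.Agent.Lib.Helper5.StalkCx2
import Groth.Prelude.Def_KFlatSite

/-!
# K-flatness of complexes of `O_X`-modules is implied by K-flatness of the stalk complexes
-/

set_option autoImplicit false
set_option linter.unusedSectionVars false
set_option linter.unusedVariables false
set_option linter.style.haveILetI false

universe u

open CategoryTheory CategoryTheory.Limits AlgebraicGeometry MonoidalCategory

namespace Groth.Agent.Helper5.StalkCx

variable {X : Scheme.{u}}

/-- the complex of stalks -/
noncomputable abbrev stalkCx (x : X) (L : CochainComplex X.Modules ℤ) :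
    DRing.Cx (X.presheaf.stalk x) :=
  ((DerSch.stalkFunctor X x).mapHomologicalComplex (ComplexShape.up ℤ)).obj L

/-- the stalk of the tensor product of complexes -/
noncomputable def stalkTensIso (x : X) (L K : CochainComplex X.Modules ℤ) :
    stalkCx x L ⊗ stalkCx x K ≅ stalkCx x ((DCoh.tensorCx.obj L).obj K) :=
  (stalkBiComm x).tensIso L K

theorem isKFlat_of_stalks (K : CochainComplex X.Modules ℤ)
    (h : ∀ x : X, DRing.IsKFlat (X.presheaf.stalk x) (stalkCx x K)) : DCoh.IsKFlat K := by
  intro L hL i
  apply isZero_homology_of_stalks
  intro x
  exact IsZero.of_iso (h x (stalkCx x L) (fun j => isZero_homology_stalk L j (hL j) x) i)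
    ((HomologicalComplex.homologyFunctor _ _ i).mapIso (stalkTensIso x L K)).symm

end Groth.Agent.Helper5.StalkCx
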