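import Groth.Agent.Lib.Helper5.CI4
import Groth.Agent.Lib.Helper5.KFAbs3
import Groth.Agent.Lib.Helper5.StalkCx3

/-!
# Modules killed by a scalar; terms of tensor complexes
-/

set_option autoImplicit false
set_option linter.unusedSectionVars false
set_option linter.unusedVariables false
set_option linter.style.haveILetI false

universe u

open CategoryTheory CategoryTheory.Limits AlgebraicGeometry Opposite TopologicalSpace
  MonoidalCategory

namespace Groth.Agent.Helper5.CI

section Kills

variable {R : Type u} [CommRing R]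

/-- the scalar `a` kills the module `T` -/
def Kills (a : R) (T : ModuleCat.{u} R) : Prop := a • 𝟙 T = 0

lemma Kills.of_iso {a : R} {T T' : ModuleCat.{u} R} (e : T ≅ T') (h : Kills a T) :
    Kills a T' := by
  unfold Kills at *
  have h1 : 𝟙 T' = e.inv ≫ 𝟙 T ≫ e.hom := by simp
  rw [h1, ← Linear.comp_smul, ← Linear.smul_comp, h, zero_comp, comp_zero]

lemma Kills.apply {a : R} {T : ModuleCat.{u} R} (h : Kills a T) (t : T) : a • t = 0 := by
  have h1 : (a • 𝟙 T).hom t = (0 : T ⟶ T).hom t := by rw [h]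
  exact h1

lemma kills_of_apply {a : R} {T : ModuleCat.{u} R} (h : ∀ t : T, a • t = 0) : Kills a T := by
  unfold Kills
  ext t
  exact h t

lemma kills_of_isZero {a : R} {T : ModuleCat.{u} R} (h : IsZero T) : Kills a T :=
  h.eq_of_src _ _

lemma isZero_of_kills_one {T : ModuleCat.{u} R} (h : Kills (1 : R) T) : IsZero T := by
  unfold Kills at h
  rw [one_smul] at h
  exact (IsZero.iff_id_eq_zero T).2 h

lemma Kills.tensor {a : R} {T : ModuleCat.{u} R} (h : Kills a T) (T' : ModuleCat.{u} R) :
    Kills a (T ⊗ T') := by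
  unfold Kills at *
  have h1 : a • 𝟙 (T ⊗ T') = (a • 𝟙 T) ▷ T' := by
    rw [MonoidalLinear.smul_whiskerRight, id_whiskerRight]
  rw [h1, h, MonoidalPreadditive.zero_whiskerRight]

lemma Kills.of_cofan {a : R} {ι : Type*} {Z : ι → ModuleCat.{u} R} {c : Cofan Z}
    (hc : IsColimit c) (h : ∀ i, Kills a (Z i)) : Kills a c.pt := by
  unfold Kills
  apply Cofan.IsColimit.hom_ext hc
  intro i
  have h1 : c.inj i ≫ (a • 𝟙 c.pt) = (a • 𝟙 (Z i)) ≫ c.inj i := by
    rw [Linear.comp_smul, Linear.smul_comp, Category.comp_id, Category.id_comp]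
  rw [h1, h i, zero_comp, comp_zero]

end Kills

section Sheaf

open Groth.Agent.Helper5.StalkCx

variable {Y : Scheme.{u}}

theorem kills_stalk_tens (y : Y) (a : Y.presheaf.stalk y) (L K : CochainComplex Y.Modules ℤ)
    (h : ∀ p, Kills a ((DerSch.stalkFunctor Y y).obj (L.X p))) (n : ℤ) :
    Kills a ((DerSch.stalkFunctor Y y).obj (((DCoh.tensorCx.obj L).obj K).X n)) := by
  have hc := KFA.BiComm.isColimitF (T := DCoh.tensorBi (X := Y)) (F := DerSch.stalkFunctor Y y) L K n
  exact Kills.of_cofan hc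
    (fun i => (Kills.tensor (h i.1.1) ((DerSch.stalkFunctor Y y).obj (K.X i.1.2))).of_iso
      (stalkTensorIso y (L.X i.1.1) (K.X i.1.2)).symm)

end Sheaf

end Groth.Agent.Helper5.CI
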