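import Groth.Agent.Lib.Helper5.CI5
import Groth.Agent.Lib.Helper5.PBT2

/-!
# The projection formula for a closed immersion, on complexes
-/

set_option autoImplicit false
set_option linter.unusedSectionVars false
set_option linter.unusedVariables false
set_option linter.style.haveILetI false

universe u

open CategoryTheory CategoryTheory.Limits AlgebraicGeometry Opposite TopologicalSpace

namespace Groth.Agent.Helper5.CI

open Groth.Agent.Helper5.Sky Groth.Agent.Helper5.StalkCx

variable {X Y : Scheme.{u}} (f : X ⟶ Y)

/-- termwise pullback of complexes -/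
noncomputable abbrev pullC : CochainComplex Y.Modules ℤ ⥤ CochainComplex X.Modules ℤ :=
  (Scheme.Modules.pullback f).mapHomologicalComplex (ComplexShape.up ℤ)

/-- termwise direct image of complexes -/
noncomputable abbrev pushC : CochainComplex X.Modules ℤ ⥤ CochainComplex Y.Modules ℤ :=
  (Scheme.Modules.pushforward f).mapHomologicalComplex (ComplexShape.up ℤ)

/-- the termwise unit -/
noncomputable def unitC (C : CochainComplex Y.Modules ℤ) :
    C ⟶ (pushC f).obj ((pullC f).obj C) where
  f n := (Scheme.Modules.pullbackPushforwardAdjunction f).unit.app (C.X n)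
  comm' i j _ :=
    ((Scheme.Modules.pullbackPushforwardAdjunction f).unit.naturality (C.d i j)).symm

/-- the termwise counit -/
noncomputable def counitC (A : CochainComplex X.Modules ℤ) :
    (pullC f).obj ((pushC f).obj A) ⟶ A where
  f n := (Scheme.Modules.pullbackPushforwardAdjunction f).counit.app (A.X n)
  comm' i j _ :=
    ((Scheme.Modules.pullbackPushforwardAdjunction f).counit.naturality (A.d i j)).symm

instance isIso_counitC [IsClosedImmersion f] (A : CochainComplex X.Modules ℤ) :
    IsIso (counitC f A) := by
  have : ∀ n, IsIso ((counitC f A).f n) := fun n => isIso_counit f (A.X n)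
  exact HomologicalComplex.Hom.isIso_of_components _

theorem kills_push [IsClosedImmersion f] (x : X) (a : Y.presheaf.stalk (f.base x))
    (ha : φst f x a = 0) (M : X.Modules) :
    Kills a ((DerSch.stalkFunctor Y (f.base x)).obj ((Scheme.Modules.pushforward f).obj M)) := by
  haveI := isIso_sigma f x M
  refine Kills.of_iso (asIso (sigma f x M)).symm (kills_of_apply (fun t => ?_))
  change φst f x a • (t : (DerSch.stalkFunctor X x).obj M) = 0
  rw [ha, zero_smul]

theorem isIso_unitC_tens [IsClosedImmersion f] (A : CochainComplex X.Modules ℤ)
    (P : CochainComplex Y.Modules ℤ) :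
    IsIso (unitC f ((DCoh.tensorCx.obj ((pushC f).obj A)).obj P)) := by
  have : ∀ n, IsIso ((unitC f ((DCoh.tensorCx.obj ((pushC f).obj A)).obj P)).f n) := fun n => by
    apply isIso_unit f
    · intro y hy
      apply isZero_of_kills_one
      apply kills_stalk_tens
      intro p
      exact kills_of_isZero (isZero_stalk_pushforward f (A.X p) y hy)
    · intro x a ha t
      apply Kills.apply
      apply kills_stalk_tens
      intro p
      exact kills_push f x a ha (A.X p)
  exact HomologicalComplex.Hom.isIso_of_components _

/-- the projection formula for a closed immersion, on complexes -/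
noncomputable def projIso [IsClosedImmersion f] (A : CochainComplex X.Modules ℤ)
    (P : CochainComplex Y.Modules ℤ) :
    (DCoh.tensorCx.obj ((pushC f).obj A)).obj P ≅
      (pushC f).obj ((DCoh.tensorCx.obj A).obj ((pullC f).obj P)) :=
  haveI := isIso_unitC_tens f A P
  asIso (unitC f ((DCoh.tensorCx.obj ((pushC f).obj A)).obj P)) ≪≫
    (pushC f).mapIso ((PBT.pullbackTensIso f ((pushC f).obj A) P).symm ≪≫
      (DCoh.tensorCx.mapIso (asIso (counitC f A))).app ((pullC f).obj P))

end Groth.Agent.Helper5.CI
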