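import Groth.Agent.Lib.Helper5.CI6
import Groth.Agent.Lib.Helper5.TRS2

/-!
# The derived projection formula for a closed immersion
-/

set_option autoImplicit false
set_option linter.unusedSectionVars false
set_option linter.unusedVariables false
set_option linter.style.haveILetI false

universe u

open CategoryTheory CategoryTheory.Limits AlgebraicGeometry Opposite TopologicalSpace

attribute [local instance] HasDerivedCategory.standard

namespace Groth.Agent.Helper5.CI

variable {X Y : Scheme.{u}} (f : X ⟶ Y)

instance preservesFiniteLimits_pushforward : PreservesFiniteLimits (Scheme.Modules.pushforward f) := by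
  haveI : PreservesLimitsOfSize.{0, 0} (Scheme.Modules.pushforward f) :=
    (Scheme.Modules.pullbackPushforwardAdjunction f).rightAdjoint_preservesLimits
  exact PreservesLimitsOfSize.preservesFiniteLimits _

variable [IsClosedImmersion f]

/-- `Rf_*` is computed termwise for a closed immersion -/
noncomputable def RpushIso [DCoh.HasRpush f] :
    DCoh.Rpush f ≅ (Scheme.Modules.pushforward f).mapDerivedCategory :=
  haveI := Functor.isRightDerivedFunctor_of_inverts
    (HomotopyCategory.quasiIso X.Modules (ComplexShape.up ℤ))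
    (Scheme.Modules.pushforward f).mapDerivedCategory
    (Scheme.Modules.pushforward f).mapDerivedCategoryFactorsh
  Functor.rightDerivedUnique (DCoh.Rpush f) (Scheme.Modules.pushforward f).mapDerivedCategory
    ((DCoh.pushKh f).totalRightDerivedUnit DerivedCategory.Qh
      (HomotopyCategory.quasiIso X.Modules (ComplexShape.up ℤ)))
    (Scheme.Modules.pushforward f).mapDerivedCategoryFactorsh.inv
    (HomotopyCategory.quasiIso X.Modules (ComplexShape.up ℤ))

/-- `Rf_* (Q B) ≅ Q (f_* B)` for a closed immersion -/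
noncomputable def RpushQIso [DCoh.HasRpush f] (B : CochainComplex X.Modules ℤ) :
    (DCoh.Rpush f).obj (DerivedCategory.Q.obj B) ≅ DerivedCategory.Q.obj ((pushC f).obj B) :=
  (RpushIso f).app _ ≪≫ (Scheme.Modules.pushforward f).mapDerivedCategoryFactors.app B

theorem nonempty_projection_formula [DCoh.HasRpush f] (P : CochainComplex Y.Modules ℤ)
    (hP : DCoh.IsKFlat P) [DCoh.HasLTensorCx P] [DCoh.HasLTensorCx ((pullC f).obj P)]
    (E : DCoh.D X) :
    Nonempty ((DCoh.LTensorCx P).obj ((DCoh.Rpush f).obj E) ≅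
      (DCoh.Rpush f).obj ((DCoh.LTensorCx ((pullC f).obj P)).obj E)) := by
  let A := DerivedCategory.Q.objPreimage E
  let e₀ : DerivedCategory.Q.obj A ≅ E := DerivedCategory.Q.objObjPreimageIso E
  have hfP := Sky.isKFlat_pullback f P hP
  let e1 : (DCoh.LTensorCx P).obj ((DCoh.Rpush f).obj E) ≅
      DerivedCategory.Q.obj ((DCoh.tensorCx.obj ((pushC f).obj A)).obj P) :=
    (DCoh.LTensorCx P).mapIso ((DCoh.Rpush f).mapIso e₀.symm ≪≫ RpushQIso f A) ≪≫
      TRS.LTensorCxObjIso P hP _
  let e2 : (DCoh.Rpush f).obj ((DCoh.LTensorCx ((pullC f).obj P)).obj E) ≅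
      DerivedCategory.Q.obj ((pushC f).obj ((DCoh.tensorCx.obj A).obj ((pullC f).obj P))) :=
    (DCoh.Rpush f).mapIso ((DCoh.LTensorCx _).mapIso e₀.symm ≪≫
      TRS.LTensorCxObjIso _ hfP A) ≪≫ RpushQIso f _
  exact ⟨e1 ≪≫ DerivedCategory.Q.mapIso (projIso f A P) ≪≫ e2.symm⟩

end Groth.Agent.Helper5.CI
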