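import Groth.Agent.Lib.Helper5.CI7
import Groth.Prelude.Def_DTor2
import Groth.Prelude.Def_DerSch

/-!
# Relative tor amplitude of `F` from absolute flat amplitude of `i_* F`, `i` a closed immersion
-/

set_option autoImplicit false
set_option linter.unusedSectionVars false
set_option linter.unusedVariables false
set_option linter.style.haveILetI false

universe u

open CategoryTheory CategoryTheory.Limits AlgebraicGeometry Opposite TopologicalSpace

attribute [local instance] HasDerivedCategory.standard

namespace Groth.Agent.Helper5.CI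

open Groth.Agent.Helper5.Sky Groth.Agent.Helper5.StalkCx

variable {X X' Y : Scheme.{u}} (i : X ⟶ X') [IsClosedImmersion i] (f' : X' ⟶ Y) (x : X)

/-- the stalk of a direct image along a closed immersion, as a natural isomorphism -/
noncomputable def sigmaNatIso :
    Scheme.Modules.pushforward i ⋙ DerSch.stalkFunctor X' (i.base x) ≅
      DerSch.stalkFunctor X x ⋙ ModuleCat.restrictScalars (φst i x) :=
  NatIso.ofComponents (fun M => haveI := isIso_sigma i x M; asIso (sigma i x M))
    (fun g => sigma_naturality i x g)

lemma φst_comp : φst (i ≫ f') x = (φst i x).comp (φst f' (i.base x)) := by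
  unfold φst
  rw [Scheme.Hom.stalkMap_comp]
  rfl

/-- the stalk functor over the base of a composite -/
noncomputable abbrev stalkOver' : X'.Modules ⥤ ModuleCat.{u} (Y.presheaf.stalk (f'.base (i.base x))) :=
  DerSch.stalkFunctor X' (i.base x) ⋙ ModuleCat.restrictScalars (φst f' (i.base x))

/-- stalks of `i_* M` over the base are the stalks of `M` over the base -/
noncomputable def stalkOverIso :
    Scheme.Modules.pushforward i ⋙ stalkOver' i f' x ≅ DerSch.stalkOver (i ≫ f') x :=
  (Functor.associator _ _ _).symm ≪≫ Functor.isoWhiskerRight (sigmaNatIso i x) _ ≪≫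
    Functor.associator _ _ _ ≪≫
    Functor.isoWhiskerLeft _ (ModuleCat.restrictScalarsComp' (φst f' (i.base x)) (φst i x)
      (φst (i ≫ f') x) (φst_comp i f' x)).symm

theorem hasTorAmplitude_of_push [Flat f'] (F : CochainComplex X.Modules ℤ) (a b : ℤ)
    (hF : DCoh.HasFlatAmplitudeIn a b (DCoh.toD X' ((pushC i).obj F))) :
    DerSch.HasTorAmplitude (i ≫ f') a b F := by
  obtain ⟨E, hE1, hE2, ⟨e⟩⟩ := hF
  intro x
  refine ⟨((stalkOver' i f' x).mapHomologicalComplex (ComplexShape.up ℤ)).obj E, ?_, ?_, ⟨?_⟩⟩
  · intro n hn
    exact (stalkOver' i f' x).map_isZero (hE1 n hn)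
  · intro n
    have h1 : Module.Flat (X'.presheaf.stalk (i.base x)) ((E.X n).presheaf.stalk (i.base x)) :=
      hE2 n (i.base x)
    have h2 := Flat.stalkMap f' (i.base x)
    letI := (φst f' (i.base x)).toAlgebra
    haveI : Module.Flat (Y.presheaf.stalk (f'.base (i.base x))) (X'.presheaf.stalk (i.base x)) := h2
    letI : Module (Y.presheaf.stalk (f'.base (i.base x))) ((E.X n).presheaf.stalk (i.base x)) :=
      Module.compHom _ (φst f' (i.base x))
    haveI : IsScalarTower (Y.presheaf.stalk (f'.base (i.base x))) (X'.presheaf.stalk (i.base x))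
        ((E.X n).presheaf.stalk (i.base x)) :=
      ⟨fun r s m => by
        change (φst f' (i.base x) r * s) • m = φst f' (i.base x) r • (s • m)
        rw [mul_smul]⟩
    exact Module.Flat.trans (Y.presheaf.stalk (f'.base (i.base x)))
      (X'.presheaf.stalk (i.base x)) ((E.X n).presheaf.stalk (i.base x))
  · have e1 : DerivedCategory.Q.obj
          (((stalkOver' i f' x).mapHomologicalComplex (ComplexShape.up ℤ)).obj E) ≅
        DerivedCategory.Q.obj
          (((stalkOver' i f' x).mapHomologicalComplex (ComplexShape.up ℤ)).obj ((pushC i).obj F)) :=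
      ((stalkOver' i f' x).mapDerivedCategoryFactors.app E).symm ≪≫
        (stalkOver' i f' x).mapDerivedCategory.mapIso e ≪≫
        (stalkOver' i f' x).mapDerivedCategoryFactors.app _
    have hz : (DerSch.stalkOver (i ≫ f') x).PreservesZeroMorphisms := inferInstance
    have hz1 : (Scheme.Modules.pushforward i ⋙ stalkOver' i f' x).PreservesZeroMorphisms :=
      inferInstance
    exact e1 ≪≫ DerivedCategory.Q.mapIso
      ((@NatIso.mapHomologicalComplex _ _ _ _ _ _ _ _ _ hz1 hz (stalkOverIso i f' x)
        (ComplexShape.up ℤ)).app F)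

end Groth.Agent.Helper5.CI
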