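import Groth.Agent.Lib.Helper5.COHP3
import Groth.Agent.Lib.Helper5.PCM3
import Groth.Agent.Lib.Helper13.FinTypeRestrict

/-!
# Coherent modules on a locally Noetherian scheme are pseudo-coherent
-/

set_option autoImplicit false
set_option linter.unusedSectionVars false
set_option linter.unusedVariables false
set_option linter.style.haveILetI false

universe u

open CategoryTheory CategoryTheory.Limits AlgebraicGeometry

attribute [local instance] HasDerivedCategory.standard

namespace Groth.Agent.Helper5.COHP

open Groth.Agent.Helper5.FPC Groth.Agent.Helper5.PCH Groth.Agent.Helper5.LDer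
  Groth.Agent.Helper5.RT Groth.Agent.Helper5.LOC Groth.Agent.Helper5.PCT Groth.Agent.Helper5.PC
  Groth.Agent.Helper5.PCM

/-- a finite locally free module placed in degree `0` is pseudo-coherent -/
theorem pcAt_inD_of_isFinLocFree {X : Scheme.{u}} (B : X.Modules) (hB : FlatMod.IsFinLocFree B)
    (m : ℤ) (x : X) : PCAt m (DCoh.inD X B) x := by
  have hP : DCoh.IsStrictlyPerfect ((CochainComplex.singleFunctor X.Modules 0).obj B) := by
    refine ⟨⟨0, 0, fun i hi => HomologicalComplex.isZero_single_obj_X (ComplexShape.up ℤ) 0 B i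
      (by omega)⟩, fun i => ?_⟩
    by_cases hi : i = 0
    · subst hi
      exact Groth.Agent.Helper13.LocFree.isFinLocFree_of_iso
        (HomologicalComplex.singleObjXSelf (ComplexShape.up ℤ) 0 B).symm hB
    · exact isFinLocFree_of_isZero
        (HomologicalComplex.isZero_single_obj_X (ComplexShape.up ℤ) 0 B i hi)
  exact pcAt_of_iso (inDIso B).symm (pcAt_Q_of_isStrictlyPerfect _ hP m x)

/-- the kernel of an epimorphism as a short exact sequence -/
lemma shortExact_kernel {C : Type*} [Category C] [Abelian C] {A B : C} (π : A ⟶ B) [Epi π] :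
    (ShortComplex.mk (kernel.ι π) π (kernel.condition π)).ShortExact where
  exact := ShortComplex.exact_of_f_is_kernel _ (kernelIsKernel π)
  mono_f := inferInstanceAs (Mono (kernel.ι π))
  epi_g := inferInstanceAs (Epi π)

/-- a coherent module on a locally Noetherian scheme, placed in degree `0`, is pseudo-coherent -/
theorem pcAt_inD_of_isCoh_aux : ∀ (k : ℕ) (X : Scheme.{u}) [IsLocallyNoetherian X] (F : X.Modules)
    (hF : Coh.IsCoh F) (x : X), PCAt (1 - (k : ℤ)) (DCoh.inD X F) x := by
  intro k
  induction k with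
  | zero =>
    intro X _ F hF x
    have h := pcAt_of_isZero_HD (DCoh.inD X F) 1 x ⊤ trivial (fun i hi =>
      isZero_HD_restrictD _ _ i (DerivedCategory.isZero_of_isLE _ 0 i (by omega)))
    simpa using h
  | succ k ih =>
    intro X _ F hF x
    haveI hq : F.IsQuasicoherent := hF.1
    haveI hft : CohB1.IsFT F := hF.2
    obtain ⟨V, hxV, B, hB, π, hπ⟩ := exists_epi_of_isFiniteType F x
    haveI : Epi π := hπ
    haveI hBq : B.IsQuasicoherent := isQuasicoherent_of_isFinLocFree _ hB
    haveI hBf : SheafOfModules.IsFiniteType (R := (V : Scheme.{u}).ringCatSheaf) B :=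
      isFiniteType_of_isFinLocFree _ hB
    haveI hFVq : (F.restrict V.ι).IsQuasicoherent :=
      inferInstanceAs ((Scheme.Modules.restrictFunctor V.ι).obj F).IsQuasicoherent
    have hK : Coh.IsCoh (kernel π) := by
      haveI := Groth.Agent.Helper13.QCohLocal.isQuasicoherent_kernel π
      exact ⟨inferInstance, isFiniteType_of_mono (kernel.ι π)⟩
    set y : (V : Scheme.{u}) := ⟨x, hxV⟩ with hy
    have hS := shortExact_kernel π
    have hT := hS.singleTriangle_distinguished
    have h₁ : PCAt ((1 - ((k + 1 : ℕ) : ℤ)) + 1) (DCoh.inD (V : Scheme.{u}) (kernel π)) y := by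
      have := ih (V : Scheme.{u}) (kernel π) hK y
      have e : (1 : ℤ) - (k : ℤ) = (1 - ((k + 1 : ℕ) : ℤ)) + 1 := by push_cast; ring
      rwa [e] at this
    have h₂ : PCAt (1 - ((k + 1 : ℕ) : ℤ)) (DCoh.inD (V : Scheme.{u}) B) y :=
      pcAt_inD_of_isFinLocFree B hB _ y
    have h₃ := pcAt_obj₃ _ hT (1 - ((k + 1 : ℕ) : ℤ)) y h₁ h₂
    have e₃ : DCoh.inD (V : Scheme.{u}) (F.restrict V.ι) ≅
        (DCoh.restrictD V.ι).obj (DCoh.inD X F) :=
      (((Scheme.Modules.restrictFunctor V.ι).mapDerivedCategorySingleFunctor 0).app F).symm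
    exact pcAt_of_openImmersion V.ι (DCoh.inD X F) _ y (pcAt_of_iso e₃ h₃)

/-- a coherent module on a locally Noetherian scheme, placed in degree `0`, is pseudo-coherent -/
theorem isPseudoCoherentD_inD_of_isCoh {X : Scheme.{u}} [IsLocallyNoetherian X] (F : X.Modules)
    (hF : Coh.IsCoh F) (m : ℤ) : DCoh.IsPseudoCoherentD m (DCoh.inD X F) := by
  intro x
  have h := pcAt_inD_of_isCoh_aux (1 - m).toNat X F hF x
  exact pcAt_of_le (by omega) h

/-- a coherent module on a locally Noetherian scheme, placed in any degree, is pseudo-coherent -/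
theorem isPseudoCoherentD_single_of_isCoh {X : Scheme.{u}} [IsLocallyNoetherian X] (F : X.Modules)
    (hF : Coh.IsCoh F) (b m : ℤ) :
    DCoh.IsPseudoCoherentD m ((DerivedCategory.singleFunctor X.Modules b).obj F) := by
  have h := isPseudoCoherentD_shift _ (m - b) (-b) (isPseudoCoherentD_inD_of_isCoh F hF (m - b))
  have e : ((DerivedCategory.singleFunctor X.Modules 0).obj F)⟦-b⟧ ≅
      (DerivedCategory.singleFunctor X.Modules b).obj F :=
    ((DerivedCategory.singleFunctors X.Modules).shiftIso (-b) b 0 (by omega)).app F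
  exact isPseudoCoherentD_of_iso e (isPseudoCoherentD_of_eq (by omega) h)

end Groth.Agent.Helper5.COHP
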