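import Groth.Agent.Lib.Helper17.CSA2

/-!
# Splitting a central simple algebra by a commutative subalgebra over which it is free
-/

set_option autoImplicit false
universe u
open TensorProduct MulOpposite

namespace Groth.Agent.Helper5.CSAS

section

variable {k : Type u} [Field k] {A : Type u} [Ring A] [Algebra k A]
  {L : Type u} [CommRing L] [Algebra k L] (ι : L →ₐ[k] A) [Module L A]
  (hmod : ∀ (l : L) (a : A), l • a = a * ι l)

include hmod in
theorem isScalarTower_of_hmod : IsScalarTower k L A :=
  ⟨fun c l a => by
    rw [hmod, hmod, map_smul, mul_smul_comm]⟩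

variable [IsScalarTower k L A]

/-- left multiplication, as `L`-linear endomorphisms for the right `L`-structure -/
noncomputable def leftMul : A →ₐ[k] Module.End L A where
  toFun a :=
    { toFun := fun y => a * y
      map_add' := mul_add a
      map_smul' := fun l y => by
        simp only [RingHom.id_apply]
        rw [hmod, hmod, mul_assoc] }
  map_one' := by ext y; simp
  map_mul' a b := by ext y; simp [mul_assoc]
  map_zero' := by ext y; simp
  map_add' a b := by ext y; simp [add_mul]
  commutes' c := by
    ext y
    simp [Algebra.smul_def]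

@[simp]
theorem leftMul_apply (a y : A) : leftMul ι hmod a y = a * y := rfl

/-- the comparison map `L ⊗ A → End_L(A)` -/
noncomputable def Φ : L ⊗[k] A →ₐ[L] Module.End L A :=
  Algebra.TensorProduct.lift (Algebra.ofId L (Module.End L A)) (leftMul ι hmod)
    (fun l a => by
      rw [commute_iff_eq]
      ext y
      simp only [Module.End.mul_apply, Algebra.ofId_apply, Module.algebraMap_end_apply,
        leftMul_apply]
      rw [hmod, hmod, mul_assoc])

theorem Φ_tmul (l : L) (a y : A) : Φ ι hmod (l ⊗ₜ a) y = l • (a * y) := by
  simp [Φ]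

end

section

variable (k : Type u) [Field k] (A : Type u) [Ring A] [Algebra k A] [Algebra.IsCentral k A]
  [IsSimpleRing A] [FiniteDimensional k A]
  (L : Type u) [CommRing L] [Algebra k L]

omit [Algebra.IsCentral k A] [IsSimpleRing A] [FiniteDimensional k A] in
theorem baseChange_mulLeftRight (a : A) (c : Aᵐᵒᵖ) (x : L ⊗[k] A) :
    (AlgHom.mulLeftRight k A (a ⊗ₜ c)).baseChange L x =
      ((1 : L) ⊗ₜ[k] a) * x * ((1 : L) ⊗ₜ[k] c.unop) := by
  induction x using TensorProduct.induction_on with
  | zero => simp
  | tmul l y =>
    rw [LinearMap.baseChange_tmul, AlgHom.mulLeftRight_apply,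
      Algebra.TensorProduct.tmul_mul_tmul, Algebra.TensorProduct.tmul_mul_tmul, one_mul, mul_one]
  | add x y hx hy => rw [map_add, hx, hy, mul_add, add_mul]

variable {k A L}
variable (ι : L →ₐ[k] A) [Module L A] (hmod : ∀ (l : L) (a : A), l • a = a * ι l)
  [IsScalarTower k L A]

theorem Φ_baseChange_eq_zero (x : L ⊗[k] A) (hx : Φ ι hmod x = 0) (T : Module.End k A) :
    Φ ι hmod (T.baseChange L x) = 0 := by
  obtain ⟨t, rfl⟩ := (Groth.Agent.Helper17.mulLeftRight_bijective k A).2 T
  induction t using TensorProduct.induction_on with
  | zero => simp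
  | tmul a c => rw [baseChange_mulLeftRight, map_mul, map_mul, hx, mul_zero, zero_mul]
  | add s t hs ht =>
    rw [map_add, LinearMap.baseChange_add, LinearMap.add_apply, map_add, hs, ht, add_zero]

theorem Φ_injective (hι : Function.Injective ι) : Function.Injective (Φ ι hmod) := by
  rw [injective_iff_map_eq_zero]
  intro x hx
  classical
  let b := Module.finBasis k A
  let B := Algebra.TensorProduct.basis L b
  have key : ∀ j, B.repr x j = 0 := by
    intro j
    let T : Module.End k A := (LinearMap.toSpanSingleton k A 1) ∘ₗ (b.coord j)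
    have h1 := Φ_baseChange_eq_zero ι hmod x hx T
    have h2 : T.baseChange L x = (B.repr x j) ⊗ₜ[k] (1 : A) := by
      conv_lhs => rw [← B.sum_repr x]
      rw [map_sum]
      have : ∀ i, T.baseChange L (B.repr x i • B i) =
          if i = j then (B.repr x j) ⊗ₜ[k] (1 : A) else 0 := by
        intro i
        rw [map_smul, Algebra.TensorProduct.basis_apply, LinearMap.baseChange_tmul]
        have hT : T (b i) = if i = j then 1 else 0 := by
          simp only [T, LinearMap.comp_apply, Module.Basis.coord_apply, Module.Basis.repr_self,
            LinearMap.toSpanSingleton_apply]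
          rw [Finsupp.single_apply]
          split_ifs with h <;> simp
        rw [hT]
        split_ifs with h
        · subst h
          rw [TensorProduct.smul_tmul', smul_eq_mul, mul_one]
        · rw [TensorProduct.tmul_zero, smul_zero]
      simp_rw [this]
      rw [Finset.sum_ite_eq' Finset.univ j]
      simp
    rw [h2] at h1
    have h3 := LinearMap.congr_fun h1 (1 : A)
    rw [Φ_tmul, mul_one, hmod, one_mul, LinearMap.zero_apply] at h3
    exact (map_eq_zero_iff ι hι).mp h3
  have : B.repr x = 0 := Finsupp.ext key
  exact (B.repr.map_eq_zero_iff).mp this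

end

theorem nonempty_algEquiv_matrix (k : Type u) [Field k] (A : Type u) [Ring A] [Algebra k A]
    [Algebra.IsCentral k A] [IsSimpleRing A] [FiniteDimensional k A] (L : Type u) [CommRing L]
    [Algebra k L] (ι : L →ₐ[k] A) (hι : Function.Injective ι) [Module L A]
    (hmod : ∀ (l : L) (a : A), l • a = a * ι l) [Module.Free L A] (r : ℕ)
    (hA : Module.finrank k A = r ^ 2) (hrank : Module.finrank L A = r) :
    Nonempty ((L ⊗[k] A) ≃ₐ[L] Matrix (Fin r) (Fin r) L) := by
  haveI : IsScalarTower k L A := isScalarTower_of_hmod ι hmod
  haveI : Nontrivial L := by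
    by_contra hnt
    rw [not_nontrivial_iff_subsingleton] at hnt
    have h1 : ι 1 = ι 0 := congrArg ι (Subsingleton.elim 1 0)
    rw [map_one, map_zero] at h1
    exact one_ne_zero h1
  haveI : FiniteDimensional k L := FiniteDimensional.of_injective ι.toLinearMap hι
  haveI : Module.Finite L A := Module.Finite.of_restrictScalars_finite k L A
  have hinj := Φ_injective ι hmod hι
  have hfr : Module.finrank k (L ⊗[k] A) = Module.finrank k (Module.End L A) := by
    rw [Module.finrank_tensorProduct, ← Module.finrank_mul_finrank k L (Module.End L A),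
      Module.finrank_linearMap, hrank, hA, sq]
  have hsurj : Function.Surjective (Φ ι hmod) :=
    (LinearMap.injective_iff_surjective_of_finrank_eq_finrank
      (f := ((Φ ι hmod).toLinearMap.restrictScalars k)) hfr).mp hinj
  let bL : Module.Basis (Fin r) L A := Module.finBasisOfFinrankEq L A hrank
  exact ⟨(AlgEquiv.ofBijective (Φ ι hmod) ⟨hinj, hsurj⟩).trans (algEquivMatrix bL)⟩

end Groth.Agent.Helper5.CSAS
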