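import Groth.Agent.Lib.Helper5.CXA1
import Groth.Agent.Lib.Helper5.KFAbs3
import Groth.Agent.Lib.Helper17.MT3
import Groth.Prelude.Def_DCoh4

/-!
# The associator of the tensor product of complexes of modules on a scheme
-/

set_option autoImplicit false
set_option linter.unusedSectionVars false
set_option linter.unusedVariables false
set_option linter.style.haveILetI false

universe u

open CategoryTheory CategoryTheory.Limits AlgebraicGeometry MonoidalCategory HomologicalComplex

namespace Groth.Agent.Helper5.CXA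

open Groth.Agent.Helper13.Tensor Groth.Agent.Helper5.StalkCx Groth.Agent.Helper5.KFA

variable {X : Scheme.{u}}

/-- the associator, with its type expressed through `DCoh.tensorBi` -/
noncomputable def assoc' (L M N : X.Modules) :
    (DCoh.tensorBi.obj ((DCoh.tensorBi.obj L).obj M)).obj N ≅
      (DCoh.tensorBi.obj L).obj ((DCoh.tensorBi.obj M).obj N) := assoc L M N

lemma assoc_nat₃ (L M : X.Modules) {N N' : X.Modules} (h : N ⟶ N') :
    (DCoh.tensorBi.obj ((DCoh.tensorBi.obj L).obj M)).map h ≫ (assoc' L M N').hom =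
      (assoc' L M N).hom ≫ (DCoh.tensorBi.obj L).map ((DCoh.tensorBi.obj M).map h) := by
  have e1 : (DCoh.tensorBi.obj ((DCoh.tensorBi.obj L).obj M)).map h =
      map (map (𝟙 L) (𝟙 M)) h := by
    rw [map_id]
    exact tensorBi_obj_map _ h
  have e2 : (DCoh.tensorBi.obj L).map ((DCoh.tensorBi.obj M).map h) =
      map (𝟙 L) (map (𝟙 M) h) :=
    (tensorBi_obj_map L _).trans (congrArg (fun a => map (𝟙 L) a) (tensorBi_obj_map M h))
  rw [e1, e2]
  exact assoc_naturality (𝟙 L) (𝟙 M) h

lemma assoc_nat₂ (L : X.Modules) {M M' : X.Modules} (g : M ⟶ M') (N : X.Modules) :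
    (DCoh.tensorBi.map ((DCoh.tensorBi.obj L).map g)).app N ≫ (assoc' L M' N).hom =
      (assoc' L M N).hom ≫ (DCoh.tensorBi.obj L).map ((DCoh.tensorBi.map g).app N) := by
  have e1 : (DCoh.tensorBi.map ((DCoh.tensorBi.obj L).map g)).app N =
      map (map (𝟙 L) g) (𝟙 N) :=
    (tensorBi_map_app _ N).trans (congrArg (fun a => map a (𝟙 N)) (tensorBi_obj_map L g))
  have e2 : (DCoh.tensorBi.obj L).map ((DCoh.tensorBi.map g).app N) =
      map (𝟙 L) (map g (𝟙 N)) :=
    (tensorBi_obj_map L _).trans (congrArg (fun a => map (𝟙 L) a) (tensorBi_map_app g N))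
  rw [e1, e2]
  exact assoc_naturality (𝟙 L) g (𝟙 N)

lemma assoc_nat₁ {L L' : X.Modules} (f : L ⟶ L') (M N : X.Modules) :
    (DCoh.tensorBi.map ((DCoh.tensorBi.map f).app M)).app N ≫ (assoc' L' M N).hom =
      (assoc' L M N).hom ≫ (DCoh.tensorBi.map f).app ((DCoh.tensorBi.obj M).obj N) := by
  have e1 : (DCoh.tensorBi.map ((DCoh.tensorBi.map f).app M)).app N =
      map (map f (𝟙 M)) (𝟙 N) :=
    (tensorBi_map_app _ N).trans (congrArg (fun a => map a (𝟙 N)) (tensorBi_map_app f M))
  have e2 : (DCoh.tensorBi.map f).app ((DCoh.tensorBi.obj M).obj N) =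
      map f (map (𝟙 M) (𝟙 N)) := by
    rw [map_id]
    exact tensorBi_map_app f _
  rw [e1, e2]
  exact assoc_naturality f (𝟙 M) (𝟙 N)

/-- the associator, natural in the third variable -/
noncomputable def assocTri₃ (L M : X.Modules) :
    ((bifunctorComp₁₂ (DCoh.tensorBi (X := X)) (DCoh.tensorBi (X := X))).obj L).obj M ≅
      ((bifunctorComp₂₃ (DCoh.tensorBi (X := X)) (DCoh.tensorBi (X := X))).obj L).obj M :=
  NatIso.ofComponents (fun N => assoc' L M N) (fun {N N'} h => assoc_nat₃ L M h)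

/-- the associator, natural in the second and third variables -/
noncomputable def assocTri₂ (L : X.Modules) :
    (bifunctorComp₁₂ (DCoh.tensorBi (X := X)) (DCoh.tensorBi (X := X))).obj L ≅
      (bifunctorComp₂₃ (DCoh.tensorBi (X := X)) (DCoh.tensorBi (X := X))).obj L :=
  NatIso.ofComponents (fun M => assocTri₃ L M) (fun {M M'} g => by
    apply NatTrans.ext
    funext N
    exact assoc_nat₂ L g N)

/-- the associator as an isomorphism of trifunctors -/
noncomputable def assocTri :
    bifunctorComp₁₂ (DCoh.tensorBi (X := X)) (DCoh.tensorBi (X := X)) ≅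
      bifunctorComp₂₃ (DCoh.tensorBi (X := X)) (DCoh.tensorBi (X := X)) :=
  NatIso.ofComponents (fun L => assocTri₂ L) (fun {L L'} f => by
    apply NatTrans.ext
    funext M
    apply NatTrans.ext
    funext N
    exact assoc_nat₁ f M N)

lemma assocTri_hom_app (L M N : X.Modules) :
    ((assocTri.hom.app L).app M).app N = (assoc' L M N).hom := rfl

instance preservesColimits_flip_obj (Y : X.Modules) :
    PreservesColimitsOfSize.{0, 0} ((DCoh.tensorBi (X := X)).flip.obj Y) :=
  haveI : PreservesColimitsOfSize.{u, u} ((DCoh.tensorBi (X := X)).flip.obj Y) :=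
    Groth.Agent.Helper17.MT.preservesColimits_TR X.sheaf Y
  preservesColimitsOfSize_shrink.{0, u, 0, u} _

instance preservesColimits_obj (Y : X.Modules) :
    PreservesColimitsOfSize.{0, 0} ((DCoh.tensorBi (X := X)).obj Y) :=
  haveI : PreservesColimitsOfSize.{u, u} ((DCoh.tensorBi (X := X)).obj Y) :=
    Groth.Agent.Helper17.MT.preservesColimits_TL X.sheaf Y
  preservesColimitsOfSize_shrink.{0, u, 0, u} _

instance hasGood₁₂ (K₁ K₂ K₃ : CochainComplex X.Modules ℤ) :
    HasGoodTrifunctor₁₂Obj (DCoh.tensorBi (X := X)) (DCoh.tensorBi (X := X)) K₁ K₂ K₃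
      (ComplexShape.up ℤ) (ComplexShape.up ℤ) :=
  fun _ _ => inferInstance

instance hasGood₂₃ (K₁ K₂ K₃ : CochainComplex X.Modules ℤ) :
    HasGoodTrifunctor₂₃Obj (DCoh.tensorBi (X := X)) (DCoh.tensorBi (X := X)) K₁ K₂ K₃
      (ComplexShape.up ℤ) (ComplexShape.up ℤ) (ComplexShape.up ℤ) :=
  fun _ _ => inferInstance

/-- the associator `(K₁ ⊗ K₂) ⊗ K₃ ≅ K₁ ⊗ (K₂ ⊗ K₃)` of complexes of modules -/
noncomputable def assocCx (K₁ K₂ K₃ : CochainComplex X.Modules ℤ) :
    (DCoh.tensorCx.obj ((DCoh.tensorCx.obj K₁).obj K₂)).obj K₃ ≅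
      (DCoh.tensorCx.obj K₁).obj ((DCoh.tensorCx.obj K₂).obj K₃) :=
  mapBifunctorAssociator (assocTri (X := X)) K₁ K₂ K₃
    (ComplexShape.up ℤ) (ComplexShape.up ℤ) (ComplexShape.up ℤ)

end Groth.Agent.Helper5.CXA
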