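import Groth.Agent.Lib.Helper5.CXA2
import Groth.Agent.Lib.Helper5.CXA3

/-!
# Naturality of the associator of complexes of modules on a scheme (first variable)
-/

set_option autoImplicit false
set_option linter.unusedSectionVars false
set_option linter.unusedVariables false
set_option linter.style.haveILetI false

universe u

open CategoryTheory CategoryTheory.Limits AlgebraicGeometry HomologicalComplex

namespace Groth.Agent.Helper5.CXA

open Groth.Agent.Helper5.KFA

variable {X : Scheme.{u}}

set_option maxHeartbeats 1000000 in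
lemma assocCx_naturality₁ {K₁ K₁' : CochainComplex X.Modules ℤ} (f : K₁ ⟶ K₁')
    (K₂ K₃ : CochainComplex X.Modules ℤ) :
    (DCoh.tensorCx.map ((DCoh.tensorCx.map f).app K₂)).app K₃ ≫ (assocCx K₁' K₂ K₃).hom =
      (assocCx K₁ K₂ K₃).hom ≫ (DCoh.tensorCx.map f).app ((DCoh.tensorCx.obj K₂).obj K₃) := by
  have := aC_naturality₁ (DCoh.tensorBi (X := X)) assocTri f K₂ K₃
  exact this

end Groth.Agent.Helper5.CXA
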