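import Groth.Agent.Lib.Helper5.CXA4
import Groth.Agent.Lib.Helper5.CXB2

/-!
# `(A ⊗^L K) ⊗^L L ≅ A ⊗^L (K ⊗ L)` for `L` K-flat, and the adjoint statement for `RHom`
-/

set_option autoImplicit false
set_option linter.unusedSectionVars false
set_option linter.unusedVariables false
set_option linter.style.haveILetI false

universe u

open CategoryTheory CategoryTheory.Limits AlgebraicGeometry HomologicalComplex

attribute [local instance] HasDerivedCategory.standard

namespace Groth.Agent.Helper5.CXA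

open Groth.Agent.Helper5.StalkCx Groth.Agent.Helper5.LDer
open Groth.Agent.Helper5.CXB Groth.Agent.Helper5.TRS

variable {X : Scheme.{u}}

section Derived

/-- the counit `Q ⋙ (- ⊗^L E) ⟶ (- ⊗ E) ⋙ Q` -/
noncomputable abbrev cu (E : CochainComplex X.Modules ℤ) [DCoh.HasLTensorCx E] :
    DerivedCategory.Q ⋙ DCoh.LTensorCx E ⟶ DCoh.tensorCxQ E :=
  (DCoh.tensorCxQ E).totalLeftDerivedCounit DerivedCategory.Q
    (HomologicalComplex.quasiIso X.Modules (ComplexShape.up ℤ))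

/-- the counit at `A`, with unfolded target -/
noncomputable def cuApp (E : CochainComplex X.Modules ℤ) [DCoh.HasLTensorCx E]
    (A : CochainComplex X.Modules ℤ) :
    (DCoh.LTensorCx E).obj (DerivedCategory.Q.obj A) ⟶
      DerivedCategory.Q.obj ((DCoh.tensorCx.obj A).obj E) :=
  (cu E).app A

@[reassoc]
lemma cuApp_naturality (E : CochainComplex X.Modules ℤ) [DCoh.HasLTensorCx E]
    {A A' : CochainComplex X.Modules ℤ} (f : A ⟶ A') :
    (DCoh.LTensorCx E).map (DerivedCategory.Q.map f) ≫ cuApp E A' =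
      cuApp E A ≫ DerivedCategory.Q.map ((DCoh.tensorCx.map f).app E) :=
  (cu E).naturality f

variable (K L E : CochainComplex X.Modules ℤ) [DCoh.HasLTensorCx K] [DCoh.HasLTensorCx L]
  (e : ∀ A : CochainComplex X.Modules ℤ,
    (DCoh.tensorCx.obj ((DCoh.tensorCx.obj A).obj K)).obj L ≅ (DCoh.tensorCx.obj A).obj E)
  (he : ∀ {A A' : CochainComplex X.Modules ℤ} (f : A ⟶ A'),
    (DCoh.tensorCx.map ((DCoh.tensorCx.map f).app K)).app L ≫ (e A').hom =
      (e A).hom ≫ (DCoh.tensorCx.map f).app E)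

/-- the comparison `(A ⊗^L K) ⊗^L L ⟶ A ⊗ E` -/
noncomputable def βapp (A : CochainComplex X.Modules ℤ) :
    (DCoh.LTensorCx L).obj ((DCoh.LTensorCx K).obj (DerivedCategory.Q.obj A)) ⟶
      DerivedCategory.Q.obj ((DCoh.tensorCx.obj A).obj E) :=
  (DCoh.LTensorCx L).map (cuApp K A) ≫ cuApp L ((DCoh.tensorCx.obj A).obj K) ≫
    DerivedCategory.Q.map (e A).hom

include he in
lemma βapp_naturality {A A' : CochainComplex X.Modules ℤ} (f : A ⟶ A') :
    (DCoh.LTensorCx L).map ((DCoh.LTensorCx K).map (DerivedCategory.Q.map f)) ≫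
      βapp K L E e A' = βapp K L E e A ≫
        DerivedCategory.Q.map ((DCoh.tensorCx.map f).app E) := by
  unfold βapp
  rw [← Functor.map_comp_assoc, cuApp_naturality K f, Functor.map_comp_assoc,
    cuApp_naturality_assoc L ((DCoh.tensorCx.map f).app K), ← Functor.map_comp,
    he f, Functor.map_comp, Category.assoc, Category.assoc]

/-- the comparison `Q ⋙ (- ⊗^L K) ⋙ (- ⊗^L L) ⟶ (- ⊗ E) ⋙ Q` -/
noncomputable def βnat :
    DerivedCategory.Q ⋙ (DCoh.LTensorCx K ⋙ DCoh.LTensorCx L) ⟶ DCoh.tensorCxQ E where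
  app A := βapp K L E e A
  naturality A A' f := βapp_naturality K L E e he f

lemma βnat_app (A : CochainComplex X.Modules ℤ) : (βnat K L E e he).app A = βapp K L E e A := rfl

include he in
lemma isIso_βapp (hL : DCoh.IsKFlat L) (A : CochainComplex X.Modules ℤ) (hA : DCoh.IsKFlat A) :
    IsIso (βapp K L E e A) := by
  haveI h1 : IsIso (cuApp K A) := isIso_counit_tensorCxQ K A hA
  haveI h2 : IsIso (cu L) :=
    Functor.isIso_of_isLeftDerivedFunctor_of_inverts (DCoh.LTensorCx L) _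
      (tensorCxQ_inverts L hL)
  haveI h3 : IsIso (cuApp L ((DCoh.tensorCx.obj A).obj K)) :=
    inferInstanceAs (IsIso ((cu L).app _))
  unfold βapp
  infer_instance

/-- `(- ⊗^L K) ⋙ (- ⊗^L L)` is a left derived functor of `- ⊗ E` -/
theorem isLeftDerivedFunctor_comp (hL : DCoh.IsKFlat L) :
    (DCoh.LTensorCx K ⋙ DCoh.LTensorCx L).IsLeftDerivedFunctor (βnat K L E e he)
      (HomologicalComplex.quasiIso X.Modules (ComplexShape.up ℤ)) :=
  isLeftDerivedFunctor_cx_of_isIso (DCoh.tensorCxQ E) (invertsKFlatQis_tensorCxQ E) _ _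
    (fun A hA => by
      rw [βnat_app]
      exact isIso_βapp K L E e he hL A hA)

/-- `(- ⊗^L K) ⋙ (- ⊗^L L) ≅ - ⊗^L E` -/
noncomputable def LTensorCxCompIso [DCoh.HasLTensorCx E] (hL : DCoh.IsKFlat L) :
    DCoh.LTensorCx K ⋙ DCoh.LTensorCx L ≅ DCoh.LTensorCx E :=
  haveI := isLeftDerivedFunctor_comp K L E e he hL
  Functor.leftDerivedUnique (DCoh.LTensorCx E) (DCoh.LTensorCx K ⋙ DCoh.LTensorCx L)
    (βnat K L E e he) (cu E) (HomologicalComplex.quasiIso X.Modules (ComplexShape.up ℤ))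

end Derived

/-- `(A ⊗^L K) ⊗^L L ≅ A ⊗^L (K ⊗ L)` naturally in `A`, for `L` K-flat -/
noncomputable def LTensorCxTensorIso (K L : CochainComplex X.Modules ℤ) (hL : DCoh.IsKFlat L)
    [DCoh.HasLTensorCx K] [DCoh.HasLTensorCx L]
    [DCoh.HasLTensorCx ((DCoh.tensorCx.obj K).obj L)] :
    DCoh.LTensorCx K ⋙ DCoh.LTensorCx L ≅ DCoh.LTensorCx ((DCoh.tensorCx.obj K).obj L) :=
  LTensorCxCompIso K L ((DCoh.tensorCx.obj K).obj L)
    (fun A => assocCx A K L) (fun f => assocCx_naturality₁ f K L) hL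

/-- `RHom(K ⊗ L, -) ≅ RHom(K, RHom(L, -))` for `L` K-flat -/
noncomputable def RSheafHomTensorIso (K L : CochainComplex X.Modules ℤ) (hL : DCoh.IsKFlat L)
    [DCoh.HasLTensorCx K] [DCoh.HasRSheafHom K] [DCoh.HasLTensorCx L] [DCoh.HasRSheafHom L]
    [DCoh.HasLTensorCx ((DCoh.tensorCx.obj K).obj L)]
    [DCoh.HasRSheafHom ((DCoh.tensorCx.obj K).obj L)] :
    DCoh.RSheafHom ((DCoh.tensorCx.obj K).obj L) ≅ DCoh.RSheafHom L ⋙ DCoh.RSheafHom K :=
  conjugateIsoEquiv (DCoh.RSheafHomAdj ((DCoh.tensorCx.obj K).obj L))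
    ((DCoh.RSheafHomAdj K).comp (DCoh.RSheafHomAdj L)) (LTensorCxTensorIso K L hL)

end Groth.Agent.Helper5.CXA
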