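import Mathlib.CategoryTheory.Limits.Shapes.Diagonal
import Mathlib.CategoryTheory.Limits.Shapes.Pullback.IsPullback.Basic

set_option autoImplicit false
set_option linter.style.haveILetI false
set_option backward.isDefEq.respectTransparency false

universe v u

open CategoryTheory CategoryTheory.Limits

namespace Groth.Agent.Helper5.CatPb

variable {C : Type u} [Category.{v} C] [HasPullbacks C]

/-- The diagonal of a base change is the base change of the diagonal. -/
theorem isPullback_diagonal {P X Y Y' : C} {fst : P ⟶ X} {f' : P ⟶ Y'} {f : X ⟶ Y} {g : Y' ⟶ Y}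
    (h : IsPullback fst f' f g) :
    IsPullback fst (pullback.diagonal f') (pullback.diagonal f)
      (pullback.map f' f' f f fst fst g h.w.symm h.w.symm) := by
  have hw : fst ≫ pullback.diagonal f =
      pullback.diagonal f' ≫ pullback.map f' f' f f fst fst g h.w.symm h.w.symm := by
    apply pullback.hom_ext <;> simp
  refine ⟨⟨hw⟩, ⟨PullbackCone.IsLimit.mk _ (fun s => s.snd ≫ pullback.fst _ _) ?_ ?_ ?_⟩⟩
  · intro s
    have := congrArg (fun t => t ≫ pullback.fst f f) s.condition
    simp only [Category.assoc, pullback.diagonal_fst, Category.comp_id, pullback.lift_fst] at this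
    rw [this, Category.assoc]
  · intro s
    have h1 := congrArg (fun t => t ≫ pullback.fst f f) s.condition
    have h2 := congrArg (fun t => t ≫ pullback.snd f f) s.condition
    simp only [Category.assoc, pullback.diagonal_fst, pullback.diagonal_snd, Category.comp_id,
      pullback.lift_fst, pullback.lift_snd] at h1 h2
    apply pullback.hom_ext
    · simp
    · simp only [Category.assoc, pullback.diagonal_snd, Category.comp_id]
      apply h.hom_ext
      · rw [Category.assoc, Category.assoc, ← h1, ← h2]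
      · rw [Category.assoc, Category.assoc, pullback.condition]
  · intro s m h1 h2
    rw [← h2, Category.assoc, pullback.diagonal_fst, Category.comp_id]

/-- The fibre square of a base change over the base. -/
theorem isPullback_map_self {P X Y Y' : C} {fst : P ⟶ X} {f' : P ⟶ Y'} {f : X ⟶ Y} {g : Y' ⟶ Y}
    (h : IsPullback fst f' f g) :
    IsPullback (pullback.map f' f' f f fst fst g h.w.symm h.w.symm)
      (pullback.fst f' f' ≫ f') (pullback.fst f f ≫ f) g := by
  refine ⟨⟨by simp [h.w]⟩, ⟨PullbackCone.IsLimit.mk _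
    (fun s => pullback.lift (h.lift (s.fst ≫ pullback.fst f f) s.snd
        (by rw [Category.assoc, s.condition]))
      (h.lift (s.fst ≫ pullback.snd f f) s.snd
        (by rw [Category.assoc, ← pullback.condition, s.condition])) (by simp)) ?_ ?_ ?_⟩⟩
  · intro s
    apply pullback.hom_ext <;> simp
  · intro s
    simp
  · intro s m h1 h2
    apply pullback.hom_ext
    · apply h.hom_ext
      · simp only [pullback.lift_fst, IsPullback.lift_fst, Category.assoc]
        rw [← h1]
        simp
      · simp only [pullback.lift_fst, IsPullback.lift_snd, Category.assoc]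
        rw [← h2]
    · apply h.hom_ext
      · simp only [pullback.lift_snd, IsPullback.lift_fst, Category.assoc]
        rw [← h1]
        simp
      · simp only [pullback.lift_snd, IsPullback.lift_snd, Category.assoc]
        rw [← h2, ← pullback.condition]

omit [HasPullbacks C] in
/-- A pullback over a subobject is a pullback over the ambient object. -/
theorem isPullback_comp_mono {P X Y Z W : C} {fst : P ⟶ X} {snd : P ⟶ Y} {f : X ⟶ Z} {g : Y ⟶ Z}
    (h : IsPullback fst snd f g) (j : Z ⟶ W) [Mono j] : IsPullback fst snd (f ≫ j) (g ≫ j) := by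
  refine ⟨⟨by rw [← Category.assoc, h.w, Category.assoc]⟩, ⟨PullbackCone.IsLimit.mk _
    (fun s => h.lift s.fst s.snd (by
      rw [← cancel_mono j, Category.assoc, Category.assoc]; exact s.condition))
    (fun s => h.lift_fst _ _ _) (fun s => h.lift_snd _ _ _) ?_⟩⟩
  intro s m h1 h2
  apply h.hom_ext
  · rw [h1, h.lift_fst]
  · rw [h2, h.lift_snd]

/-- Base change of the second factor of a fibre product. -/
theorem isPullback_map_right {Y Y' Z X' : C} (p : Y ⟶ Z) (p' : Y' ⟶ Z) (f' : X' ⟶ Y') :
    IsPullback (pullback.map p (f' ≫ p') p p' (𝟙 Y) f' (𝟙 Z) (by simp) (by simp))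
      (pullback.snd p (f' ≫ p')) (pullback.snd p p') f' := by
  refine IsPullback.of_right ?_ (by simp) (IsPullback.of_hasPullback p p')
  have : pullback.map p (f' ≫ p') p p' (𝟙 Y) f' (𝟙 Z) (by simp) (by simp) ≫ pullback.fst p p' =
      pullback.fst p (f' ≫ p') := by simp
  rw [this]
  exact IsPullback.of_hasPullback p (f' ≫ p')

/-- Base change of the first factor of a fibre product. -/
theorem isPullback_map_left {Y Y' Z X : C} (p : Y ⟶ Z) (p' : Y' ⟶ Z) (f : X ⟶ Y) :
    IsPullback (pullback.map (f ≫ p) p' p p' f (𝟙 Y') (𝟙 Z) (by simp) (by simp))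
      (pullback.fst (f ≫ p) p') (pullback.fst p p') f := by
  refine IsPullback.of_right ?_ (by simp) (IsPullback.of_hasPullback p p').flip
  have : pullback.map (f ≫ p) p' p p' f (𝟙 Y') (𝟙 Z) (by simp) (by simp) ≫ pullback.snd p p' =
      pullback.snd (f ≫ p) p' := by simp
  rw [this]
  exact (IsPullback.of_hasPullback (f ≫ p) p').flip

theorem map_comp_map {Y Y' Z X X' : C} (p : Y ⟶ Z) (p' : Y' ⟶ Z) (f : X ⟶ Y) (f' : X' ⟶ Y') :
    pullback.map (f ≫ p) (f' ≫ p') p (f' ≫ p') f (𝟙 X') (𝟙 Z) (by simp) (by simp) ≫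
      pullback.map p (f' ≫ p') p p' (𝟙 Y) f' (𝟙 Z) (by simp) (by simp) =
    pullback.map (f ≫ p) (f' ≫ p') p p' f f' (𝟙 Z) (by simp) (by simp) := by
  apply pullback.hom_ext <;> simp

omit [HasPullbacks C] in
/-- A fibre product over an object with a jointly monic pair of projections, computed as an
equalizer inside a fibre product over the first projection. -/
theorem isPullback_of_equalizer {M N Z K L P E : C} (z1 : Z ⟶ K) (z2 : Z ⟶ L)
    (hz : ∀ ⦃W : C⦄ (u v : W ⟶ Z), u ≫ z1 = v ≫ z1 → u ≫ z2 = v ≫ z2 → u = v)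
    (s : M ⟶ Z) (n : N ⟶ Z) {p : P ⟶ M} {q : P ⟶ N}
    (h1 : IsPullback p q (s ≫ z1) (n ≫ z1)) (e : E ⟶ P)
    (w : e ≫ (p ≫ s ≫ z2) = e ≫ (q ≫ n ≫ z2)) (he : IsLimit (Fork.ofι e w)) :
    IsPullback (e ≫ p) (e ≫ q) s n := by
  have hw : (e ≫ p) ≫ s = (e ≫ q) ≫ n := by
    apply hz
    · simp only [Category.assoc]
      rw [h1.w]
    · simpa only [Category.assoc] using w
  have hc1 : ∀ c : PullbackCone s n, c.fst ≫ s ≫ z1 = c.snd ≫ n ≫ z1 := fun c => by
    rw [← Category.assoc, c.condition, Category.assoc]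
  have hc2 : ∀ c : PullbackCone s n, h1.lift c.fst c.snd (hc1 c) ≫ (p ≫ s ≫ z2) =
      h1.lift c.fst c.snd (hc1 c) ≫ (q ≫ n ≫ z2) := fun c => by
    rw [h1.lift_fst_assoc, h1.lift_snd_assoc, ← Category.assoc, c.condition, Category.assoc]
  have hl : ∀ c : PullbackCone s n, Fork.IsLimit.lift he _ (hc2 c) ≫ e =
      h1.lift c.fst c.snd (hc1 c) := fun c => Fork.IsLimit.lift_ι he
  refine ⟨⟨hw⟩, ⟨PullbackCone.IsLimit.mk _
    (fun c => Fork.IsLimit.lift he _ (hc2 c)) ?_ ?_ ?_⟩⟩
  · intro c
    rw [← Category.assoc, hl, h1.lift_fst]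
  · intro c
    rw [← Category.assoc, hl, h1.lift_snd]
  · intro c m hm1 hm2
    apply Fork.IsLimit.hom_ext he
    show m ≫ e = Fork.IsLimit.lift he _ (hc2 c) ≫ e
    rw [hl]
    apply h1.hom_ext
    · rw [h1.lift_fst, ← hm1]
      simp
    · rw [h1.lift_snd, ← hm2]
      simp

end Groth.Agent.Helper5.CatPb
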