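import Mathlib

set_option linter.style.haveILetI false

namespace Groth.Agent.Helper5.DVRTorsionRank

open scoped TensorProduct
open Module

universe u

theorem baseChange_bijective {R : Type*} [CommRing R] [IsLocalRing R] {A B : Type*}
    [AddCommGroup A] [AddCommGroup B] [Module R A] [Module R B]
    (g : A →ₗ[R] B) (hg : Function.Surjective g)
    (hker : ∀ a ∈ LinearMap.ker g, ∃ r ∈ IsLocalRing.maximalIdeal R, ∃ a' : A, a = r • a') :
    Function.Bijective (g.baseChange (IsLocalRing.ResidueField R)) := by
  set k := IsLocalRing.ResidueField R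
  have hGs : Function.Surjective (g.baseChange k) := by
    have := LinearMap.lTensor_surjective k hg
    intro y
    obtain ⟨x, hx⟩ := this y
    exact ⟨x, by rw [← hx]; rfl⟩
  have hzero : (LinearMap.lTensor k (LinearMap.ker g).subtype) = 0 := by
    apply TensorProduct.ext'
    rintro c ⟨w, hw⟩
    simp only [LinearMap.lTensor_tmul, Submodule.subtype_apply, LinearMap.zero_apply]
    obtain ⟨r, hr, a', rfl⟩ := hker w hw
    rw [← TensorProduct.smul_tmul]
    have : r • c = 0 := by
      rw [Algebra.smul_def]
      have : algebraMap R k r = 0 := by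
        show IsLocalRing.residue R r = 0
        rw [IsLocalRing.residue_eq_zero_iff]
        exact hr
      rw [this, zero_mul]
    rw [this, TensorProduct.zero_tmul]
  refine ⟨?_, hGs⟩
  rw [← LinearMap.ker_eq_bot, LinearMap.ker_eq_bot']
  intro x hx
  have hex := lTensor_exact k (f := (LinearMap.ker g).subtype)
    (LinearMap.exact_subtype_ker_map g) hg
  have : (LinearMap.lTensor k g) x = 0 := hx
  obtain ⟨y, hy⟩ := (hex x).mp this
  rw [← hy, hzero, LinearMap.zero_apply]

theorem main (R : Type u) [CommRing R]
    [IsDomain R] [IsDiscreteValuationRing R] (ϖ : R) (hϖ : Irreducible ϖ) (M : Type u)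
    [AddCommGroup M] [Module R M] [Module.Finite R M] :
    Module.finrank (IsLocalRing.ResidueField R) (IsLocalRing.ResidueField R ⊗[R] M) =
      Module.finrank (IsLocalRing.ResidueField R)
          (IsLocalRing.ResidueField R ⊗[R] ↥(Submodule.torsionBy R M ϖ)) +
        Module.finrank (FractionRing R) (FractionRing R ⊗[R] M) := by
  classical
  set k := IsLocalRing.ResidueField R with hk
  set n := Module.finrank k (k ⊗[R] M) with hn
  let b : Basis (Fin n) k (k ⊗[R] M) := Module.finBasis k (k ⊗[R] M)
  have hsurj := TensorProduct.mk_surjective R M k IsLocalRing.residue_surjective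
  choose f hf using fun i => hsurj (b i)
  let π : (Fin n → R) →ₗ[R] M := Fintype.linearCombination R f
  have hπ : Function.Surjective π := by
    rw [← LinearMap.range_eq_top, Fintype.range_linearCombination]
    exact IsLocalRing.span_eq_top_of_tmul_eq_basis f b hf
  set N := LinearMap.ker π with hN
  have hmax : IsLocalRing.maximalIdeal R = Ideal.span {ϖ} := hϖ.maximalIdeal_eq
  -- key fact 1
  have key1 : ∀ v ∈ N, ∀ i, v i ∈ IsLocalRing.maximalIdeal R := by
    intro v hv i
    have h0 : π v = 0 := hv
    have h1 : (TensorProduct.mk R k M 1) (π v) = 0 := by rw [h0, map_zero]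
    have h2 : ∑ j, (IsLocalRing.residue R (v j)) • b j = 0 := by
      rw [← h1]
      simp only [π, Fintype.linearCombination_apply, map_sum, map_smul, hf]
      refine Finset.sum_congr rfl fun j _ => ?_
      rw [← hf j]
      simp only [TensorProduct.mk_apply, TensorProduct.smul_tmul']
      congr 1
    have h3 := Fintype.linearIndependent_iff.mp b.linearIndependent _ h2 i
    exact (IsLocalRing.residue_eq_zero_iff _).mp h3
  have key2 : Module.finrank R M + Module.finrank R N = n := by
    have := Submodule.finrank_quotient_add_finrank (R := R) N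
    rw [(LinearMap.quotKerEquivOfSurjective π hπ).finrank_eq, Module.finrank_fin_fun] at this
    exact this
  have key3 : Module.finrank (FractionRing R) (FractionRing R ⊗[R] M) = Module.finrank R M :=
    (TensorProduct.isBaseChange R M (FractionRing R)).finrank_eq
  let ψ : (Fin n → R) →ₗ[R] (Fin n → R) := LinearMap.lsmul R (Fin n → R) ϖ
  have hψ : ∀ w, ψ w = ϖ • w := fun w => rfl
  set N' := N.comap ψ with hN'
  have hψ_inj : Function.Injective ψ := by
    intro x y hxy
    funext i
    have := congrFun hxy i
    simp only [hψ, Pi.smul_apply, smul_eq_mul] at this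
    exact mul_left_cancel₀ hϖ.ne_zero this
  have hdiv : ∀ v ∈ N, ∃ w, ψ w = v := by
    intro v hv
    have : ∀ i, ∃ r, ϖ * r = v i := by
      intro i
      have := key1 v hv i
      rw [hmax, Ideal.mem_span_singleton'] at this
      obtain ⟨r, hr⟩ := this
      exact ⟨r, by rw [mul_comm]; exact hr⟩
    choose w hw using this
    exact ⟨w, funext fun i => by simp [hψ, hw]⟩
  let e : N' ≃ₗ[R] N := LinearEquiv.ofBijective (ψ.restrict (p := N') (q := N) (fun x hx => hx))
    ⟨fun x y hxy => Subtype.ext (hψ_inj (congrArg Subtype.val hxy)),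
     fun v => by
      obtain ⟨w, hw⟩ := hdiv v.1 v.2
      exact ⟨⟨w, by show ψ w ∈ N; rw [hw]; exact v.2⟩, Subtype.ext hw⟩⟩
  obtain ⟨m, ⟨bN'⟩⟩ := Submodule.nonempty_basis_of_pid (Pi.basisFun R (Fin n)) N'
  haveI : Module.Free R N' := Module.Free.of_basis bN'
  have key4a : Module.finrank k (k ⊗[R] N') = Module.finrank R N' := Module.finrank_baseChange
  let g : N' →ₗ[R] Submodule.torsionBy R M ϖ := (π.comp N'.subtype).codRestrict _ (fun w => by
    rw [Submodule.mem_torsionBy_iff]
    show ϖ • π w = 0
    rw [← map_smul]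
    exact w.2)
  have hg : Function.Surjective g := by
    rintro ⟨x, hx⟩
    obtain ⟨w, rfl⟩ := hπ x
    rw [Submodule.mem_torsionBy_iff, ← map_smul] at hx
    exact ⟨⟨w, hx⟩, Subtype.ext rfl⟩
  have hGb := baseChange_bijective g hg (by
    rintro ⟨w, hw'⟩ hw
    have hwN : w ∈ N := by
      have : g ⟨w, hw'⟩ = 0 := hw
      exact congrArg Subtype.val this
    obtain ⟨w', hw'2⟩ := hdiv w hwN
    have hw'N : w' ∈ N' := by show ψ w' ∈ N; rw [hw'2]; exact hwN
    refine ⟨ϖ, ?_, ⟨w', hw'N⟩, Subtype.ext hw'2.symm⟩
    rw [hmax]; exact Ideal.mem_span_singleton_self ϖ)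
  have key4 : Module.finrank k (k ⊗[R] N') =
      Module.finrank k (k ⊗[R] Submodule.torsionBy R M ϖ) :=
    (LinearEquiv.ofBijective (g.baseChange k) hGb).finrank_eq
  rw [← key4, key4a, e.finrank_eq, key3]
  omega

end Groth.Agent.Helper5.DVRTorsionRank
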