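import Mathlib
import Groth.Agent.Lib.Lead.Depth17

/-! Depth and (faithfully) flat base change. -/

set_option autoImplicit false
set_option linter.style.haveILetI false
universe u v
open CategoryTheory Abelian RingTheory.Sequence LocCoh Pointwise TensorProduct
open Groth.Agent.Lead.Depth

namespace Groth.Agent.Helper5.DepthFlat

variable {A B : Type u} [CommRing A] [CommRing B] [Algebra A B]

theorem smul_top_baseChange_eq_top (I : Ideal A) (M : Type v) [AddCommGroup M] [Module A M]
    (h : I • (⊤ : Submodule A M) = ⊤) :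
    (I.map (algebraMap A B)) • (⊤ : Submodule B (B ⊗[A] M)) = ⊤ := by
  rw [eq_top_iff]
  rintro t -
  induction t using TensorProduct.induction_on with
  | zero => exact Submodule.zero_mem _
  | add x y hx hy => exact Submodule.add_mem _ hx hy
  | tmul b m =>
    have hm : m ∈ I • (⊤ : Submodule A M) := by rw [h]; trivial
    induction hm using Submodule.smul_induction_on' with
    | smul a ha m' _ =>
      have : b ⊗ₜ[A] (a • m') = (algebraMap A B a) • (b ⊗ₜ[A] m' : B ⊗[A] M) := by
        rw [TensorProduct.tmul_smul, ← algebraMap_smul B a (b ⊗ₜ[A] m')]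
      rw [this]
      exact Submodule.smul_mem_smul (Ideal.mem_map_of_mem _ ha) trivial
    | add x _ y _ hx hy =>
      rw [TensorProduct.tmul_add]
      exact Submodule.add_mem _ hx hy

theorem idealDepth_le_baseChange [Module.Flat A B] (I : Ideal A) (M : Type v) [AddCommGroup M]
    [Module A M] :
    idealDepth I M ≤ idealDepth (I.map (algebraMap A B)) (B ⊗[A] M) := by
  by_cases h : I • (⊤ : Submodule A M) = ⊤
  · rw [idealDepth_of_eq_top _ _ (smul_top_baseChange_eq_top (B := B) I M h)]
    exact le_top
  · rw [← ENat.forall_natCast_le_iff_le]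
    intro n hn
    obtain ⟨rs, h1, h2, h3⟩ := exists_of_le_idealDepth I M h n hn
    have := le_idealDepth_of_isWeaklyRegular (I.map (algebraMap A B)) (B ⊗[A] M)
      (rs.map (algebraMap A B)) (h2.of_flat_of_isBaseChange (TensorProduct.isBaseChange A M B))
      (by
        intro r hr
        obtain ⟨a, ha, rfl⟩ := List.mem_map.mp hr
        exact Ideal.mem_map_of_mem _ (h3 a ha))
    simpa [h1] using this

theorem idealDepth_baseChange_eq_aux [Module.FaithfullyFlat A B] [IsNoetherianRing A]
    [IsNoetherianRing B] (I : Ideal A) :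
    ∀ (n : ℕ) (M : Type u) [AddCommGroup M] [Module A M] [Module.Finite A M],
      I • (⊤ : Submodule A M) ≠ ⊤ → idealDepth I M = n →
      idealDepth (I.map (algebraMap A B)) (B ⊗[A] M) = n := by
  intro n
  induction n with
  | zero =>
    intro M _ _ _ hne h0
    have hne' : (I.map (algebraMap A B)) • (⊤ : Submodule B (B ⊗[A] M)) ≠ ⊤ :=
      ((TensorProduct.isBaseChange A M B).map_smul_top_ne_top_iff_of_faithfullyFlat A M I).mpr hne
    have hnr : ∀ x ∈ I, ¬ IsSMulRegular M x := by
      intro x hx hreg
      have := le_idealDepth_of_isWeaklyRegular I M [x]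
        ((isWeaklyRegular_cons_iff M x []).mpr ⟨hreg, IsWeaklyRegular.nil _ _⟩) (by simpa using hx)
      rw [h0] at this
      simp at this
    obtain ⟨p, hp, hIp⟩ := exists_le_associatedPrime_of_forall_not_regular' M I hnr
    obtain ⟨-, z, hz⟩ := (isAssociatedPrime_iff (R := A) (M := M)).mp hp
    have hz0 : z ≠ 0 := by
      rintro rfl
      have hpt : p = ⊤ := by
        rw [hz, eq_top_iff]
        intro r _
        rw [Submodule.mem_colon_singleton, smul_zero]
        exact Submodule.zero_mem _
      exact hp.isPrime.ne_top hpt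
    have hIz : ∀ a ∈ I, a • z = 0 := by
      intro a ha
      have := hIp ha
      rw [hz, Submodule.mem_colon_singleton, Submodule.mem_bot] at this
      exact this
    have hkill : ∀ y ∈ I.map (algebraMap A B), y • ((1 : B) ⊗ₜ[A] z : B ⊗[A] M) = 0 := by
      have hle : I.map (algebraMap A B) ≤
          LinearMap.ker (LinearMap.toSpanSingleton B (B ⊗[A] M) ((1 : B) ⊗ₜ[A] z)) := by
        rw [Ideal.map_le_iff_le_comap]
        intro a ha
        rw [Ideal.mem_comap, LinearMap.mem_ker, LinearMap.toSpanSingleton_apply,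
          TensorProduct.smul_tmul', smul_eq_mul, mul_one, ← mul_one (algebraMap A B a),
          ← Algebra.smul_def, TensorProduct.smul_tmul, hIz a ha, TensorProduct.tmul_zero]
      intro y hy
      have := hle hy
      rwa [LinearMap.mem_ker, LinearMap.toSpanSingleton_apply] at this
    by_contra hcon
    have h1 : ((1 : ℕ) : ℕ∞) ≤ idealDepth (I.map (algebraMap A B)) (B ⊗[A] M) := by
      rw [Nat.cast_one]
      exact Order.one_le_iff_pos.mpr (pos_iff_ne_zero.mpr (by simpa using hcon))
    obtain ⟨rs, hlen, hreg, hmem⟩ := exists_of_le_idealDepth _ _ hne' 1 h1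
    obtain ⟨y, rfl⟩ := List.length_eq_one_iff.mp hlen
    have hy : y ∈ I.map (algebraMap A B) := hmem y (by simp)
    have hyreg : IsSMulRegular (B ⊗[A] M) y := ((isWeaklyRegular_cons_iff _ y []).mp hreg).1
    have h2 : ((1 : B) ⊗ₜ[A] z : B ⊗[A] M) = 0 := hyreg (by simp only [hkill y hy, smul_zero])
    exact hz0 ((Module.FaithfullyFlat.one_tmul_eq_zero_iff (R := A) (M := M) (A := B) z).mp h2)
  | succ n ih =>
    intro M _ _ _ hne hn
    have hne' : (I.map (algebraMap A B)) • (⊤ : Submodule B (B ⊗[A] M)) ≠ ⊤ :=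
      ((TensorProduct.isBaseChange A M B).map_smul_top_ne_top_iff_of_faithfullyFlat A M I).mpr hne
    have h1 : ((1 : ℕ) : ℕ∞) ≤ idealDepth I M := by
      rw [hn]; exact_mod_cast Nat.succ_le_succ (Nat.zero_le n)
    obtain ⟨rs, hlen, hreg, hmem⟩ := exists_of_le_idealDepth _ _ hne 1 h1
    obtain ⟨x, rfl⟩ := List.length_eq_one_iff.mp hlen
    have hx : x ∈ I := hmem x (by simp)
    have hxreg : IsSMulRegular M x := ((isWeaklyRegular_cons_iff _ x []).mp hreg).1
    have hQ := idealDepth_quotSMulTop_add_one I M hne x hx hxreg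
    have hQn : idealDepth I (QuotSMulTop x M) = n := by
      rw [hn] at hQ
      have : idealDepth I (QuotSMulTop x M) + 1 = (n : ℕ∞) + 1 := by
        rw [hQ]; push_cast; rfl
      exact (ENat.add_left_injective_of_ne_top ENat.one_ne_top) this
    have hQne := smul_top_quotSMulTop_ne_top hx hne
    have hBQ := ih (QuotSMulTop x M) hQne hQn
    have hx'reg : IsSMulRegular (B ⊗[A] M) (algebraMap A B x) :=
      hxreg.of_flat_of_isBaseChange (TensorProduct.isBaseChange A M B)
    have hx' : algebraMap A B x ∈ I.map (algebraMap A B) := Ideal.mem_map_of_mem _ hx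
    have h2 := idealDepth_quotSMulTop_add_one (I.map (algebraMap A B)) (B ⊗[A] M) hne'
      (algebraMap A B x) hx' hx'reg
    rw [idealDepth_congr _ (QuotSMulTop.algebraMapTensorEquivTensorQuotSMulTop x M B), hBQ] at h2
    rw [← h2]
    push_cast
    rfl

theorem idealDepth_baseChange_eq [Module.FaithfullyFlat A B] [IsNoetherianRing A]
    [IsNoetherianRing B] (I : Ideal A) (M : Type u) [AddCommGroup M] [Module A M]
    [Module.Finite A M] :
    idealDepth (I.map (algebraMap A B)) (B ⊗[A] M) = idealDepth I M := by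
  by_cases h : I • (⊤ : Submodule A M) = ⊤
  · rw [idealDepth_of_eq_top _ _ (smul_top_baseChange_eq_top (B := B) I M h),
      idealDepth_of_eq_top _ _ h]
  · obtain ⟨n, hn⟩ := ENat.ne_top_iff_exists.mp (idealDepth_ne_top I M h)
    rw [← hn]
    exact idealDepth_baseChange_eq_aux I n M h hn.symm

end Groth.Agent.Helper5.DepthFlat
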