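import Mathlib.LinearAlgebra.Matrix.Charpoly.Coeff
import Mathlib.LinearAlgebra.Matrix.SchurComplement
import Mathlib.LinearAlgebra.Matrix.ToLin

/-!
# `det(1 - u t)` for endomorphisms of finite projective modules, via retractions of free modules
-/

set_option autoImplicit false
set_option linter.unusedSectionVars false

universe u v w

namespace Groth.Agent.Helper5.DetP

open Polynomial Matrix

variable {A : Type u} [CommRing A]

section Rdet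

variable {ι : Type v} {κ : Type w} [Fintype ι] [DecidableEq ι] [Fintype κ] [DecidableEq κ]

/-- reverse characteristic polynomial of an endomorphism of `ι → A` -/
noncomputable def rdet (f : (ι → A) →ₗ[A] (ι → A)) : A[X] := (LinearMap.toMatrix' f).charpolyRev

theorem charpolyRev_mul_comm (M : Matrix ι κ A) (N : Matrix κ ι A) :
    (M * N).charpolyRev = (N * M).charpolyRev := by
  unfold Matrix.charpolyRev
  rw [Matrix.map_mul, Matrix.map_mul, ← Matrix.smul_mul, det_one_sub_mul_comm, Matrix.mul_smul]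

theorem rdet_comp_comm (B : (κ → A) →ₗ[A] (ι → A)) (C : (ι → A) →ₗ[A] (κ → A)) :
    rdet (B ∘ₗ C) = rdet (C ∘ₗ B) := by
  unfold rdet
  rw [LinearMap.toMatrix'_comp, LinearMap.toMatrix'_comp, charpolyRev_mul_comm]

theorem charpolyRev_add_of_mul_eq_zero (M N : Matrix ι ι A) (h : M * N = 0) :
    (M + N).charpolyRev = M.charpolyRev * N.charpolyRev := by
  unfold Matrix.charpolyRev
  rw [← det_mul]
  congr 1
  have h' : M.map (C : A → A[X]) * N.map C = 0 := by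
    rw [← Matrix.map_mul, h]
    simp
  rw [Matrix.map_add _ (fun a b => C_add), smul_add, sub_mul, one_mul, mul_sub, mul_one, Matrix.smul_mul,
    Matrix.mul_smul, h']
  simp only [smul_zero, sub_zero]
  abel

theorem rdet_add_of_comp_eq_zero (f g : (ι → A) →ₗ[A] (ι → A)) (h : f ∘ₗ g = 0) :
    rdet (f + g) = rdet f * rdet g := by
  unfold rdet
  rw [map_add]
  apply charpolyRev_add_of_mul_eq_zero
  rw [← LinearMap.toMatrix'_comp, h, map_zero]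

end Rdet

section Mdet

variable {P : Type*} [AddCommGroup P] [Module A P]
variable {ι : Type v} {κ : Type w} [Fintype ι] [DecidableEq ι] [Fintype κ] [DecidableEq κ]

/-- `det(1 - u t)` computed in a free model `(ι → A)` of which `P` is a retract. -/
noncomputable def mdet (i : P →ₗ[A] (ι → A)) (r : (ι → A) →ₗ[A] P) (u : P →ₗ[A] P) : A[X] :=
  rdet (i ∘ₗ u ∘ₗ r)

theorem mdet_indep (i : P →ₗ[A] (ι → A)) (r : (ι → A) →ₗ[A] P) (i' : P →ₗ[A] (κ → A))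
    (r' : (κ → A) →ₗ[A] P) (hri : r ∘ₗ i = LinearMap.id) (hri' : r' ∘ₗ i' = LinearMap.id)
    (u : P →ₗ[A] P) : mdet i r u = mdet i' r' u := by
  unfold mdet
  have h1 : i ∘ₗ u ∘ₗ r = (i ∘ₗ r') ∘ₗ (i' ∘ₗ u ∘ₗ r) := by
    have : (i ∘ₗ r') ∘ₗ (i' ∘ₗ u ∘ₗ r) = i ∘ₗ (r' ∘ₗ i') ∘ₗ u ∘ₗ r := by
      simp only [LinearMap.comp_assoc]
    rw [this, hri', LinearMap.id_comp]
  have h2 : i' ∘ₗ u ∘ₗ r' = (i' ∘ₗ u ∘ₗ r) ∘ₗ (i ∘ₗ r') := by
    have : (i' ∘ₗ u ∘ₗ r) ∘ₗ (i ∘ₗ r') = i' ∘ₗ u ∘ₗ (r ∘ₗ i) ∘ₗ r' := by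
      simp only [LinearMap.comp_assoc]
    rw [this, hri, LinearMap.id_comp]
  rw [h1, h2, rdet_comp_comm]

theorem mdet_ses {P' P'' : Type*} [AddCommGroup P'] [Module A P'] [AddCommGroup P'']
    [Module A P''] {ι' : Type*} {ι'' : Type*} [Fintype ι'] [DecidableEq ι'] [Fintype ι'']
    [DecidableEq ι'']
    (i : P →ₗ[A] (ι → A)) (r : (ι → A) →ₗ[A] P) (hri : ∀ x, r (i x) = x)
    (i' : P' →ₗ[A] (ι' → A)) (r' : (ι' → A) →ₗ[A] P') (hri' : ∀ x, r' (i' x) = x)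
    (i'' : P'' →ₗ[A] (ι'' → A)) (r'' : (ι'' → A) →ₗ[A] P'') (hri'' : ∀ x, r'' (i'' x) = x)
    (j : P' →ₗ[A] P) (π : P →ₗ[A] P'') (σ : P'' →ₗ[A] P) (ρ : P →ₗ[A] P')
    (hρj : ∀ x, ρ (j x) = x) (hπσ : ∀ x, π (σ x) = x) (hπj : ∀ x, π (j x) = 0)
    (hsum : ∀ x, j (ρ x) + σ (π x) = x)
    (u' : P' →ₗ[A] P') (u : P →ₗ[A] P) (u'' : P'' →ₗ[A] P'')
    (huj : ∀ x, u (j x) = j (u' x)) (hπu : ∀ x, π (u x) = u'' (π x)) :
    mdet i r u = mdet i' r' u' * mdet i'' r'' u'' := by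
  unfold mdet
  have h1 : i ∘ₗ u ∘ₗ r = (i ∘ₗ j ∘ₗ r') ∘ₗ (i' ∘ₗ ρ ∘ₗ u ∘ₗ r) +
      (i ∘ₗ σ ∘ₗ r'') ∘ₗ (i'' ∘ₗ u'' ∘ₗ π ∘ₗ r) := by
    apply LinearMap.ext
    intro x
    simp only [LinearMap.comp_apply, LinearMap.add_apply, hri', hri'']
    rw [← map_add, ← hπu, hsum]
  have h3 : ((i ∘ₗ σ ∘ₗ r'') ∘ₗ (i'' ∘ₗ u'' ∘ₗ π ∘ₗ r)) ∘ₗ
      ((i ∘ₗ j ∘ₗ r') ∘ₗ (i' ∘ₗ ρ ∘ₗ u ∘ₗ r)) = 0 := by
    apply LinearMap.ext
    intro x
    simp only [LinearMap.comp_apply, LinearMap.zero_apply, hri, hri', hπj, map_zero]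
  rw [h1, add_comm, rdet_add_of_comp_eq_zero _ _ h3, rdet_comp_comm, rdet_comp_comm (i ∘ₗ j ∘ₗ r'),
    mul_comm]
  congr 1
  · congr 1
    apply LinearMap.ext
    intro x
    simp only [LinearMap.comp_apply, hri, huj, hρj]
  · congr 1
    apply LinearMap.ext
    intro x
    simp only [LinearMap.comp_apply, hri, hπσ]

theorem mdet_of_subsingleton [Subsingleton P] (i : P →ₗ[A] (ι → A)) (r : (ι → A) →ₗ[A] P)
    (u : P →ₗ[A] P) : mdet i r u = 1 := by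
  unfold mdet
  have : i ∘ₗ u ∘ₗ r = 0 := by
    apply LinearMap.ext
    intro x
    simp only [LinearMap.comp_apply, LinearMap.zero_apply]
    rw [Subsingleton.elim (u (r x)) 0, map_zero]
  rw [this]
  unfold rdet Matrix.charpolyRev
  simp

end Mdet

end Groth.Agent.Helper5.DetP
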