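import Groth.Agent.Lib.Helper5.DetP2
import Groth.Agent.Lib.Helper5.NilLift3
import Mathlib.Algebra.BigOperators.Finprod
import Mathlib.Data.Int.Interval
import Mathlib.Order.Interval.Finset.Defs
import Mathlib.Algebra.Group.Even
import Mathlib.Algebra.Ring.Parity

/-!
# `det(1 - w t)` on an acyclic bounded complex of finite free modules
-/

set_option autoImplicit false
set_option linter.unusedSectionVars false
set_option linter.unusedVariables false
set_option linter.style.haveILetI false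

universe u

namespace Groth.Agent.Helper5.DetP

open Polynomial CategoryTheory CategoryTheory.Limits Groth.Agent.Helper5.NL

variable {A : Type u} [CommRing A]

section Finprod

variable {M : Type*} [CommMonoid M]

theorem finite_mulSupport_subtype (p : ℤ → M) (a b : ℤ) (hp : ∀ j, j < a ∨ b < j → p j = 1)
    (q : ℤ → Prop) : (Function.mulSupport (fun i : {i : ℤ // q i} => p i.1)).Finite := by
  have h : (Function.mulSupport p).Finite := by
    refine (Set.finite_Icc a b).subset ?_
    intro j hj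
    rw [Function.mem_mulSupport] at hj
    constructor
    · by_contra h
      exact hj (hp j (Or.inl (not_le.1 h)))
    · by_contra h
      exact hj (hp j (Or.inr (not_le.1 h)))
  have : Function.mulSupport (fun i : {i : ℤ // q i} => p i.1) =
      Subtype.val ⁻¹' Function.mulSupport p := rfl
  rw [this]
  exact h.preimage Subtype.val_injective.injOn

/-- `i ↦ i + 1` from even to odd integers -/
def evenOdd : {i : ℤ // Even i} ≃ {i : ℤ // Odd i} where
  toFun i := ⟨i.1 + 1, i.2.add_one⟩
  invFun j := ⟨j.1 - 1, j.2.sub_odd odd_one⟩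
  left_inv i := Subtype.ext (by simp)
  right_inv j := Subtype.ext (by simp)

/-- `i ↦ i + 1` from odd to even integers -/
def oddEven : {i : ℤ // Odd i} ≃ {i : ℤ // Even i} where
  toFun i := ⟨i.1 + 1, i.2.add_one⟩
  invFun j := ⟨j.1 - 1, j.2.sub_odd odd_one⟩
  left_inv i := Subtype.ext (by simp)
  right_inv j := Subtype.ext (by simp)

theorem finprod_even_odd (p : ℤ → M) (a b : ℤ) (hp : ∀ j, j < a ∨ b < j → p j = 1) :
    ∏ᶠ i : {i : ℤ // Even i}, p i.1 * p (i.1 + 1) =
      ∏ᶠ i : {i : ℤ // Odd i}, p i.1 * p (i.1 + 1) := by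
  have hp' : ∀ j, j < a - 1 ∨ b < j → p (j + 1) = 1 := by
    intro j hj
    apply hp
    rcases hj with h | h
    · left; lia
    · right; lia
  rw [finprod_mul_distrib (finite_mulSupport_subtype p a b hp _)
    (finite_mulSupport_subtype (fun j => p (j + 1)) (a - 1) b hp' _),
    finprod_mul_distrib (finite_mulSupport_subtype p a b hp _)
    (finite_mulSupport_subtype (fun j => p (j + 1)) (a - 1) b hp' _)]
  have h1 : ∏ᶠ i : {i : ℤ // Even i}, p (i.1 + 1) = ∏ᶠ j : {i : ℤ // Odd i}, p j.1 :=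
    finprod_comp_equiv evenOdd (f := fun j : {i : ℤ // Odd i} => p j.1)
  have h2 : ∏ᶠ i : {i : ℤ // Odd i}, p (i.1 + 1) = ∏ᶠ j : {i : ℤ // Even i}, p j.1 :=
    finprod_comp_equiv oddEven (f := fun j : {i : ℤ // Even i} => p j.1)
  rw [h1, h2, mul_comm]

end Finprod

section Acyclic

variable (C : CochainComplex (ModuleCat.{u} A) ℤ) (w : C ⟶ C)

theorem w_mem_ker (i : ℤ) (x : C.X i) (hx : x ∈ LinearMap.ker (C.d i (i + 1)).hom) :
    (w.f i).hom x ∈ LinearMap.ker (C.d i (i + 1)).hom := by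
  rw [LinearMap.mem_ker] at hx ⊢
  have := congrArg (fun f => f.hom x) (w.comm i (i + 1))
  change (C.d i (i + 1)).hom ((w.f i).hom x) = (w.f (i + 1)).hom ((C.d i (i + 1)).hom x) at this
  rw [this, hx, map_zero]

/-- the endomorphism induced on the cycles -/
noncomputable def zEnd (i : ℤ) : Zm C i ⟶ Zm C i :=
  ModuleCat.ofHom ((w.f i).hom.restrict (w_mem_ker C w i))

theorem zEnd_ι (i : ℤ) : zEnd C w i ≫ ιZ C i = ιZ C i ≫ w.f i := by
  apply ModuleCat.hom_ext
  apply LinearMap.ext
  intro x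
  rfl

theorem w_dZ (i : ℤ) : w.f i ≫ dZ C i = dZ C i ≫ zEnd C w (i + 1) := by
  apply ModuleCat.hom_ext
  apply LinearMap.ext
  intro x
  apply Subtype.ext
  exact congrArg (fun f => f.hom x) (w.comm i (i + 1))

theorem isZero_Zm (i : ℤ) (h : IsZero (C.X i)) : IsZero (Zm C i) := by
  haveI : Subsingleton (C.X i) := ModuleCat.subsingleton_of_isZero h
  haveI : Subsingleton (Zm C i) := ⟨fun a b => Subtype.ext (Subsingleton.elim _ _)⟩
  exact ModuleCat.isZero_of_subsingleton _

theorem detOneSub_eq_mul (hfin : ∀ i, Module.Finite A (C.X i)) (hfree : ∀ i, Module.Free A (C.X i))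
    (hacyc : C.Acyclic) (b : ℤ) (hb : ∀ i : ℤ, b < i → IsZero (C.X i)) (i : ℤ) :
    SGA4h.detOneSub (C.X i) (w.f i) =
      pdet (Zm C i) (zEnd C w i) * pdet (Zm C (i + 1)) (zEnd C w (i + 1)) := by
  obtain ⟨hZ, s, r, h⟩ := exists_splitting C (fun i => by
    haveI := hfree i
    infer_instance) hacyc b hb
  have hZf : ∀ i, Module.Finite A (Zm C i) := by
    intro i
    haveI := hfin i
    refine Module.Finite.of_surjective (r i).hom ?_
    intro z
    exact ⟨(ιZ C i).hom z, congrArg (fun f => f.hom z) (h i).2.1⟩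
  rw [← pdet_eq_detOneSub _ (hfin i) (hfree i)]
  haveI := hfree i
  exact pdet_ses (Zm C i) (C.X i) (Zm C (i + 1)) (hZf i) (hZ i) (hfin i) inferInstance
    (hZf (i + 1)) (hZ (i + 1)) (ιZ C i) (dZ C i) (s i) (r i) (h i).2.1 (h i).1 (ιZ_dZ C i)
    (h i).2.2.2 (zEnd C w i) (w.f i) (zEnd C w (i + 1)) (zEnd_ι C w i).symm (w_dZ C w i)

theorem detEven_eq_detOdd_of_acyclic (hfin : ∀ i, Module.Finite A (C.X i))
    (hfree : ∀ i, Module.Free A (C.X i)) (hacyc : C.Acyclic) (a b : ℤ)
    (ha : ∀ i : ℤ, i < a → IsZero (C.X i)) (hb : ∀ i : ℤ, b < i → IsZero (C.X i)) :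
    SGA4h.detEven C w = SGA4h.detOdd C w := by
  unfold SGA4h.detEven SGA4h.detOdd
  have h1 := fun i => detOneSub_eq_mul C w hfin hfree hacyc b hb i
  rw [finprod_congr (fun i : {i : ℤ // Even i} => h1 i.1),
    finprod_congr (fun i : {i : ℤ // Odd i} => h1 i.1)]
  refine finprod_even_odd (fun j => pdet (Zm C j) (zEnd C w j)) a b ?_
  intro j hj
  apply pdet_of_isZero
  apply isZero_Zm
  rcases hj with hj | hj
  · exact ha j hj
  · exact hb j hj

end Acyclic

end Groth.Agent.Helper5.DetP
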