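import Groth.Agent.Lib.Helper5.KPerf2

/-!
# The Euler characteristic only depends on the image in the derived category
-/

set_option autoImplicit false
set_option linter.style.haveILetI false
set_option linter.unusedSectionVars false
set_option linter.unusedVariables false

open CategoryTheory CategoryTheory.Limits CategoryTheory.Pretriangulated ZeroObject

universe u

namespace Groth.Agent.Helper5.KPerf

open DerivedCategory Groth.Agent.Helper11.DC Groth.Agent.Helper5.K0Der

attribute [local instance] HasDerivedCategory.standard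

variable {R : Type u} [CommRing R]

theorem Pfp_biprod {A B : ModuleCat.{u} R} (hA : Pfp R A) (hB : Pfp R B) : Pfp R (A ⊞ B) := by
  obtain ⟨a1, a2⟩ := hA
  obtain ⟨b1, b2⟩ := hB
  have : Pfp R (ModuleCat.of R (A × B)) :=
    ⟨inferInstanceAs (Module.Finite R (A × B)), inferInstanceAs (Module.Projective R (A × B))⟩
  exact Pfp_of_iso (ModuleCat.biprodIsoProd A B).symm this

theorem clSub_biprod {A B : ModuleCat.{u} R} (hA : Pfp R A) (hB : Pfp R B) :
    KZero.clSub (Pfp R) (A ⊞ B) = KZero.clSub (Pfp R) A + KZero.clSub (Pfp R) B :=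
  KZ.clSub_shortExact (Pfp R) _ (ShortComplex.Splitting.ofHasBinaryBiproduct A B).shortExact
    hA (Pfp_biprod hA hB) hB

theorem Pfp_cone {E₁ E₂ : DRing.Cx R} (φ : E₁ ⟶ E₂) (p1 : ∀ i, Pfp R (E₁.X i))
    (p2 : ∀ i, Pfp R (E₂.X i)) (i : ℤ) : Pfp R ((CochainComplex.mappingCone φ).X i) :=
  Pfp_of_iso (mappingConeXIso φ i).symm (Pfp_biprod (p1 (i + 1)) (p2 i))

theorem chi_cone {E₁ E₂ : DRing.Cx R} (φ : E₁ ⟶ E₂) (a₁ b₁ a₂ b₂ : ℤ)
    (h1 : DRing.VanishesOutside E₁ a₁ b₁) (h2 : DRing.VanishesOutside E₂ a₂ b₂)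
    (p1 : ∀ i, Pfp R (E₁.X i)) (p2 : ∀ i, Pfp R (E₂.X i)) :
    chi (CochainComplex.mappingCone φ) = - chi E₁ + chi E₂ := by
  have hz : Pfp R (0 : ModuleCat.{u} R) := Pfp_of_isZero (isZero_zero _)
  let u : ℤ → KZero.K0sub (Pfp R) := fun i => ((i.negOnePow : ℤˣ) : ℤ) •
    KZero.clSub (Pfp R) (E₁.X i)
  have hu : (Function.support u).Finite := chi_support E₁ a₁ b₁ h1
  have hu' : (Function.support (fun i => u (i + 1))).Finite := by
    have : (fun i => u (i + 1)) = u ∘ (Equiv.addRight (1 : ℤ)) := rfl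
    rw [this]
    exact hu.preimage (Equiv.injective _).injOn
  have hun : (Function.support (fun i => - u (i + 1))).Finite := by
    have : (fun i => - u (i + 1)) = - (fun i => u (i + 1)) := rfl
    rw [this, Function.support_neg]
    exact hu'
  have key : ∀ i : ℤ, ((i.negOnePow : ℤˣ) : ℤ) •
      KZero.clSub (Pfp R) ((CochainComplex.mappingCone φ).X i) =
      - u (i + 1) + ((i.negOnePow : ℤˣ) : ℤ) • KZero.clSub (Pfp R) (E₂.X i) := by
    intro i
    rw [KZ.clSub_iso (Pfp R) (mappingConeXIso φ i) (Pfp_cone φ p1 p2 i)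
      (Pfp_biprod (p1 (i + 1)) (p2 i)) (isZero_zero _) hz, clSub_biprod (p1 (i + 1)) (p2 i)]
    simp only [u, Int.negOnePow_succ, Units.val_neg, neg_smul, smul_add, neg_neg]
  unfold chi
  rw [finsum_congr key, finsum_add_distrib hun (chi_support E₂ a₂ b₂ h2), finsum_neg_distrib]
  have : ∑ᶠ i : ℤ, u (i + 1) = ∑ᶠ i : ℤ, u i := finsum_comp_equiv (Equiv.addRight (1 : ℤ))
  rw [this]

theorem chi_eq_of_iso (E E' : DRing.Cx R) (a b a' b' : ℤ)
    (hE : DRing.VanishesOutside E a b) (hE' : DRing.VanishesOutside E' a' b')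
    (pE : ∀ i, Pfp R (E.X i)) (pE' : ∀ i, Pfp R (E'.X i)) (e : Q.obj E ≅ Q.obj E') :
    chi E = chi E' := by
  haveI : E.IsKProjective := isKProjective_of_vanishesAbove E b
    (fun i hi => hE i (Or.inr hi)) (fun i => (pE i).2)
  obtain ⟨φ, hφ⟩ := exists_lift_of_isKProjective E E' e.hom
  have hT := mappingCone_triangle_distinguished φ
  have hz : IsZero (Q.obj (CochainComplex.mappingCone φ)) := by
    refine (Triangle.isZero₃_iff_isIso₁ _ hT).2 ?_
    change IsIso (Q.map φ)
    rw [hφ]
    infer_instance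
  have hV : DRing.VanishesOutside (CochainComplex.mappingCone φ) (min (a - 1) a') (max b b') := by
    intro i hi
    refine mappingCone_isZero φ i (hE _ ?_) (hE' _ ?_)
    · rcases hi with hi | hi
      · left; lia
      · right; lia
    · rcases hi with hi | hi
      · left; lia
      · right; lia
  have h0 := chi_acyclic (max b b' - min (a - 1) a' + 1).toNat (CochainComplex.mappingCone φ)
    (min (a - 1) a') (max b b') (by lia) hV (Pfp_cone φ pE pE') hz
  rw [chi_cone φ a b a' b' hE hE' pE pE'] at h0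
  rw [neg_add_eq_zero] at h0
  exact h0

end Groth.Agent.Helper5.KPerf
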