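import Groth.Agent.Lib.Helper5.DetP3
import Groth.Agent.Lib.Helper5.KPerf3
import Mathlib.Algebra.Homology.HomotopyCategory.Pretriangulated

/-!
# Invariance of `det(1 - u t)` under isomorphisms in the derived category
-/

set_option autoImplicit false
set_option linter.unusedSectionVars false
set_option linter.unusedVariables false
set_option linter.style.haveILetI false

universe u

namespace Groth.Agent.Helper5.DetP

open Polynomial CategoryTheory CategoryTheory.Limits CategoryTheory.Pretriangulated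
  Groth.Agent.Helper5.NL DerivedCategory Groth.Agent.Helper11.DC CochainComplex
  HomComplex

attribute [local instance] HasDerivedCategory.standard

variable {A : Type u} [CommRing A]

theorem homotopy_of_Q_map_eq (E₁ E₂ : DRing.Cx A) [E₁.IsKProjective] (f g : E₁ ⟶ E₂)
    (h : Q.map f = Q.map g) : Nonempty (Homotopy f g) := by
  have h' : Qh.map ((HomotopyCategory.quotient _ _).map f) =
      Qh.map ((HomotopyCategory.quotient _ _).map g) := h
  have := (CochainComplex.IsKProjective.Qh_map_bijective E₁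
    ((HomotopyCategory.quotient _ _).obj E₂)).1 h'
  exact ⟨HomotopyCategory.homotopyOfEq _ _ this⟩

section Cone

variable {K K' : CochainComplex (ModuleCat.{u} A) ℤ} (ψ : K ⟶ K') (u : K ⟶ K) (u' : K' ⟶ K')
  (H : Homotopy (ψ ≫ u') (u ≫ ψ))

theorem inr_map (i : ℤ) : (mappingCone.inr ψ).f i ≫ (mappingCone.mapOfHomotopy H).f i =
    u'.f i ≫ (mappingCone.inr ψ).f i := by
  have := mappingCone.triangleMapOfHomotopy_comm₂ H
  exact HomologicalComplex.congr_hom this i

theorem map_fst (i : ℤ) : (mappingCone.mapOfHomotopy H).f i ≫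
    (mappingCone.fst ψ).1.v i (i + 1) rfl =
      (mappingCone.fst ψ).1.v i (i + 1) rfl ≫ u.f (i + 1) := by
  rw [mappingCone.ext_from_iff _ (i + 1) i rfl]
  constructor
  · simp [mappingCone.mapOfHomotopy]
  · simp [mappingCone.mapOfHomotopy]

theorem detOneSub_cone (hK : ∀ i : ℤ, Module.Finite A (K.X i) ∧ Module.Free A (K.X i))
    (hK' : ∀ i : ℤ, Module.Finite A (K'.X i) ∧ Module.Free A (K'.X i)) (i : ℤ) :
    SGA4h.detOneSub ((mappingCone ψ).X i) ((mappingCone.mapOfHomotopy H).f i) =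
      SGA4h.detOneSub (K'.X i) (u'.f i) * SGA4h.detOneSub (K.X (i + 1)) (u.f (i + 1)) := by
  haveI := (hK (i + 1)).1
  haveI := (hK (i + 1)).2
  haveI := (hK' i).1
  haveI := (hK' i).2
  have hfin : Module.Finite A ((mappingCone ψ).X i) :=
    Module.Finite.equiv (mappingConeXEquiv ψ i).symm
  have hfree : Module.Free A ((mappingCone ψ).X i) :=
    Module.Free.of_equiv (mappingConeXEquiv ψ i).symm
  rw [← pdet_eq_detOneSub _ hfin hfree, ← pdet_eq_detOneSub _ (hK' i).1 (hK' i).2,
    ← pdet_eq_detOneSub _ (hK (i + 1)).1 (hK (i + 1)).2]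
  refine pdet_ses (K'.X i) ((mappingCone ψ).X i) (K.X (i + 1)) (hK' i).1 inferInstance hfin
    inferInstance (hK (i + 1)).1 inferInstance
    ((mappingCone.inr ψ).f i) ((mappingCone.fst ψ).1.v i (i + 1) rfl)
    ((mappingCone.inl ψ).v (i + 1) i (by lia)) ((mappingCone.snd ψ).v i i (add_zero i))
    (mappingCone.inr_f_snd_v ψ i) (mappingCone.inl_v_fst_v ψ (i + 1) i rfl)
    (mappingCone.inr_f_fst_v ψ i (i + 1) rfl) ?_ (u'.f i) ((mappingCone.mapOfHomotopy H).f i)
    (u.f (i + 1)) (inr_map ψ u u' H i) (map_fst ψ u u' H i)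
  rw [add_comm]
  exact mappingCone.id_X ψ i (i + 1) rfl

end Cone

section Main

variable (K K' : CochainComplex (ModuleCat.{u} A) ℤ)

theorem detOneSub_of_isZero (M : ModuleCat.{u} A) (h : IsZero M) (u : M ⟶ M) :
    SGA4h.detOneSub M u = 1 := by
  haveI : Subsingleton M := ModuleCat.subsingleton_of_isZero h
  rw [← pdet_eq_detOneSub M inferInstance inferInstance u, pdet_of_isZero M h]

theorem main (a b : ℤ) (ha : ∀ i : ℤ, i < a → IsZero (K.X i)) (hb : ∀ i : ℤ, b < i → IsZero (K.X i))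
    (ha' : ∀ i : ℤ, i < a → IsZero (K'.X i)) (hb' : ∀ i : ℤ, b < i → IsZero (K'.X i))
    (hK : ∀ i : ℤ, Module.Finite A (K.X i) ∧ Module.Free A (K.X i))
    (hK' : ∀ i : ℤ, Module.Finite A (K'.X i) ∧ Module.Free A (K'.X i))
    (u : K ⟶ K) (u' : K' ⟶ K') (φ : Q.obj K ≅ Q.obj K')
    (hφ : Q.map u ≫ φ.hom = φ.hom ≫ Q.map u') :
    SGA4h.detEven K u * SGA4h.detOdd K' u' = SGA4h.detOdd K u * SGA4h.detEven K' u' := by
  haveI : K.IsKProjective := isKProjective_of_vanishesAbove K b hb (fun i => by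
    haveI := (hK i).2
    infer_instance)
  obtain ⟨ψ, hψ⟩ := exists_lift_of_isKProjective K K' φ.hom
  have hQ : Q.map (ψ ≫ u') = Q.map (u ≫ ψ) := by
    rw [Functor.map_comp, Functor.map_comp, hψ, hφ]
  obtain ⟨H⟩ := homotopy_of_Q_map_eq K K' _ _ hQ
  -- the cone is acyclic
  have hT := mappingCone_triangle_distinguished ψ
  have hz : IsZero (Q.obj (mappingCone ψ)) := by
    refine (Triangle.isZero₃_iff_isIso₁ _ hT).2 ?_
    change IsIso (Q.map ψ)
    rw [hψ]
    infer_instance
  have hacyc : (mappingCone ψ).Acyclic := fun i => KPerf.exactAt_of_isZero_Q _ hz i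
  have hfin : ∀ i, Module.Finite A ((mappingCone ψ).X i) := fun i => by
    haveI := (hK (i + 1)).1
    haveI := (hK' i).1
    exact Module.Finite.equiv (mappingConeXEquiv ψ i).symm
  have hfree : ∀ i, Module.Free A ((mappingCone ψ).X i) := fun i => by
    haveI := (hK (i + 1)).2
    haveI := (hK' i).2
    exact Module.Free.of_equiv (mappingConeXEquiv ψ i).symm
  have key := detEven_eq_detOdd_of_acyclic (mappingCone ψ) (mappingCone.mapOfHomotopy H) hfin hfree
    hacyc (a - 1) b
    (fun i hi => mappingCone_isZero ψ i (ha _ (by lia)) (ha' _ (by lia)))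
    (fun i hi => mappingCone_isZero ψ i (hb _ (by lia)) (hb' _ hi))
  unfold SGA4h.detEven SGA4h.detOdd at key ⊢
  have h1 := fun i => detOneSub_cone ψ u u' H hK hK' i
  rw [finprod_congr (fun i : {i : ℤ // Even i} => h1 i.1),
    finprod_congr (fun i : {i : ℤ // Odd i} => h1 i.1)] at key
  have hp : ∀ j, j < a ∨ b < j → SGA4h.detOneSub (K.X j) (u.f j) = 1 := by
    intro j hj
    apply detOneSub_of_isZero
    rcases hj with hj | hj
    · exact ha j hj
    · exact hb j hj
  have hp' : ∀ j, j < a ∨ b < j → SGA4h.detOneSub (K'.X j) (u'.f j) = 1 := by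
    intro j hj
    apply detOneSub_of_isZero
    rcases hj with hj | hj
    · exact ha' j hj
    · exact hb' j hj
  have hps : ∀ j, j < a - 1 ∨ b < j → SGA4h.detOneSub (K.X (j + 1)) (u.f (j + 1)) = 1 := by
    intro j hj
    apply hp
    rcases hj with h | h
    · left; lia
    · right; lia
  rw [finprod_mul_distrib
      (finite_mulSupport_subtype (fun j => SGA4h.detOneSub (K'.X j) (u'.f j)) a b hp' _)
      (finite_mulSupport_subtype (fun j => SGA4h.detOneSub (K.X (j + 1)) (u.f (j + 1)))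
        (a - 1) b hps _),
    finprod_mul_distrib
      (finite_mulSupport_subtype (fun j => SGA4h.detOneSub (K'.X j) (u'.f j)) a b hp' _)
      (finite_mulSupport_subtype (fun j => SGA4h.detOneSub (K.X (j + 1)) (u.f (j + 1)))
        (a - 1) b hps _)] at key
  have e1 : ∏ᶠ i : {i : ℤ // Even i}, SGA4h.detOneSub (K.X (i.1 + 1)) (u.f (i.1 + 1)) =
      ∏ᶠ j : {i : ℤ // Odd i}, SGA4h.detOneSub (K.X j.1) (u.f j.1) :=
    finprod_comp_equiv evenOdd
      (f := fun j : {i : ℤ // Odd i} => SGA4h.detOneSub (K.X j.1) (u.f j.1))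
  have e2 : ∏ᶠ i : {i : ℤ // Odd i}, SGA4h.detOneSub (K.X (i.1 + 1)) (u.f (i.1 + 1)) =
      ∏ᶠ j : {i : ℤ // Even i}, SGA4h.detOneSub (K.X j.1) (u.f j.1) :=
    finprod_comp_equiv oddEven
      (f := fun j : {i : ℤ // Even i} => SGA4h.detOneSub (K.X j.1) (u.f j.1))
  rw [e1, e2] at key
  rw [mul_comm, ← key, mul_comm]

end Main

end Groth.Agent.Helper5.DetP
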