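import Mathlib

/-!
# The Euler–Poincaré formula for bounded complexes of finite dimensional vector spaces
-/

set_option autoImplicit false
set_option linter.unusedSectionVars false
set_option linter.unusedVariables false
set_option linter.style.haveILetI false

universe u

open CategoryTheory CategoryTheory.Limits HomologicalComplex Module

namespace Groth.Agent.Helper5.EC

variable {k : Type u} [Ring k] [Nontrivial k] [HasRankNullity.{u} k] [StrongRankCondition k]
  [IsNoetherianRing k]

/-- the dimension of the homology of a short complex of finite dimensional vector spaces -/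
theorem finrank_homology (S : ShortComplex (ModuleCat.{u} k)) [Module.Finite k S.X₂] :
    (finrank k S.homology : ℤ) =
      finrank k S.X₂ - finrank k (LinearMap.range S.g.hom) - finrank k (LinearMap.range S.f.hom) := by
  have e1 : finrank k S.homology =
      finrank k (LinearMap.ker S.g.hom ⧸ LinearMap.range S.moduleCatToCycles) :=
    LinearEquiv.finrank_eq S.moduleCatHomologyIso.toLinearEquiv
  have e2 := Submodule.finrank_quotient_add_finrank (LinearMap.range S.moduleCatToCycles)
  have e3 : finrank k (LinearMap.range S.g.hom) + finrank k (LinearMap.ker S.g.hom) =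
      finrank k S.X₂ := by
    rw [← S.g.hom.quotKerEquivRange.finrank_eq]
    exact Submodule.finrank_quotient_add_finrank _
  have e4 : finrank k (LinearMap.range S.moduleCatToCycles) = finrank k (LinearMap.range S.f.hom) := by
    have h : LinearMap.range S.f.hom =
        (LinearMap.range S.moduleCatToCycles).map (LinearMap.ker S.g.hom).subtype := by
      rw [← LinearMap.range_comp]
      rfl
    rw [h]
    exact (LinearEquiv.finrank_eq (Submodule.equivMapOfInjective _
      (Submodule.injective_subtype _) _))
  rw [e1]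
  omega

variable (D : CochainComplex (ModuleCat.{u} k) ℤ)

/-- the rank of the differential -/
noncomputable def rk (i : ℤ) : ℤ := finrank k (LinearMap.range (D.d i (i + 1)).hom)

lemma finrank_homology_cx [∀ i, Module.Finite k (D.X i)] (i : ℤ) :
    (finrank k (D.homology i) : ℤ) = finrank k (D.X i) - rk D i - rk D (i - 1) := by
  have e := D.homologyIsoSc' (i - 1) i (i + 1) (by simp) (by simp)
  rw [LinearEquiv.finrank_eq e.toLinearEquiv]
  haveI : Module.Finite k (D.sc' (i - 1) i (i + 1)).X₂ :=
    inferInstanceAs (Module.Finite k (D.X i))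
  have h := finrank_homology (D.sc' (i - 1) i (i + 1))
  rw [h]
  have h2 : rk D (i - 1) = finrank k (LinearMap.range (D.d (i - 1) i).hom) := by
    unfold rk
    have : i - 1 + 1 = i := by omega
    rw [this]
  rw [h2]
  rfl

lemma rk_eq_zero_of_isZero (i : ℤ) (h : IsZero (D.X i)) : rk D i = 0 := by
  unfold rk
  have h0 : D.d i (i + 1) = 0 := h.eq_of_src _ _
  rw [h0]
  have : LinearMap.range (ModuleCat.Hom.hom (0 : D.X i ⟶ D.X (i + 1))) = ⊥ := by
    rw [ModuleCat.hom_zero, LinearMap.range_zero]
  rw [this, finrank_bot]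
  rfl

lemma rk_eq_zero_of_isZero' (i : ℤ) (h : IsZero (D.X (i + 1))) : rk D i = 0 := by
  unfold rk
  have h0 : D.d i (i + 1) = 0 := h.eq_of_tgt _ _
  rw [h0]
  have : LinearMap.range (ModuleCat.Hom.hom (0 : D.X i ⟶ D.X (i + 1))) = ⊥ := by
    rw [ModuleCat.hom_zero, LinearMap.range_zero]
  rw [this, finrank_bot]
  rfl

lemma finrank_eq_zero_of_isZero (M : ModuleCat.{u} k) (h : IsZero M) : finrank k M = 0 := by
  haveI := ModuleCat.subsingleton_of_isZero h
  exact finrank_zero_of_subsingleton

/-- the Euler–Poincaré formula -/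
theorem euler_poincare [∀ i, Module.Finite k (D.X i)] (a b : ℤ)
    (hv : ∀ i : ℤ, i < a ∨ b < i → IsZero (D.X i)) :
    ∑ᶠ i : ℤ, ((i.negOnePow : ℤ) * (finrank k (D.homology i) : ℤ)) =
      ∑ᶠ i : ℤ, ((i.negOnePow : ℤ) * (finrank k (D.X i) : ℤ)) := by
  have hX : ∀ i : ℤ, i ∉ Finset.Icc a b → (finrank k (D.X i) : ℤ) = 0 := by
    intro i hi
    rw [Finset.mem_Icc] at hi
    rw [finrank_eq_zero_of_isZero _ (hv i (by omega))]
    rfl
  have hr : ∀ i : ℤ, i ∉ Finset.Icc a b → rk D i = 0 := by
    intro i hi
    rw [Finset.mem_Icc] at hi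
    exact rk_eq_zero_of_isZero D i (hv i (by omega))
  have hr' : ∀ i : ℤ, i ∉ Finset.Icc (a + 1) (b + 1) → rk D (i - 1) = 0 := by
    intro i hi
    rw [Finset.mem_Icc] at hi
    exact hr (i - 1) (by rw [Finset.mem_Icc]; omega)
  set f1 : ℤ → ℤ := fun i => (i.negOnePow : ℤ) * (finrank k (D.X i) : ℤ) with hf1
  set f2 : ℤ → ℤ := fun i => (i.negOnePow : ℤ) * rk D i with hf2
  set f3 : ℤ → ℤ := fun i => (i.negOnePow : ℤ) * rk D (i - 1) with hf3
  have s1 : (Function.support f1).Finite := by
    apply (Finset.Icc a b).finite_toSet.subset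
    intro i hi
    by_contra h
    exact hi (by simp only [hf1]; rw [hX i h, mul_zero])
  have s2 : (Function.support f2).Finite := by
    apply (Finset.Icc a b).finite_toSet.subset
    intro i hi
    by_contra h
    exact hi (by simp only [hf2]; rw [hr i h, mul_zero])
  have s3 : (Function.support f3).Finite := by
    apply (Finset.Icc (a + 1) (b + 1)).finite_toSet.subset
    intro i hi
    by_contra h
    exact hi (by simp only [hf3]; rw [hr' i h, mul_zero])
  have e0 : (fun i : ℤ => (i.negOnePow : ℤ) * (finrank k (D.homology i) : ℤ)) =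
      fun i => f1 i - f2 i - f3 i := by
    funext i
    rw [finrank_homology_cx D i]
    simp only [hf1, hf2, hf3]
    ring
  have e3 : ∑ᶠ i : ℤ, f3 i = - ∑ᶠ i : ℤ, f2 i := by
    have h1 : ∑ᶠ i : ℤ, f3 i = ∑ᶠ j : ℤ, f3 (j + 1) :=
      (finsum_comp_equiv (Equiv.addRight (1 : ℤ))).symm
    rw [h1, ← finsum_neg_distrib]
    congr 1
    funext j
    simp only [hf3, hf2]
    rw [Int.negOnePow_succ, show j + 1 - 1 = j by omega]
    simp
  rw [e0]
  have s12 : (Function.support (fun i => f1 i - f2 i)).Finite :=
    (s1.union s2).subset (Function.support_sub f1 f2)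
  rw [finsum_sub_distrib s12 s3, finsum_sub_distrib s1 s2, e3]
  ring

end Groth.Agent.Helper5.EC
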