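import Groth.Agent.Lib.Helper13.LocFree
import Groth.Prelude.Def_PerfD

/-!
# The global sections functor on a one-point scheme is exact
-/

set_option autoImplicit false
set_option linter.unusedSectionVars false
set_option linter.unusedVariables false
set_option linter.style.haveILetI false

universe u

open CategoryTheory CategoryTheory.Limits AlgebraicGeometry HomologicalComplex Opposite
  TopologicalSpace

namespace Groth.Agent.Helper5.EC

open Groth.Agent.Helper13.QCoh Groth.Agent.Helper13.FinType Groth.Agent.Helper13.LocFree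

variable {S : Scheme.{u}}

/-- the global sections functor, to modules over the ring of global functions -/
noncomputable def Γfun (S : Scheme.{u}) : S.Modules ⥤ ModuleCat.{u} (Coh.Γtop S) :=
  Scheme.Modules.toPresheafOfModules S ⋙ PresheafOfModules.evaluation _ (op ⊤)

lemma opens_eq_top_of_mem (hS : ∀ y z : S, y = z) (U : S.Opens) (y : S) (hy : y ∈ U) : U = ⊤ := by
  ext z
  simp only [Opens.coe_top, Set.mem_univ, iff_true]
  rw [hS z y]
  exact hy

theorem app_top_surjective_of_epi (hS : ∀ y z : S, y = z) (y₀ : S) {M N : S.Modules} (p : M ⟶ N)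
    [Epi p] : Function.Surjective (p.app ⊤) := by
  intro t
  obtain ⟨a, ha⟩ := stalkMap_surjective_of_epi p y₀ (N.presheaf.germ ⊤ y₀ trivial t)
  obtain ⟨U, hyU, s, rfl⟩ := TopCat.Presheaf.exists_germ_eq M.presheaf a
  rw [stalkMap_germ] at ha
  obtain ⟨W, hyW, i₁, i₂, heq⟩ := TopCat.Presheaf.germ_eq N.presheaf y₀ hyU (show y₀ ∈ (⊤ : S.Opens) from trivial) _ _ ha
  have hU := opens_eq_top_of_mem hS U y₀ hyU
  subst hU
  have hW := opens_eq_top_of_mem hS W y₀ hyW
  subst hW
  have h1 : i₁ = 𝟙 _ := Subsingleton.elim _ _
  have h2 : i₂ = 𝟙 _ := Subsingleton.elim _ _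
  subst h1 h2
  refine ⟨s, ?_⟩
  simpa using heq

instance : (Scheme.Modules.toPresheafOfModules S).Additive :=
  inferInstanceAs (SheafOfModules.forget S.ringCatSheaf).Additive

instance : (Γfun S).Additive := by
  unfold Γfun
  infer_instance

noncomputable instance : PreservesLimits (Scheme.Modules.toPresheafOfModules S) :=
  (Adjunction.ofIsRightAdjoint (Scheme.Modules.toPresheafOfModules S)).rightAdjoint_preservesLimits

noncomputable instance : PreservesFiniteLimits (Γfun S) := by
  unfold Γfun
  infer_instance

/-- on a one-point scheme the global sections functor is exact -/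
theorem preservesHomology_Γfun (hS : ∀ y z : S, y = z) (y₀ : S) : (Γfun S).PreservesHomology := by
  haveI : (Γfun S).PreservesEpimorphisms := ⟨fun {M N} p hp => by
    rw [ModuleCat.epi_iff_surjective]
    intro t
    obtain ⟨s, hs⟩ := app_top_surjective_of_epi hS y₀ p t
    exact ⟨s, hs⟩⟩
  exact Functor.preservesHomology_of_preservesEpis_and_kernels _

end Groth.Agent.Helper5.EC
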