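import Groth.Agent.Lib.Helper5.EC1
import Groth.Agent.Lib.Helper5.EC2

/-!
# The Euler characteristic of a bounded complex of free modules on a one-point scheme
-/

set_option autoImplicit false
set_option linter.unusedSectionVars false
set_option linter.unusedVariables false
set_option linter.style.haveILetI false

universe u

open CategoryTheory CategoryTheory.Limits AlgebraicGeometry HomologicalComplex Opposite
  TopologicalSpace

namespace Groth.Agent.Helper5.EC

open Groth.Agent.Helper13.LocFree

variable {S : Scheme.{u}}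

lemma isZero_freeMod_zero' (S : Scheme.{u}) : IsZero (FlatMod.freeMod S 0) := by
  rw [IsZero.iff_id_eq_zero]
  apply Sigma.hom_ext
  intro i
  exact i.elim0

lemma finrank_Γfun_freeMod [Nontrivial Γ(S, ⊤)] (n : ℕ) :
    Module.finrank (Coh.Γtop S) ((Γfun S).obj (FlatMod.freeMod S n)) = n := by
  have e := (secLinearEquiv (X := S) n ⊤).symm
  have h := LinearEquiv.finrank_eq e
  rw [Module.finrank_fin_fun] at h
  exact h

lemma finite_Γfun_freeMod (n : ℕ) :
    Module.Finite (Coh.Γtop S) ((Γfun S).obj (FlatMod.freeMod S n)) := by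
  have h : Module.Finite Γ(S, ⊤) Γ(FlatMod.freeMod S n, ⊤) :=
    Module.Finite.equiv (secLinearEquiv (X := S) n ⊤)
  exact h

/-- the Euler characteristic of the cohomology of a bounded complex of free modules on a
one-point scheme -/
theorem euler_sections [IsDomain Γ(S, ⊤)] [IsNoetherianRing Γ(S, ⊤)] (hS : ∀ y z : S, y = z)
    (y₀ : S) (C : CochainComplex S.Modules ℤ) (a b : ℤ) (hv : DCoh.VanishesOutside C a b)
    (n : ℤ → ℕ) (hfree : ∀ i, Nonempty (C.X i ≅ FlatMod.freeMod S (n i))) :
    ∑ᶠ i : ℤ, ((i.negOnePow : ℤ) *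
        (Module.finrank (Coh.Γtop S) ((C.homology i).val.obj (op ⊤)) : ℤ)) =
      ∑ᶠ i : ℤ, ((i.negOnePow : ℤ) * (n i : ℤ)) := by
  haveI := preservesHomology_Γfun hS y₀
  haveI : Nontrivial (Coh.Γtop S) := inferInstanceAs (Nontrivial Γ(S, ⊤))
  haveI : HasRankNullity.{u} (Coh.Γtop S) := inferInstanceAs (HasRankNullity.{u} Γ(S, ⊤))
  haveI : StrongRankCondition (Coh.Γtop S) := inferInstanceAs (StrongRankCondition Γ(S, ⊤))
  haveI : IsNoetherianRing (Coh.Γtop S) := inferInstanceAs (IsNoetherianRing Γ(S, ⊤))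
  set D := ((Γfun S).mapHomologicalComplex (ComplexShape.up ℤ)).obj C with hD
  have hX : ∀ i, Module.finrank (Coh.Γtop S) (D.X i) = n i := by
    intro i
    obtain ⟨e⟩ := hfree i
    rw [← finrank_Γfun_freeMod (S := S) (n i)]
    exact LinearEquiv.finrank_eq ((Γfun S).mapIso e).toLinearEquiv
  haveI : ∀ i, Module.Finite (Coh.Γtop S) (D.X i) := by
    intro i
    obtain ⟨e⟩ := hfree i
    haveI := finite_Γfun_freeMod (S := S) (n i)
    exact Module.Finite.equiv ((Γfun S).mapIso e).toLinearEquiv.symm
  have hH : ∀ i, Module.finrank (Coh.Γtop S) (D.homology i) =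
      Module.finrank (Coh.Γtop S) ((C.homology i).val.obj (op ⊤)) := by
    intro i
    have e : D.homology i ≅ (Γfun S).obj (C.homology i) :=
      (C.sc i).mapHomologyIso (Γfun S)
    exact LinearEquiv.finrank_eq e.toLinearEquiv
  have hvD : ∀ i : ℤ, i < a ∨ b < i → IsZero (D.X i) :=
    fun i hi => (Γfun S).map_isZero (hv i hi)
  have h := euler_poincare D a b hvD
  simp only [hH, hX] at h
  exact h

end Groth.Agent.Helper5.EC
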