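import Mathlib

/-!
# Ring level lemmas for the fibre criterion

`φ : O → O'` a surjective ring homomorphism (the stalk map of the inclusion of a fibre): an
element of `O' ⊗_O M` of the form `1 ⊗ m` vanishes iff `m ∈ (ker φ) M`; exactness of
`O' ⊗ A → O' ⊗ B → O' ⊗ C` gives the injectivity modulo `ker φ` of `B / d A → C`.
-/

set_option autoImplicit false
set_option linter.unusedSectionVars false
set_option linter.unusedVariables false
set_option linter.style.haveILetI false

universe u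

open TensorProduct CategoryTheory

namespace Groth.Agent.Helper5.FBR

section
variable {O O' : Type u} [CommRing O] [CommRing O'] (φ : O →+* O') (hφ : Function.Surjective φ)
include hφ

/-- `1 ⊗ m = 0` in `O' ⊗_O M` iff `m ∈ (ker φ) M`, for `φ : O → O'` surjective -/
theorem one_tmul_eq_zero_iff (M : Type u) [AddCommGroup M] [Module O M] (m : M) :
    letI := φ.toAlgebra
    ((1 : O') ⊗ₜ[O] m = 0) ↔ m ∈ (RingHom.ker φ) • (⊤ : Submodule O M) := by
  letI := φ.toAlgebra
  constructor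
  · intro h
    let f : O →ₐ[O] O' := Algebra.ofId O O'
    have hf : Function.Surjective f := hφ
    let e₁ : (O ⧸ RingHom.ker f) ≃ₐ[O] O' := Ideal.quotientKerAlgEquivOfSurjective hf
    let e₂ : (O' ⊗[O] M) ≃ₗ[O] ((O ⧸ RingHom.ker f) ⊗[O] M) :=
      TensorProduct.congr e₁.symm.toLinearEquiv (LinearEquiv.refl O M)
    let e₃ := e₂ ≪≫ₗ TensorProduct.quotTensorEquivQuotSMul M (RingHom.ker f)
    have h1 : e₃ ((1 : O') ⊗ₜ[O] m) = Submodule.Quotient.mk m := by
      change TensorProduct.quotTensorEquivQuotSMul M (RingHom.ker f)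
        (e₂ ((1 : O') ⊗ₜ[O] m)) = _
      have : e₂ ((1 : O') ⊗ₜ[O] m) = (Ideal.Quotient.mk (RingHom.ker f) 1) ⊗ₜ[O] m := by
        change (e₁.symm 1) ⊗ₜ[O] m = _
        rw [map_one]
        rfl
      rw [this, TensorProduct.quotTensorEquivQuotSMul_mk_tmul, one_smul]
    rw [h, map_zero] at h1
    have h2 := (Submodule.Quotient.mk_eq_zero _).mp h1.symm
    exact h2
  · intro h
    refine Submodule.smul_induction_on h ?_ ?_
    · intro r hr n _
      have : φ r = 0 := hr
      rw [← TensorProduct.smul_tmul]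
      have h2 : r • (1 : O') = φ r * 1 := by
        rw [Algebra.smul_def]; rfl
      rw [h2, this, zero_mul, TensorProduct.zero_tmul]
    · intro x y hx hy
      rw [TensorProduct.tmul_add, hx, hy, add_zero]

/-- every element of `O' ⊗_O M` is of the form `1 ⊗ m`, for `φ` surjective -/
theorem exists_one_tmul (M : Type u) [AddCommGroup M] [Module O M] :
    letI := φ.toAlgebra
    ∀ t : O' ⊗[O] M, ∃ m : M, t = (1 : O') ⊗ₜ[O] m := by
  letI := φ.toAlgebra
  intro t
  induction t using TensorProduct.induction_on with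
  | zero => exact ⟨0, (TensorProduct.tmul_zero _ _).symm⟩
  | tmul o' m =>
    obtain ⟨r, rfl⟩ := hφ o'
    refine ⟨r • m, ?_⟩
    rw [← TensorProduct.smul_tmul]
    congr 1
    rw [Algebra.smul_def, mul_one]; rfl
  | add x y hx hy =>
    obtain ⟨m₁, rfl⟩ := hx
    obtain ⟨m₂, rfl⟩ := hy
    exact ⟨m₁ + m₂, (TensorProduct.tmul_add _ _ _).symm⟩

end

open scoped ChangeOfRings

/-- exactness of `O' ⊗ A → O' ⊗ B → O' ⊗ C` gives the injectivity modulo `ker φ` of
`B / d₁ A → C` -/
theorem rl_core {O O' : Type u} [CommRing O] [CommRing O'] (φ : O →+* O')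
    (hφ : Function.Surjective φ) {A B C : ModuleCat.{u} O} (d₁ : A ⟶ B) (d₂ : B ⟶ C)
    (w : (ModuleCat.extendScalars φ).map d₁ ≫ (ModuleCat.extendScalars φ).map d₂ = 0)
    (hex : (ShortComplex.mk _ _ w).Exact)
    (b : B) (hb : d₂ b ∈ RingHom.ker φ • (⊤ : Submodule O C)) :
    ∃ a : A, b - d₁ a ∈ RingHom.ker φ • (⊤ : Submodule O B) := by
  letI := φ.toAlgebra
  have h0 : ((ModuleCat.extendScalars φ).map d₂).hom
      ((1 : O') ⊗ₜ[O,φ] b : (ModuleCat.extendScalars φ).obj B) = 0 := by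
    refine (ModuleCat.ExtendScalars.map_tmul φ d₂ (1 : O') b).trans ?_
    exact (one_tmul_eq_zero_iff φ hφ C (d₂ b)).mpr hb
  obtain ⟨x₁, hx₁⟩ := (ShortComplex.moduleCat_exact_iff _).mp hex
    ((1 : O') ⊗ₜ[O,φ] b : (ModuleCat.extendScalars φ).obj B) h0
  obtain ⟨a, ha⟩ := exists_one_tmul φ hφ A x₁
  refine ⟨a, ?_⟩
  rw [← one_tmul_eq_zero_iff φ hφ B, TensorProduct.tmul_sub, sub_eq_zero]
  have h1 : ((ModuleCat.extendScalars φ).map d₁).hom
      ((1 : O') ⊗ₜ[O,φ] a : (ModuleCat.extendScalars φ).obj A) = (1 : O') ⊗ₜ[O,φ] (d₁ a) :=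
    ModuleCat.ExtendScalars.map_tmul φ d₁ (1 : O') a
  have h2 : ((ModuleCat.extendScalars φ).map d₁).hom x₁ = (1 : O') ⊗ₜ[O,φ] b := hx₁
  rw [ha] at h2
  exact h2.symm.trans h1

end Groth.Agent.Helper5.FBR
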