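import Groth.Agent.Lib.Helper5.FBR1
import Groth.Agent.Lib.Helper5.RPR3
import Groth.Agent.Lib.Helper7.StalkInjFlat
import Groth.Agent.Lib.Helper16.Sch.FibStalk
import Groth.Agent.Lib.Helper5.FPC1

/-!
# The fibre criterion for the flatness of a cokernel

Let `g : Y ⟶ S` be flat and locally of finite presentation, `A → B → C` a complex of finite locally
free modules on `Y`, `z` a point of the fibre `Y_s`.  If the pullback of the complex to the fibre is
exact at the stalk at `z`, then the cokernel of `B → C` is flat over `S` at the image of `z`.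
-/

set_option autoImplicit false
set_option linter.unusedSectionVars false
set_option linter.unusedVariables false
set_option linter.style.haveILetI false

universe u

open CategoryTheory CategoryTheory.Limits AlgebraicGeometry

namespace Groth.Agent.Helper5.FBR

open Groth.Agent.Helper5.StalkCx Groth.Agent.Helper5.RPR Groth.Agent.Helper5.Sky
  Groth.Agent.Helper13.QCoh Groth.Agent.Helper3.CohLenAdd Groth.Agent.Helper16.FibStalk
  Groth.Agent.Helper5.FPC

variable {Y S : Scheme.{u}} (g : Y ⟶ S) [LocallyOfFinitePresentation g] [Flat g]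

/-- a linear map sends `I • ⊤` into `I • ⊤` -/
lemma map_mem_smul_top {R M N : Type*} [CommRing R] [AddCommGroup M] [AddCommGroup N] [Module R M]
    [Module R N] (f : M →ₗ[R] N) (I : Ideal R) (m : M) (hm : m ∈ I • (⊤ : Submodule R M)) :
    f m ∈ I • (⊤ : Submodule R N) := by
  have h1 : f m ∈ (I • (⊤ : Submodule R M)).map f := Submodule.mem_map_of_mem hm
  rw [Submodule.map_smul''] at h1
  exact Submodule.smul_mono le_rfl le_top h1

theorem isFlatOverAt_cokernel_of_fibre_exact (T : ShortComplex Y.Modules)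
    (h₁ : FlatMod.IsFinLocFree T.X₁) (h₂ : FlatMod.IsFinLocFree T.X₂)
    (h₃ : FlatMod.IsFinLocFree T.X₃) (s : S) (z : g.fiber s)
    (hex : (T.map (Scheme.Modules.pullback (g.fiberι s) ⋙
      DerSch.stalkFunctor (g.fiber s) z)).Exact) :
    FlatMod.IsFlatOverAt g (cokernel T.g) ((g.fiberι s).base z) := by
  set ι := g.fiberι s with hι
  set x := ι.base z with hx
  have hφ : Function.Surjective (Sky.φst ι z) := stalkMap_fiberι_surjective g s z
  have hker : RingHom.ker (Sky.φst ι z) =
      Ideal.map (g.stalkMap x).hom (IsLocalRing.maximalIdeal (S.presheaf.stalk (g.base x))) :=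
    ker_stalkMap_fiberι g s z
  have hex2 : (T.map (DerSch.stalkFunctor Y x ⋙ ModuleCat.extendScalars (Sky.φst ι z))).Exact :=
    (ShortComplex.exact_iff_of_iso (T.mapNatIso (Sky.pullbackStalkIso ι z))).mp hex
  -- the ring level statement
  have key : ∀ b : T.X₂.presheaf.stalk x,
      stalkMap T.g x b ∈ (RingHom.ker (Sky.φst ι z)) •
        (⊤ : Submodule (Y.presheaf.stalk x) (T.X₃.presheaf.stalk x)) →
      ∃ a : T.X₁.presheaf.stalk x, b - stalkMap T.f x a ∈ (RingHom.ker (Sky.φst ι z)) •
        (⊤ : Submodule (Y.presheaf.stalk x) (T.X₂.presheaf.stalk x)) := by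
    intro b hb
    exact rl_core (Sky.φst ι z) hφ ((DerSch.stalkFunctor Y x).map T.f)
      ((DerSch.stalkFunctor Y x).map T.g) (T.map (DerSch.stalkFunctor Y x ⋙
        ModuleCat.extendScalars (Sky.φst ι z))).zero hex2 b hb
  -- the modules
  haveI := isQuasicoherent_of_isFinLocFree _ h₁
  haveI := isQuasicoherent_of_isFinLocFree _ h₂
  haveI := isQuasicoherent_of_isFinLocFree _ h₃
  haveI : (cokernel T.f).IsQuasicoherent :=
    Groth.Agent.Helper13.QCohLocal.isQuasicoherent_cokernel _
  haveI : SheafOfModules.IsFinitePresentation (R := Y.ringCatSheaf) (cokernel T.f) :=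
    isFinitePresentation_cokernel T.f h₁ h₂
  haveI : SheafOfModules.IsFinitePresentation (R := Y.ringCatSheaf) T.X₃ :=
    Groth.Agent.Helper13.LocFree.isFinitePresentation_of_isFinLocFree _ h₃
  set u : cokernel T.f ⟶ T.X₃ := cokernel.desc T.f T.g T.zero with hu
  have hflat : FlatMod.IsFlatOverAt g T.X₃ x :=
    (isFlatOverAt_iff g T.X₃ x).mpr (flat_stalkOver_of_isFinLocFree g T.X₃ h₃ x)
  have hmain := (Groth.Agent.Helper7.StalkInjFlat.main g T.X₃ (cokernel T.f)
    (hF' := isFinitePresentation_cokernel T.f h₁ h₂) u x hflat).mpr (by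
    intro m hm
    obtain ⟨b, rfl⟩ := Groth.Agent.Helper13.FinType.stalkMap_surjective_of_epi
      (cokernel.π T.f) x m
    rw [← stalkMap_comp, hu, cokernel.π_desc, ← hker] at hm
    obtain ⟨a, ha⟩ := key b hm
    have h0 : stalkMap (cokernel.π T.f) x (stalkMap T.f x a) = 0 := by
      rw [← stalkMap_comp, cokernel.condition, stalkMap_zero]
    have h1 : stalkMap (cokernel.π T.f) x b = stalkLin (cokernel.π T.f) x (b - stalkMap T.f x a) := by
      rw [stalkLin_apply, map_sub, h0, sub_zero]
    rw [h1, ← hker]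
    exact map_mem_smul_top _ _ _ ha)
  have e : cokernel u ≅ cokernel T.g :=
    (cokernelEpiComp (cokernel.π T.f) u).symm ≪≫ cokernelIsoOfEq (cokernel.π_desc _ _ _)
  exact isFlatOverAt_of_iso g e x hmain.2

end Groth.Agent.Helper5.FBR
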