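import Groth.Agent.Lib.Helper5.RPR4
import Groth.Agent.Lib.Helper5.StalkCx3

/-!
# Vanishing of cohomology sheaves at a point; fibres of opens
-/

set_option autoImplicit false
set_option linter.unusedSectionVars false
set_option linter.unusedVariables false
set_option linter.style.haveILetI false

universe u

open CategoryTheory CategoryTheory.Limits AlgebraicGeometry

namespace Groth.Agent.Helper5.FBR

open Groth.Agent.Helper5.StalkCx Groth.Agent.Helper5.RPR Groth.Agent.Helper5.Sky
  Groth.Agent.Helper5.RT Groth.Agent.Helper5.KF Groth.Agent.Helper5.LDer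

section StalkZ

variable {X : Scheme.{u}}

/-- the cohomology sheaf `H^i(C)` vanishes at the point `x` -/
def StalkZ (C : CochainComplex X.Modules ℤ) (i : ℤ) (x : X) : Prop :=
  IsZero ((DerSch.stalkFunctor X x).obj (C.homology i))

lemma StalkZ.of_homologyIso {C C' : CochainComplex X.Modules ℤ} {i : ℤ} {x : X}
    (e : C.homology i ≅ C'.homology i) (h : StalkZ C i x) : StalkZ C' i x :=
  IsZero.of_iso h ((DerSch.stalkFunctor X x).mapIso e.symm)

lemma StalkZ.of_iso {C C' : CochainComplex X.Modules ℤ} {i : ℤ} {x : X}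
    (e : C ≅ C') (h : StalkZ C i x) : StalkZ C' i x :=
  h.of_homologyIso ((HomologicalComplex.homologyFunctor _ _ i).mapIso e)

lemma stalkZ_of_isZero_homology (C : CochainComplex X.Modules ℤ) (i : ℤ) (x : X)
    (h : IsZero (C.homology i)) : StalkZ C i x :=
  (DerSch.stalkFunctor X x).map_isZero h

/-- vanishing at a point gives the exactness of the stalk of the complex -/
lemma StalkZ.exact_map_sc' {C : CochainComplex X.Modules ℤ} {i : ℤ} {x : X} (h : StalkZ C i x)
    (i' i'' : ℤ) (hi' : i' + 1 = i) (hi'' : i + 1 = i'') :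
    ((C.sc' i' i i'').map (DerSch.stalkFunctor X x)).Exact := by
  rw [ShortComplex.exact_iff_isZero_homology]
  have e1 : ((C.sc' i' i i'').map (DerSch.stalkFunctor X x)).homology ≅
      (DerSch.stalkFunctor X x).obj (C.sc' i' i i'').homology :=
    (C.sc' i' i i'').mapHomologyIso (DerSch.stalkFunctor X x)
  have e2 : (C.sc' i' i i'').homology ≅ C.homology i :=
    (C.homologyIsoSc' i' i i'' (by simp; omega) (by simp; omega)).symm
  exact IsZero.of_iso h (e1 ≪≫ (DerSch.stalkFunctor X x).mapIso e2)

variable {U : Scheme.{u}} (j : U ⟶ X) [IsOpenImmersion j]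

/-- the stalk of a restriction vanishes iff the stalk vanishes -/
lemma isZero_stalk_restrict_iff (M : X.Modules) (y : U) :
    IsZero ((DerSch.stalkFunctor U y).obj ((Scheme.Modules.restrictFunctor j).obj M)) ↔
      IsZero ((DerSch.stalkFunctor X (j.base y)).obj M) := by
  have e := (restrictStalkIso j y).app M
  constructor
  · intro h
    have h1 : IsZero ((ModuleCat.extendScalars (Sky.φst j y)).obj
        ((DerSch.stalkFunctor X (j.base y)).obj M)) := IsZero.of_iso h e.symm
    haveI hs1 := ModuleCat.subsingleton_of_isZero h1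
    haveI : Subsingleton ((ModuleCat.restrictScalars (Sky.φst j y)).obj
        ((ModuleCat.extendScalars (Sky.φst j y)).obj
          ((DerSch.stalkFunctor X (j.base y)).obj M))) := hs1
    have eq := rsEsEquiv (RingHom.id _) (Sky.φst j y) (bijective_φst j y) (Sky.φst j y)
      (fun r => rfl) ((DerSch.stalkFunctor X (j.base y)).obj M)
    haveI : Subsingleton ((ModuleCat.restrictScalars (RingHom.id _)).obj
        ((DerSch.stalkFunctor X (j.base y)).obj M)) := eq.toEquiv.subsingleton
    haveI : Subsingleton ((DerSch.stalkFunctor X (j.base y)).obj M) := this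
    exact ModuleCat.isZero_of_subsingleton _
  · intro h
    exact IsZero.of_iso ((ModuleCat.extendScalars (Sky.φst j y)).map_isZero h) e

lemma stalkZ_restrict_iff (C : CochainComplex X.Modules ℤ) (i : ℤ) (y : U) :
    StalkZ ((rCx j).obj C) i y ↔ StalkZ C i (j.base y) := by
  have e : ((rCx j).obj C).homology i ≅ (Scheme.Modules.restrictFunctor j).obj (C.homology i) :=
    (C.sc i).mapHomologyIso (Scheme.Modules.restrictFunctor j)
  unfold StalkZ
  rw [← isZero_stalk_restrict_iff j (C.homology i) y]
  exact ⟨fun h => IsZero.of_iso h ((DerSch.stalkFunctor U y).mapIso e.symm),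
    fun h => IsZero.of_iso h ((DerSch.stalkFunctor U y).mapIso e)⟩

end StalkZ

section Fibre

variable {X S : Scheme.{u}} (f : X ⟶ S) (V : X.Opens) (s : S)

/-- the open immersion of the fibre of `V` into the fibre of `X` -/
noncomputable def fibreIncl : (V.ι ≫ f).fiber s ⟶ f.fiber s :=
  pullback.map (V.ι ≫ f) (S.fromSpecResidueField s) f (S.fromSpecResidueField s) V.ι (𝟙 _) (𝟙 _)
    (by simp) (by simp)

instance : IsOpenImmersion (fibreIncl f V s) := by
  unfold fibreIncl
  exact Scheme.pullback_map_isOpenImmersion _ _ _ _ _ _ _ _ _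

lemma fibreIncl_fiberι : fibreIncl f V s ≫ f.fiberι s = (V.ι ≫ f).fiberι s ≫ V.ι :=
  pullback.lift_fst _ _ _

/-- pullback to the fibres commutes with restriction to opens -/
noncomputable def fibreRestrictIso :
    Scheme.Modules.restrictFunctor V.ι ⋙ Scheme.Modules.pullback ((V.ι ≫ f).fiberι s) ≅
      Scheme.Modules.pullback (f.fiberι s) ⋙ Scheme.Modules.restrictFunctor (fibreIncl f V s) :=
  Functor.isoWhiskerRight (Scheme.Modules.restrictFunctorIsoPullback V.ι) _ ≪≫
    Scheme.Modules.pullbackComp ((V.ι ≫ f).fiberι s) V.ι ≪≫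
    Scheme.Modules.pullbackCongr (fibreIncl_fiberι f V s).symm ≪≫
    (Scheme.Modules.pullbackComp (fibreIncl f V s) (f.fiberι s)).symm ≪≫
    Functor.isoWhiskerLeft _ (Scheme.Modules.restrictFunctorIsoPullback (fibreIncl f V s)).symm

/-- a point of `V` lifts to the fibre of `V` -/
lemma exists_fibre_point (x : X) (hx : x ∈ V) (hs : f.base x = s) :
    ∃ z : (V.ι ≫ f).fiber s, ((V.ι ≫ f).fiberι s).base z = ⟨x, hx⟩ := by
  have h : (⟨x, hx⟩ : V) ∈ Set.range ((V.ι ≫ f).fiberι s).base := by
    rw [Scheme.Hom.range_fiberι]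
    exact hs
  exact h

end Fibre

end Groth.Agent.Helper5.FBR
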