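import Groth.Agent.Lib.Helper5.LDer4

/-!
# The derived pullback exists
-/

set_option autoImplicit false
set_option linter.unusedSectionVars false
set_option linter.unusedVariables false
set_option linter.style.haveILetI false

universe u

open CategoryTheory CategoryTheory.Limits AlgebraicGeometry

attribute [local instance] HasDerivedCategory.standard

namespace Groth.Agent.Helper5.LDer

variable {X Y : Scheme.{u}} (f : X ⟶ Y)

lemma isIso_Qh_quotient_map {Z : Scheme.{u}} {K L : CochainComplex Z.Modules ℤ} (g : K ⟶ L)
    (hg : QuasiIso g) :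
    IsIso (DerivedCategory.Qh.map ((HomotopyCategory.quotient Z.Modules (ComplexShape.up ℤ)).map g)) := by
  have : IsIso ((HomotopyCategory.quotient Z.Modules (ComplexShape.up ℤ) ⋙
      DerivedCategory.Qh).map g) :=
    (NatIso.isIso_map_iff (DerivedCategory.quotientCompQhIso Z.Modules) g).mpr inferInstance
  exact this

lemma invertsKFlatQis_pullKh :
    InvertsKFlatQis (HomotopyCategory.quotient Y.Modules (ComplexShape.up ℤ) ⋙ DCoh.pullKh f) := by
  intro K L g hg hK hL
  have h := Sky.quasiIso_pullback_of_kflat f g hg hK hL
  exact isIso_Qh_quotient_map _ h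

theorem hasLpull : DCoh.HasLpull f :=
  hasLeftDerivedFunctor_K (DCoh.pullKh f) (invertsKFlatQis_pullKh f)

end Groth.Agent.Helper5.LDer
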