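import Groth.Agent.Lib.Helper5.PCT1
import Groth.Agent.Lib.Helper5.PCM3

/-!
# Connectedness of the third map of a morphism of distinguished triangles
-/

set_option autoImplicit false
set_option linter.unusedSectionVars false
set_option linter.unusedVariables false
set_option linter.style.haveILetI false

universe v u

open CategoryTheory CategoryTheory.Limits AlgebraicGeometry Pretriangulated

attribute [local instance] HasDerivedCategory.standard

namespace Groth.Agent.Helper5.PCT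

section Four

variable {𝒜 : Type u} [Category.{v} 𝒜] [Abelian 𝒜]

theorem epi_four {A₀ A₁ A₂ A₃ B₀ B₁ B₂ B₃ : 𝒜} (f₀ : A₀ ⟶ A₁) (f₁ : A₁ ⟶ A₂) (f₂ : A₂ ⟶ A₃)
    (g₀ : B₀ ⟶ B₁) (g₁ : B₁ ⟶ B₂) (g₂ : B₂ ⟶ B₃)
    (a₀ : A₀ ⟶ B₀) (a₁ : A₁ ⟶ B₁) (a₂ : A₂ ⟶ B₂) (a₃ : A₃ ⟶ B₃)
    (w₀ : f₀ ≫ a₁ = a₀ ≫ g₀) (w₁ : f₁ ≫ a₂ = a₁ ≫ g₁) (w₂ : f₂ ≫ a₃ = a₂ ≫ g₂)
    (zf : f₁ ≫ f₂ = 0) (hf : (ShortComplex.mk f₁ f₂ zf).Exact)
    (zg : g₀ ≫ g₁ = 0) (hg : (ShortComplex.mk g₀ g₁ zg).Exact) (zg' : g₁ ≫ g₂ = 0)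
    (h₀ : Epi a₀) (h₂ : Epi a₂) (h₃ : Mono a₃) : Epi a₁ :=
  Abelian.epi_of_epi_of_epi_of_mono'
    (ComposableArrows.homMk₃ a₀ a₁ a₂ a₃ w₀ w₁ w₂ :
      ComposableArrows.mk₃ f₀ f₁ f₂ ⟶ ComposableArrows.mk₃ g₀ g₁ g₂)
    hf.exact_toComposableArrows hg.exact_toComposableArrows zg' h₀ h₂ h₃

theorem mono_four {A₀ A₁ A₂ A₃ B₀ B₁ B₂ B₃ : 𝒜} (f₀ : A₀ ⟶ A₁) (f₁ : A₁ ⟶ A₂) (f₂ : A₂ ⟶ A₃)
    (g₀ : B₀ ⟶ B₁) (g₁ : B₁ ⟶ B₂) (g₂ : B₂ ⟶ B₃)
    (a₀ : A₀ ⟶ B₀) (a₁ : A₁ ⟶ B₁) (a₂ : A₂ ⟶ B₂) (a₃ : A₃ ⟶ B₃)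
    (w₀ : f₀ ≫ a₁ = a₀ ≫ g₀) (w₁ : f₁ ≫ a₂ = a₁ ≫ g₁) (w₂ : f₂ ≫ a₃ = a₂ ≫ g₂)
    (zf' : f₀ ≫ f₁ = 0)
    (zf : f₁ ≫ f₂ = 0) (hf : (ShortComplex.mk f₁ f₂ zf).Exact)
    (zg : g₀ ≫ g₁ = 0) (hg : (ShortComplex.mk g₀ g₁ zg).Exact)
    (h₀ : Epi a₀) (h₁ : Mono a₁) (h₃ : Mono a₃) : Mono a₂ :=
  Abelian.mono_of_epi_of_mono_of_mono'
    (ComposableArrows.homMk₃ a₀ a₁ a₂ a₃ w₀ w₁ w₂ :
      ComposableArrows.mk₃ f₀ f₁ f₂ ⟶ ComposableArrows.mk₃ g₀ g₁ g₂)
    zf' hf.exact_toComposableArrows hg.exact_toComposableArrows h₀ h₁ h₃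

end Four

open Groth.Agent.Helper5.PC DerivedCategory

variable {X : Scheme.{u}}

lemma _root_.Groth.Agent.Helper5.PC.IsConn.epi {m : ℤ} {A B : DCoh.D X} {α : A ⟶ B} (h : IsConn m α) (i : ℤ) (hi : m ≤ i) :
    Epi ((DerivedCategory.homologyFunctor X.Modules i).map α) := by
  rcases hi.lt_or_eq with h' | rfl
  · haveI := h.1 i h'
    infer_instance
  · exact h.2

lemma _root_.Groth.Agent.Helper5.PC.IsConn.mono {m : ℤ} {A B : DCoh.D X} {α : A ⟶ B} (h : IsConn m α) (i : ℤ) (hi : m < i) :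
    Mono ((DerivedCategory.homologyFunctor X.Modules i).map α) := by
  haveI := h.1 i hi
  infer_instance

lemma _root_.Groth.Agent.Helper5.PC.IsConn.comp {m : ℤ} {A B C : DCoh.D X} {α : A ⟶ B} {β : B ⟶ C} (hα : IsConn m α)
    (hβ : IsConn m β) : IsConn m (α ≫ β) := by
  refine ⟨fun i hi => ?_, ?_⟩
  · haveI := hα.1 i hi
    haveI := hβ.1 i hi
    rw [Functor.map_comp]
    infer_instance
  · haveI := hα.2
    haveI := hβ.2
    rw [Functor.map_comp]
    infer_instance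

lemma isConn_of_isIso {m : ℤ} {A B : DCoh.D X} (α : A ⟶ B) [IsIso α] : IsConn m α :=
  ⟨fun i hi => inferInstance, inferInstance⟩

lemma _root_.Groth.Agent.Helper5.PC.IsConn.of_le {m m' : ℤ} (h : m ≤ m') {A B : DCoh.D X} {α : A ⟶ B} (hα : IsConn m α) :
    IsConn m' α :=
  ⟨fun i hi => hα.1 i (by omega), hα.epi m' h⟩

/-- connectedness of the image of a morphism of complexes in the derived category -/
lemma isConn_Q_map_iff {A B : CochainComplex X.Modules ℤ} (β : A ⟶ B) (m : ℤ) :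
    IsConn m (DerivedCategory.Q.map β) ↔
      (∀ i : ℤ, m < i → IsIso (HomologicalComplex.homologyMap β i)) ∧
        Epi (HomologicalComplex.homologyMap β m) := by
  constructor
  · intro h
    refine ⟨fun i hi => ?_, (PCM.epi_HD_map_iff β m).mp h.2⟩
    rw [← quasiIsoAt_iff_isIso_homologyMap]
    exact (PCM.isIso_HD_map_iff β i).mp (h.1 i hi)
  · intro h
    refine ⟨fun i hi => ?_, (PCM.epi_HD_map_iff β m).mpr h.2⟩
    rw [PCM.isIso_HD_map_iff, quasiIsoAt_iff_isIso_homologyMap]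
    exact h.1 i hi

/-- the third component of a morphism of distinguished triangles whose first component is
`(m + 1)`-connected and whose second component is `m`-connected is `m`-connected -/
theorem isConn_hom₃ (T T' : Triangle (DCoh.D X)) (hT : T ∈ distTriang (DCoh.D X))
    (hT' : T' ∈ distTriang (DCoh.D X)) (φ : T ⟶ T') (m : ℤ)
    (h₁ : IsConn (m + 1) φ.hom₁) (h₂ : IsConn m φ.hom₂) : IsConn m φ.hom₃ := by
  have comm₁ : ∀ i : ℤ, (homologyFunctor X.Modules i).map T.mor₁ ≫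
      (homologyFunctor X.Modules i).map φ.hom₂ =
      (homologyFunctor X.Modules i).map φ.hom₁ ≫ (homologyFunctor X.Modules i).map T'.mor₁ := by
    intro i
    rw [← Functor.map_comp, ← Functor.map_comp, φ.comm₁]
  have comm₂ : ∀ i : ℤ, (homologyFunctor X.Modules i).map T.mor₂ ≫
      (homologyFunctor X.Modules i).map φ.hom₃ =
      (homologyFunctor X.Modules i).map φ.hom₂ ≫ (homologyFunctor X.Modules i).map T'.mor₂ := by
    intro i
    rw [← Functor.map_comp, ← Functor.map_comp, φ.comm₂]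
  have comm₃ : ∀ i : ℤ, HomologySequence.δ T i (i + 1) rfl ≫
      (homologyFunctor X.Modules (i + 1)).map φ.hom₁ =
      (homologyFunctor X.Modules i).map φ.hom₃ ≫ HomologySequence.δ T' i (i + 1) rfl := by
    intro i
    exact ((homologyFunctor X.Modules 0).homologySequenceδ_naturality T T' φ i (i + 1) rfl).symm
  have hepi : ∀ i : ℤ, m ≤ i → Epi ((homologyFunctor X.Modules i).map φ.hom₃) := by
    intro i hi
    exact epi_four ((homologyFunctor X.Modules i).map T.mor₂) (HomologySequence.δ T i (i + 1) rfl)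
      ((homologyFunctor X.Modules (i + 1)).map T.mor₁)
      ((homologyFunctor X.Modules i).map T'.mor₂) (HomologySequence.δ T' i (i + 1) rfl)
      ((homologyFunctor X.Modules (i + 1)).map T'.mor₁)
      ((homologyFunctor X.Modules i).map φ.hom₂) ((homologyFunctor X.Modules i).map φ.hom₃)
      ((homologyFunctor X.Modules (i + 1)).map φ.hom₁)
      ((homologyFunctor X.Modules (i + 1)).map φ.hom₂)
      (comm₂ i) (comm₃ i) (comm₁ (i + 1))
      (HomologySequence.δ_comp T hT i (i + 1) rfl) (HomologySequence.exact₁ T hT i (i + 1) rfl)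
      (HomologySequence.comp_δ T' hT' i (i + 1) rfl) (HomologySequence.exact₃ T' hT' i (i + 1) rfl)
      (HomologySequence.δ_comp T' hT' i (i + 1) rfl)
      (h₂.epi i hi) (h₁.epi (i + 1) (by omega)) (h₂.mono (i + 1) (by omega))
  have hmono : ∀ i : ℤ, m < i → Mono ((homologyFunctor X.Modules i).map φ.hom₃) := by
    intro i hi
    have z1 : (homologyFunctor X.Modules i).map T.mor₁ ≫
        (homologyFunctor X.Modules i).map T.mor₂ = 0 := by
      rw [← Functor.map_comp, comp_distTriang_mor_zero₁₂ _ hT, Functor.map_zero]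
    have z2 : (homologyFunctor X.Modules i).map T'.mor₁ ≫
        (homologyFunctor X.Modules i).map T'.mor₂ = 0 := by
      rw [← Functor.map_comp, comp_distTriang_mor_zero₁₂ _ hT', Functor.map_zero]
    exact mono_four ((homologyFunctor X.Modules i).map T.mor₁)
      ((homologyFunctor X.Modules i).map T.mor₂) (HomologySequence.δ T i (i + 1) rfl)
      ((homologyFunctor X.Modules i).map T'.mor₁)
      ((homologyFunctor X.Modules i).map T'.mor₂) (HomologySequence.δ T' i (i + 1) rfl)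
      ((homologyFunctor X.Modules i).map φ.hom₁) ((homologyFunctor X.Modules i).map φ.hom₂)
      ((homologyFunctor X.Modules i).map φ.hom₃)
      ((homologyFunctor X.Modules (i + 1)).map φ.hom₁)
      (comm₁ i) (comm₂ i) (comm₃ i) z1
      (HomologySequence.comp_δ T hT i (i + 1) rfl) (HomologySequence.exact₃ T hT i (i + 1) rfl)
      z2 (HomologySequence.exact₂ T' hT' i)
      (h₁.epi i (by omega)) (h₂.mono i hi) (h₁.mono (i + 1) (by omega))
  refine ⟨fun i hi => ?_, hepi m le_rfl⟩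
  haveI := hepi i hi.le
  haveI := hmono i hi
  exact isIso_of_mono_of_epi _

end Groth.Agent.Helper5.PCT
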