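import Groth.Agent.Lib.Helper5.FBR3
import Groth.Agent.Lib.Helper5.PC3
import Groth.Agent.Lib.Helper5.PCT2
import Groth.Agent.Lib.Helper5.LDer5

/-!
# From boundedness below in the derived category to vanishing of cohomology sheaves
-/

set_option autoImplicit false
set_option linter.unusedSectionVars false
set_option linter.unusedVariables false
set_option linter.style.haveILetI false

universe u

open CategoryTheory CategoryTheory.Limits AlgebraicGeometry

attribute [local instance] HasDerivedCategory.standard

namespace Groth.Agent.Helper5.FBR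

open Groth.Agent.Helper5.StalkCx Groth.Agent.Helper5.RPR Groth.Agent.Helper5.Sky
  Groth.Agent.Helper5.RT Groth.Agent.Helper5.KF Groth.Agent.Helper5.LDer Groth.Agent.Helper5.PC
  Groth.Agent.Helper5.PCT

variable {X Y : Scheme.{u}}

/-- pulling back a connected chain map between K-flat complexes -/
theorem isConn_Q_map_pullback (f : X ⟶ Y) {K L : CochainComplex Y.Modules ℤ} (φ : K ⟶ L)
    (hK : DCoh.IsKFlat K) (hL : DCoh.IsKFlat L) (m : ℤ)
    (h : IsConn m (DerivedCategory.Q.map φ)) :
    IsConn m (DerivedCategory.Q.map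
      (((Scheme.Modules.pullback f).mapHomologicalComplex (ComplexShape.up ℤ)).map φ)) := by
  haveI := hasLpull f
  have h1 := isConn_Lpull_map f (DerivedCategory.Q.map φ) m h
  refine h1.of_arrow_iso (Arrow.isoMk (LpullObjIso f K hK) (LpullObjIso f L hL) ?_)
  exact (LpullObjIso_hom_naturality f φ hK hL).symm

/-- a connected chain map induces isomorphisms of the cohomology sheaves in high degrees -/
noncomputable def homologyIsoOfIsConn {K L : CochainComplex X.Modules ℤ} (φ : K ⟶ L) (m : ℤ)
    (h : IsConn m (DerivedCategory.Q.map φ)) (i : ℤ) (hi : m < i) :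
    K.homology i ≅ L.homology i :=
  haveI := ((isConn_Q_map_iff φ m).mp h).1 i hi
  asIso (HomologicalComplex.homologyMap φ i)

/-- boundedness below of a restriction gives exactness of the restricted complex -/
theorem exactAt_restrict_of_isGE (E : DCoh.D X) (G : CochainComplex X.Modules ℤ)
    (eG : DerivedCategory.Q.obj G ≅ E) (V : X.Opens) (a : ℤ)
    (h : ((DCoh.restrictD V.ι).obj E).IsGE a) (i : ℤ) (hi : i < a) :
    ((DCoh.restrictCx V).obj G).ExactAt i := by
  have e : (DCoh.restrictD V.ι).obj E ≅ DerivedCategory.Q.obj ((DCoh.restrictCx V).obj G) :=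
    (DCoh.restrictD V.ι).mapIso eG.symm ≪≫
      (Scheme.Modules.restrictFunctor V.ι).mapDerivedCategoryFactors.app G
  haveI := h
  have h1 : (DerivedCategory.Q.obj ((DCoh.restrictCx V).obj G)).IsGE a :=
    DerivedCategory.TStructure.t.isGE_of_iso e a
  rw [DerivedCategory.isGE_Q_obj_iff, CochainComplex.isGE_iff] at h1
  exact h1 i hi

/-- boundedness below of a restriction of the derived pullback gives the vanishing of the
cohomology sheaves of the pullback of a K-flat representative -/
theorem stalkZ_pullback_of_isGE (f : X ⟶ Y) [DCoh.HasLpull f] (E : DCoh.D Y)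
    (G : CochainComplex Y.Modules ℤ) (hG : DCoh.IsKFlat G)
    (eG : DerivedCategory.Q.obj G ≅ E) (W : X.Opens) (a : ℤ)
    (h : ((DCoh.restrictD W.ι).obj ((DCoh.Lpull f).obj E)).IsGE a) (i : ℤ) (hi : i < a)
    (y : X) (hy : y ∈ W) :
    StalkZ (((Scheme.Modules.pullback f).mapHomologicalComplex (ComplexShape.up ℤ)).obj G) i y := by
  have e : DerivedCategory.Q.obj
      (((Scheme.Modules.pullback f).mapHomologicalComplex (ComplexShape.up ℤ)).obj G) ≅
      (DCoh.Lpull f).obj E := (LpullObjIso f G hG).symm ≪≫ (DCoh.Lpull f).mapIso eG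
  have h1 := exactAt_restrict_of_isGE _ _ e W a h i hi
  rw [HomologicalComplex.exactAt_iff_isZero_homology] at h1
  exact (stalkZ_restrict_iff W.ι _ i ⟨y, hy⟩).mp (stalkZ_of_isZero_homology _ i _ h1)

end Groth.Agent.Helper5.FBR
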