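import Groth.Agent.Lib.Helper5.RPR4
import Groth.Agent.Lib.Helper5.PCT6

/-!
# Pseudo-coherent complexes of locally finite stalkwise relative tor amplitude are locally
represented by bounded complexes of modules flat over the base
-/

set_option autoImplicit false
set_option linter.unusedSectionVars false
set_option linter.unusedVariables false
set_option linter.style.haveILetI false

universe u

open CategoryTheory CategoryTheory.Limits HomologicalComplex Pretriangulated AlgebraicGeometry

attribute [local instance] HasDerivedCategory.standard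

namespace Groth.Agent.Helper5.RPR

open DerivedCategory CochainComplex Groth.Agent.Helper5.LDer Groth.Agent.Helper5.KRes
  Groth.Agent.Helper13.LocFree Groth.Agent.Helper5.RT Groth.Agent.Helper5.StalkCx
  Groth.Agent.Helper5.FPC Groth.Agent.Helper11 Groth.Agent.Helper5.RPF Groth.Agent.Helper5.KF
  Groth.Agent.Helper5.PC Groth.Agent.Helper5.PCT

variable {X S : Scheme.{u}} (f : X ⟶ S)

/-- the homology of the relative stalk complex vanishes outside the tor amplitude -/
lemma exactAt_stalkCx_of_torVan (G : CochainComplex X.Modules ℤ) (a b : ℤ) (y : X)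
    (h : TA.TorVan a b (DRing.toD ((DerSch.stalkCxOver f y).obj G))) (i : ℤ)
    (hi : i < a ∨ b < i) : IsZero ((stalkCx y G).homology i) := by
  obtain ⟨P', c, hc, hp, ⟨e⟩, hv⟩ := h
  have h1 : IsZero ((homologyFunctor (ModuleCat.{u} (S.presheaf.stalk (f.base y))) i).obj
      (DRing.toD ((DerSch.stalkCxOver f y).obj G))) :=
    IsZero.of_iso (TA.isZero_homology_of_torVanCx P' hv i hi)
      ((homologyFunctor _ i).mapIso e.symm)
  have h2 : IsZero (((DerSch.stalkCxOver f y).obj G).homology i) :=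
    IsZero.of_iso h1 ((homologyFunctorFactors _ i).app _).symm
  have h3 : IsZero ((ModuleCat.restrictScalars (f.stalkMap y).hom).obj ((stalkCx y G).homology i)) :=
    IsZero.of_iso h2 (((stalkCx y G).sc i).mapHomologyIso
      (ModuleCat.restrictScalars (f.stalkMap y).hom)).symm
  have h4 : Subsingleton ((ModuleCat.restrictScalars (f.stalkMap y).hom).obj
      ((stalkCx y G).homology i)) := ModuleCat.subsingleton_of_isZero h3
  haveI : Subsingleton ((stalkCx y G).homology i) := h4
  exact ModuleCat.isZero_of_subsingleton _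

/-- exactness outside the stalkwise relative tor amplitude -/
lemma exactAt_of_torVan_stalkCxOver (G : CochainComplex X.Modules ℤ) (a b : ℤ)
    (h : ∀ y : X, TA.TorVan a b (DRing.toD ((DerSch.stalkCxOver f y).obj G))) (i : ℤ)
    (hi : i < a ∨ b < i) : G.ExactAt i := by
  rw [HomologicalComplex.exactAt_iff_isZero_homology]
  exact isZero_homology_of_stalks G i (fun y => exactAt_stalkCx_of_torVan f G a b y (h y) i hi)

/-- **Key step**: a complex which is `(a-1)`-pseudo-coherent near `x` and whose stalks have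
tor amplitude in `[a, b]` over the base at all points near `x` is, near `x`, represented by a
bounded complex of modules flat over the base. -/
theorem exists_relFlatAmplitude_of_pcAt [Flat f] (F : CochainComplex X.Modules ℤ) (a b : ℤ) (x : X)
    (hpc : PCAt (a - 1) (DerivedCategory.Q.obj F) x) (V₀ : X.Opens) (hxV₀ : x ∈ V₀)
    (hT : ∀ y : X, y ∈ V₀ → TA.TorVan a b (DRing.toD ((DerSch.stalkCxOver f y).obj F))) :
    ∃ (W : X.Opens) (b' : ℤ), x ∈ W ∧ W ≤ V₀ ∧
      DCoh.HasRelFlatAmplitudeIn (W.ι ≫ f) a b'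
        (DerivedCategory.Q.obj ((DCoh.restrictCx W).obj F)) := by
  obtain ⟨V, hxV, P, α, ⟨⟨aP, bP, hvP⟩, hfP⟩, hα⟩ := exists_chain_model_at F (a - 1) x hpc
  have hWV : V ⊓ V₀ ≤ V := inf_le_left
  set W : X.Opens := V ⊓ V₀ with hW
  set β : (rCx (X.homOfLE hWV)).obj P ⟶ (DCoh.restrictCx W).obj F :=
    (rCx (X.homOfLE hWV)).map α ≫ (restrictCxCompIso hWV F).inv with hβdef
  have hβ : PC.IsConn (a - 1) (DerivedCategory.Q.map β) := isConn_restrict_chain hWV F α (a - 1) hα
  have hTW : ∀ y : (W : Scheme.{u}), TA.TorVan a b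
      (DRing.toD ((DerSch.stalkCxOver (W.ι ≫ f) y).obj ((DCoh.restrictCx W).obj F))) := fun y =>
    torVan_stalkCxOver_restrict f W.ι F y a b (hT _ y.2.2)
  have hFex : ∀ i : ℤ, i < a → ((DCoh.restrictCx W).obj F).ExactAt i := fun i hi =>
    exactAt_of_torVan_stalkCxOver (W.ι ≫ f) _ a b hTW i (Or.inl hi)
  have hvP' : DCoh.VanishesOutside ((rCx (X.homOfLE hWV)).obj P) aP bP := fun i hi =>
    (Scheme.Modules.restrictFunctor (X.homOfLE hWV)).map_isZero (hvP i hi)
  have hfP' : ∀ i, FlatMod.IsFinLocFree (((rCx (X.homOfLE hWV)).obj P).X i) := fun i =>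
    isFinLocFree_restrict (X.homOfLE hWV) _ (hfP i)
  have hfl2 : FlatMod.IsFlatOver (W.ι ≫ f)
      (cokernel (((rCx (X.homOfLE hWV)).obj P).d (a - 1) a)) := fun y =>
    isFlatOverAt_cokernel_of_conn (W.ι ≫ f) β a b aP bP hvP' hfP' hβ y (hTW y)
  have hflP : ∀ i, FlatMod.IsFlatOver (W.ι ≫ f) (((rCx (X.homOfLE hWV)).obj P).X i) := fun i y =>
    (isFlatOverAt_iff (W.ι ≫ f) _ y).mpr (flat_stalkOver_of_isFinLocFree (W.ι ≫ f) _ (hfP' i) y)
  exact ⟨W, max a bP, ⟨hxV, hxV₀⟩, inf_le_right,
    truncGE_model_rel (W.ι ≫ f) β a aP bP hvP' hflP hfl2 hFex hβ⟩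

end Groth.Agent.Helper5.RPR
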