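import Groth.Agent.Lib.Helper5.FBR2
import Groth.Agent.Lib.Helper5.FBR4
import Groth.Agent.Lib.Helper5.RPR5
import Groth.Agent.Lib.Helper21.ModFlat1

/-!
# The fibre criterion: from fibrewise boundedness below to relative flat amplitude
-/

set_option autoImplicit false
set_option linter.unusedSectionVars false
set_option linter.unusedVariables false
set_option linter.style.haveILetI false

universe u

open CategoryTheory CategoryTheory.Limits AlgebraicGeometry

attribute [local instance] HasDerivedCategory.standard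

namespace Groth.Agent.Helper5.FBR

open Groth.Agent.Helper5.StalkCx Groth.Agent.Helper5.RPR Groth.Agent.Helper5.Sky
  Groth.Agent.Helper5.RT Groth.Agent.Helper5.KF Groth.Agent.Helper5.LDer Groth.Agent.Helper5.PC
  Groth.Agent.Helper5.PCT Groth.Agent.Helper5.FPC Groth.Agent.Helper5.RPF

variable {X S : Scheme.{u}} (f : X ⟶ S)

lemma exactAt_of_iso' {𝒜 : Type*} [Category 𝒜] [Abelian 𝒜] {K L : CochainComplex 𝒜 ℤ} (e : K ≅ L)
    (i : ℤ) (h : K.ExactAt i) : L.ExactAt i := by
  rw [HomologicalComplex.exactAt_iff_isZero_homology] at h ⊢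
  exact IsZero.of_iso h ((HomologicalComplex.homologyFunctor _ _ i).mapIso e.symm)

/-- **Key step**: a K-flat complex which is `(a-2)`-pseudo-coherent near `x`, exact in degrees
`< a` near `x`, and whose pullback to the fibre through `x` has vanishing cohomology sheaf in
degree `a - 1` at `x`, is near `x` represented by a bounded complex of modules flat over the
base. -/
theorem exists_relFlatAmplitude_of_fibre [Flat f] [LocallyOfFinitePresentation f]
    (G : CochainComplex X.Modules ℤ) (hG : DCoh.IsKFlat G) (a : ℤ) (x : X)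
    (hpc : PCAt (a - 2) (DerivedCategory.Q.obj G) x) (V₀ : X.Opens) (hxV₀ : x ∈ V₀)
    (hex : ∀ i : ℤ, i < a → ((DCoh.restrictCx V₀).obj G).ExactAt i)
    (hfib : ∀ y : f.fiber (f.base x), (f.fiberι (f.base x)).base y = x →
      StalkZ (((Scheme.Modules.pullback (f.fiberι (f.base x))).mapHomologicalComplex
        (ComplexShape.up ℤ)).obj G) (a - 1) y) :
    ∃ (W : X.Opens) (b' : ℤ), x ∈ W ∧
      DCoh.HasRelFlatAmplitudeIn (W.ι ≫ f) a b'
        (DerivedCategory.Q.obj ((DCoh.restrictCx W).obj G)) := by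
  obtain ⟨V, hxV, P, α, ⟨⟨aP, bP, hvP⟩, hfP⟩, hα⟩ := exists_chain_model_at G (a - 2) x hpc
  have hPsp : DCoh.IsStrictlyPerfect P := ⟨⟨aP, bP, hvP⟩, hfP⟩
  set s := f.base x with hs
  obtain ⟨z, hz⟩ := exists_fibre_point f V s x hxV rfl
  -- the point of the fibre of `X`
  have hy : (f.fiberι s).base ((fibreIncl f V s).base z) = x := by
    have h1 := congrArg (fun m => m.base z) (fibreIncl_fiberι f V s)
    simp only [Scheme.Hom.comp_base, TopCat.hom_comp, ContinuousMap.comp_apply] at h1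
    rw [h1, hz]
    rfl
  have h1 := hfib _ hy
  have h2 := (stalkZ_restrict_iff (fibreIncl f V s) _ (a - 1) z).mpr h1
  have h3 : StalkZ (((Scheme.Modules.pullback ((V.ι ≫ f).fiberι s)).mapHomologicalComplex
      (ComplexShape.up ℤ)).obj ((DCoh.restrictCx V).obj G)) (a - 1) z :=
    h2.of_iso ((NatIso.mapHomologicalComplex (fibreRestrictIso f V s) (ComplexShape.up ℤ)).app G).symm
  have hGV : DCoh.IsKFlat ((DCoh.restrictCx V).obj G) := isKFlat_restrict V.ι G hG
  have hPk : DCoh.IsKFlat P := isKFlat_of_isStrictlyPerfect P hPsp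
  have hα' := isConn_Q_map_pullback ((V.ι ≫ f).fiberι s) α hPk hGV (a - 2) hα
  have h4 : StalkZ (((Scheme.Modules.pullback ((V.ι ≫ f).fiberι s)).mapHomologicalComplex
      (ComplexShape.up ℤ)).obj P) (a - 1) z :=
    h3.of_homologyIso (homologyIsoOfIsConn _ (a - 2) hα' (a - 1) (by omega)).symm
  have hexT : ((P.sc' (a - 2) (a - 1) a).map (Scheme.Modules.pullback ((V.ι ≫ f).fiberι s) ⋙
      DerSch.stalkFunctor ((V.ι ≫ f).fiber s) z)).Exact :=
    h4.exact_map_sc' (a - 2) a (by omega) (by omega)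
  have hflx := isFlatOverAt_cokernel_of_fibre_exact (V.ι ≫ f) (P.sc' (a - 2) (a - 1) a)
    (hfP _) (hfP _) (hfP _) s z hexT
  rw [hz] at hflx
  change FlatMod.IsFlatOverAt (V.ι ≫ f) (cokernel (P.d (a - 1) a)) ⟨x, hxV⟩ at hflx
  -- openness of the flat locus
  haveI := isQuasicoherent_of_isFinLocFree _ (hfP (a - 1))
  haveI := isQuasicoherent_of_isFinLocFree _ (hfP a)
  haveI i1 : (cokernel (P.d (a - 1) a)).IsQuasicoherent :=
    Groth.Agent.Helper13.QCohLocal.isQuasicoherent_cokernel _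
  have ho := Groth.Agent.Helper21.ModFlat.isOpen_flatLocus_module (V.ι ≫ f)
    (cokernel (P.d (a - 1) a)) (hF := isFinitePresentation_cokernel (P.d (a - 1) a) (hfP _) (hfP _))
  obtain ⟨t, ht, hteq⟩ := isOpen_induced_iff.mp ho
  have hmem : ∀ v : V, v.1 ∈ t ↔
      FlatMod.IsFlatOverAt (V.ι ≫ f) (cokernel (P.d (a - 1) a)) v := fun v =>
    Set.ext_iff.mp hteq v
  have hxt : x ∈ t := (hmem ⟨x, hxV⟩).mpr hflx
  set W : X.Opens := (⟨t, ht⟩ ⊓ V) ⊓ V₀ with hW
  have hWV : W ≤ V := inf_le_left.trans inf_le_right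
  have hWV₀ : W ≤ V₀ := inf_le_right
  have hxW : x ∈ W := ⟨⟨hxt, hxV⟩, hxV₀⟩
  have hflW : ∀ w : W, FlatMod.IsFlatOverAt (V.ι ≫ f) (cokernel (P.d (a - 1) a))
      ((X.homOfLE hWV).base w) := by
    intro w
    refine (hmem _).mp ?_
    rw [Scheme.homOfLE_apply]
    exact w.2.1.1
  set β : (rCx (X.homOfLE hWV)).obj P ⟶ (DCoh.restrictCx W).obj G :=
    (rCx (X.homOfLE hWV)).map α ≫ (restrictCxCompIso hWV G).inv with hβdef
  have hβ : PC.IsConn (a - 1) (DerivedCategory.Q.map β) :=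
    (isConn_restrict_chain hWV G α (a - 2) hα).of_le (by omega)
  have hFex : ∀ i : ℤ, i < a → ((DCoh.restrictCx W).obj G).ExactAt i := fun i hi =>
    exactAt_of_iso' (restrictCxCompIso hWV₀ G).symm i
      (RPF.exactAt_restrict (X.homOfLE hWV₀) _ i (hex i hi))
  have hvP' : DCoh.VanishesOutside ((rCx (X.homOfLE hWV)).obj P) aP bP := fun i hi =>
    (Scheme.Modules.restrictFunctor (X.homOfLE hWV)).map_isZero (hvP i hi)
  have hfP' : ∀ i, FlatMod.IsFinLocFree (((rCx (X.homOfLE hWV)).obj P).X i) := fun i =>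
    isFinLocFree_restrict (X.homOfLE hWV) _ (hfP i)
  have hflP : ∀ i, FlatMod.IsFlatOver (W.ι ≫ f) (((rCx (X.homOfLE hWV)).obj P).X i) := fun i y =>
    (isFlatOverAt_iff (W.ι ≫ f) _ y).mpr (flat_stalkOver_of_isFinLocFree (W.ι ≫ f) _ (hfP' i) y)
  have hfl2 : FlatMod.IsFlatOver (W.ι ≫ f)
      (cokernel (((rCx (X.homOfLE hWV)).obj P).d (a - 1) a)) := by
    intro w
    have e : (Scheme.Modules.restrictFunctor (X.homOfLE hWV)).obj (cokernel (P.d (a - 1) a)) ≅
        cokernel (((rCx (X.homOfLE hWV)).obj P).d (a - 1) a) :=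
      PreservesCokernel.iso (Scheme.Modules.restrictFunctor (X.homOfLE hWV)) (P.d (a - 1) a)
    have h5 := isFlatOverAt_restrict (V.ι ≫ f) (X.homOfLE hWV) _ w (hflW w)
    rw [← Category.assoc, X.homOfLE_ι] at h5
    exact isFlatOverAt_of_iso (W.ι ≫ f) e w h5
  exact ⟨W, max a bP, hxW,
    truncGE_model_rel (W.ι ≫ f) β a aP bP hvP' hflP hfl2 hFex hβ⟩

end Groth.Agent.Helper5.FBR
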