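import Groth.Agent.Lib.Helper5.FBR5
import Groth.Agent.Lib.Helper5.LDer6
import Groth.Agent.Lib.Helper5.LRes2

/-!
# The absolute case of the fibre criterion: perfection by fibres
-/

set_option autoImplicit false
set_option linter.unusedSectionVars false
set_option linter.unusedVariables false
set_option linter.style.haveILetI false

universe u

open CategoryTheory CategoryTheory.Limits AlgebraicGeometry

attribute [local instance] HasDerivedCategory.standard

namespace Groth.Agent.Helper5.FBR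

open Groth.Agent.Helper5.StalkCx Groth.Agent.Helper5.RPR Groth.Agent.Helper5.Sky
  Groth.Agent.Helper5.RT Groth.Agent.Helper5.KF Groth.Agent.Helper5.LDer Groth.Agent.Helper5.PC
  Groth.Agent.Helper5.PCT Groth.Agent.Helper5.FPC Groth.Agent.Helper5.RPF

/-- flatness descends along a bijective ring homomorphism -/
theorem flat_of_flat_compHom_of_bijective {R R' : Type u} [CommRing R] [CommRing R'] (φ : R →+* R')
    (hφ : Function.Bijective φ) (M : Type u) [AddCommGroup M] [Module R' M]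
    (h : letI := Module.compHom M φ; Module.Flat R M) : Module.Flat R' M := by
  letI := Module.compHom M φ
  letI := φ.toAlgebra
  haveI : IsScalarTower R R' M := IsScalarTower.of_algebraMap_smul (fun _ _ => rfl)
  let e : R ≃ₐ[R] R' := AlgEquiv.ofBijective (Algebra.ofId R R') hφ
  haveI : IsLocalization (⊥ : Submonoid R) R := IsLocalization.self (by
    intro r hr
    rw [Submonoid.mem_bot] at hr
    rw [hr]
    exact isUnit_one)
  haveI : IsLocalization (⊥ : Submonoid R) R' := IsLocalization.isLocalization_of_algEquiv _ e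
  exact (Module.flat_iff_of_isLocalization R' (⊥ : Submonoid R) M).mpr h

variable {X : Scheme.{u}}

/-- flatness over the base of an open immersion is flatness -/
theorem isFlatAt_of_isFlatOverAt_of_isOpenImmersion {U T : Scheme.{u}} (g : U ⟶ T)
    [IsOpenImmersion g] (M : U.Modules) (w : U) (h : FlatMod.IsFlatOverAt g M w) :
    FlatMod.IsFlatAt M w := by
  haveI : IsIso (g.stalkMap w) := inferInstance
  exact flat_of_flat_compHom_of_bijective (g.stalkMap w).hom
    (ConcreteCategory.bijective_of_isIso (g.stalkMap w)) _ h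

theorem hasFlatAmplitudeIn_of_hasRelFlatAmplitudeIn {U T : Scheme.{u}} (g : U ⟶ T)
    [IsOpenImmersion g] (a b : ℤ) (K : DCoh.D U) (h : DCoh.HasRelFlatAmplitudeIn g a b K) :
    DCoh.HasFlatAmplitudeIn a b K := by
  obtain ⟨N, hNv, hNf, ⟨e⟩⟩ := h
  exact ⟨N, hNv, fun i w => isFlatAt_of_isFlatOverAt_of_isOpenImmersion g (N.X i) w (hNf i w), ⟨e⟩⟩

/-- the derived pullbacks along equal morphisms -/
noncomputable def LpullCongr {Z : Scheme.{u}} {g₁ g₂ : Z ⟶ X} (h : g₁ = g₂) [DCoh.HasLpull g₁]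
    [DCoh.HasLpull g₂] : DCoh.Lpull g₁ ≅ DCoh.Lpull g₂ := by
  subst h
  exact Iso.refl _

/-- a perfect object is locally bounded below -/
theorem exists_isGE_of_isPerfect (K : DCoh.D X) (hK : DCoh.IsPerfect K) (y : X) :
    ∃ (W : X.Opens) (a : ℤ), y ∈ W ∧ ((DCoh.restrictD W.ι).obj K).IsGE a := by
  obtain ⟨V, hyV, hV⟩ := hK y
  obtain ⟨N, ⟨⟨a, b, hNv⟩, hNf⟩, ⟨eN⟩⟩ := hV (DerivedCategory.Q.objPreimage K)
    ⟨DerivedCategory.Q.objObjPreimageIso K⟩
  refine ⟨V, a, hyV, ?_⟩
  have e : DerivedCategory.Q.obj N ≅ (DCoh.restrictD V.ι).obj K :=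
    eN.symm ≪≫ ((Scheme.Modules.restrictFunctor V.ι).mapDerivedCategoryFactors.app _).symm ≪≫
      (DCoh.restrictD V.ι).mapIso (DerivedCategory.Q.objObjPreimageIso K)
  haveI : N.IsStrictlyGE a := by
    rw [CochainComplex.isStrictlyGE_iff]
    intro i hi
    exact hNv i (Or.inl hi)
  haveI : (DerivedCategory.Q.obj N).IsGE a := inferInstance
  exact DerivedCategory.TStructure.t.isGE_of_iso e a

variable {S : Scheme.{u}} (f : X ⟶ S)

lemma residueToFibre_aux (x : X) :
    pullback.fst (𝟙 X) (X.fromSpecResidueField x) ≫ f =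
      (pullback.snd (𝟙 X) (X.fromSpecResidueField x) ≫ Spec.map (f.residueFieldMap x)) ≫
        S.fromSpecResidueField (f.base x) := by
  rw [Category.assoc, Scheme.Hom.SpecMap_residueFieldMap_fromSpecResidueField,
    ← pullback.condition_assoc, Category.id_comp]

/-- the residue field point of `X` at `x` as a point of the fibre of `f` -/
noncomputable def residueToFibre (x : X) :
    Scheme.Hom.fiber (𝟙 X) x ⟶ f.fiber (f.base x) :=
  (pullback.lift (pullback.fst (𝟙 X) (X.fromSpecResidueField x))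
    (pullback.snd (𝟙 X) (X.fromSpecResidueField x) ≫ Spec.map (f.residueFieldMap x))
    (residueToFibre_aux f x) :
    pullback (𝟙 X) (X.fromSpecResidueField x) ⟶ pullback f (S.fromSpecResidueField (f.base x)))

lemma residueToFibre_fiberι (x : X) :
    residueToFibre f x ≫ f.fiberι (f.base x) = Scheme.Hom.fiberι (𝟙 X) x :=
  pullback.lift_fst _ _ _

end Groth.Agent.Helper5.FBR

namespace Groth.Agent.Helper5.FBR

open Groth.Agent.Helper5.LDer

variable {X S : Scheme.{u}} (f : X ⟶ S)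

lemma hasFlatAmplitudeIn_of_iso {a b : ℤ} {K K' : DCoh.D X} (e : K ≅ K')
    (h : DCoh.HasFlatAmplitudeIn a b K) : DCoh.HasFlatAmplitudeIn a b K' := by
  obtain ⟨E, h1, h2, ⟨e'⟩⟩ := h
  exact ⟨E, h1, h2, ⟨e' ≪≫ e⟩⟩

/-- an object locally of finite relative tor dimension is locally bounded below -/
theorem exists_isGE_of_locHasFiniteRelTorDim (K : DCoh.D X)
    (hK : DCoh.LocHasFiniteRelTorDim f K) (y : X) :
    ∃ (V : X.Opens) (a : ℤ), y ∈ V ∧ ((DCoh.restrictD V.ι).obj K).IsGE a := by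
  obtain ⟨V, a, b, hyV, hV⟩ := hK y
  obtain ⟨N, hNv, hNf, ⟨eN⟩⟩ := hV (DerivedCategory.Q.objPreimage K)
    ⟨DerivedCategory.Q.objObjPreimageIso K⟩
  refine ⟨V, a, hyV, ?_⟩
  have e : DerivedCategory.Q.obj N ≅ (DCoh.restrictD V.ι).obj K :=
    eN ≪≫ ((Scheme.Modules.restrictFunctor V.ι).mapDerivedCategoryFactors.app _).symm ≪≫
      (DCoh.restrictD V.ι).mapIso (DerivedCategory.Q.objObjPreimageIso K)
  haveI : N.IsStrictlyGE a := by
    rw [CochainComplex.isStrictlyGE_iff]
    intro i hi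
    exact hNv i (Or.inl hi)
  haveI : (DerivedCategory.Q.obj N).IsGE a := inferInstance
  exact DerivedCategory.TStructure.t.isGE_of_iso e a

/-- **Perfection by fibres**: a pseudo-coherent object which is locally of finite tor dimension
relative to `S` and whose derived pullbacks to the fibres are perfect, is locally of finite tor
dimension -/
theorem locHasFiniteTorDim_of_fibres [∀ s : S, DCoh.HasLpull (f.fiberι s)] (E : DCoh.D X)
    (hpc : ∀ m : ℤ, DCoh.IsPseudoCoherentD m E) (htor : DCoh.LocHasFiniteRelTorDim f E)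
    (hfibp : ∀ s : S, DCoh.IsPerfect ((DCoh.Lpull (f.fiberι s)).obj E)) :
    DCoh.LocHasFiniteTorDim E := by
  intro x
  obtain ⟨G, hG, ⟨eG⟩⟩ := exists_kflat_repr E
  obtain ⟨V₀, a₀, hxV₀, hge₀⟩ := exists_isGE_of_locHasFiniteRelTorDim f E htor x
  set x' := (𝟙 X : X ⟶ X).base x with hx'
  haveI := hasLpull (Scheme.Hom.fiberι (𝟙 X) x')
  haveI := hasLpull (residueToFibre f x')
  haveI := hasLpull (residueToFibre f x' ≫ f.fiberι (f.base x'))
  obtain ⟨c⟩ := Lpull_comp_iso (residueToFibre f x') (f.fiberι (f.base x'))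
  have e1 : (DCoh.Lpull (Scheme.Hom.fiberι (𝟙 X) x')).obj E ≅
      (DCoh.Lpull (residueToFibre f x')).obj ((DCoh.Lpull (f.fiberι (f.base x'))).obj E) :=
    ((LpullCongr (residueToFibre_fiberι f x')).app E).symm ≪≫ (c.app E).symm
  have hperf : DCoh.IsPerfect ((DCoh.Lpull (Scheme.Hom.fiberι (𝟙 X) x')).obj E) :=
    Groth.Agent.Helper5.BP.isPerfect_of_iso e1.symm
      (isPerfect_Lpull (residueToFibre f x') _ (hfibp _))
  obtain ⟨W, a₁, hyW, hge₁⟩ := exists_isGE_of_isPerfect _ hperf (Scheme.Hom.asFiber (𝟙 X) x)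
  have hpc' : Groth.Agent.Helper5.PCT.PCAt (min a₀ a₁ - 2) (DerivedCategory.Q.obj G) x :=
    Groth.Agent.Helper5.PCT.pcAt_of_iso eG.symm (hpc (min a₀ a₁ - 2) x)
  have hex : ∀ i : ℤ, i < min a₀ a₁ → ((DCoh.restrictCx V₀).obj G).ExactAt i := fun i hi =>
    exactAt_restrict_of_isGE E G eG V₀ a₀ hge₀ i (lt_of_lt_of_le hi (min_le_left _ _))
  have hfib : ∀ y : Scheme.Hom.fiber (𝟙 X) x', (Scheme.Hom.fiberι (𝟙 X) x').base y = x →
      StalkZ (((Scheme.Modules.pullback (Scheme.Hom.fiberι (𝟙 X) x')).mapHomologicalComplex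
        (ComplexShape.up ℤ)).obj G) (min a₀ a₁ - 1) y := by
    intro y hy
    have hyeq : y = Scheme.Hom.asFiber (𝟙 X) x :=
      (Scheme.Hom.fiberι (𝟙 X) x').isEmbedding.injective
        (hy.trans (Scheme.Hom.fiberι_asFiber (𝟙 X) x).symm)
    subst hyeq
    exact stalkZ_pullback_of_isGE (Scheme.Hom.fiberι (𝟙 X) x') E G hG eG W a₁
      hge₁ (min a₀ a₁ - 1) (by have := min_le_right a₀ a₁; omega) _ hyW
  obtain ⟨W', b', hxW', hamp⟩ := exists_relFlatAmplitude_of_fibre (𝟙 X) G hG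
    (min a₀ a₁) x hpc' V₀ hxV₀ hex hfib
  refine ⟨W', min a₀ a₁, b', hxW', fun F' ⟨eF'⟩ => ?_⟩
  have h1 := hasFlatAmplitudeIn_of_hasRelFlatAmplitudeIn (W'.ι ≫ 𝟙 X) (min a₀ a₁) b' _ hamp
  exact hasFlatAmplitudeIn_of_iso (restrictQIso W'.ι (eG ≪≫ eF'.symm)) h1

end Groth.Agent.Helper5.FBR
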