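import Groth.Agent.Lib.Helper5.CHP9
import Groth.Agent.Lib.Helper11.RelBC2
import Groth.Agent.Lib.Helper11.MPC8

/-!
# Flat base change and flat descent of relative pseudo-coherence, part 1: presentations of a
base-changed algebra, and flat base change at the ring level
-/

set_option autoImplicit false
set_option linter.unusedSectionVars false
set_option linter.unusedVariables false
set_option linter.style.haveILetI false

universe u

open CategoryTheory CategoryTheory.Limits

attribute [local instance] HasDerivedCategory.standard

namespace Groth.Agent.Helper5.FBX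

open Groth.Agent.Helper11 Groth.Agent.Helper11.MPC Groth.Agent.Helper11.TA
  Groth.Agent.Helper11.PcHom Groth.Agent.Helper5.RPR Groth.Agent.Helper11.Dev

attribute [local instance] MvPolynomial.algebraMvPolynomial

section Pres

variable {R R' A A' : Type u} [CommRing R] [CommRing R'] [CommRing A] [CommRing A']
  [Algebra R R'] [Algebra R A] [Algebra A A'] [Algebra R' A'] [Algebra R A']
  [IsScalarTower R A A'] [IsScalarTower R R' A']

/-- the presentation of the base-changed algebra induced by a presentation of the algebra -/
noncomputable def presBC {n : ℕ} (α : MvPolynomial (Fin n) R →ₐ[R] A) :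
    MvPolynomial (Fin n) R' →ₐ[R'] A' :=
  MvPolynomial.aeval (fun i => algebraMap A A' (α (MvPolynomial.X i)))

lemma presBC_map {n : ℕ} (α : MvPolynomial (Fin n) R →ₐ[R] A) (p : MvPolynomial (Fin n) R) :
    presBC (R' := R') (A' := A') α (MvPolynomial.map (algebraMap R R') p) =
      algebraMap A A' (α p) := by
  induction p using MvPolynomial.induction_on with
  | C r =>
    simp only [MvPolynomial.map_C, presBC, MvPolynomial.aeval_C]
    rw [← MvPolynomial.algebraMap_eq, α.commutes, ← IsScalarTower.algebraMap_apply R R' A',
      ← IsScalarTower.algebraMap_apply R A A']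
  | add p q hp hq => simp only [map_add, hp, hq]
  | mul_X p i hp =>
    simp only [map_mul, hp, MvPolynomial.map_X]
    congr 1
    simp [presBC]

end Pres

section BC

variable {R R' A A' : Type u} [CommRing R] [CommRing R'] [CommRing A] [CommRing A']
  [Algebra R R'] [Algebra R A] [Algebra A A'] [Algebra R' A'] [Algebra R A']
  [IsScalarTower R A A'] [IsScalarTower R R' A'] [Algebra.IsPushout R A R' A']
  {n : ℕ} (α : MvPolynomial (Fin n) R →ₐ[R] A)

/-- the presentation of the base-changed algebra is surjective, and it makes the square of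
polynomial rings and algebras a pushout square along which `m`-pseudo-coherence passes -/
theorem via_bc [Module.Flat R R'] (hα : Function.Surjective α) (K : DRing.Cx A) (m : ℤ) :
    Function.Surjective (presBC (R' := R') (A' := A') α) ∧
    (DerCA.IsRelPseudoCoherentVia α m (DerivedCategory.Q.obj K) →
      DerCA.IsRelPseudoCoherentVia (presBC (R' := R') (A' := A') α) m
        (DerivedCategory.Q.obj ((esC (algebraMap A A')).obj K))) := by
  letI : Algebra (MvPolynomial (Fin n) R) A := (α : MvPolynomial (Fin n) R →+* A).toAlgebra
  letI : Algebra (MvPolynomial (Fin n) R') A' :=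
    (presBC (R' := R') (A' := A') α : MvPolynomial (Fin n) R' →+* A').toAlgebra
  letI : Algebra (MvPolynomial (Fin n) R) A' :=
    ((algebraMap A A').comp (α : MvPolynomial (Fin n) R →+* A)).toAlgebra
  haveI : IsScalarTower R (MvPolynomial (Fin n) R) A :=
    IsScalarTower.of_algebraMap_eq (fun r => (α.commutes r).symm)
  haveI : IsScalarTower (MvPolynomial (Fin n) R) A A' :=
    IsScalarTower.of_algebraMap_eq (fun _ => rfl)
  haveI : IsScalarTower (MvPolynomial (Fin n) R) (MvPolynomial (Fin n) R') A' :=
    IsScalarTower.of_algebraMap_eq (fun p => (presBC_map α p).symm)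
  haveI : IsScalarTower R' (MvPolynomial (Fin n) R') A' :=
    IsScalarTower.of_algebraMap_eq (fun r => ((presBC (R' := R') (A' := A') α).commutes r).symm)
  haveI : IsScalarTower R (MvPolynomial (Fin n) R') A' :=
    IsScalarTower.of_algebraMap_eq (fun r => by
      rw [IsScalarTower.algebraMap_apply R R' A',
        IsScalarTower.algebraMap_apply R R' (MvPolynomial (Fin n) R'),
        ← IsScalarTower.algebraMap_apply R' (MvPolynomial (Fin n) R') A'])
  haveI : IsScalarTower R (MvPolynomial (Fin n) R) A' :=
    IsScalarTower.of_algebraMap_eq (fun r => by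
      rw [IsScalarTower.algebraMap_apply R A A', IsScalarTower.algebraMap_apply R (MvPolynomial (Fin n) R) A]
      rfl)
  have hpo : Algebra.IsPushout (MvPolynomial (Fin n) R) A (MvPolynomial (Fin n) R') A' :=
    (Algebra.IsPushout.comp_iff R (MvPolynomial (Fin n) R) R' (MvPolynomial (Fin n) R')
      (T := A) (T' := A')).mp inferInstance
  haveI hpo' : Algebra.IsPushout (MvPolynomial (Fin n) R) (MvPolynomial (Fin n) R') A A' :=
    hpo.symm
  haveI : Module.Flat (MvPolynomial (Fin n) R) (MvPolynomial (Fin n) R') :=
    Module.Flat.isBaseChange (R := R) (S := MvPolynomial (Fin n) R) (M := R')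
      (MvPolynomial (Fin n) R')
      (Algebra.IsPushout.out (R := R) (S := MvPolynomial (Fin n) R) (R' := R')
        (S' := MvPolynomial (Fin n) R'))
  refine ⟨?_, fun h => ?_⟩
  · intro x
    refine hpo.out.inductionOn x (fun y => y ∈ Set.range (presBC (R' := R') (A' := A') α))
      ⟨0, map_zero _⟩ (fun p => ⟨p, rfl⟩) ?_ ?_
    · rintro s _ ⟨q, rfl⟩
      obtain ⟨p, rfl⟩ := hα s
      refine ⟨MvPolynomial.map (algebraMap R R') p * q, ?_⟩
      rw [map_mul, presBC_map, Algebra.smul_def]
    · rintro _ _ ⟨q₁, rfl⟩ ⟨q₂, rfl⟩
      exact ⟨q₁ + q₂, map_add _ _ _⟩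
  · exact Groth.Agent.Helper11.RelBC.mpc_po (MvPolynomial (Fin n) R) (MvPolynomial (Fin n) R')
      A A' K m h

/-- the chart test for the base-changed complex through the base-changed presentation is the
test, over the base-changed polynomial ring, of the base change of the restricted complex -/
theorem via_bc_iff (K : DRing.Cx A) (m : ℤ) :
    DerCA.IsRelPseudoCoherentVia (presBC (R' := R') (A' := A') α) m
        (DerivedCategory.Q.obj ((esC (algebraMap A A')).obj K)) ↔
      DRing.IsPseudoCoherent (MvPolynomial (Fin n) R') m
        (DerivedCategory.Q.obj ((esC (MvPolynomial.map (algebraMap R R') :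
          MvPolynomial (Fin n) R →+* MvPolynomial (Fin n) R')).obj
            ((rsC (α : MvPolynomial (Fin n) R →+* A)).obj K))) := by
  letI : Algebra (MvPolynomial (Fin n) R) A := (α : MvPolynomial (Fin n) R →+* A).toAlgebra
  letI : Algebra (MvPolynomial (Fin n) R') A' :=
    (presBC (R' := R') (A' := A') α : MvPolynomial (Fin n) R' →+* A').toAlgebra
  letI : Algebra (MvPolynomial (Fin n) R) A' :=
    ((algebraMap A A').comp (α : MvPolynomial (Fin n) R →+* A)).toAlgebra
  haveI : IsScalarTower R (MvPolynomial (Fin n) R) A :=
    IsScalarTower.of_algebraMap_eq (fun r => (α.commutes r).symm)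
  haveI : IsScalarTower (MvPolynomial (Fin n) R) A A' :=
    IsScalarTower.of_algebraMap_eq (fun _ => rfl)
  haveI : IsScalarTower (MvPolynomial (Fin n) R) (MvPolynomial (Fin n) R') A' :=
    IsScalarTower.of_algebraMap_eq (fun p => (presBC_map α p).symm)
  haveI : IsScalarTower R' (MvPolynomial (Fin n) R') A' :=
    IsScalarTower.of_algebraMap_eq (fun r => ((presBC (R' := R') (A' := A') α).commutes r).symm)
  haveI : IsScalarTower R (MvPolynomial (Fin n) R') A' :=
    IsScalarTower.of_algebraMap_eq (fun r => by
      rw [IsScalarTower.algebraMap_apply R R' A',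
        IsScalarTower.algebraMap_apply R R' (MvPolynomial (Fin n) R'),
        ← IsScalarTower.algebraMap_apply R' (MvPolynomial (Fin n) R') A'])
  haveI : IsScalarTower R (MvPolynomial (Fin n) R) A' :=
    IsScalarTower.of_algebraMap_eq (fun r => by
      rw [IsScalarTower.algebraMap_apply R A A', IsScalarTower.algebraMap_apply R (MvPolynomial (Fin n) R) A]
      rfl)
  have hpo : Algebra.IsPushout (MvPolynomial (Fin n) R) A (MvPolynomial (Fin n) R') A' :=
    (Algebra.IsPushout.comp_iff R (MvPolynomial (Fin n) R) R' (MvPolynomial (Fin n) R')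
      (T := A) (T' := A')).mp inferInstance
  haveI hpo' : Algebra.IsPushout (MvPolynomial (Fin n) R) (MvPolynomial (Fin n) R') A A' :=
    hpo.symm
  have e : (DRing.restrictD (presBC (R' := R') (A' := A') α :
        MvPolynomial (Fin n) R' →+* A')).obj
        (DerivedCategory.Q.obj ((esC (algebraMap A A')).obj K)) ≅
      DerivedCategory.Q.obj ((esC (MvPolynomial.map (algebraMap R R') :
          MvPolynomial (Fin n) R →+* MvPolynomial (Fin n) R')).obj
            ((rsC (α : MvPolynomial (Fin n) R →+* A)).obj K)) :=
    (ModuleCat.restrictScalars.{u} (presBC (R' := R') (A' := A') α :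
        MvPolynomial (Fin n) R' →+* A')).mapDerivedCategoryFactors.app _ ≪≫
      DerivedCategory.Q.mapIso (Groth.Agent.Helper11.FlatPc.bcCxIso_po (MvPolynomial (Fin n) R)
        (MvPolynomial (Fin n) R') A A' K).symm
  exact ⟨mpc_of_iso e, mpc_of_iso e.symm⟩

end BC

end Groth.Agent.Helper5.FBX
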