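import Groth.Agent.Lib.Helper5.FBX1

/-!
# Flat base change and flat descent of relative pseudo-coherence, part 2: jointly faithfully flat
families of algebras
-/

set_option autoImplicit false
set_option linter.unusedSectionVars false
set_option linter.unusedVariables false
set_option linter.style.haveILetI false

universe u

open TensorProduct

namespace Groth.Agent.Helper5.FBX

/-- a family of modules is jointly faithful: a module killed by tensoring with each of them is
zero -/
def JF (R : Type u) [CommRing R] {ι : Type*} (T : ι → Type u) [∀ i, AddCommGroup (T i)]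
    [∀ i, Module R (T i)] : Prop :=
  ∀ (H : Type u) [AddCommGroup H] [Module R H], (∀ i, Subsingleton (T i ⊗[R] H)) → Subsingleton H

section One

variable {R : Type u} [CommRing R] {ι : Type*} (T : ι → Type u) [∀ i, CommRing (T i)]
  [∀ i, Algebra R (T i)]

/-- flat algebras whose spectra jointly cover the spectrum of the base are jointly faithful -/
theorem jf_of_flat_of_cover [∀ i, Module.Flat R (T i)]
    (hcov : ∀ p : PrimeSpectrum R, ∃ (i : ι) (q : PrimeSpectrum (T i)),
      PrimeSpectrum.comap (algebraMap R (T i)) q = p) : JF R T := by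
  intro H _ _ hH
  by_contra hne
  rw [not_subsingleton_iff_nontrivial] at hne
  obtain ⟨n, hn⟩ := exists_ne (0 : H)
  let I := (Submodule.span R {n}).annihilator
  have I_ne_top : I ≠ ⊤ := by
    intro h
    rw [Ideal.eq_top_iff_one, Submodule.mem_annihilator_span_singleton, one_smul] at h
    exact hn h
  let inc : R ⧸ I →ₗ[R] H := Submodule.liftQ _ ((LinearMap.lsmul R H).flip n) <| fun r hr => by
    simpa only [LinearMap.mem_ker, LinearMap.flip_apply, LinearMap.lsmul_apply,
      Submodule.mem_annihilator_span_singleton, I] using hr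
  have injective_inc : Function.Injective inc := LinearMap.ker_eq_bot.1 <| eq_bot_iff.2 <| by
    intro r hr
    induction r using Quotient.inductionOn' with | h r =>
    simpa only [Submodule.Quotient.mk''_eq_mk, Submodule.mem_bot, Submodule.Quotient.mk_eq_zero,
      Submodule.mem_annihilator_span_singleton, LinearMap.mem_ker, Submodule.liftQ_apply,
      LinearMap.flip_apply, LinearMap.lsmul_apply, I, inc] using hr
  obtain ⟨m, hm, hIm⟩ := Ideal.exists_le_maximal I I_ne_top
  obtain ⟨i, q, hq⟩ := hcov ⟨m, hm.isPrime⟩
  have hle : (I • ⊤ : Submodule R (T i)) ≤ q.asIdeal.restrictScalars R := by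
    rw [Submodule.smul_le]
    intro r hr t _
    have h1 : r ∈ (PrimeSpectrum.comap (algebraMap R (T i)) q).asIdeal := by
      rw [hq]
      exact hIm hr
    have h2 : algebraMap R (T i) r ∈ q.asIdeal := h1
    show r • t ∈ q.asIdeal
    rw [Algebra.smul_def]
    exact Ideal.mul_mem_right _ _ h2
  have hsub : Subsingleton (T i ⧸ (I • ⊤ : Submodule R (T i))) := by
    haveI := hH i
    have hinj := Module.Flat.lTensor_preserves_injective_linearMap (M := T i) inc injective_inc
    exact (hinj.comp (tensorQuotEquivQuotSMul (T i) I).symm.injective).subsingleton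
  rw [Submodule.Quotient.subsingleton_iff] at hsub
  have h0 : (1 : T i) ∈ (I • ⊤ : Submodule R (T i)) := by
    rw [hsub]
    exact Submodule.mem_top
  have h1 : (1 : T i) ∈ q.asIdeal.restrictScalars R := hle h0
  exact q.isPrime.ne_top ((Ideal.eq_top_iff_one _).mpr h1)

/-- descent of finiteness of modules along a finite jointly faithful family of algebras -/
theorem finite_of_jf [Finite ι] (hjf : JF R T) (H : Type u) [AddCommGroup H] [Module R H]
    (h : ∀ i, Module.Finite (T i) (T i ⊗[R] H)) : Module.Finite R H := by
  classical
  haveI := Fintype.ofFinite ι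
  choose n s hs using fun i => Module.Finite.exists_fin (R := T i) (M := T i ⊗[R] H)
  choose k t m hm using fun i (j : Fin (n i)) => TensorProduct.exists_sum_tmul_eq (s i j)
  let J := Σ i, Σ j : Fin (n i), Fin (k i j)
  let f₀ : (J → R) →ₗ[R] H := (Pi.basisFun R J).constr R fun x => m x.1 x.2.1 x.2.2
  apply Module.Finite.of_surjective f₀
  have hsurj : ∀ i, Function.Surjective (LinearMap.lTensor (T i) f₀) := by
    intro i
    have : Function.Surjective (AlgebraTensorModule.lTensor (T i) (T i) f₀) := by
      rw [← LinearMap.range_eq_top, eq_top_iff, ← hs i, Submodule.span_le, Set.range_subset_iff]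
      intro j
      use ∑ (l : Fin (k i j)), t i j l ⊗ₜ Pi.basisFun R J ⟨i, j, l⟩
      rw [map_sum, hm i j]
      refine Finset.sum_congr rfl (fun l _ => ?_)
      rw [AlgebraTensorModule.lTensor_tmul]
      congr 1
      exact (Pi.basisFun R J).constr_basis R _ ⟨i, j, l⟩
    exact this
  rw [← LinearMap.range_eq_top, ← Submodule.Quotient.subsingleton_iff]
  apply hjf (H ⧸ LinearMap.range f₀)
  intro i
  have h1 : Function.Surjective
      (LinearMap.lTensor (T i) (Submodule.mkQ (LinearMap.range f₀))) :=
    LinearMap.lTensor_surjective _ (Submodule.mkQ_surjective _)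
  have h0 : (Submodule.mkQ (LinearMap.range f₀)).comp f₀ = 0 := by
    ext x
    simp
  have hz : ∀ a, a = (0 : T i ⊗[R] (H ⧸ LinearMap.range f₀)) := by
    intro a
    obtain ⟨a', rfl⟩ := h1 a
    obtain ⟨a'', rfl⟩ := hsurj i a'
    rw [← LinearMap.comp_apply, ← LinearMap.lTensor_comp, h0, LinearMap.lTensor_zero,
      LinearMap.zero_apply]
  exact ⟨fun a b => (hz a).trans (hz b).symm⟩

end One

section Two

attribute [local instance] MvPolynomial.algebraMvPolynomial

variable {R : Type u} [CommRing R] {ι : Type*} (T : ι → Type u) [∀ i, CommRing (T i)]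
  [∀ i, Algebra R (T i)] (n : ℕ)

/-- joint faithfulness passes to polynomial rings -/
theorem jf_poly (hjf : JF R T) :
    JF (MvPolynomial (Fin n) R) (fun i => MvPolynomial (Fin n) (T i)) := by
  intro H _ _ hH
  letI : Module R H := Module.compHom H (algebraMap R (MvPolynomial (Fin n) R))
  haveI : IsScalarTower R (MvPolynomial (Fin n) R) H := ⟨fun r p h => by
    show (r • p) • h = algebraMap R (MvPolynomial (Fin n) R) r • (p • h)
    rw [Algebra.smul_def, mul_smul]⟩
  apply hjf H
  intro i
  haveI := hH i
  exact (Algebra.IsPushout.cancelBaseChange R (T i) (MvPolynomial (Fin n) R)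
    (MvPolynomial (Fin n) (T i)) H).symm.injective.subsingleton

end Two

end Groth.Agent.Helper5.FBX
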