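import Groth.Agent.Lib.Helper5.FBX2
import Groth.Agent.Lib.Helper13.PullbackTilde

/-!
# Flat base change and flat descent of relative pseudo-coherence, part 3: the ring-level
statements in unbundled form
-/

set_option autoImplicit false
set_option linter.unusedSectionVars false
set_option linter.unusedVariables false
set_option linter.style.haveILetI false

universe u

open CategoryTheory CategoryTheory.Limits TensorProduct

attribute [local instance] HasDerivedCategory.standard

namespace Groth.Agent.Helper5.FBX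

open Groth.Agent.Helper11 Groth.Agent.Helper11.MPC Groth.Agent.Helper11.TA
  Groth.Agent.Helper11.PcHom Groth.Agent.Helper5.RPR Groth.Agent.Helper11.Dev

attribute [local instance] MvPolynomial.algebraMvPolynomial

variable {R A : Type u} [CommRing R] [CommRing A]

/-- flat base change of relative pseudo-coherence -/
theorem ring_bc {R' A' : Type u} [CommRing R'] [CommRing A'] (ψ : R →+* A) (ρ : R →+* R')
    (θ : A →+* A') (ψ' : R' →+* A')
    (hpo : IsPushout (CommRingCat.ofHom ψ) (CommRingCat.ofHom ρ) (CommRingCat.ofHom θ)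
      (CommRingCat.ofHom ψ')) (hflat : ρ.Flat) (K : DRing.Cx A) (m : ℤ)
    (h : @DerCA.IsRelPseudoCoherent R A _ _ ψ.toAlgebra m (DerivedCategory.Q.obj K)) :
    @DerCA.IsRelPseudoCoherent R' A' _ _ ψ'.toAlgebra m
      (DerivedCategory.Q.obj ((esC θ).obj K)) := by
  letI : Algebra R A := ψ.toAlgebra
  letI : Algebra R R' := ρ.toAlgebra
  letI : Algebra A A' := θ.toAlgebra
  letI : Algebra R' A' := ψ'.toAlgebra
  letI : Algebra R A' := (θ.comp ψ).toAlgebra
  haveI : IsScalarTower R A A' := IsScalarTower.of_algebraMap_eq (fun _ => rfl)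
  have hsq : θ.comp ψ = ψ'.comp ρ := congrArg CommRingCat.Hom.hom hpo.w
  haveI : IsScalarTower R R' A' := IsScalarTower.of_algebraMap_eq (fun x => by
    show (θ.comp ψ) x = (ψ'.comp ρ) x
    rw [hsq])
  haveI : Algebra.IsPushout R A R' A' := CommRingCat.isPushout_iff_isPushout.mp hpo
  haveI : Module.Flat R R' := hflat
  obtain ⟨n, α, hα, hvia⟩ := h
  obtain ⟨h1, h2⟩ := via_bc (R' := R') (A' := A') α hα K m
  exact ⟨n, presBC α, h1, h2 hvia⟩

/-- flat descent of relative pseudo-coherence along a finite jointly surjective family of flat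
base changes -/
theorem ring_descent (ψ : R →+* A) (hψ : ψ.FiniteType) {ι : Type*} [Finite ι]
    (R' A' : ι → Type u) [∀ i, CommRing (R' i)] [∀ i, CommRing (A' i)]
    (ρ : ∀ i, R →+* R' i) (θ : ∀ i, A →+* A' i) (ψ' : ∀ i, R' i →+* A' i)
    (hpo : ∀ i, IsPushout (CommRingCat.ofHom ψ) (CommRingCat.ofHom (ρ i))
      (CommRingCat.ofHom (θ i)) (CommRingCat.ofHom (ψ' i)))
    (hflat : ∀ i, (ρ i).Flat)
    (hcov : ∀ p : PrimeSpectrum R, ∃ (i : ι) (q : PrimeSpectrum (R' i)),
      PrimeSpectrum.comap (ρ i) q = p)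
    (K : DRing.Cx A) (m : ℤ)
    (h : ∀ i, @DerCA.IsRelPseudoCoherent (R' i) (A' i) _ _ (ψ' i).toAlgebra m
      (DerivedCategory.Q.obj ((esC (θ i)).obj K))) :
    @DerCA.IsRelPseudoCoherent R A _ _ ψ.toAlgebra m (DerivedCategory.Q.obj K) := by
  letI : Algebra R A := ψ.toAlgebra
  haveI : Algebra.FiniteType R A := hψ
  letI : ∀ i, Algebra R (R' i) := fun i => (ρ i).toAlgebra
  letI : ∀ i, Algebra A (A' i) := fun i => (θ i).toAlgebra
  letI : ∀ i, Algebra (R' i) (A' i) := fun i => (ψ' i).toAlgebra
  letI : ∀ i, Algebra R (A' i) := fun i => ((θ i).comp ψ).toAlgebra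
  haveI : ∀ i, IsScalarTower R A (A' i) := fun i => IsScalarTower.of_algebraMap_eq (fun _ => rfl)
  have hsq : ∀ i, (θ i).comp ψ = (ψ' i).comp (ρ i) := fun i =>
    congrArg CommRingCat.Hom.hom (hpo i).w
  haveI : ∀ i, IsScalarTower R (R' i) (A' i) := fun i =>
    IsScalarTower.of_algebraMap_eq (fun x => by
      show ((θ i).comp ψ) x = ((ψ' i).comp (ρ i)) x
      rw [hsq i])
  haveI : ∀ i, Algebra.IsPushout R A (R' i) (A' i) := fun i =>
    CommRingCat.isPushout_iff_isPushout.mp (hpo i)
  haveI : ∀ i, Module.Flat R (R' i) := fun i => hflat i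
  obtain ⟨n, α, hα⟩ := exists_presentation (R := R) (A := A)
  refine (rel_iff_via α hα m _).mpr ?_
  have h2 : ∀ i, DRing.IsPseudoCoherent (MvPolynomial (Fin n) (R' i)) m
      (DerivedCategory.Q.obj ((esC (MvPolynomial.map (algebraMap R (R' i)) :
        MvPolynomial (Fin n) R →+* MvPolynomial (Fin n) (R' i))).obj
          ((rsC (α : MvPolynomial (Fin n) R →+* A)).obj K))) := fun i =>
    (via_bc_iff (R' := R' i) (A' := A' i) α K m).mp
      ((rel_iff_via (presBC α) (via_bc (R' := R' i) (A' := A' i) α hα K m).1 m _).mp (h i))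
  have hjf : JF R R' := jf_of_flat_of_cover R' hcov
  have hjfP := jf_poly R' n hjf
  haveI : ∀ i, Module.Flat (MvPolynomial (Fin n) R) (MvPolynomial (Fin n) (R' i)) := fun i =>
    Module.Flat.isBaseChange (R := R) (S := MvPolynomial (Fin n) R) (M := R' i)
      (MvPolynomial (Fin n) (R' i))
      (Algebra.IsPushout.out (R := R) (S := MvPolynomial (Fin n) R) (R' := R' i)
        (S' := MvPolynomial (Fin n) (R' i)))
  have h3 : DRing.IsPseudoCoherent (MvPolynomial (Fin n) R) m
      (DerivedCategory.Q.obj ((rsC (α : MvPolynomial (Fin n) R →+* A)).obj K)) := by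
    refine mpc_descent (fun i => MvPolynomial (Fin n) (R' i))
      (fun i => (MvPolynomial.map (algebraMap R (R' i)) :
        MvPolynomial (Fin n) R →+* MvPolynomial (Fin n) (R' i))) (fun i => ?_) (fun H hH => ?_)
      (fun H hH => ?_) m _ h2
    · exact RingHom.flat_algebraMap_iff.mpr inferInstance
    · rw [ModuleCat.isZero_iff_subsingleton]
      apply hjfP H
      intro i
      haveI hsub : Subsingleton ((ModuleCat.extendScalars.{u, u, u}
          (algebraMap (MvPolynomial (Fin n) R) (MvPolynomial (Fin n) (R' i)))).obj H) :=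
        (ModuleCat.isZero_iff_subsingleton).mp (hH i)
      exact (Groth.Agent.Helper13.Pullback.extendScalarsEquiv (MvPolynomial (Fin n) R)
        (MvPolynomial (Fin n) (R' i)) H).symm.injective.subsingleton
    · apply finite_of_jf (fun i => MvPolynomial (Fin n) (R' i)) hjfP H
      intro i
      haveI hf : Module.Finite (MvPolynomial (Fin n) (R' i)) ((ModuleCat.extendScalars.{u, u, u}
          (algebraMap (MvPolynomial (Fin n) R) (MvPolynomial (Fin n) (R' i)))).obj H) := hH i
      exact Module.Finite.equiv (Groth.Agent.Helper13.Pullback.extendScalarsEquiv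
        (MvPolynomial (Fin n) R) (MvPolynomial (Fin n) (R' i)) H)
  exact mpc_of_iso ((ModuleCat.restrictScalars.{u}
    (α : MvPolynomial (Fin n) R →+* A)).mapDerivedCategoryFactors.app K).symm h3

end Groth.Agent.Helper5.FBX
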