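import Groth.Agent.Lib.Helper5.FBX3
import Groth.Agent.Lib.Helper13.PullbackLocal

/-!
# Flat base change and flat descent of relative pseudo-coherence, part 4: the complex of modules
representing a flat pullback on an affine open
-/

set_option autoImplicit false
set_option linter.unusedSectionVars false
set_option linter.unusedVariables false
set_option linter.style.haveILetI false

universe u

open CategoryTheory CategoryTheory.Limits AlgebraicGeometry TopologicalSpace

attribute [local instance] HasDerivedCategory.standard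

namespace Groth.Agent.Helper5.FBX

open Groth.Agent.Helper5.TB Groth.Agent.Helper5.RPR Groth.Agent.Helper11
  Groth.Agent.Helper5.TBA Groth.Agent.Helper5.RT Groth.Agent.Helper5.PCT Groth.Agent.Helper5.TT
  Groth.Agent.Helper5.KF Groth.Agent.Helper9.RelPC Groth.Agent.Helper11.TA
  Groth.Agent.Helper5.LDer Groth.Agent.Helper5.CHP

section Tilde

variable {A A' : Type u} [CommRing A] [CommRing A'] (θ : A →+* A')

/-- pullback of the tilde of a complex along a morphism of affine schemes is the tilde of the
extension of scalars -/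
noncomputable def pullTildeCxIso (K : DRing.Cx A) :
    ((Scheme.Modules.pullback (Spec.map (CommRingCat.ofHom θ))).mapHomologicalComplex
      (ComplexShape.up ℤ)).obj ((tildeC A).obj K) ≅ (tildeC A').obj ((esC θ).obj K) := by
  haveI i1 : (tilde.functor (CommRingCat.of A) ⋙
      Scheme.Modules.pullback (Spec.map (CommRingCat.ofHom θ))).PreservesZeroMorphisms :=
    inferInstance
  haveI i2 : (ModuleCat.extendScalars.{u, u, u} θ ⋙
      tilde.functor (CommRingCat.of A')).PreservesZeroMorphisms := inferInstance
  exact (@NatIso.mapHomologicalComplex _ _ _ _ _ _ _ _ _ i1 i2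
    (Groth.Agent.Helper13.Pullback.tildePullbackIso (CommRingCat.ofHom θ))
    (ComplexShape.up ℤ)).app K

end Tilde

section Chart

variable {X X' : Scheme.{u}} (g : X' ⟶ X) [Flat g] [DCoh.HasLpull g] (E : DCoh.D X)
  {U : X.Opens} (hU : IsAffineOpen U) {U' : X'.Opens} (hU' : IsAffineOpen U')
  (hle : U' ≤ g ⁻¹ᵁ U)

include hU hU' in
theorem flat_specMap_appLE : Flat (Spec.map (g.appLE U U' hle)) :=
  Flat.SpecMap_iff.mpr (g.flat_appLE hU hU' hle)

/-- the complex of modules representing a flat pullback on an affine open mapping into an affine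
open on which the object is represented by `K` -/
noncomputable def chartLpull (K : DRing.Cx Γ(X, U))
    (e : chart E hU ≅ (DCoh.tildeD Γ(X, U)).obj (DerivedCategory.Q.obj K)) :
    chart ((DCoh.Lpull g).obj E) hU' ≅
      (DCoh.tildeD Γ(X', U')).obj
        (DerivedCategory.Q.obj ((esC (g.appLE U U' hle).hom).obj K)) := by
  let F := (DerivedCategory.Q (C := X.Modules)).objPreimage E
  let eF : DCoh.toD X F ≅ E := (DerivedCategory.Q (C := X.Modules)).objObjPreimageIso E
  let pF := ((Scheme.Modules.pullback g).mapHomologicalComplex (ComplexShape.up ℤ)).obj F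
  let e1 : DCoh.toD X' pF ≅ (DCoh.Lpull g).obj E :=
    (Groth.Agent.Helper5.RTA.LpullObjIsoOfFlat g F).symm ≪≫ (DCoh.Lpull g).mapIso eF
  let e2 := chartIso ((DCoh.Lpull g).obj E) hU' pF e1
  have comm : hU'.fromSpec ≫ g = Spec.map (g.appLE U U' hle) ≫ hU.fromSpec :=
    (IsAffineOpen.SpecMap_appLE_fromSpec g hU hU' hle).symm
  let e3 : (rCx hU'.fromSpec).obj pF ≅
      ((Scheme.Modules.pullback (Spec.map (g.appLE U U' hle))).mapHomologicalComplex
        (ComplexShape.up ℤ)).obj ((rCx hU.fromSpec).obj F) :=
    (NatIso.mapHomologicalComplex (Groth.Agent.Helper13.Pullback.pullbackRestrictIso g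
      hU'.fromSpec hU.fromSpec (Spec.map (g.appLE U U' hle)) comm) (ComplexShape.up ℤ)).app F
  let e4 : DerivedCategory.Q.obj ((rCx hU.fromSpec).obj F) ≅
      DerivedCategory.Q.obj ((tildeC Γ(X, U)).obj K) :=
    (chartIso E hU F eF).symm ≪≫ e ≪≫ (QtildeIso Γ(X, U) K).symm
  haveI : Flat (Spec.map (g.appLE U U' hle)) := flat_specMap_appLE g hU hU' hle
  haveI := Groth.Agent.Helper24.FlatPull.preservesFiniteLimits_pullback
    (Spec.map (g.appLE U U' hle))
  let e5 : DerivedCategory.Q.obj
        (((Scheme.Modules.pullback (Spec.map (g.appLE U U' hle))).mapHomologicalComplex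
          (ComplexShape.up ℤ)).obj ((rCx hU.fromSpec).obj F)) ≅
      DerivedCategory.Q.obj
        (((Scheme.Modules.pullback (Spec.map (g.appLE U U' hle))).mapHomologicalComplex
          (ComplexShape.up ℤ)).obj ((tildeC Γ(X, U)).obj K)) :=
    ((Scheme.Modules.pullback (Spec.map (g.appLE U U' hle))).mapDerivedCategoryFactors.app
        _).symm ≪≫
      (Scheme.Modules.pullback (Spec.map (g.appLE U U' hle))).mapDerivedCategory.mapIso e4 ≪≫
      (Scheme.Modules.pullback (Spec.map (g.appLE U U' hle))).mapDerivedCategoryFactors.app _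
  exact e2 ≪≫ DerivedCategory.Q.mapIso e3 ≪≫ e5 ≪≫
    DerivedCategory.Q.mapIso (pullTildeCxIso (g.appLE U U' hle).hom K) ≪≫
    QtildeIso Γ(X', U') ((esC (g.appLE U U' hle).hom).obj K)

end Chart

end Groth.Agent.Helper5.FBX
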