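import Groth.Agent.Lib.Helper5.FBX4

/-!
# Flat base change and flat descent of relative pseudo-coherence, part 5: affine opens of product
type in a fibre product; base change and descent on them
-/

set_option autoImplicit false
set_option linter.unusedSectionVars false
set_option linter.unusedVariables false
set_option linter.style.haveILetI false

universe u

open CategoryTheory CategoryTheory.Limits AlgebraicGeometry TopologicalSpace

attribute [local instance] HasDerivedCategory.standard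

namespace Groth.Agent.Helper5.FBX

open Groth.Agent.Helper5.TB Groth.Agent.Helper5.RPR Groth.Agent.Helper11
  Groth.Agent.Helper5.TBA Groth.Agent.Helper5.RT Groth.Agent.Helper5.PCT Groth.Agent.Helper5.TT
  Groth.Agent.Helper5.KF Groth.Agent.Helper9.RelPC Groth.Agent.Helper11.TA
  Groth.Agent.Helper5.LDer Groth.Agent.Helper5.CHP

section Geom

variable {X S S' X' : Scheme.{u}} {f : X ⟶ S} {h : S' ⟶ S} {g : X' ⟶ X} {f' : X' ⟶ S'}
  (H : IsPullback g f' f h) {U : X.Opens} {V : S.Opens} {V' : S'.Opens}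
  (hU : IsAffineOpen U) (hV : IsAffineOpen V) (hV' : IsAffineOpen V')
  (hUV : U ≤ f ⁻¹ᵁ V) (hV'V : V' ≤ h ⁻¹ᵁ V)

include H hU hV hV' hUV hV'V in
/-- the open of product type over three compatible affine opens is affine -/
theorem isAffineOpen_prod : IsAffineOpen (g ⁻¹ᵁ U ⊓ f' ⁻¹ᵁ V') := by
  haveI : IsAffine (V : Scheme.{u}) := hV
  haveI : IsAffine (V' : Scheme.{u}) := hV'
  haveI : IsAffine (U : Scheme.{u}) := hU
  exact .of_isIso (Scheme.Hom.isPullback_resLE H hV'V hUV rfl).isoPullback.hom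

include H hU hV hV' in
/-- the square of rings of sections over a compatible quadruple of affine opens is a pushout -/
theorem isPushout_appLE :
    IsPushout (f.appLE V U hUV) (h.appLE V V' hV'V)
      (g.appLE U (g ⁻¹ᵁ U ⊓ f' ⁻¹ᵁ V') inf_le_left)
      (f'.appLE V' (g ⁻¹ᵁ U ⊓ f' ⁻¹ᵁ V') inf_le_right) :=
  (isIso_pushoutSection_iff H hV'V hUV rfl).mp
    (isIso_pushoutSection_of_isAffineOpen H hV'V hUV rfl hV hV' hU)

end Geom

section BC

variable {X S S' X' : Scheme.{u}} (f : X ⟶ S) {h : S' ⟶ S} {g : X' ⟶ X} {f' : X' ⟶ S'}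
  (H : IsPullback g f' f h) [Flat h] [DCoh.HasLpull g] (E : DCoh.D X) (hE : DCoh.IsQCohD E)
  (m : ℤ) {U : X.Opens} {V : S.Opens} {V' : S'.Opens}
  (hU : IsAffineOpen U) (hV : IsAffineOpen V) (hV' : IsAffineOpen V')
  (hUV : U ≤ f ⁻¹ᵁ V) (hV'V : V' ≤ h ⁻¹ᵁ V)

include hE in
/-- flat base change of the ring-level condition on an affine pair -/
theorem relPC_bc (HU : RelPC f E m hU hV hUV) :
    RelPC f' ((DCoh.Lpull g).obj E) m (isAffineOpen_prod H hU hV hV' hUV hV'V) hV'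
      inf_le_right := by
  haveI : Flat g := MorphismProperty.of_isPullback (P := @Flat) H.flip inferInstance
  intro M' ⟨e'⟩
  obtain ⟨M, ⟨eM⟩⟩ := exists_model E hE hU
  let K := (DerivedCategory.Q (C := ModuleCat.{u} Γ(X, U))).objPreimage M
  let e₀ : DerivedCategory.Q.obj K ≅ M :=
    (DerivedCategory.Q (C := ModuleCat.{u} Γ(X, U))).objObjPreimageIso M
  have hK := rel_of_iso' f m hUV e₀.symm (HU M ⟨eM⟩)
  have h1 := ring_bc (f.appLE V U hUV).hom (h.appLE V V' hV'V).hom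
    (g.appLE U (g ⁻¹ᵁ U ⊓ f' ⁻¹ᵁ V') inf_le_left).hom
    (f'.appLE V' (g ⁻¹ᵁ U ⊓ f' ⁻¹ᵁ V') inf_le_right).hom
    (isPushout_appLE H hU hV hV' hUV hV'V) (h.flat_appLE hV hV' hV'V) K m hK
  have e2 := chartLpull g E hU (isAffineOpen_prod H hU hV hV' hUV hV'V) inf_le_left K
    (eM ≪≫ (DCoh.tildeD Γ(X, U)).mapIso e₀.symm)
  obtain ⟨i⟩ := repr_unique _ (isAffineOpen_prod H hU hV hV' hUV hV'V) _ M' e2 e'
  exact rel_of_iso' f' m inf_le_right i h1

end BC

section Descent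

variable {X S : Scheme.{u}} (f : X ⟶ S) [LocallyOfFiniteType f] (E : DCoh.D X)
  (hE : DCoh.IsQCohD E) (m : ℤ) {U : X.Opens} {V : S.Opens} (hU : IsAffineOpen U)
  (hV : IsAffineOpen V) (hUV : U ≤ f ⁻¹ᵁ V)
  {ι : Type*} [Finite ι] {S' X' : ι → Scheme.{u}} {h : ∀ k, S' k ⟶ S} {g : ∀ k, X' k ⟶ X}
  {f' : ∀ k, X' k ⟶ S' k} (H : ∀ k, IsPullback (g k) (f' k) f (h k)) [∀ k, Flat (h k)]
  [∀ k, DCoh.HasLpull (g k)] {V' : ∀ k, (S' k).Opens} (hV' : ∀ k, IsAffineOpen (V' k))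
  (hV'V : ∀ k, V' k ≤ (h k) ⁻¹ᵁ V)
  (hcov : ∀ y ∈ V, ∃ k, ∃ y' ∈ V' k, (h k).base y' = y)

include hcov in
/-- flat descent of the ring-level condition on an affine pair, along a finite family of flat
base changes to affine opens jointly covering the affine open of the base -/
theorem relPC_descent
    (HU : ∀ k, RelPC (f' k) ((DCoh.Lpull (g k)).obj E) m
      (isAffineOpen_prod (H k) hU hV (hV' k) hUV (hV'V k)) (hV' k) inf_le_right) :
    RelPC f E m hU hV hUV := by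
  haveI : ∀ k, Flat (g k) := fun k =>
    MorphismProperty.of_isPullback (P := @Flat) (H k).flip inferInstance
  intro M ⟨eM⟩
  let K := (DerivedCategory.Q (C := ModuleCat.{u} Γ(X, U))).objPreimage M
  let e₀ : DerivedCategory.Q.obj K ≅ M :=
    (DerivedCategory.Q (C := ModuleCat.{u} Γ(X, U))).objObjPreimageIso M
  refine rel_of_iso' f m hUV e₀ ?_
  refine ring_descent (f.appLE V U hUV).hom (f.finiteType_appLE hV hU hUV)
    (fun k => Γ(S' k, V' k)) (fun k => Γ(X' k, (g k) ⁻¹ᵁ U ⊓ (f' k) ⁻¹ᵁ V' k))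
    (fun k => ((h k).appLE V (V' k) (hV'V k)).hom)
    (fun k => ((g k).appLE U ((g k) ⁻¹ᵁ U ⊓ (f' k) ⁻¹ᵁ V' k) inf_le_left).hom)
    (fun k => ((f' k).appLE (V' k) ((g k) ⁻¹ᵁ U ⊓ (f' k) ⁻¹ᵁ V' k) inf_le_right).hom)
    (fun k => isPushout_appLE (H k) hU hV (hV' k) hUV (hV'V k))
    (fun k => (h k).flat_appLE hV (hV' k) (hV'V k)) ?_ K m
    (fun k => HU k _ ⟨chartLpull (g k) E hU (isAffineOpen_prod (H k) hU hV (hV' k) hUV (hV'V k))
      inf_le_left K (eM ≪≫ (DCoh.tildeD Γ(X, U)).mapIso e₀.symm)⟩)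
  intro p
  obtain ⟨k, y', hy', hy⟩ := hcov (hV.fromSpec.base p) (fromSpec_mem hV p)
  obtain ⟨q, hq⟩ := exists_fromSpec_eq (hV' k) y' hy'
  refine ⟨k, q, ?_⟩
  have h1 := IsAffineOpen.SpecMap_appLE_fromSpec (h k) hV (hV' k) (hV'V k)
  have h2 : hV.fromSpec.base ((Spec.map ((h k).appLE V (V' k) (hV'V k))).base q) =
      hV.fromSpec.base p := by
    rw [← Scheme.Hom.comp_apply, h1, Scheme.Hom.comp_apply, hq, hy]
  exact hV.fromSpec.isOpenEmbedding.injective h2

end Descent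

end Groth.Agent.Helper5.FBX
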