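import Groth.Agent.Lib.Helper5.FBX5
import Groth.Agent.Lib.Helper29.QcE

/-!
# Flat base change and flat descent of relative pseudo-coherence, part 6: descent along a flat,
surjective, quasi-compact base change
-/

set_option autoImplicit false
set_option linter.unusedSectionVars false
set_option linter.unusedVariables false
set_option linter.style.haveILetI false

universe u

open CategoryTheory CategoryTheory.Limits AlgebraicGeometry TopologicalSpace

attribute [local instance] HasDerivedCategory.standard

namespace Groth.Agent.Helper5.FBX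

open Groth.Agent.Helper5.CHP

/-- relative pseudo-coherence (chart form) of an object with quasi-coherent cohomology descends
along a flat, surjective, quasi-compact base change -/
theorem descent_fpqc {X Y Y' : Scheme.{u}} (f : X ⟶ Y) [LocallyOfFiniteType f] (h : Y' ⟶ Y)
    [Flat h] [Surjective h] [QuasiCompact h] [DCoh.HasLpull (pullback.fst f h)] (n : ℤ)
    (E : DCoh.D X) (hq : DCoh.IsQCohD E)
    (hE : DerSch.IsPseudoCoherentRel (pullback.snd f h) n
      ((DCoh.Lpull (pullback.fst f h)).obj E)) :
    DerSch.IsPseudoCoherentRel f n E := by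
  have hq' : DCoh.IsQCohD ((DCoh.Lpull (pullback.fst f h)).obj E) :=
    Groth.Agent.Helper29.QcE.main _ E hq
  have H' := (rel_iff_relPC (pullback.snd f h) _ n hq').mp hE
  rw [rel_iff_relPC f E n hq]
  intro U hU V hV hUV
  have hc : IsCompact (h ⁻¹ᵁ V : Set Y') := h.isCompact_preimage hV.isCompact
  obtain ⟨s, hs, hsV⟩ := isCompact_iff_finite_and_eq_biUnion_affineOpens.mp hc
  haveI : Finite s := hs.to_subtype
  refine relPC_descent f E n hU hV hUV (ι := s) (S' := fun _ => Y')
    (X' := fun _ => pullback f h) (h := fun _ => h) (g := fun _ => pullback.fst f h)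
    (f' := fun _ => pullback.snd f h) (fun _ => IsPullback.of_hasPullback f h)
    (V' := fun k => k.1.1) (fun k => k.1.2) (fun k => ?_) ?_ (fun k => H' _ _ _ _ _)
  · rw [hsV]
    exact le_iSup₂ (f := fun (i : Y'.affineOpens) (_ : i ∈ s) => (i : Y'.Opens)) k.1 k.2
  · intro y hy
    obtain ⟨y', rfl⟩ := h.surjective y
    have h1 : y' ∈ h ⁻¹ᵁ V := hy
    rw [hsV] at h1
    simp only [TopologicalSpace.Opens.mem_iSup] at h1
    obtain ⟨i, hi, hy'⟩ := h1
    exact ⟨⟨i, hi⟩, y', hy', rfl⟩

end Groth.Agent.Helper5.FBX
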