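import Groth.Agent.Lib.Helper5.FBX6

/-!
# Flat base change and flat descent of relative pseudo-coherence, part 7: flat base change, and
descent along an fppf covering of the base
-/

set_option autoImplicit false
set_option linter.unusedSectionVars false
set_option linter.unusedVariables false
set_option linter.style.haveILetI false

universe u

open CategoryTheory CategoryTheory.Limits AlgebraicGeometry TopologicalSpace

attribute [local instance] HasDerivedCategory.standard

namespace Groth.Agent.Helper5.FBX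

open Groth.Agent.Helper5.CHP

/-- flat base change of relative pseudo-coherence (chart form) for an object with quasi-coherent
cohomology -/
theorem bc_flat {X S S' : Scheme.{u}} (f : X ⟶ S) [LocallyOfFiniteType f] (h : S' ⟶ S) [Flat h]
    [DCoh.HasLpull (pullback.fst f h)] (m : ℤ) (E : DCoh.D X) (hq : DCoh.IsQCohD E)
    (hE : DerSch.IsPseudoCoherentRel f m E) :
    DerSch.IsPseudoCoherentRel (pullback.snd f h) m ((DCoh.Lpull (pullback.fst f h)).obj E) := by
  have hq' : DCoh.IsQCohD ((DCoh.Lpull (pullback.fst f h)).obj E) :=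
    Groth.Agent.Helper29.QcE.main _ E hq
  have HX := (rel_iff_relPC f E m hq).mp hE
  rw [rel_iff_relPC (pullback.snd f h) _ m hq']
  intro U' hU' V' hV' hU'V'
  refine relPC_of_local (pullback.snd f h) _ m hU' hV' hU'V' (fun x hx => ?_)
  have H := IsPullback.of_hasPullback f h
  -- an affine open of the base around the image of `x`
  obtain ⟨V, hV, hxV, -⟩ := (TopologicalSpace.Opens.isBasis_iff_nbhd.mp S.isBasis_affineOpens)
    (show h.base ((pullback.snd f h).base x) ∈ (⊤ : S.Opens) from trivial)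
  obtain ⟨V'', hV'', hxV'', hV''V⟩ :=
    (TopologicalSpace.Opens.isBasis_iff_nbhd.mp S'.isBasis_affineOpens)
      (show (pullback.snd f h).base x ∈ h ⁻¹ᵁ V from hxV)
  have hfx : f.base ((pullback.fst f h).base x) ∈ V := by
    have h1 : f.base ((pullback.fst f h).base x) = h.base ((pullback.snd f h).base x) := by
      rw [← Scheme.Hom.comp_apply, ← Scheme.Hom.comp_apply, pullback.condition]
    rw [h1]
    exact hxV
  obtain ⟨U, hU, hxU, hUV⟩ := (TopologicalSpace.Opens.isBasis_iff_nbhd.mp X.isBasis_affineOpens)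
    (show (pullback.fst f h).base x ∈ f ⁻¹ᵁ V from hfx)
  have H2 := relPC_bc f H E hq m hU hV hV'' hUV hV''V (HX U hU V hV hUV)
  exact relPC_transfer (pullback.snd f h) _ m hq' hU'
    (isAffineOpen_prod H hU hV hV'' hUV hV''V) hV' hV'' hU'V' inf_le_right H2 x hx
    ⟨hxU, hxV''⟩

/-- descent of relative pseudo-coherence (chart form) for an object with quasi-coherent
cohomology along an fppf covering of the base -/
theorem descent_fppf {X S : Scheme.{u}} (f : X ⟶ S) [LocallyOfFiniteType f] {ι : Type u}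
    (Si : ι → Scheme.{u}) (h : ∀ i, Si i ⟶ S) [∀ i, Flat (h i)]
    [∀ i, LocallyOfFinitePresentation (h i)]
    (hcov : ∀ s : S, ∃ (i : ι) (t : Si i), (h i).base t = s)
    [∀ i, DCoh.HasLpull (pullback.fst f (h i))] (m : ℤ) (E : DCoh.D X) (hq : DCoh.IsQCohD E)
    (hE : ∀ i, DerSch.IsPseudoCoherentRel (pullback.snd f (h i)) m
      ((DCoh.Lpull (pullback.fst f (h i))).obj E)) :
    DerSch.IsPseudoCoherentRel f m E := by
  have hq' : ∀ i, DCoh.IsQCohD ((DCoh.Lpull (pullback.fst f (h i))).obj E) := fun i =>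
    Groth.Agent.Helper29.QcE.main _ E hq
  have H' := fun i => (rel_iff_relPC (pullback.snd f (h i)) _ m (hq' i)).mp (hE i)
  rw [rel_iff_relPC f E m hq]
  intro U hU V hV hUV
  choose i t ht using hcov
  have hW : ∀ y : S, ∃ W : (Si (i y)).Opens, IsAffineOpen W ∧ W ≤ (h (i y)) ⁻¹ᵁ V ∧
      (y ∈ V → t y ∈ W) := by
    intro y
    by_cases hy : y ∈ V
    · obtain ⟨W, hW, hxW, hWV⟩ :=
        (TopologicalSpace.Opens.isBasis_iff_nbhd.mp (Si (i y)).isBasis_affineOpens)
          (show t y ∈ (h (i y)) ⁻¹ᵁ V by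
            show (h (i y)).base (t y) ∈ V
            rw [ht y]
            exact hy)
      exact ⟨W, hW, hWV, fun _ => hxW⟩
    · exact ⟨⊥, isAffineOpen_bot _, bot_le, fun h => (hy h).elim⟩
  choose W hWa hWV hWt using hW
  have hnhds : ∀ y ∈ (V : Set S), (h (i y)).base '' (W y : Set (Si (i y))) ∈ nhds y := by
    intro y hy
    refine IsOpen.mem_nhds ((h (i y)).isOpenMap _ (W y).isOpen) ⟨t y, hWt y hy, ht y⟩
  obtain ⟨T, hTV, hT⟩ := hV.isCompact.elim_nhds_subcover _ hnhds
  refine relPC_descent f E m hU hV hUV (ι := T) (S' := fun k => Si (i k.1))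
    (X' := fun k => pullback f (h (i k.1))) (h := fun k => h (i k.1))
    (g := fun k => pullback.fst f (h (i k.1))) (f' := fun k => pullback.snd f (h (i k.1)))
    (fun k => IsPullback.of_hasPullback f (h (i k.1)))
    (V' := fun k => W k.1) (fun k => hWa k.1) (fun k => hWV k.1) ?_
    (fun k => H' (i k.1) _ _ _ _ _)
  intro y hy
  have h1 := hT hy
  simp only [Set.mem_iUnion] at h1
  obtain ⟨z, hz, y', hy', hyy'⟩ := h1
  exact ⟨⟨z, hz⟩, y', hy', hyy'⟩

end Groth.Agent.Helper5.FBX
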