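import Groth.Agent.Lib.Helper5.FBX7

/-!
# Flat base change and flat descent of pseudo-coherence, part 8: absolute pseudo-coherence of an
object with quasi-coherent cohomology on affine opens; flat pullback and fpqc descent
-/

set_option autoImplicit false
set_option linter.unusedSectionVars false
set_option linter.unusedVariables false
set_option linter.style.haveILetI false

universe u

open CategoryTheory CategoryTheory.Limits AlgebraicGeometry TopologicalSpace

attribute [local instance] HasDerivedCategory.standard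

namespace Groth.Agent.Helper5.FBX

open Groth.Agent.Helper5.TB Groth.Agent.Helper5.RPR Groth.Agent.Helper11
  Groth.Agent.Helper5.TBA Groth.Agent.Helper5.RT Groth.Agent.Helper5.PCT Groth.Agent.Helper5.TT
  Groth.Agent.Helper5.KF Groth.Agent.Helper9.RelPC Groth.Agent.Helper11.TA
  Groth.Agent.Helper5.LDer Groth.Agent.Helper5.CHP Groth.Agent.Helper11.MPC

section Abs

variable {X : Scheme.{u}} (E : DCoh.D X) (m : ℤ)

/-- pseudo-coherence of `E` at the points of an affine open in terms of a complex of modules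
representing `E` there -/
theorem pcAt_iff_of_repr {U : X.Opens} (hU : IsAffineOpen U) (M : Dual.D Γ(X, U))
    (e : chart E hU ≅ (DCoh.tildeD Γ(X, U)).obj M) :
    (∀ x ∈ U, PCAt m E x) ↔ DRing.IsPseudoCoherent Γ(X, U) m M := by
  rw [← tilde_mpc_iff]
  constructor
  · intro h
    refine isPseudoCoherentD_of_iso e ?_
    intro z
    exact (pcAt_chart_iff E hU m z).mpr (h _ (fromSpec_mem hU z))
  · intro h x hx
    obtain ⟨z, rfl⟩ := exists_fromSpec_eq hU x hx
    exact (pcAt_chart_iff E hU m z).mp (isPseudoCoherentD_of_iso e.symm h z)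

end Abs

section Flat

variable {X X' : Scheme.{u}} (f : X' ⟶ X) [Flat f] [DCoh.HasLpull f] (E : DCoh.D X)
  (hE : DCoh.IsQCohD E) (m : ℤ)

include hE in
/-- flat pullback preserves pseudo-coherence of objects with quasi-coherent cohomology -/
theorem pc_Lpull_of_flat (h : DCoh.IsPseudoCoherentD m E) :
    DCoh.IsPseudoCoherentD m ((DCoh.Lpull f).obj E) := by
  intro x'
  obtain ⟨U, hU, hxU, -⟩ := (TopologicalSpace.Opens.isBasis_iff_nbhd.mp X.isBasis_affineOpens)
    (show f.base x' ∈ (⊤ : X.Opens) from trivial)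
  obtain ⟨U', hU', hxU', hle⟩ :=
    (TopologicalSpace.Opens.isBasis_iff_nbhd.mp X'.isBasis_affineOpens)
      (show x' ∈ f ⁻¹ᵁ U from hxU)
  obtain ⟨M, ⟨eM⟩⟩ := exists_model E hE hU
  let K := (DerivedCategory.Q (C := ModuleCat.{u} Γ(X, U))).objPreimage M
  let e₀ : DerivedCategory.Q.obj K ≅ M :=
    (DerivedCategory.Q (C := ModuleCat.{u} Γ(X, U))).objObjPreimageIso M
  have e1 : chart E hU ≅ (DCoh.tildeD Γ(X, U)).obj (DerivedCategory.Q.obj K) :=
    eM ≪≫ (DCoh.tildeD Γ(X, U)).mapIso e₀.symm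
  have h1 : DRing.IsPseudoCoherent Γ(X, U) m (DerivedCategory.Q.obj K) :=
    (pcAt_iff_of_repr E m hU _ e1).mp (fun x _ => h x)
  have h2 := mpc_esC (f.appLE U U' hle).hom (f.flat_appLE hU hU' hle) m K h1
  exact (pcAt_iff_of_repr _ m hU' _ (chartLpull f E hU hU' hle K e1)).mpr h2 x' hxU'

include hE in
/-- pseudo-coherence of objects with quasi-coherent cohomology descends along flat, surjective,
quasi-compact morphisms -/
theorem pc_of_Lpull_fpqc [Surjective f] [QuasiCompact f]
    (h : DCoh.IsPseudoCoherentD m ((DCoh.Lpull f).obj E)) : DCoh.IsPseudoCoherentD m E := by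
  intro x
  obtain ⟨U, hU, hxU, -⟩ := (TopologicalSpace.Opens.isBasis_iff_nbhd.mp X.isBasis_affineOpens)
    (show x ∈ (⊤ : X.Opens) from trivial)
  obtain ⟨M, ⟨eM⟩⟩ := exists_model E hE hU
  let K := (DerivedCategory.Q (C := ModuleCat.{u} Γ(X, U))).objPreimage M
  let e₀ : DerivedCategory.Q.obj K ≅ M :=
    (DerivedCategory.Q (C := ModuleCat.{u} Γ(X, U))).objObjPreimageIso M
  have e1 : chart E hU ≅ (DCoh.tildeD Γ(X, U)).obj (DerivedCategory.Q.obj K) :=
    eM ≪≫ (DCoh.tildeD Γ(X, U)).mapIso e₀.symm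
  refine (pcAt_iff_of_repr E m hU _ e1).mpr ?_ x hxU
  have hc : IsCompact (f ⁻¹ᵁ U : Set X') := f.isCompact_preimage hU.isCompact
  obtain ⟨s, hs, hsU⟩ := isCompact_iff_finite_and_eq_biUnion_affineOpens.mp hc
  haveI : Finite s := hs.to_subtype
  have hle : ∀ k : s, (k.1 : X'.Opens) ≤ f ⁻¹ᵁ U := fun k => by
    rw [hsU]
    exact le_iSup₂ (f := fun (i : X'.affineOpens) (_ : i ∈ s) => (i : X'.Opens)) k.1 k.2
  letI : ∀ k : s, Algebra Γ(X, U) Γ(X', (k.1 : X'.Opens)) := fun k =>
    (f.appLE U k.1.1 (hle k)).hom.toAlgebra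
  haveI : ∀ k : s, Module.Flat Γ(X, U) Γ(X', (k.1 : X'.Opens)) := fun k =>
    f.flat_appLE hU k.1.2 (hle k)
  have hjf : JF Γ(X, U) (fun k : s => Γ(X', (k.1 : X'.Opens))) := by
    refine jf_of_flat_of_cover _ (fun p => ?_)
    obtain ⟨y', hy'⟩ := f.surjective (hU.fromSpec.base p)
    have h1 : y' ∈ f ⁻¹ᵁ U := by
      show f.base y' ∈ U
      rw [hy']
      exact fromSpec_mem hU p
    rw [hsU] at h1
    simp only [TopologicalSpace.Opens.mem_iSup] at h1
    obtain ⟨i, hi, hy'i⟩ := h1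
    obtain ⟨q, hq⟩ := exists_fromSpec_eq i.2 y' hy'i
    refine ⟨⟨i, hi⟩, q, ?_⟩
    have h2 := IsAffineOpen.SpecMap_appLE_fromSpec f hU i.2 (hle ⟨i, hi⟩)
    have h3 : hU.fromSpec.base ((Spec.map (f.appLE U i.1 (hle ⟨i, hi⟩))).base q) =
        hU.fromSpec.base p := by
      rw [← Scheme.Hom.comp_apply, h2, Scheme.Hom.comp_apply, hq, hy']
    exact hU.fromSpec.isOpenEmbedding.injective h3
  refine mpc_descent (fun k : s => Γ(X', (k.1 : X'.Opens)))
    (fun k => (f.appLE U k.1.1 (hle k)).hom) (fun k => f.flat_appLE hU k.1.2 (hle k))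
    (fun H hH => ?_) (fun H hH => ?_) m K (fun k => ?_)
  · rw [ModuleCat.isZero_iff_subsingleton]
    apply hjf H
    intro k
    haveI hsub : Subsingleton ((ModuleCat.extendScalars.{u, u, u}
        (algebraMap Γ(X, U) Γ(X', (k.1 : X'.Opens)))).obj H) :=
      (ModuleCat.isZero_iff_subsingleton).mp (hH k)
    exact (Groth.Agent.Helper13.Pullback.extendScalarsEquiv Γ(X, U)
      Γ(X', (k.1 : X'.Opens)) H).symm.injective.subsingleton
  · apply finite_of_jf (fun k : s => Γ(X', (k.1 : X'.Opens))) hjf H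
    intro k
    haveI hf : Module.Finite Γ(X', (k.1 : X'.Opens)) ((ModuleCat.extendScalars.{u, u, u}
        (algebraMap Γ(X, U) Γ(X', (k.1 : X'.Opens)))).obj H) := hH k
    exact Module.Finite.equiv (Groth.Agent.Helper13.Pullback.extendScalarsEquiv
      Γ(X, U) Γ(X', (k.1 : X'.Opens)) H)
  · exact (pcAt_iff_of_repr _ m k.1.2 _ (chartLpull f E hU k.1.2 (hle k) K e1)).mp
      (fun x' _ => h x')

end Flat

end Groth.Agent.Helper5.FBX
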