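import Groth.Agent.Lib.Helper5.FBX8
import Groth.Agent.Lib.Helper13.PbUnit
import Groth.Agent.Lib.Helper13.QCohFin
import Groth.Agent.Lib.Helper13.QCohKer

/-!
# Flat base change and flat descent of relative pseudo-coherence, part 9: the structure sheaf;
flat base change and fpqc descent of `n`-pseudo-coherent morphisms
-/

set_option autoImplicit false
set_option linter.unusedSectionVars false
set_option linter.unusedVariables false
set_option linter.style.haveILetI false

universe u

open CategoryTheory CategoryTheory.Limits AlgebraicGeometry TopologicalSpace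

attribute [local instance] HasDerivedCategory.standard

namespace Groth.Agent.Helper5.FBX

open Groth.Agent.Helper5.CHP

/-- the structure sheaf in degree `0` has quasi-coherent cohomology -/
theorem isQCohD_unit (X : Scheme.{u}) : DCoh.IsQCohD (DCoh.toD X (DerSch.unitCx X)) := by
  intro i
  have e : DCoh.HD (DCoh.toD X (DerSch.unitCx X)) i ≅ (DerSch.unitCx X).homology i :=
    (DerivedCategory.homologyFunctorFactors X.Modules i).app _
  by_cases hi : i = 0
  · subst hi
    haveI : (Coh.structureModule X).IsQuasicoherent :=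
      Groth.Agent.Helper13.QCoh.isQuasicoherent_unit X
    exact Groth.Agent.Helper13.QCohLocal.isQuasicoherent_of_iso
      (e ≪≫ HomologicalComplex.singleObjHomologySelfIso (ComplexShape.up ℤ) 0
        (Coh.structureModule X)).symm
  · exact Groth.Agent.Helper13.QCohFin.isQuasicoherent_of_isZero
      (IsZero.of_iso (HomologicalComplex.isZero_single_obj_homology (ComplexShape.up ℤ) 0
        (Coh.structureModule X) i hi) e)

/-- the flat pullback of the structure sheaf in degree `0` -/
noncomputable def LpullUnitIso {X X' : Scheme.{u}} (g : X' ⟶ X) [Flat g] [DCoh.HasLpull g] :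
    (DCoh.Lpull g).obj (DCoh.toD X (DerSch.unitCx X)) ≅ DCoh.toD X' (DerSch.unitCx X') :=
  Groth.Agent.Helper5.RTA.LpullObjIsoOfFlat g (DerSch.unitCx X) ≪≫
    DerivedCategory.Q.mapIso
      ((HomologicalComplex.singleMapHomologicalComplex (Scheme.Modules.pullback g)
        (ComplexShape.up ℤ) 0).app (Coh.structureModule X) ≪≫
      (HomologicalComplex.single X'.Modules (ComplexShape.up ℤ) 0).mapIso
        (Groth.Agent.Helper13.PbUnit.pullbackUnitIso g))

/-- relative pseudo-coherence (chart form) only depends on the isomorphism class -/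
theorem isPseudoCoherentRel_of_iso {X S : Scheme.{u}} (f : X ⟶ S) (m : ℤ) {K K' : DCoh.D X}
    (e : K ≅ K') (h : DerSch.IsPseudoCoherentRel f m K) : DerSch.IsPseudoCoherentRel f m K' := by
  obtain ⟨h1, 𝒱, h𝒱, H⟩ := h
  refine ⟨h1, 𝒱, h𝒱, fun V hV => ?_⟩
  obtain ⟨𝒰, h𝒰, HU⟩ := H V hV
  refine ⟨𝒰, h𝒰, fun U hU hUV => ?_⟩
  obtain ⟨n, φ, hφ, hpc⟩ := HU U hU hUV
  exact ⟨n, φ, hφ, fun G ⟨eG⟩ => hpc G ⟨eG ≪≫ e.symm⟩⟩

/-- flat base change of `n`-pseudo-coherent morphisms -/
theorem npc_bc {X Y Y' : Scheme.{u}} (f : X ⟶ Y) [LocallyOfFiniteType f] (n : ℤ)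
    (hf : DerSch.IsNPseudoCoherent f n) (h : Y' ⟶ Y) [Flat h] :
    DerSch.IsNPseudoCoherent (pullback.snd f h) n := by
  haveI : DCoh.HasLpull (pullback.fst f h) := Groth.Agent.Helper5.LDer.hasLpull _
  haveI : Flat (pullback.fst f h) :=
    MorphismProperty.of_isPullback (P := @Flat) (IsPullback.of_hasPullback f h).flip inferInstance
  have h1 := bc_flat f h n _ (isQCohD_unit X) hf
  exact isPseudoCoherentRel_of_iso _ n (LpullUnitIso (pullback.fst f h)) h1

/-- descent of `n`-pseudo-coherent morphisms along flat, surjective, quasi-compact base changes -/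
theorem npc_descent {X Y Y' : Scheme.{u}} (f : X ⟶ Y) [LocallyOfFiniteType f] (n : ℤ)
    (h : Y' ⟶ Y) [Flat h] [Surjective h] [QuasiCompact h]
    (hf' : DerSch.IsNPseudoCoherent (pullback.snd f h) n) : DerSch.IsNPseudoCoherent f n := by
  haveI : DCoh.HasLpull (pullback.fst f h) := Groth.Agent.Helper5.LDer.hasLpull _
  haveI : Flat (pullback.fst f h) :=
    MorphismProperty.of_isPullback (P := @Flat) (IsPullback.of_hasPullback f h).flip inferInstance
  exact descent_fpqc f h n _ (isQCohD_unit X)
    (isPseudoCoherentRel_of_iso _ n (LpullUnitIso (pullback.fst f h)).symm hf')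

end Groth.Agent.Helper5.FBX
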