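import Groth.Agent.Lib.Helper5.TT1
import Groth.Agent.Lib.Helper5.LTen8
import Groth.Agent.Lib.Helper5.PBT2
import Groth.Agent.Lib.Helper5.LRes2
import Groth.Prelude.Def_DTor2

/-!
# Flat surjective descent of tor amplitude
-/

set_option autoImplicit false
set_option linter.unusedSectionVars false
set_option linter.unusedVariables false
set_option linter.style.haveILetI false

universe u

open CategoryTheory CategoryTheory.Limits AlgebraicGeometry MonoidalCategory ZeroObject

attribute [local instance] HasDerivedCategory.standard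

namespace Groth.Agent.Helper5.FD

section Ring

variable {R R' : Type u} [CommRing R] [CommRing R'] (φ : R →+* R')

/-- faithfully flat base change reflects vanishing of homology -/
theorem isZero_homology_of_extC (hφ : φ.Flat)
    (hff : letI := φ.toAlgebra; Module.FaithfullyFlat R R') (S : DRing.Cx R) (i : ℤ)
    (h : IsZero (((KF.extC φ).obj S).homology i)) : IsZero (S.homology i) := by
  haveI := ModuleCat.preservesFiniteLimits_extendScalars_of_flat.{u} hφ
  have e : ((KF.extC φ).obj S).homology i ≅ (ModuleCat.extendScalars φ).obj (S.homology i) :=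
    (S.sc i).mapHomologyIso (ModuleCat.extendScalars φ)
  have h2 : IsZero ((ModuleCat.extendScalars φ).obj (S.homology i)) := IsZero.of_iso h e.symm
  letI := φ.toAlgebra
  haveI := hff
  have h3 : Subsingleton (TensorProduct R R' (S.homology i)) :=
    ModuleCat.subsingleton_of_isZero h2
  rw [Module.FaithfullyFlat.subsingleton_tensorProduct_iff_right] at h3
  exact ModuleCat.isZero_of_subsingleton _

end Ring

section Scheme

open Groth.Agent.Helper5.Sky Groth.Agent.Helper5.LDer Groth.Agent.Helper5.PBT

variable {X Y : Scheme.{u}} (f : X ⟶ Y)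

/-- pullback on complexes -/
noncomputable abbrev pullC : CochainComplex Y.Modules ℤ ⥤ CochainComplex X.Modules ℤ :=
  (Scheme.Modules.pullback f).mapHomologicalComplex (ComplexShape.up ℤ)

lemma faithfullyFlat_stalk [Flat f] (x : X) :
    letI := (φst f x).toAlgebra
    Module.FaithfullyFlat (Y.presheaf.stalk (f.base x)) (X.presheaf.stalk x) := by
  letI := (φst f x).toAlgebra
  exact @Module.FaithfullyFlat.of_flat_of_isLocalHom _ _ _ _ _ _ _
    (Flat.stalkMap f x) (f.toLRSHom.prop x)

/-- pullback along a flat surjective morphism reflects vanishing of homology -/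
theorem isZero_homology_of_pullback [Flat f] [Surjective f] (C : CochainComplex Y.Modules ℤ)
    (i : ℤ) (h : IsZero (((pullC f).obj C).homology i)) : IsZero (C.homology i) := by
  apply StalkCx.isZero_homology_of_stalks
  intro y
  obtain ⟨x, rfl⟩ := f.surjective y
  have h1 := StalkCx.isZero_homology_stalk _ i h x
  have e : (KF.extC (φst f x)).obj (StalkCx.stalkCx (f.base x) C) ≅
      StalkCx.stalkCx x ((pullC f).obj C) :=
    ((NatIso.mapHomologicalComplex (pullbackStalkIso f x) (ComplexShape.up ℤ)).app C).symm
  exact isZero_homology_of_extC (φst f x) (Flat.stalkMap f x) (faithfullyFlat_stalk f x) _ i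
    (IsZero.of_iso h1 ((HomologicalComplex.homologyFunctor _ _ i).mapIso e))

/-- termwise tensor and pullback commute -/
noncomputable def pullTensRightIso (F : Y.Modules) :
    DCoh.tensorRightMod F ⋙ Scheme.Modules.pullback f ≅
      Scheme.Modules.pullback f ⋙ DCoh.tensorRightMod ((Scheme.Modules.pullback f).obj F) :=
  NatIso.ofComponents (fun M => pullbackTensorIso f M F) (fun {M M'} g => by
    have h := cmp_nat f g (𝟙 F)
    rw [CategoryTheory.Functor.map_id, ← TT.tensorRightMod_map, ← TT.tensorRightMod_map] at h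
    exact h)

/-- termwise tensor and pullback commute, on complexes -/
noncomputable def pullTensCxIso (F : Y.Modules) (K : CochainComplex Y.Modules ℤ) :
    (pullC f).obj (((DCoh.tensorRightMod F).mapHomologicalComplex (ComplexShape.up ℤ)).obj K) ≅
      ((DCoh.tensorRightMod ((Scheme.Modules.pullback f).obj F)).mapHomologicalComplex
        (ComplexShape.up ℤ)).obj ((pullC f).obj K) :=
  (Functor.mapHomologicalComplexCompIso (pullTensRightIso f F) (ComplexShape.up ℤ)).app K ≪≫
    ((Functor.mapHomologicalComplexCompIso (Iso.refl (Scheme.Modules.pullback f ⋙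
      DCoh.tensorRightMod ((Scheme.Modules.pullback f).obj F))) (ComplexShape.up ℤ)).app K).symm

lemma isZero_of_homology {Z : Scheme.{u}} {K : DCoh.D Z}
    (h : ∀ n : ℤ, IsZero (DCoh.HD K n)) : IsZero K := by
  have h1 : K.IsLE (-1) := by
    rw [DerivedCategory.isLE_iff]
    intro i _
    exact h i
  have h2 : K.IsGE 0 := by
    rw [DerivedCategory.isGE_iff]
    intro i _
    exact h i
  exact DerivedCategory.TStructure.t.isZero K (-1) 0 (by norm_num)

theorem hasFlatAmplitudeIn_of_Lpull [Flat f] [Surjective f] [DCoh.HasLpull f] (E : DCoh.D Y)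
    (a b : ℤ) (h : DCoh.HasFlatAmplitudeIn a b ((DCoh.Lpull f).obj E)) :
    DCoh.HasFlatAmplitudeIn a b E := by
  obtain ⟨K, hK, ⟨eK⟩⟩ := exists_kflat_repr E
  have hfK := isKFlat_pullback f K hK
  have e1 : (DCoh.Lpull f).obj E ≅ DerivedCategory.Q.obj ((pullC f).obj K) :=
    (DCoh.Lpull f).mapIso eK.symm ≪≫ LpullObjIso f K hK
  by_cases hab : a ≤ b
  · apply hasFlatAmplitudeIn_of_hasTorAmplitudeIn E a b hab
    have hT := hasTorAmplitudeIn_of_hasFlatAmplitudeIn a b _ h
    intro F _ i hi
    refine IsZero.of_iso ?_ ((DerivedCategory.homologyFunctor _ i).mapIso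
      ((DCoh.LTensorMod F).mapIso eK.symm ≪≫ LTensorModObjIso F K hK) ≪≫ HDQIso _ i)
    apply isZero_homology_of_pullback f
    haveI := hasLTensorMod ((Scheme.Modules.pullback f).obj F)
    have hz := hT ((Scheme.Modules.pullback f).obj F) i hi
    refine IsZero.of_iso hz ?_
    exact (HomologicalComplex.homologyFunctor _ _ i).mapIso (pullTensCxIso f F K) ≪≫
      (HDQIso _ i).symm ≪≫ (DerivedCategory.homologyFunctor _ i).mapIso
        ((LTensorModObjIso _ _ hfK).symm ≪≫ (DCoh.LTensorMod _).mapIso e1.symm)
  · obtain ⟨G, hG0, hGfl, ⟨eG⟩⟩ := h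
    have hall : ∀ i : ℤ, i < a ∨ b < i := fun i => by omega
    have hz : ∀ i : ℤ, IsZero (K.homology i) := by
      intro i
      apply isZero_homology_of_pullback f
      refine IsZero.of_iso (isZero_HD_Q_of_isZero_X G i (hG0 i (hall i))) ?_
      exact (HDQIso _ i).symm ≪≫ (DerivedCategory.homologyFunctor _ i).mapIso (e1.symm ≪≫ eG.symm)
    have hE : IsZero E := by
      apply isZero_of_homology
      intro n
      exact IsZero.of_iso (hz n) ((DerivedCategory.homologyFunctor _ n).mapIso eK.symm ≪≫
        HDQIso _ n)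
    refine ⟨0, fun i _ => (HomologicalComplex.eval _ _ i).map_isZero (isZero_zero _),
      fun i => KRes.isFlat_zero_X i, ⟨IsZero.iso ?_ hE⟩⟩
    exact (DerivedCategory.Q (C := Y.Modules)).map_isZero (isZero_zero _)

end Scheme

end Groth.Agent.Helper5.FD
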