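import Groth.Agent.Lib.Helper5.PRF3
import Groth.Agent.Lib.Helper13.LocFree3

/-!
# Finite local freeness over an open subset, expressed on the ambient scheme
-/

set_option autoImplicit false
set_option linter.unusedSectionVars false
set_option linter.unusedVariables false
set_option linter.style.haveILetI false

universe u

open CategoryTheory CategoryTheory.Limits AlgebraicGeometry

namespace Groth.Agent.Helper5.FLF

open Groth.Agent.Helper13.LocFree

variable {X : Scheme.{u}}

/-- `M` is finite locally free over the open `O`: around every point of `O` there is an affine open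
contained in `O` over which the sections of `M` have a finite basis -/
def FLFOn (M : X.Modules) (O : X.Opens) : Prop :=
  ∀ x ∈ O, ∃ (U : X.Opens) (n : ℕ), IsAffineOpen U ∧ x ∈ U ∧ U ≤ O ∧
    Nonempty (Module.Basis (Fin n) Γ(X, U) Γ(M, U))

lemma FLFOn.mono {M : X.Modules} [M.IsQuasicoherent] {O O' : X.Opens} (h : FLFOn M O)
    (hO : O' ≤ O) : FLFOn M O' := by
  intro x hx
  obtain ⟨U, n, hU, hxU, hUO, ⟨b⟩⟩ := h x (hO hx)
  obtain ⟨e⟩ := restrict_iso_freeMod_of_basis M hU b
  obtain ⟨_, ⟨V, hV, rfl⟩, hxV, hVU⟩ :=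
    X.isBasis_affineOpens.exists_subset_of_mem_open (show x ∈ ((U ⊓ O' : X.Opens) : Set X) from
      ⟨hxU, hx⟩) (U ⊓ O').2
  exact ⟨V, n, hV, hxV, fun z hz => (hVU hz).2,
    nonempty_basis_of_restrict_iso M e (fun z hz => (hVU hz).1)⟩

/-- from the ambient formulation to the restriction -/
theorem isFinLocFree_restrict_of_flfOn (M : X.Modules) [M.IsQuasicoherent] (O : X.Opens)
    (h : FLFOn M O) : FlatMod.IsFinLocFree (M.restrict O.ι) := by
  haveI : (M.restrict O.ι).IsQuasicoherent :=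
    inferInstanceAs ((Scheme.Modules.restrictFunctor O.ι).obj M).IsQuasicoherent
  rw [isFinLocFree_iff_of_isQuasicoherent]
  intro y
  obtain ⟨U, n, hU, hxU, hUO, hb⟩ := h y.1 y.2
  have hU' : U ≤ O.ι.opensRange := by rw [Scheme.Opens.opensRange_ι]; exact hUO
  have hV' : O.ι ''ᵁ (O.ι ⁻¹ᵁ U) = U := by
    rw [Scheme.Hom.image_preimage_eq_opensRange_inf]
    exact inf_eq_right.2 hU'
  obtain ⟨b₁⟩ := nonempty_basis_congr M hV'.symm hb
  exact ⟨O.ι ⁻¹ᵁ U, n, hU.preimage_of_isOpenImmersion O.ι hU', hxU,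
    ⟨basisRestrict O.ι M (O.ι ⁻¹ᵁ U) b₁⟩⟩

/-- from the restriction to the ambient formulation -/
theorem flfOn_of_isFinLocFree_restrict (M : X.Modules) [M.IsQuasicoherent] (O : X.Opens)
    (h : FlatMod.IsFinLocFree (M.restrict O.ι)) : FLFOn M O := by
  haveI : (M.restrict O.ι).IsQuasicoherent :=
    inferInstanceAs ((Scheme.Modules.restrictFunctor O.ι).obj M).IsQuasicoherent
  rw [isFinLocFree_iff_of_isQuasicoherent] at h
  intro x hx
  obtain ⟨V', n, hV', hyV', ⟨b'⟩⟩ := h ⟨x, hx⟩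
  exact ⟨O.ι ''ᵁ V', n, hV'.image_of_isOpenImmersion O.ι, ⟨⟨x, hx⟩, hyV', rfl⟩,
    Scheme.Opens.ι_image_le O V', ⟨basisOfRestrict O.ι M V' b'⟩⟩

theorem flfOn_iff_isFinLocFree_restrict (M : X.Modules) [M.IsQuasicoherent] (O : X.Opens) :
    FLFOn M O ↔ FlatMod.IsFinLocFree (M.restrict O.ι) :=
  ⟨isFinLocFree_restrict_of_flfOn M O, flfOn_of_isFinLocFree_restrict M O⟩

/-- invariance under isomorphism -/
lemma FLFOn.of_iso {M N : X.Modules} (e : M ≅ N) {O : X.Opens} (h : FLFOn M O) : FLFOn N O := by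
  intro x hx
  obtain ⟨U, n, hU, hxU, hUO, ⟨b⟩⟩ := h x hx
  exact ⟨U, n, hU, hxU, hUO, ⟨b.map (appLinearEquiv e U)⟩⟩

/-- a finite locally free module is finite locally free over every open -/
lemma flfOn_of_isFinLocFree (M : X.Modules) [M.IsQuasicoherent] (h : FlatMod.IsFinLocFree M)
    (O : X.Opens) : FLFOn M O := by
  have h1 : FLFOn M ⊤ := by
    rw [isFinLocFree_iff_of_isQuasicoherent] at h
    intro x _
    obtain ⟨U, n, hU, hxU, hb⟩ := h x
    exact ⟨U, n, hU, hxU, le_top, hb⟩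
  exact h1.mono le_top

/-- the stalks of a module finite locally free over `O` at the points of `O` are finite free -/
lemma FLFOn.free_finite_stalk {M : X.Modules} [M.IsQuasicoherent] {O : X.Opens} (h : FLFOn M O)
    (x : X) (hx : x ∈ O) :
    Module.Free (X.presheaf.stalk x) (M.presheaf.stalk x) ∧
      Module.Finite (X.presheaf.stalk x) (M.presheaf.stalk x) := by
  obtain ⟨U, n, hU, hxU, hUO, ⟨b⟩⟩ := h x hx
  haveI : Module.Free Γ(X, U) Γ(M, U) := Module.Free.of_basis b
  haveI : Module.Finite Γ(X, U) Γ(M, U) := Module.Finite.of_basis b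
  exact ⟨free_stalk_of_free_sections M hU ⟨x, hxU⟩, finite_stalk_of_finite_sections M hU ⟨x, hxU⟩⟩

end Groth.Agent.Helper5.FLF
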