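import Groth.Agent.Lib.Helper5.FLF1
import Groth.Agent.Lib.Helper5.ZLF1
import Groth.Agent.Lib.Helper5.FPC1
import Groth.Agent.Lib.Helper5.PCH1

/-!
# Kernels and cokernels of modules finite locally free over an open
-/

set_option autoImplicit false
set_option linter.unusedSectionVars false
set_option linter.unusedVariables false
set_option linter.style.haveILetI false

universe u

open CategoryTheory CategoryTheory.Limits AlgebraicGeometry

namespace Groth.Agent.Helper5.FLF

open Groth.Agent.Helper13.LocFree Groth.Agent.Helper5.RT Groth.Agent.Helper5.FPC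
  Groth.Agent.Helper5.PCH Groth.Agent.Helper5.PRF

variable {X : Scheme.{u}}

/-- the kernel of an epimorphism between modules finite locally free over `O` -/
theorem flfOn_kernel_of_epi {A B : X.Modules} [A.IsQuasicoherent] [B.IsQuasicoherent]
    (g : A ⟶ B) [Epi g] (O : X.Opens) (hA : FLFOn A O) (hB : FLFOn B O) :
    FLFOn (kernel g) O := by
  haveI : (kernel g).IsQuasicoherent := Groth.Agent.Helper13.QCohLocal.isQuasicoherent_kernel g
  apply flfOn_of_isFinLocFree_restrict
  haveI : Epi ((Scheme.Modules.restrictFunctor O.ι).map g) := inferInstance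
  have h := isFinLocFree_kernel_of_epi ((Scheme.Modules.restrictFunctor O.ι).map g)
    (isFinLocFree_restrict_of_flfOn A O hA) (isFinLocFree_restrict_of_flfOn B O hB)
  exact isFinLocFree_of_iso (PreservesKernel.iso (Scheme.Modules.restrictFunctor O.ι) g).symm h

/-- the cokernel of a morphism between modules finite locally free over `O` is finitely presented
over `O` -/
theorem isFinitePresentation_restrict_cokernel {A B : X.Modules} [A.IsQuasicoherent]
    [B.IsQuasicoherent] (φ : A ⟶ B) (O : X.Opens) (hA : FLFOn A O) (hB : FLFOn B O) :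
    SheafOfModules.IsFinitePresentation (R := (O : Scheme.{u}).ringCatSheaf)
      ((cokernel φ).restrict O.ι) := by
  have h := isFinitePresentation_cokernel ((Scheme.Modules.restrictFunctor O.ι).map φ)
    (isFinLocFree_restrict_of_flfOn A O hA) (isFinLocFree_restrict_of_flfOn B O hB)
  exact isFinitePresentation_of_iso
    (PreservesCokernel.iso (Scheme.Modules.restrictFunctor O.ι) φ).symm h

/-- a finitely presented quasi-coherent module whose stalk at `y` is projective has a finite basis
over an affine open neighbourhood of `y` -/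
theorem exists_affine_basis_of_projective_stalk (N : X.Modules) [N.IsQuasicoherent]
    [SheafOfModules.IsFinitePresentation (R := X.ringCatSheaf) N] (y : X)
    (h : Projective ((DerSch.stalkFunctor X y).obj N)) :
    ∃ (W : X.Opens) (n : ℕ), IsAffineOpen W ∧ y ∈ W ∧
      Nonempty (Module.Basis (Fin n) Γ(X, W) Γ(N, W)) := by
  haveI : Module.Projective (X.presheaf.stalk y) (N.presheaf.stalk y) :=
    (IsProjective.iff_projective (R := X.presheaf.stalk y) (N.presheaf.stalk y)).mpr h
  haveI : SheafOfModules.IsFiniteType (R := X.ringCatSheaf) N := by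
    let N' : SheafOfModules.{u} X.ringCatSheaf := N
    have hN' : N'.IsFinitePresentation := ‹_›
    exact (inferInstance : N'.IsFiniteType)
  haveI : Module.Finite (X.presheaf.stalk y) (N.presheaf.stalk y) :=
    finite_stalk_of_isFiniteType N y
  haveI : Module.Free (X.presheaf.stalk y) (N.presheaf.stalk y) :=
    Module.free_of_flat_of_isLocalRing
  obtain ⟨_, ⟨U, hU, rfl⟩, hyU, -⟩ :=
    X.isBasis_affineOpens.exists_subset_of_mem_open (Set.mem_univ y) isOpen_univ
  haveI := finitePresentation_sections_of_isFinitePresentation N hU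
  obtain ⟨r, hyr, n, hb⟩ := exists_basicOpen_basis N hU ⟨y, hyU⟩
  exact ⟨X.basicOpen r, n, hU.basicOpen r, hyr, hb⟩

/-- a quasi-coherent module which is finitely presented over `O` and whose stalk at `y ∈ O` is
projective is finite locally free over a neighbourhood of `y` -/
theorem exists_flfOn_of_projective_stalk (M : X.Modules) [M.IsQuasicoherent] (O : X.Opens)
    (hfp : SheafOfModules.IsFinitePresentation (R := (O : Scheme.{u}).ringCatSheaf)
      (M.restrict O.ι)) (y : X) (hy : y ∈ O)
    (hproj : Projective ((DerSch.stalkFunctor X y).obj M)) :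
    ∃ O' : X.Opens, O' ≤ O ∧ y ∈ O' ∧ FLFOn M O' := by
  haveI : (M.restrict O.ι).IsQuasicoherent :=
    inferInstanceAs ((Scheme.Modules.restrictFunctor O.ι).obj M).IsQuasicoherent
  haveI := hfp
  have h1 : Projective ((DerSch.stalkFunctor (O : Scheme.{u}) ⟨y, hy⟩).obj (M.restrict O.ι)) := by
    rw [projective_iff_hasProjectiveDimensionLT_one] at hproj ⊢
    exact hasProjectiveDimensionLT_stalk_restrict O.ι ⟨y, hy⟩ M 0 hproj
  obtain ⟨W, n, hW, hyW, ⟨b⟩⟩ :=
    exists_affine_basis_of_projective_stalk (M.restrict O.ι) ⟨y, hy⟩ h1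
  refine ⟨O.ι ''ᵁ W, Scheme.Opens.ι_image_le O W, ⟨⟨y, hy⟩, hyW, rfl⟩, ?_⟩
  intro x hx
  exact ⟨O.ι ''ᵁ W, n, hW.image_of_isOpenImmersion O.ι, hx, le_rfl,
    ⟨basisOfRestrict O.ι M W b⟩⟩

end Groth.Agent.Helper5.FLF
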