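import Groth.Agent.Lib.Helper5.FLF2

/-!
# The cohomology sheaves of a strictly perfect complex near a point where they are projective
-/

set_option autoImplicit false
set_option linter.unusedSectionVars false
set_option linter.unusedVariables false
set_option linter.style.haveILetI false

universe u

open CategoryTheory CategoryTheory.Limits AlgebraicGeometry

namespace Groth.Agent.Helper5.FLF

open Groth.Agent.Helper13.LocFree Groth.Agent.Helper5.RT Groth.Agent.Helper5.FPC
  Groth.Agent.Helper5.PCH Groth.Agent.Helper5.PRF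

variable {X : Scheme.{u}}

section QC

variable (P : CochainComplex X.Modules ℤ) (hq : ∀ i : ℤ, (P.X i).IsQuasicoherent)

/-- the cycles as a kernel -/
noncomputable def cyclesIsoKernel (j : ℤ) : P.cycles j ≅ kernel (P.d j (j + 1)) :=
  IsLimit.conePointUniqueUpToIso (P.cyclesIsKernel j (j + 1) (by simp)) (limit.isLimit _)

/-- the homology as a cokernel -/
noncomputable def homologyIsoCokernel (j : ℤ) :
    P.homology (j + 1) ≅ cokernel (P.toCycles j (j + 1)) :=
  IsColimit.coconePointUniqueUpToIso (P.homologyIsCokernel j (j + 1) (by simp))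
    (colimit.isColimit _)

include hq in
lemma isQuasicoherent_cycles (j : ℤ) : (P.cycles j).IsQuasicoherent := by
  haveI := hq j
  haveI := hq (j + 1)
  haveI := Groth.Agent.Helper13.QCohLocal.isQuasicoherent_kernel (P.d j (j + 1))
  exact Groth.Agent.Helper13.QCohLocal.isQuasicoherent_of_iso (cyclesIsoKernel P j).symm

include hq in
lemma isQuasicoherent_homology (j : ℤ) : (P.homology j).IsQuasicoherent := by
  haveI := hq (j - 1)
  haveI := isQuasicoherent_cycles P hq j
  haveI := Groth.Agent.Helper13.QCohLocal.isQuasicoherent_cokernel (P.toCycles (j - 1) j)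
  have e : P.homology j ≅ cokernel (P.toCycles (j - 1) j) :=
    IsColimit.coconePointUniqueUpToIso (P.homologyIsCokernel (j - 1) j (by simp))
      (colimit.isColimit _)
  exact Groth.Agent.Helper13.QCohLocal.isQuasicoherent_of_iso e.symm

/-- the kernel of `toCycles` is the module of cycles -/
noncomputable def kernelToCyclesIso (j : ℤ) : kernel (P.toCycles j (j + 1)) ≅ P.cycles j :=
  (kernelCompMono (P.toCycles j (j + 1)) (P.iCycles (j + 1))).symm ≪≫
    kernelIsoOfEq (P.toCycles_i j (j + 1)) ≪≫ (cyclesIsoKernel P j).symm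

end QC

section Main

variable (P : CochainComplex X.Modules ℤ) (c : ℤ)
  (hc : ∀ i : ℤ, c < i → IsZero (P.X i))
  (hf : ∀ i : ℤ, FlatMod.IsFinLocFree (P.X i))
  (y : X) (hproj : ∀ i : ℤ, Projective ((DerSch.stalkFunctor X y).obj (P.homology i)))

include hc hf hproj in
theorem exists_flfOn_aux (k : ℕ) : ∀ (j : ℤ), c + 1 - k ≤ j →
    ∃ O : X.Opens, y ∈ O ∧ FLFOn (P.cycles j) O ∧ ∀ i : ℤ, j < i → FLFOn (P.homology i) O := by
  have hq : ∀ i : ℤ, (P.X i).IsQuasicoherent := fun i => isQuasicoherent_of_isFinLocFree _ (hf i)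
  have hqZ := isQuasicoherent_cycles P hq
  have hqH := isQuasicoherent_homology P hq
  induction k with
  | zero =>
    intro j hj
    refine ⟨⊤, trivial, ?_, fun i hi => ?_⟩
    · haveI := hqZ j
      exact flfOn_of_isFinLocFree _ (isFinLocFree_of_isZero
        (IsZero.of_mono (P.iCycles j) (hc j (by push_cast at hj; omega)))) ⊤
    · haveI := hqH i
      exact flfOn_of_isFinLocFree _ (isFinLocFree_of_isZero
        ((HomologicalComplex.ExactAt.of_isZero (hc i (by push_cast at hj; omega))).isZero_homology))
        ⊤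
  | succ k ih =>
    intro j hj
    obtain ⟨O₁, hy₁, hZ₁, hH₁⟩ := ih (j + 1) (by push_cast at hj ⊢; omega)
    haveI := hq j
    haveI := hqZ (j + 1)
    haveI := hqZ j
    haveI := hqH (j + 1)
    -- the homology in degree `j + 1` is finitely presented over `O₁`
    have hA₁ : FLFOn (P.X j) O₁ := flfOn_of_isFinLocFree _ (hf j) O₁
    have hfp := isFinitePresentation_restrict_cokernel (P.toCycles j (j + 1)) O₁ hA₁ hZ₁
    have hfp' : SheafOfModules.IsFinitePresentation (R := (O₁ : Scheme.{u}).ringCatSheaf)
        ((P.homology (j + 1)).restrict O₁.ι) :=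
      isFinitePresentation_of_iso
        ((Scheme.Modules.restrictFunctor O₁.ι).mapIso (homologyIsoCokernel P j).symm) hfp
    obtain ⟨O₂, hO₂, hy₂, hH₂⟩ :=
      exists_flfOn_of_projective_stalk (P.homology (j + 1)) O₁ hfp' y hy₁ (hproj (j + 1))
    -- the boundaries
    have hZ₂ : FLFOn (P.cycles (j + 1)) O₂ := hZ₁.mono hO₂
    have hB := flfOn_kernel_of_epi (P.homologyπ (j + 1)) O₂ hZ₂ hH₂
    haveI : (kernel (P.homologyπ (j + 1))).IsQuasicoherent :=
      Groth.Agent.Helper13.QCohLocal.isQuasicoherent_kernel (P.homologyπ (j + 1))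
    -- the cycles
    have hex : (ShortComplex.mk (P.toCycles j (j + 1)) (P.homologyπ (j + 1))
        (P.toCycles_comp_homologyπ j (j + 1))).Exact :=
      ShortComplex.exact_of_g_is_cokernel _ (P.homologyIsCokernel j (j + 1) (by simp))
    haveI hepi : Epi (kernel.lift (P.homologyπ (j + 1)) (P.toCycles j (j + 1))
        (P.toCycles_comp_homologyπ j (j + 1))) :=
      (ShortComplex.exact_iff_epi_kernel_lift _).mp hex
    have hK := flfOn_kernel_of_epi (kernel.lift (P.homologyπ (j + 1)) (P.toCycles j (j + 1))
        (P.toCycles_comp_homologyπ j (j + 1))) O₂ (flfOn_of_isFinLocFree _ (hf j) O₂) hB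
    have e : kernel (kernel.lift (P.homologyπ (j + 1)) (P.toCycles j (j + 1))
        (P.toCycles_comp_homologyπ j (j + 1))) ≅ P.cycles j :=
      (kernelCompMono _ (kernel.ι (P.homologyπ (j + 1)))).symm ≪≫
        kernelIsoOfEq (kernel.lift_ι _ _ _) ≪≫ kernelToCyclesIso P j
    refine ⟨O₂, hy₂, hK.of_iso e, fun i hi => ?_⟩
    by_cases hij : i = j + 1
    · subst hij
      exact hH₂
    · haveI := hqH i
      exact (hH₁ i (by omega)).mono hO₂

include hc hf hproj in
/-- near a point where all the cohomology sheaves of a bounded above complex of finite locally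
free modules, vanishing in degrees `< a`, have projective stalks, these are finite locally free -/
theorem exists_flfOn_homology (a : ℤ) (ha : ∀ i : ℤ, i < a → IsZero (P.X i)) :
    ∃ O : X.Opens, y ∈ O ∧ ∀ i : ℤ, FLFOn (P.homology i) O := by
  obtain ⟨O, hy, -, hO⟩ := exists_flfOn_aux P c hc hf y hproj (c + 1 - (a - 1)).toNat (a - 1)
    (by omega)
  have hq : ∀ i : ℤ, (P.X i).IsQuasicoherent := fun i => isQuasicoherent_of_isFinLocFree _ (hf i)
  refine ⟨O, hy, fun i => ?_⟩
  by_cases hi : a - 1 < i
  · exact hO i hi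
  · haveI := isQuasicoherent_homology P hq i
    exact flfOn_of_isFinLocFree _ (isFinLocFree_of_isZero
      ((HomologicalComplex.ExactAt.of_isZero (ha i (by omega))).isZero_homology)) O

end Main

end Groth.Agent.Helper5.FLF
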