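import Groth.Agent.Lib.Helper5.LTen7

/-!
# Flatness of the cokernel at the lower end of a complex which is exact above
-/

set_option autoImplicit false
set_option linter.unusedSectionVars false
set_option linter.unusedVariables false
set_option linter.style.haveILetI false

universe u

open CategoryTheory CategoryTheory.Limits TensorProduct Function AlgebraicGeometry

namespace Groth.Agent.Helper5.FPC

open Groth.Agent.Helper11.TA

section Ring

variable {R : Type u} [CommRing R] (C : CochainComplex (ModuleCat.{u} R) ℤ) (j₀ c : ℤ)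
  (hc : ∀ i : ℤ, c < i → IsZero (C.X i))
  (hflat : ∀ i : ℤ, j₀ ≤ i → Module.Flat R (C.X i))
  (hex : ∀ i : ℤ, j₀ ≤ i → C.ExactAt i)

include hc hflat hex in
theorem flat_ker_of_exact_above_aux (n : ℕ) : ∀ (j k : ℤ), j + 1 = k → j₀ ≤ j → c + 1 - n ≤ j →
    Module.Flat R (LinearMap.ker (C.d j k).hom) := by
  induction n with
  | zero =>
    intro j k hjk _ hj
    haveI : Subsingleton (C.X j) := ModuleCat.subsingleton_of_isZero (hc j (by omega))
    haveI : Subsingleton (LinearMap.ker (C.d j k).hom) :=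
      ⟨fun x y => Subtype.ext (Subsingleton.elim _ _)⟩
    infer_instance
  | succ n ih =>
    intro j k hjk hj₀ hj
    obtain ⟨p, hp, hex', -⟩ := exists_ses C j k (k + 1) hjk rfl (hex k (by omega))
    haveI := hflat j hj₀
    haveI := ih k (k + 1) rfl (by omega) (by omega)
    exact flat_of_exact (LinearMap.ker (C.d j k).hom).subtype p
      (Submodule.injective_subtype _) hp hex'

include hc hflat hex in
theorem flat_ker_of_exact_above (j k : ℤ) (hjk : j + 1 = k) (hj : j₀ ≤ j) :
    Module.Flat R (LinearMap.ker (C.d j k).hom) :=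
  flat_ker_of_exact_above_aux C j₀ c hc hflat hex (c + 1 - j).toNat j k hjk hj (by omega)

include hc hflat hex in
/-- if `C` is exact in degrees `≥ j₀`, bounded above, with flat terms in degrees `≥ j₀`, then
the cokernel of `C^{j₀-1} ⟶ C^{j₀}` is flat -/
theorem flat_quot_range_of_exact_above (i : ℤ) (hi : i + 1 = j₀) :
    Module.Flat R (C.X j₀ ⧸ LinearMap.range (C.d i j₀).hom) := by
  have e1 : LinearMap.range (C.d i j₀).hom = LinearMap.ker (C.d j₀ (j₀ + 1)).hom :=
    range_eq_ker_of_exactAt C _ _ _ hi rfl (hex j₀ le_rfl)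
  have e2 : LinearMap.range (C.d j₀ (j₀ + 1)).hom = LinearMap.ker (C.d (j₀ + 1) (j₀ + 1 + 1)).hom :=
    range_eq_ker_of_exactAt C _ _ _ rfl rfl (hex (j₀ + 1) (by omega))
  haveI := flat_ker_of_exact_above C j₀ c hc hflat hex (j₀ + 1) (j₀ + 1 + 1) rfl (by omega)
  have e : (C.X j₀ ⧸ LinearMap.range (C.d i j₀).hom) ≃ₗ[R]
      LinearMap.ker (C.d (j₀ + 1) (j₀ + 1 + 1)).hom :=
    (Submodule.quotEquivOfEq _ _ e1).trans
      ((C.d j₀ (j₀ + 1)).hom.quotKerEquivRange.trans (LinearEquiv.ofEq _ _ e2))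
  exact Module.Flat.of_linearEquiv e

end Ring

section Sheaf

open Groth.Agent.Helper5.StalkCx Groth.Agent.Helper5.LDer

variable {X : Scheme.{u}}

/-- if a complex of `O_X`-modules is exact in degrees `≥ j₀`, bounded above, with flat terms in
degrees `≥ j₀`, then the cokernel of `K^{j₀-1} ⟶ K^{j₀}` is flat -/
theorem isFlat_cokernel_d_of_exact_above (K : CochainComplex X.Modules ℤ) (j₀ c : ℤ)
    (hc : ∀ i : ℤ, c < i → IsZero (K.X i))
    (hflat : ∀ i : ℤ, j₀ ≤ i → FlatMod.IsFlat (K.X i))
    (hex : ∀ i : ℤ, j₀ ≤ i → K.ExactAt i) (i : ℤ) (hi : i + 1 = j₀) :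
    FlatMod.IsFlat (cokernel (K.d i j₀)) := by
  apply isFlat_cokernel_of_stalks
  intro x
  refine flat_quot_range_of_exact_above (stalkCx x K) j₀ c ?_ ?_ ?_ i hi
  · intro k hk
    exact (DerSch.stalkFunctor X x).map_isZero (hc k hk)
  · intro k hk
    exact hflat k hk x
  · intro k hk
    rw [HomologicalComplex.exactAt_iff_isZero_homology]
    exact isZero_homology_stalk K k
      ((HomologicalComplex.exactAt_iff_isZero_homology _ _).mp (hex k hk)) x

end Sheaf

end Groth.Agent.Helper5.FPC
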