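import Groth.Agent.Lib.Helper5.FPC1
import Groth.Agent.Lib.Helper5.FPC2
import Groth.Agent.Lib.Helper5.PC2
import Groth.Agent.Lib.Helper5.BP1

/-!
# The canonical truncation of a strictly perfect complex mapping to a flat bounded below complex
-/

set_option autoImplicit false
set_option linter.unusedSectionVars false
set_option linter.unusedVariables false
set_option linter.style.haveILetI false

universe u

open CategoryTheory CategoryTheory.Limits AlgebraicGeometry HomologicalComplex

attribute [local instance] HasDerivedCategory.standard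

namespace Groth.Agent.Helper5.FPC

open CochainComplex Groth.Agent.Helper5.LDer Groth.Agent.Helper5.KRes
  Groth.Agent.Helper13.LocFree Groth.Agent.Helper5.RT

section Abelian

variable {𝒜 : Type*} [Category 𝒜] [Abelian 𝒜] {P G : CochainComplex 𝒜 ℤ} (β : P ⟶ G)

/-- the first projection identifies the term of the cone with the term of the source in the
degrees where the target vanishes -/
noncomputable def coneXIsoOfIsZero (i j : ℤ) (hij : i + 1 = j) (h : IsZero (G.X i)) :
    (mappingCone β).X i ≅ P.X j where
  hom := (mappingCone.fst β).1.v i j hij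
  inv := (mappingCone.inl β).v j i (by omega)
  hom_inv_id := by
    have h1 := mappingCone.id_X β i j hij
    rw [h.eq_of_tgt ((mappingCone.snd β).v i i (add_zero i)) 0, zero_comp, add_zero] at h1
    exact h1
  inv_hom_id := mappingCone.inl_v_fst_v β j i hij

/-- the opposite of an isomorphism -/
def negIso {A B : 𝒜} (e : A ≅ B) : A ≅ B where
  hom := -e.hom
  inv := -e.inv
  hom_inv_id := by simp
  inv_hom_id := by simp

/-- the cokernel of the differential of the cone in the degrees where the target vanishes -/
noncomputable def cokernelConeIso (i j k : ℤ) (hij : i + 1 = j) (hjk : j + 1 = k)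
    (hi : IsZero (G.X i)) (hj : IsZero (G.X j)) :
    cokernel ((mappingCone β).d i j) ≅ cokernel (P.d j k) :=
  cokernel.mapIso _ _ (negIso (coneXIsoOfIsZero β i j hij hi)) (coneXIsoOfIsZero β j k hjk hj) (by
    dsimp [negIso, coneXIsoOfIsZero]
    rw [mappingCone.d_fst_v β i j k hij hjk, Preadditive.neg_comp])

end Abelian

variable {X : Scheme.{u}}

lemma isFinLocFree_of_isZero {M : X.Modules} (h : IsZero M) : FlatMod.IsFinLocFree M := by
  intro x
  exact ⟨⊤, 0, trivial, ⟨((Scheme.Modules.restrictFunctor (⊤ : X.Opens).ι).map_isZero h).iso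
    (isZero_freeMod_zero _)⟩⟩

/-- if `β : P ⟶ G` is a morphism from a strictly perfect complex to a complex of flat modules
vanishing outside `[a, b]` which induces isomorphisms on `H^i` for `i ≥ a`, then `τ_{≥ a} P` is
strictly perfect and isomorphic to `G` in the derived category -/
theorem truncGE_model {P G : CochainComplex X.Modules ℤ} (β : P ⟶ G) (a b : ℤ)
    (aP bP : ℤ) (hvP : DCoh.VanishesOutside P aP bP) (hfP : ∀ i, FlatMod.IsFinLocFree (P.X i))
    (hGfl : ∀ i, FlatMod.IsFlat (G.X i))
    (hG : DCoh.VanishesOutside G a b) (hβ : PC.IsConn (a - 1) (DerivedCategory.Q.map β)) :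
    DCoh.IsStrictlyPerfect (P.truncGE a) ∧ DCoh.VanishesOutside (P.truncGE a) a (max a bP) ∧
      Nonempty (DerivedCategory.Q.obj G ≅ DerivedCategory.Q.obj (P.truncGE a)) := by
  -- exactness of the cone in degrees `≥ a - 1`
  have hCex : ∀ i, a - 1 ≤ i → (mappingCone β).ExactAt i := by
    intro i hi
    have hz := (PC.isConn_mor₁_iff _ (DerivedCategory.mappingCone_triangle_distinguished β)
      (a - 1)).mp hβ i hi
    rw [HomologicalComplex.exactAt_iff_isZero_homology]
    exact IsZero.of_iso hz (HDQIso (mappingCone β) i).symm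
  have hCz : ∀ i, max bP b < i → IsZero ((mappingCone β).X i) := by
    intro i hi
    refine IsZero.of_iso ?_ (HomologicalComplex.homotopyCofiber.XIsoBiprod β i (i + 1) rfl)
    rw [biprod_isZero_iff]
    exact ⟨hvP (i + 1) (Or.inr (by have := le_max_left bP b; omega)),
      hG i (Or.inr (by have := le_max_right bP b; omega))⟩
  have hCfl : ∀ i, FlatMod.IsFlat ((mappingCone β).X i) :=
    isFlat_mappingCone_X β (fun n => isFlat_of_isFinLocFree _ (hfP n)) hGfl
  have hfl1 : FlatMod.IsFlat (cokernel ((mappingCone β).d (a - 1 - 1) (a - 1))) :=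
    isFlat_cokernel_d_of_exact_above (mappingCone β) (a - 1) (max bP b) hCz (fun i _ => hCfl i) hCex
      (a - 1 - 1) (by omega)
  have hfl2 : FlatMod.IsFlat (cokernel (P.d (a - 1) a)) :=
    isFlat_of_iso (cokernelConeIso β (a - 1 - 1) (a - 1) a (by omega) (by omega)
      (hG _ (Or.inl (by omega))) (hG _ (Or.inl (by omega)))) hfl1
  have hlf : FlatMod.IsFinLocFree (cokernel (P.d (a - 1) a)) :=
    isFinLocFree_cokernel_of_isFlat _ (hfP _) (hfP _) hfl2
  have hvT : DCoh.VanishesOutside (P.truncGE a) a (max a bP) := by
    intro i hi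
    rcases hi with hi | hi
    · exact (P.truncGE a).isZero_of_isStrictlyGE a i hi
    · have hai : a < i := by have := le_max_left a bP; omega
      exact IsZero.of_iso (hvP i (Or.inr (by have := le_max_right a bP; omega)))
        (P.truncGEXIso a i hai)
  have hT : DCoh.IsStrictlyPerfect (P.truncGE a) := by
    refine ⟨⟨a, max a bP, hvT⟩, ?_⟩
    intro i
    rcases lt_trichotomy i a with hi | hi | hi
    · exact isFinLocFree_of_isZero ((P.truncGE a).isZero_of_isStrictlyGE a i hi)
    · subst hi
      exact isFinLocFree_of_iso ((P.truncGEXIsoOpcycles i ≪≫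
        P.opcyclesIsoSc' (i - 1) i (i + 1) (by simp) (by simp) ≪≫
        (P.sc' (i - 1) i (i + 1)).opcyclesIsoCokernel)).symm hlf
    · exact isFinLocFree_of_iso (P.truncGEXIso a i hi).symm (hfP i)
  haveI : G.IsStrictlyGE a := by
    rw [CochainComplex.isStrictlyGE_iff]
    exact fun i hi => hG i (Or.inl hi)
  haveI : QuasiIso (truncGEMap β a) := by
    rw [CochainComplex.quasiIso_truncGEMap_iff]
    intro i hi
    rw [quasiIsoAt_iff_isIso_homologyMap]
    have h1 := hβ.1 i (by omega)
    exact (NatIso.isIso_map_iff (DerivedCategory.homologyFunctorFactors X.Modules i) β).mp h1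
  exact ⟨hT, hvT, ⟨asIso (DerivedCategory.Q.map (G.πTruncGE a)) ≪≫
    (asIso (DerivedCategory.Q.map (truncGEMap β a))).symm⟩⟩

end Groth.Agent.Helper5.FPC
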