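import Mathlib.AlgebraicGeometry.Fiber
import Mathlib.AlgebraicGeometry.Noetherian
import Mathlib.AlgebraicGeometry.Morphisms.FiniteType
import Mathlib.AlgebraicGeometry.Properties
import Mathlib.RingTheory.Ideal.KrullsHeightTheorem
import Mathlib.Order.KrullDimension

/-!
# The dimension inequality `dim O_{X,x} ≤ dim O_{Y,y} + dim O_{X_y,x}`
-/

open CategoryTheory AlgebraicGeometry

universe u

namespace Groth.Agent.Helper5.FD

theorem height_le_coheight_of_strictAnti {α β : Type*} [Preorder α] [Preorder β] (a : α) (b : β)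
    (ψ : Set.Iic a → Set.Ici b) (hψ : StrictAnti ψ) : Order.height a ≤ Order.coheight b := by
  have h1 := Order.height_eq_krullDim_Iic a
  have h2 := Order.coheight_eq_krullDim_Ici b
  have h3 : Order.krullDim (Set.Iic a) ≤ Order.krullDim (Set.Ici b)ᵒᵈ :=
    Order.krullDim_le_of_strictMono (fun q => OrderDual.toDual (ψ q)) (fun q q' h => hψ h)
  rw [Order.krullDim_orderDual, ← h1, ← h2] at h3
  exact_mod_cast h3

section

variable {X Y : Scheme.{u}} (f : X ⟶ Y) (x : X) {U : X.Opens} (hU : IsAffineOpen U)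
  {V : Y.Opens} (hV : IsAffineOpen V) (e : U ≤ f ⁻¹ᵁ V) (hxU : x ∈ U)

/-- the ideal `p S` -/
noncomputable abbrev fibIdeal : Ideal Γ(X, U) :=
  (hV.primeIdealOf ⟨f.base x, e hxU⟩).asIdeal.map (f.appLE V U e).hom

theorem comap_primeIdealOf :
    (hU.primeIdealOf ⟨x, hxU⟩).asIdeal.comap (f.appLE V U e).hom =
      (hV.primeIdealOf ⟨f.base x, e hxU⟩).asIdeal :=
  congrArg PrimeSpectrum.asIdeal (IsAffineOpen.comap_primeIdealOf_appLE (f := f) V hV U hU e hxU)

theorem fibIdeal_le : fibIdeal f x hV e hxU ≤ (hU.primeIdealOf ⟨x, hxU⟩).asIdeal := by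
  rw [fibIdeal, Ideal.map_le_iff_le_comap, comap_primeIdealOf f x hU hV e hxU]

/-- the map from the spectrum of `S ⧸ pS` to `X` -/
noncomputable def g₀ (Q : PrimeSpectrum (Γ(X, U) ⧸ fibIdeal f x hV e hxU)) : X :=
  hU.fromSpec.base (PrimeSpectrum.comap (Ideal.Quotient.mk (fibIdeal f x hV e hxU)) Q)

theorem g₀_specializes_iff (Q₁ Q₂ : PrimeSpectrum (Γ(X, U) ⧸ fibIdeal f x hV e hxU)) :
    g₀ f x hU hV e hxU Q₁ ⤳ g₀ f x hU hV e hxU Q₂ ↔ Q₁ ≤ Q₂ := by
  have h1 : Topology.IsInducing hU.fromSpec.base := hU.fromSpec.isOpenEmbedding.isInducing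
  have h2 : Topology.IsInducing
      (PrimeSpectrum.comap (Ideal.Quotient.mk (fibIdeal f x hV e hxU))) :=
    (PrimeSpectrum.isEmbedding_comap_of_surjective _ _ Ideal.Quotient.mk_surjective).isInducing
  rw [g₀, g₀, h1.specializes_iff]
  exact h2.specializes_iff.trans (PrimeSpectrum.le_iff_specializes _ _).symm

/-- the image of `P` in `S ⧸ pS` -/
noncomputable def Pbar : PrimeSpectrum (Γ(X, U) ⧸ fibIdeal f x hV e hxU) :=
  ⟨(hU.primeIdealOf ⟨x, hxU⟩).asIdeal.map (Ideal.Quotient.mk (fibIdeal f x hV e hxU)),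
    Ideal.map_isPrime_of_surjective Ideal.Quotient.mk_surjective
      (by rw [Ideal.mk_ker]; exact fibIdeal_le f x hU hV e hxU)⟩

theorem comap_Pbar :
    PrimeSpectrum.comap (Ideal.Quotient.mk (fibIdeal f x hV e hxU)) (Pbar f x hU hV e hxU) =
      hU.primeIdealOf ⟨x, hxU⟩ := by
  ext1
  exact Ideal.comap_map_mk (fibIdeal_le f x hU hV e hxU)

theorem g₀_Pbar : g₀ f x hU hV e hxU (Pbar f x hU hV e hxU) = x := by
  rw [g₀, comap_Pbar]
  exact hU.fromSpec_primeIdealOf ⟨x, hxU⟩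

theorem f_g₀ (Q : PrimeSpectrum (Γ(X, U) ⧸ fibIdeal f x hV e hxU))
    (hQ : Q ≤ Pbar f x hU hV e hxU) : f.base (g₀ f x hU hV e hxU Q) = f.base x := by
  have h1 := IsAffineOpen.SpecMap_appLE_fromSpec f hV hU e
  set q := PrimeSpectrum.comap (Ideal.Quotient.mk (fibIdeal f x hV e hxU)) Q with hq
  have h2 : f.base (hU.fromSpec.base q) =
      hV.fromSpec.base ((Spec.map (f.appLE V U e)).base q) := by
    rw [← Scheme.Hom.comp_apply, ← Scheme.Hom.comp_apply, h1]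
  have h3 : (Spec.map (f.appLE V U e)).base q = hV.primeIdealOf ⟨f.base x, e hxU⟩ := by
    change PrimeSpectrum.comap (f.appLE V U e).hom q = _
    ext1
    apply le_antisymm
    · rw [← comap_primeIdealOf f x hU hV e hxU]
      apply Ideal.comap_mono
      have h4 : Ideal.comap (Ideal.Quotient.mk (fibIdeal f x hV e hxU)) Q.asIdeal ≤
          Ideal.comap (Ideal.Quotient.mk (fibIdeal f x hV e hxU))
            (Pbar f x hU hV e hxU).asIdeal := Ideal.comap_mono hQ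
      have h5 := congrArg PrimeSpectrum.asIdeal (comap_Pbar f x hU hV e hxU)
      change Ideal.comap _ _ = _ at h5
      rw [h5] at h4
      exact h4
    · change _ ≤ Ideal.comap _ (Ideal.comap _ Q.asIdeal)
      rw [← Ideal.map_le_iff_le_comap]
      intro z hz
      rw [Ideal.mem_comap]
      have : Ideal.Quotient.mk (fibIdeal f x hV e hxU) z = 0 :=
        Ideal.Quotient.eq_zero_iff_mem.mpr hz
      rw [this]
      exact zero_mem _
  rw [g₀, ← hq, h2, h3]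
  exact hV.fromSpec_primeIdealOf ⟨f.base x, e hxU⟩

/-- the point of the fibre attached to a prime `Q ≤ P̄` -/
noncomputable def ψ₀ (Q : PrimeSpectrum (Γ(X, U) ⧸ fibIdeal f x hV e hxU))
    (hQ : Q ≤ Pbar f x hU hV e hxU) : f.fiber (f.base x) :=
  (f.fiberHomeo (f.base x)).symm ⟨g₀ f x hU hV e hxU Q, f_g₀ f x hU hV e hxU Q hQ⟩

theorem ψ₀_specializes_iff (Q₁ Q₂ : PrimeSpectrum (Γ(X, U) ⧸ fibIdeal f x hV e hxU))
    (hQ₁ : Q₁ ≤ Pbar f x hU hV e hxU) (hQ₂ : Q₂ ≤ Pbar f x hU hV e hxU) :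
    ψ₀ f x hU hV e hxU Q₁ hQ₁ ⤳ ψ₀ f x hU hV e hxU Q₂ hQ₂ ↔ Q₁ ≤ Q₂ := by
  rw [ψ₀, ψ₀, (f.fiberHomeo (f.base x)).symm.isInducing.specializes_iff.symm.symm,
    subtype_specializes_iff]
  exact g₀_specializes_iff f x hU hV e hxU Q₁ Q₂

theorem ψ₀_Pbar : ψ₀ f x hU hV e hxU (Pbar f x hU hV e hxU) le_rfl = f.asFiber x := by
  rw [ψ₀, Scheme.Hom.asFiber]
  congr 2
  exact g₀_Pbar f x hU hV e hxU

theorem height_Pbar_le :
    Order.height (Pbar f x hU hV e hxU) ≤ Order.coheight (f.asFiber x) := by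
  refine height_le_coheight_of_strictAnti _ _
    (fun Q => ⟨ψ₀ f x hU hV e hxU Q.1 Q.2, ?_⟩) ?_
  · rw [Set.mem_Ici, Scheme.le_iff_specializes, ← ψ₀_Pbar f x hU hV e hxU,
      ψ₀_specializes_iff]
    exact Q.2
  · intro Q₁ Q₂ h
    rw [← Subtype.coe_lt_coe] at h ⊢
    have h' : Q₁.1 ≤ Q₂.1 ∧ ¬ Q₂.1 ≤ Q₁.1 := lt_iff_le_not_ge.mp h
    change (ψ₀ f x hU hV e hxU Q₁.1 Q₁.2 ⤳ ψ₀ f x hU hV e hxU Q₂.1 Q₂.2) ∧
      ¬ (ψ₀ f x hU hV e hxU Q₂.1 Q₂.2 ⤳ ψ₀ f x hU hV e hxU Q₁.1 Q₁.2)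
    rw [ψ₀_specializes_iff, ψ₀_specializes_iff]
    exact h'

end

theorem ringKrullDim_stalk_le_add_fibre {X Y : Scheme.{u}} [IsLocallyNoetherian Y] (f : X ⟶ Y)
    [LocallyOfFiniteType f] (x : X) :
    ringKrullDim (X.presheaf.stalk x) ≤
      ringKrullDim (Y.presheaf.stalk (f.base x)) +
        ringKrullDim ((f.fiber (f.base x)).presheaf.stalk (f.asFiber x)) := by
  obtain ⟨V, hV, hyV, -⟩ := exists_isAffineOpen_mem_and_subset (x := f.base x)
    (U := (⊤ : Y.Opens)) trivial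
  obtain ⟨U, hU, hxU, e⟩ := exists_isAffineOpen_mem_and_subset (x := x)
    (U := f ⁻¹ᵁ V) hyV
  let _ : Algebra Γ(Y, V) Γ(X, U) := (f.appLE V U e).hom.toAlgebra
  have : IsNoetherianRing Γ(Y, V) := IsLocallyNoetherian.component_noetherian ⟨V, hV⟩
  have hft : (f.appLE V U e).hom.FiniteType := f.finiteType_appLE hV hU e
  have : Algebra.FiniteType Γ(Y, V) Γ(X, U) := hft
  have : IsNoetherianRing Γ(X, U) := Algebra.FiniteType.isNoetherianRing Γ(Y, V) Γ(X, U)
  set P := (hU.primeIdealOf ⟨x, hxU⟩).asIdeal with hP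
  set p := (hV.primeIdealOf ⟨f.base x, e hxU⟩).asIdeal with hp
  have : P.LiesOver p := ⟨(comap_primeIdealOf f x hU hV e hxU).symm⟩
  have key := Ideal.height_le_height_add_of_liesOver p P
  let _ : Algebra Γ(X, U) (X.presheaf.stalk x) := X.presheaf.algebra_section_stalk ⟨x, hxU⟩
  let _ : Algebra Γ(Y, V) (Y.presheaf.stalk (f.base x)) :=
    Y.presheaf.algebra_section_stalk ⟨f.base x, e hxU⟩
  have : IsLocalization.AtPrime (X.presheaf.stalk x) P := hU.isLocalization_stalk ⟨x, hxU⟩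
  have : IsLocalization.AtPrime (Y.presheaf.stalk (f.base x)) p :=
    hV.isLocalization_stalk ⟨f.base x, e hxU⟩
  rw [IsLocalization.AtPrime.ringKrullDim_eq_height P (X.presheaf.stalk x),
    IsLocalization.AtPrime.ringKrullDim_eq_height p (Y.presheaf.stalk (f.base x)),
    ringKrullDim_stalk_eq_coheight]
  have h2 := height_Pbar_le f x hU hV e hxU
  rw [← PrimeSpectrum.height_eq_orderHeight] at h2
  have h3 : P.height ≤ p.height + Order.coheight (f.asFiber x) :=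
    key.trans (add_le_add le_rfl h2)
  exact_mod_cast h3

end Groth.Agent.Helper5.FD
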