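import Groth.Agent.Lib.Helper5.SkyMod2
import Groth.Prelude.Def_CxOX

/-!
# Flat generators: the extensions by zero `j_! O_U` have projective stalks
-/

set_option autoImplicit false
set_option linter.unusedSectionVars false
set_option linter.unusedVariables false
set_option linter.style.haveILetI false

universe u

open CategoryTheory CategoryTheory.Limits AlgebraicGeometry Opposite TopologicalSpace

namespace Groth.Agent.Helper5.FlatGen

/-- a left adjoint sends an object which lifts along the images of epimorphisms under the right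
adjoint to a projective object -/
lemma projective_of_adj {C D : Type*} [Category C] [Category D] {L : C ⥤ D} {R : D ⥤ C}
    (adj : L ⊣ R) (A : C)
    (h : ∀ {M N : D} (e : M ⟶ N) [Epi e] (t : A ⟶ R.obj N), ∃ t' : A ⟶ R.obj M,
      t' ≫ R.map e = t) :
    Projective (L.obj A) where
  factors {M N} f e _ := by
    obtain ⟨t', ht'⟩ := h e (adj.homEquiv _ _ f)
    refine ⟨(adj.homEquiv _ _).symm t', ?_⟩
    rw [← Adjunction.homEquiv_naturality_right_symm, ht', Equiv.symm_apply_apply]

variable {Y : Scheme.{u}}

/-- the family of sections defined by a section over the whole space -/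
noncomputable def secOfTop (N : Y.Modules) (s : Γ(N, ⊤)) : N.val.sections :=
  PresheafOfModules.sectionsMk
    (fun V => N.presheaf.map (homOfLE (le_top : V.unop ≤ ⊤)).op s) (by
      intro V W f
      change N.presheaf.map f (N.presheaf.map (homOfLE (le_top : V.unop ≤ ⊤)).op s) =
        N.presheaf.map (homOfLE (le_top : W.unop ≤ ⊤)).op s
      rw [← ConcreteCategory.comp_apply, ← Functor.map_comp]
      rfl)

/-- the morphism from the structure sheaf defined by a section over the whole space -/
noncomputable def topHom (N : Y.Modules) (s : Γ(N, ⊤)) : Coh.structureModule Y ⟶ N :=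
  N.unitHomEquiv.symm (secOfTop N s)


lemma topHom_one (N : Y.Modules) (s : Γ(N, ⊤)) :
    (topHom N s).val.app (op ⊤) (1 : Y.ringCatSheaf.obj.obj (op ⊤)) = s := by
  have h := congrArg (fun t => t.val (op ⊤)) (N.unitHomEquiv.apply_symm_apply (secOfTop N s))
  refine Eq.trans ?_ (h.trans ?_)
  · rfl
  · change N.presheaf.map (homOfLE (le_top : (⊤ : Y.Opens) ≤ ⊤)).op s = s
    have : (homOfLE (le_top : (⊤ : Y.Opens) ≤ ⊤)).op = 𝟙 (op (⊤ : Y.Opens)) := rfl
    rw [this, CategoryTheory.Functor.map_id]
    rfl

lemma hom_ext_top {N : Y.Modules} (f g : Coh.structureModule Y ⟶ N)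
    (h : f.val.app (op ⊤) (1 : Y.ringCatSheaf.obj.obj (op ⊤)) =
      g.val.app (op ⊤) (1 : Y.ringCatSheaf.obj.obj (op ⊤))) : f = g := by
  apply N.unitHomEquiv.injective
  apply PresheafOfModules.sections_ext
  intro V
  change f.val.app V (1 : Y.ringCatSheaf.obj.obj V) = g.val.app V (1 : Y.ringCatSheaf.obj.obj V)
  have e : (PresheafOfModules.unit Y.ringCatSheaf.obj).map (homOfLE (le_top : V.unop ≤ ⊤)).op
    (1 : Y.ringCatSheaf.obj.obj (op ⊤)) = (1 : Y.ringCatSheaf.obj.obj V) :=
    PresheafOfModules.unit_map_one _ _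
  rw [← e]
  erw [PresheafOfModules.naturality_apply, PresheafOfModules.naturality_apply]
  exact congrArg _ h

section Cells

variable {X : Scheme.{u}}

/-- transport of a section over `V` to a global section of the restriction to `V` -/
noncomputable def secTop (F : X.Modules) (V : X.Opens) (s : Γ(F, V)) :
    Γ((Scheme.Modules.restrictFunctor V.ι).obj F, ⊤) :=
  F.presheaf.map (homOfLE (V.ι_image_top).le).op s

/-- the morphism `j_! O_V ⟶ F` defined by a section of `F` over `V` -/
noncomputable def cellHom (F : X.Modules) (V : X.Opens) (s : Γ(F, V)) :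
    CxOX.extZeroUnit V.ι ⟶ F :=
  ((CxOX.extZeroAdj V.ι).homEquiv _ _).symm (topHom _ (secTop F V s))

lemma app_injective_of_eq {F G : X.Modules} (g h : F ⟶ G) {V W : X.Opens} (e : W = V)
    (s : Γ(F, V))
    (H : g.app W (F.presheaf.map (homOfLE e.le).op s) =
      h.app W (F.presheaf.map (homOfLE e.le).op s)) :
    g.app V s = h.app V s := by
  subst e
  have : (homOfLE (le_refl W)).op = 𝟙 (op W) := rfl
  rw [this, CategoryTheory.Functor.map_id] at H
  exact H

/-- the morphisms `cellHom F V s` are jointly epimorphic -/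
lemma eq_of_cellHom_comp {F G : X.Modules} (g h : F ⟶ G)
    (H : ∀ (V : X.Opens) (s : Γ(F, V)), cellHom F V s ≫ g = cellHom F V s ≫ h) : g = h := by
  apply Scheme.Modules.hom_ext
  intro V
  ext s
  have h1 := H V s
  have h2 := congrArg ((CxOX.extZeroAdj V.ι).homEquiv _ _) h1
  rw [Adjunction.homEquiv_naturality_right, Adjunction.homEquiv_naturality_right] at h2
  simp only [cellHom, Equiv.apply_symm_apply] at h2
  have h3 := congrArg
    (fun t => t.val.app (op ⊤) (1 : (V : Scheme).ringCatSheaf.obj.obj (op ⊤))) h2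
  have h4 : g.app (V.ι ''ᵁ ⊤) (secTop F V s) = h.app (V.ι ''ᵁ ⊤) (secTop F V s) := by
    have e1 := topHom_one _ (secTop F V s)
    refine Eq.trans ?_ (h3.trans ?_)
    · exact (congrArg (g.app (V.ι ''ᵁ ⊤)) e1).symm
    · exact (congrArg (h.app (V.ι ''ᵁ ⊤)) e1)
  exact app_injective_of_eq g h (V.ι_image_top) s h4

/-- the index type of all cells of a module -/
abbrev CellIdx (F : X.Modules) : Type u := Σ V : X.Opens, Γ(F, V)

/-- the flat cover of a module by extensions by zero -/
noncomputable abbrev cover (F : X.Modules) : X.Modules :=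
  ∐ fun i : CellIdx F => CxOX.extZeroUnit (i.1).ι

/-- the canonical epimorphism -/
noncomputable def coverπ (F : X.Modules) : cover F ⟶ F :=
  Sigma.desc fun i : CellIdx F => cellHom F i.1 i.2

instance epi_coverπ (F : X.Modules) : Epi (coverπ F) where
  left_cancellation {G} g h H := by
    apply eq_of_cellHom_comp
    intro V s
    have h1 := congrArg
      (fun t => Sigma.ι (fun i : CellIdx F => CxOX.extZeroUnit (i.1).ι) ⟨V, s⟩ ≫ t) H
    have h2 : Sigma.ι (fun i : CellIdx F => CxOX.extZeroUnit (i.1).ι) ⟨V, s⟩ ≫ coverπ F =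
        cellHom F V s :=
      Sigma.ι_desc (fun i : CellIdx F => cellHom F i.1 i.2) ⟨V, s⟩
    exact ((congrArg (· ≫ g) h2).symm.trans ((Category.assoc _ _ _).trans h1)).trans
      ((Category.assoc _ _ _).symm.trans (congrArg (· ≫ h) h2))

end Cells

section Proj

variable {U X : Scheme.{u}} (j : U ⟶ X) [IsOpenImmersion j]

/-- the stalks of `j_! O_U` are projective modules -/
theorem projective_stalk_extZeroUnit (x : X) :
    Projective ((DerSch.stalkFunctor X x).obj (CxOX.extZeroUnit j)) := by
  refine projective_of_adj ((CxOX.extZeroAdj j).comp (Sky.stalkSkyAdj x))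
    (Coh.structureModule U) ?_
  intro M N e _ t
  let τ : Sky.Sec x N (j ''ᵁ ⊤) := t.val.app (op ⊤) (1 : U.ringCatSheaf.obj.obj (op ⊤))
  have hsurj : Function.Surjective e := (ModuleCat.epi_iff_surjective e).mp inferInstance
  let τ' : Sky.Sec x M (j ''ᵁ ⊤) := fun h => (hsurj (τ h)).choose
  have hτ' : ∀ h, e (τ' h) = τ h := fun h => (hsurj (τ h)).choose_spec
  refine ⟨topHom ((Scheme.Modules.restrictFunctor j).obj ((Sky.skyF x).obj M)) τ', ?_⟩
  apply hom_ext_top
  have e1 := topHom_one ((Scheme.Modules.restrictFunctor j).obj ((Sky.skyF x).obj M)) τ'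
  change ((Sky.skyMap x e).app (j ''ᵁ ⊤)) ((topHom ((Scheme.Modules.restrictFunctor j).obj
    ((Sky.skyF x).obj M)) τ').val.app (op ⊤) (1 : U.ringCatSheaf.obj.obj (op ⊤))) = τ
  rw [e1]
  funext h
  exact hτ' h

end Proj

section Flat

variable {X : Scheme.{u}}

instance (x : X) : (DerSch.stalkFunctor X x).IsLeftAdjoint := (Sky.stalkSkyAdj x).isLeftAdjoint

theorem isFlat_of_projective_stalks (M : X.Modules)
    (h : ∀ x, Projective ((DerSch.stalkFunctor X x).obj M)) : FlatMod.IsFlat M := by
  intro x
  have h1 : Module.Projective (X.presheaf.stalk x) (M.presheaf.stalk x) :=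
    (IsProjective.iff_projective (R := X.presheaf.stalk x) (M.presheaf.stalk x)).mpr (h x)
  exact Module.Flat.of_projective

theorem projective_stalk_sigma {ι : Type u} (Z : ι → X.Modules) (x : X)
    (h : ∀ i, Projective ((DerSch.stalkFunctor X x).obj (Z i))) :
    Projective ((DerSch.stalkFunctor X x).obj (∐ Z)) := by
  haveI := h
  exact Projective.of_iso (PreservesCoproduct.iso (DerSch.stalkFunctor X x) Z).symm inferInstance

/-- a coproduct of extensions by zero of structure sheaves has projective stalks -/
theorem projective_stalk_sigma_extZeroUnit {ι : Type u} (V : ι → X.Opens) (x : X) :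
    Projective ((DerSch.stalkFunctor X x).obj (∐ fun i => CxOX.extZeroUnit (V i).ι)) :=
  projective_stalk_sigma _ x fun i => projective_stalk_extZeroUnit (V i).ι x

/-- a coproduct of extensions by zero of structure sheaves is flat -/
theorem isFlat_sigma_extZeroUnit {ι : Type u} (V : ι → X.Opens) :
    FlatMod.IsFlat (∐ fun i => CxOX.extZeroUnit (V i).ι) :=
  isFlat_of_projective_stalks _ fun x => projective_stalk_sigma_extZeroUnit V x

theorem isFlat_cover (F : X.Modules) : FlatMod.IsFlat (cover F) :=
  isFlat_sigma_extZeroUnit _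

end Flat

end Groth.Agent.Helper5.FlatGen
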