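import Groth.Agent.Lib.Helper5.FlatGen1

/-!
# Functoriality of the flat cover of a module
-/

set_option autoImplicit false
set_option linter.unusedSectionVars false
set_option linter.unusedVariables false
set_option linter.style.haveILetI false

universe u

open CategoryTheory CategoryTheory.Limits AlgebraicGeometry Opposite TopologicalSpace

namespace Groth.Agent.Helper5.FlatGen

variable {Y : Scheme.{u}}

lemma topHom_comp {N N' : Y.Modules} (s : Γ(N, ⊤)) (φ : N ⟶ N') :
    topHom N s ≫ φ = topHom N' (φ.app ⊤ s) := by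
  apply hom_ext_top
  rw [topHom_one]
  change φ.val.app (op ⊤) ((topHom N s).val.app (op ⊤) (1 : Y.ringCatSheaf.obj.obj (op ⊤))) = _
  rw [topHom_one]
  rfl

variable {X : Scheme.{u}}

lemma secTop_naturality {F G : X.Modules} (φ : F ⟶ G) (V : X.Opens) (s : Γ(F, V)) :
    ((Scheme.Modules.restrictFunctor V.ι).map φ).app ⊤ (secTop F V s) =
      secTop G V (φ.app V s) := by
  change φ.app (V.ι ''ᵁ ⊤) (F.presheaf.map (homOfLE (V.ι_image_top).le).op s) =
    G.presheaf.map (homOfLE (V.ι_image_top).le).op (φ.app V s)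
  exact congr($(φ.mapPresheaf.naturality (homOfLE (V.ι_image_top).le).op) s)

lemma cellHom_comp {F G : X.Modules} (φ : F ⟶ G) (V : X.Opens) (s : Γ(F, V)) :
    cellHom F V s ≫ φ = cellHom G V (φ.app V s) := by
  rw [cellHom, cellHom, ← Adjunction.homEquiv_naturality_right_symm, topHom_comp,
    secTop_naturality]

/-- functoriality of the flat cover -/
noncomputable def coverMap {F G : X.Modules} (φ : F ⟶ G) : cover F ⟶ cover G :=
  Sigma.desc fun i : CellIdx F =>
    Sigma.ι (fun j : CellIdx G => CxOX.extZeroUnit (j.1).ι) ⟨i.1, φ.app i.1 i.2⟩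

lemma ι_coverMap {F G : X.Modules} (φ : F ⟶ G) (i : CellIdx F) :
    Sigma.ι (fun j : CellIdx F => CxOX.extZeroUnit (j.1).ι) i ≫ coverMap φ =
      Sigma.ι (fun j : CellIdx G => CxOX.extZeroUnit (j.1).ι) ⟨i.1, φ.app i.1 i.2⟩ :=
  Sigma.ι_desc _ _

lemma ι_coverπ (F : X.Modules) (i : CellIdx F) :
    Sigma.ι (fun j : CellIdx F => CxOX.extZeroUnit (j.1).ι) i ≫ coverπ F = cellHom F i.1 i.2 :=
  Sigma.ι_desc _ _

lemma coverMap_π {F G : X.Modules} (φ : F ⟶ G) : coverMap φ ≫ coverπ G = coverπ F ≫ φ := by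
  apply Sigma.hom_ext
  intro i
  rw [← Category.assoc, ι_coverMap, ι_coverπ, ← Category.assoc, ι_coverπ, cellHom_comp]

/-- the flat cover functor -/
noncomputable def coverF (X : Scheme.{u}) : X.Modules ⥤ X.Modules where
  obj := cover
  map := coverMap
  map_id F := by
    apply Sigma.hom_ext
    intro i
    rw [ι_coverMap, Category.comp_id]
    rfl
  map_comp φ ψ := by
    apply Sigma.hom_ext
    intro i
    rw [ι_coverMap, ← Category.assoc, ι_coverMap, ι_coverMap]
    rfl

/-- the natural epimorphism from the flat cover -/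
noncomputable def coverNat (X : Scheme.{u}) : coverF X ⟶ 𝟭 X.Modules where
  app := coverπ
  naturality _ _ φ := coverMap_π φ

end Groth.Agent.Helper5.FlatGen
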