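import Mathlib

/-! Flatness and colon ideals, via the equational criterion. -/

set_option autoImplicit false
universe u
open Module

namespace Groth.Agent.Helper5.FlatSymb

variable {R S : Type*} [CommRing R] [CommRing S] [Algebra R S]

/-- The colon ideal `(I : s)`. -/
def colon (I : Ideal R) (s : R) : Ideal R := Submodule.comap (LinearMap.mulLeft R s) I

theorem mem_colon {I : Ideal R} {s a : R} : a ∈ colon I s ↔ s * a ∈ I := Iff.rfl

/-- Elements of an extended ideal are finite combinations. -/
theorem exists_sum_of_mem_map {I : Ideal R} {x : S} (hx : x ∈ I.map (algebraMap R S)) :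
    ∃ (l : R →₀ S), (∀ r ∈ l.support, r ∈ I) ∧ x = ∑ r ∈ l.support, l r * algebraMap R S r := by
  unfold Ideal.map at hx
  obtain ⟨l, hl, rfl⟩ := (Finsupp.mem_span_image_iff_linearCombination S).mp hx
  refine ⟨l, fun r hr => hl hr, ?_⟩
  rw [Finsupp.linearCombination_apply, Finsupp.sum]
  rfl

/-- For a flat algebra, `(IS : s) = (I : s) S`. -/
theorem mem_map_colon [Module.Flat R S] (I : Ideal R) (s : R) (y : S)
    (h : algebraMap R S s * y ∈ I.map (algebraMap R S)) :
    y ∈ (colon I s).map (algebraMap R S) := by
  classical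
  obtain ⟨l, hl, hsum⟩ := exists_sum_of_mem_map h
  -- the relation `s • y + ∑ r • (- l r) = 0`
  let f : Option l.support → R := fun o => o.elim s (fun r => r.1)
  let x : Option l.support → S := fun o => o.elim y (fun r => - l r.1)
  have hrel : ∑ o, f o • x o = 0 := by
    rw [Fintype.sum_option]
    simp only [f, x, Option.elim_none, Option.elim_some, smul_neg, Finset.sum_neg_distrib]
    rw [Algebra.smul_def, hsum, ← Finset.sum_coe_sort l.support]
    simp only [Algebra.smul_def]
    rw [add_neg_eq_zero]
    apply Finset.sum_congr rfl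
    intro r _
    ring
  obtain ⟨k, a, z, hx, ha⟩ := Module.Flat.isTrivialRelation_of_sum_smul_eq_zero (R := R) (M := S)
    (f := f) (x := x) hrel
  have hy : y = ∑ j, a none j • z j := hx none
  rw [hy]
  refine Ideal.sum_mem _ fun j _ => ?_
  rw [Algebra.smul_def]
  refine Ideal.mul_mem_right _ _ (Ideal.mem_map_of_mem _ ?_)
  rw [mem_colon]
  have := ha j
  rw [Fintype.sum_option] at this
  simp only [f, Option.elim_none, Option.elim_some] at this
  rw [eq_neg_of_add_eq_zero_left this]
  refine Ideal.neg_mem_iff _ |>.mpr (Ideal.sum_mem _ fun r _ => ?_)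
  exact Ideal.mul_mem_right _ _ (hl r.1 r.2)

/-- Elements outside a prime `p` are nonzerodivisors modulo `pS` for flat `S`. -/
theorem mem_map_of_mul_mem [Module.Flat R S] (p : Ideal R) [p.IsPrime] (s : R) (hs : s ∉ p)
    (y : S) (h : algebraMap R S s * y ∈ p.map (algebraMap R S)) : y ∈ p.map (algebraMap R S) := by
  have h1 := mem_map_colon p s y h
  have h2 : colon p s ≤ p := by
    intro a ha
    rw [mem_colon] at ha
    exact (Ideal.IsPrime.mem_or_mem inferInstance ha).resolve_left hs
  exact Ideal.map_mono h2 h1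

theorem algebraMap_notMem [Module.Flat R S] (p : Ideal R) [p.IsPrime]
    (hq : p.map (algebraMap R S) ≠ ⊤) (s : R) (hs : s ∉ p) :
    algebraMap R S s ∉ p.map (algebraMap R S) := by
  intro h
  apply hq
  rw [Ideal.eq_top_iff_one]
  apply mem_map_of_mul_mem p s hs 1
  rwa [mul_one]

end Groth.Agent.Helper5.FlatSymb
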