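import Mathlib
import Groth.Agent.Lib.Helper5.FlatSymb1

/-! Nonzerodivisors modulo powers of a maximal ideal, for flat algebras. -/

set_option autoImplicit false
universe u
open Module

namespace Groth.Agent.Helper5.FlatSymb

variable {A : Type u} [CommRing A] (m : Ideal A) [hm : m.IsMaximal]

/-- A family in `N` lifting a basis of `N / mN` over `A / m`. -/
theorem exists_family (N : Ideal A) :
    ∃ (ι : Type u) (π : ι → A), (∀ i, π i ∈ N) ∧
      (∀ x ∈ N, ∃ (s : Finset ι) (c : ι → A), x - ∑ i ∈ s, c i * π i ∈ m * N) ∧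
      (∀ (s : Finset ι) (a : ι → A), ∑ i ∈ s, a i * π i ∈ m * N → ∀ i ∈ s, a i ∈ m) := by
  classical
  letI : Field (A ⧸ m) := Ideal.Quotient.field m
  let V := ↥N ⧸ (m • ⊤ : Submodule A ↥N)
  let b := Module.Free.chooseBasis (A ⧸ m) V
  let ι := Module.Free.ChooseBasisIndex (A ⧸ m) V
  have hsurj : ∀ i : ι, ∃ y : ↥N, Submodule.Quotient.mk y = b i :=
    fun i => Submodule.Quotient.mk_surjective _ (b i)
  choose π' hπ' using hsurj
  have hmk : ∀ (s : Finset ι) (c : ι → A),
      (Submodule.Quotient.mk (∑ i ∈ s, c i • π' i) : V) =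
        ∑ i ∈ s, (Ideal.Quotient.mk m (c i)) • b i := by
    intro s c
    have : (Submodule.Quotient.mk (∑ i ∈ s, c i • π' i) : V) =
        ∑ i ∈ s, (Submodule.Quotient.mk (c i • π' i) : V) :=
      map_sum (Submodule.mkQ (m • ⊤ : Submodule A ↥N)) _ _
    rw [this]
    apply Finset.sum_congr rfl
    intro i _
    rw [← hπ' i]
    rfl
  have hcoe : ∀ (s : Finset ι) (c : ι → A),
      ((∑ i ∈ s, c i • π' i : ↥N) : A) = ∑ i ∈ s, c i * (π' i : A) := by
    intro s c
    rw [Submodule.coe_sum]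
    rfl
  refine ⟨ι, fun i => (π' i : A), fun i => (π' i).2, ?_, ?_⟩
  · intro x hx
    let v : V := Submodule.Quotient.mk ⟨x, hx⟩
    let s := (b.repr v).support
    let c : ι → A := fun i => Function.surjInv Ideal.Quotient.mk_surjective (b.repr v i)
    have hc : ∀ i, Ideal.Quotient.mk m (c i) = b.repr v i :=
      fun i => Function.surjInv_eq Ideal.Quotient.mk_surjective _
    refine ⟨s, c, ?_⟩
    have hv : v = ∑ i ∈ s, (b.repr v i) • b i := by
      conv_lhs => rw [← b.linearCombination_repr v]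
      rw [Finsupp.linearCombination_apply, Finsupp.sum]
    have h0 : (Submodule.Quotient.mk (⟨x, hx⟩ - ∑ i ∈ s, c i • π' i) : V) = 0 := by
      rw [Submodule.Quotient.mk_sub, hmk]
      simp only [hc]
      rw [← hv]
      exact sub_self v
    rw [Submodule.Quotient.mk_eq_zero, Submodule.mem_smul_top_iff] at h0
    rw [AddSubgroupClass.coe_sub, hcoe] at h0
    exact h0
  · intro s a hsum i hi
    have h0 : (∑ i ∈ s, a i • π' i : ↥N) ∈ (m • ⊤ : Submodule A ↥N) := by
      rw [Submodule.mem_smul_top_iff, hcoe]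
      exact hsum
    rw [← Submodule.Quotient.mk_eq_zero, hmk] at h0
    have hli := b.linearIndependent
    rw [linearIndependent_iff'] at hli
    have := hli s (fun i => Ideal.Quotient.mk m (a i)) h0 i hi
    exact Ideal.Quotient.eq_zero_iff_mem.mp this

variable {B : Type*} [CommRing B] [Algebra A B] [Module.Flat A B]

/-- Elements of `N B` are combinations of the family modulo `m N B`. -/
theorem exists_comb {ι : Type*} (N : Ideal A) (π : ι → A)
    (hπ : ∀ x ∈ N, ∃ (s : Finset ι) (c : ι → A), x - ∑ i ∈ s, c i * π i ∈ m * N)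
    (z : B) (hz : z ∈ N.map (algebraMap A B)) :
    ∃ (s : Finset ι) (b : ι → B),
      z - ∑ i ∈ s, b i * algebraMap A B (π i) ∈ (m * N).map (algebraMap A B) := by
  classical
  unfold Ideal.map at hz
  induction hz using Submodule.span_induction with
  | mem z hz =>
    obtain ⟨x, hx, rfl⟩ := hz
    obtain ⟨s, c, hc⟩ := hπ x hx
    refine ⟨s, fun i => algebraMap A B (c i), ?_⟩
    have := Ideal.mem_map_of_mem (algebraMap A B) hc
    simpa only [map_sub, map_sum, map_mul] using this
  | zero => exact ⟨∅, fun _ => 0, by simp⟩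
  | add z w _ _ hz hw =>
    obtain ⟨s1, b1, h1⟩ := hz
    obtain ⟨s2, b2, h2⟩ := hw
    refine ⟨s1 ∪ s2, fun i => (if i ∈ s1 then b1 i else 0) + (if i ∈ s2 then b2 i else 0), ?_⟩
    have e1 : ∑ i ∈ s1 ∪ s2, (if i ∈ s1 then b1 i else 0) * algebraMap A B (π i) =
        ∑ i ∈ s1, b1 i * algebraMap A B (π i) := by
      rw [← Finset.sum_subset Finset.subset_union_left]
      · exact Finset.sum_congr rfl fun i hi => by rw [if_pos hi]
      · intro i _ hi; rw [if_neg hi, zero_mul]
    have e2 : ∑ i ∈ s1 ∪ s2, (if i ∈ s2 then b2 i else 0) * algebraMap A B (π i) =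
        ∑ i ∈ s2, b2 i * algebraMap A B (π i) := by
      rw [← Finset.sum_subset Finset.subset_union_right]
      · exact Finset.sum_congr rfl fun i hi => by rw [if_pos hi]
      · intro i _ hi; rw [if_neg hi, zero_mul]
    simp only [add_mul, Finset.sum_add_distrib, e1, e2]
    have := Ideal.add_mem _ h1 h2
    convert this using 1
    ring
  | smul r z _ hz =>
    obtain ⟨s, b, h⟩ := hz
    refine ⟨s, fun i => r * b i, ?_⟩
    have := Ideal.mul_mem_left _ r h
    convert this using 1
    rw [smul_eq_mul, mul_sub, Finset.mul_sum]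
    congr 1
    apply Finset.sum_congr rfl
    intro i _
    ring

/-- Independence of the family over `B / mB`. -/
theorem coeff_mem_of_sum_mem {ι : Type*} (N : Ideal A) (π : ι → A)
    (hπ : ∀ (s : Finset ι) (a : ι → A), ∑ i ∈ s, a i * π i ∈ m * N → ∀ i ∈ s, a i ∈ m)
    (s : Finset ι) (b : ι → B)
    (h : ∑ i ∈ s, b i * algebraMap A B (π i) ∈ (m * N).map (algebraMap A B)) :
    ∀ i ∈ s, b i ∈ m.map (algebraMap A B) := by
  classical
  obtain ⟨l, hl, hsum⟩ := exists_sum_of_mem_map h
  let f : s ⊕ l.support → A := fun o => o.elim (fun i => π i.1) (fun r => r.1)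
  let x : s ⊕ l.support → B := fun o => o.elim (fun i => b i.1) (fun r => - l r.1)
  have hrel : ∑ o, f o • x o = 0 := by
    rw [Fintype.sum_sum_type]
    simp only [f, x, Sum.elim_inl, Sum.elim_inr, smul_neg, Finset.sum_neg_distrib]
    rw [Finset.sum_coe_sort s (fun i => π i • b i), Finset.sum_coe_sort l.support
      (fun r => r • l r)]
    simp only [Algebra.smul_def]
    rw [add_neg_eq_zero]
    have e1 : ∑ i ∈ s, algebraMap A B (π i) * b i = ∑ i ∈ s, b i * algebraMap A B (π i) :=
      Finset.sum_congr rfl fun i _ => mul_comm _ _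
    rw [e1, hsum]
    exact Finset.sum_congr rfl fun r _ => mul_comm _ _
  obtain ⟨k, a, y, hx, ha⟩ := Module.Flat.isTrivialRelation_of_sum_smul_eq_zero (R := A) (M := B)
    (f := f) (x := x) hrel
  intro i hi
  have hbi : b i = ∑ j, a (Sum.inl ⟨i, hi⟩) j • y j := hx (Sum.inl ⟨i, hi⟩)
  rw [hbi]
  refine Ideal.sum_mem _ fun j _ => ?_
  rw [Algebra.smul_def]
  refine Ideal.mul_mem_right _ _ (Ideal.mem_map_of_mem _ ?_)
  have haj := ha j
  rw [Fintype.sum_sum_type] at haj
  simp only [f, Sum.elim_inl, Sum.elim_inr] at haj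
  -- `∑_{i ∈ s} π i * a i j ∈ m N`
  let a' : ι → A := fun i' => if h' : i' ∈ s then a (Sum.inl ⟨i', h'⟩) j else 0
  have hsum' : ∑ i' ∈ s, a' i' * π i' ∈ m * N := by
    have e : ∑ i' ∈ s, a' i' * π i' = ∑ i' : s, π i'.1 * a (Sum.inl i') j := by
      rw [← Finset.sum_coe_sort s]
      apply Finset.sum_congr rfl
      intro i' _
      simp only [a', dif_pos i'.2]
      ring
    rw [e, eq_neg_of_add_eq_zero_left haj]
    refine Ideal.neg_mem_iff _ |>.mpr (Ideal.sum_mem _ fun r _ => ?_)
    exact Ideal.mul_mem_right _ _ (hl r.1 r.2)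
  have := hπ s a' hsum' i hi
  simpa only [a', dif_pos hi] using this

/-- If `t` is a nonzerodivisor modulo `mB`, it is a nonzerodivisor modulo `mⁿB`. -/
theorem mem_pow_map_of_mul_mem (t : B)
    (ht : ∀ z : B, t * z ∈ m.map (algebraMap A B) → z ∈ m.map (algebraMap A B)) :
    ∀ (n : ℕ) (z : B), t * z ∈ (m ^ n).map (algebraMap A B) → z ∈ (m ^ n).map (algebraMap A B) := by
  intro n
  induction n with
  | zero =>
    intro z _
    rw [pow_zero, Ideal.one_eq_top, Ideal.map_top]
    trivial
  | succ n ih =>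
    intro z hz
    have hle : (m ^ (n + 1)).map (algebraMap A B) ≤ (m ^ n).map (algebraMap A B) :=
      Ideal.map_mono (Ideal.pow_le_pow_right (Nat.le_succ n))
    have hz' := ih z (hle hz)
    obtain ⟨ι, π, hπN, hπ1, hπ2⟩ := exists_family m (m ^ n)
    obtain ⟨s, b, hb⟩ := exists_comb m (m ^ n) π hπ1 z hz'
    have hmN : m * m ^ n = m ^ (n + 1) := (pow_succ' m n).symm
    rw [hmN] at hb
    -- `∑ (t b_i) π_i ∈ m^{n+1} B`
    have h1 : ∑ i ∈ s, (t * b i) * algebraMap A B (π i) ∈ (m * m ^ n).map (algebraMap A B) := by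
      rw [hmN]
      have h2 := Ideal.mul_mem_left _ t hb
      have h3 := Ideal.sub_mem _ hz h2
      convert h3 using 1
      rw [mul_sub, Finset.mul_sum]
      rw [sub_sub_cancel]
      exact Finset.sum_congr rfl fun i _ => by ring
    have h4 := coeff_mem_of_sum_mem m (m ^ n) π hπ2 s (fun i => t * b i) h1
    have h5 : ∀ i ∈ s, b i ∈ m.map (algebraMap A B) := fun i hi => ht _ (h4 i hi)
    have h6 : ∑ i ∈ s, b i * algebraMap A B (π i) ∈ (m ^ (n + 1)).map (algebraMap A B) := by
      refine Ideal.sum_mem _ fun i hi => ?_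
      rw [← hmN, Ideal.map_mul]
      exact Ideal.mul_mem_mul (h5 i hi) (Ideal.mem_map_of_mem _ (hπN i))
    have := Ideal.add_mem _ hb h6
    rwa [sub_add_cancel] at this

end Groth.Agent.Helper5.FlatSymb
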