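import Mathlib
import Groth.Agent.Lib.Helper5.FlatSymb2

/-! Symbolic powers and flat extensions. -/

set_option autoImplicit false
universe u
open Module

namespace Groth.Agent.Helper5.FlatSymb

variable {R S : Type u} [CommRing R] [CommRing S] [Algebra R S] [Module.Flat R S]
  (p : Ideal R) [hp : p.IsPrime] [hq : (p.map (algebraMap R S)).IsPrime]

theorem exists_mul_mem (n : ℕ) (t y : S) (ht : t ∉ p.map (algebraMap R S))
    (hty : t * y ∈ (p ^ n).map (algebraMap R S)) :
    ∃ s, s ∉ p ∧ algebraMap R S s * y ∈ (p ^ n).map (algebraMap R S) := by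
  let A := Localization.AtPrime p
  let Mon := Algebra.algebraMapSubmonoid S p.primeCompl
  let B := Localization Mon
  have hflatRB : Module.Flat R B := inferInstance
  haveI hflat : Module.Flat A B := (Module.flat_iff_of_isLocalization A p.primeCompl B).mpr hflatRB
  set m : Ideal A := p.map (algebraMap R A) with hm_def
  haveI hmmax : m.IsMaximal := IsLocalization.AtPrime.isMaximal_map p A
  set q : Ideal S := p.map (algebraMap R S) with hq_def
  have hpow : ∀ k : ℕ, (m ^ k).map (algebraMap A B) = (q ^ k).map (algebraMap S B) := by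
    intro k
    rw [hm_def, hq_def, ← Ideal.map_pow, ← Ideal.map_pow, Ideal.map_map, Ideal.map_map,
      ← IsScalarTower.algebraMap_eq, ← IsScalarTower.algebraMap_eq]
  have hMon : ∀ u ∈ Mon, u ∉ q := by
    rintro u ⟨s, hs, rfl⟩
    exact algebraMap_notMem p hq.ne_top s hs
  -- membership in `q^k B` for elements of `S`
  have hmem : ∀ (k : ℕ) (w : S), algebraMap S B w ∈ (q ^ k).map (algebraMap S B) ↔
      ∃ u ∈ Mon, u * w ∈ q ^ k := fun k w =>
    IsLocalization.algebraMap_mem_map_algebraMap_iff Mon B (q ^ k) w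
  -- `t` is a nonzerodivisor modulo `mB`
  have htB : ∀ z : B, algebraMap S B t * z ∈ m.map (algebraMap A B) →
      z ∈ m.map (algebraMap A B) := by
    intro z hz
    have h1 := hpow 1
    rw [pow_one, pow_one] at h1
    rw [h1] at hz ⊢
    obtain ⟨⟨z', u⟩, rfl⟩ := IsLocalization.mk'_surjective Mon z
    have hunit : IsUnit (algebraMap S B u) := IsLocalization.map_units B u
    have h2 : algebraMap S B (t * z') ∈ q.map (algebraMap S B) := by
      have := Ideal.mul_mem_left _ (algebraMap S B u) hz
      rw [mul_left_comm, mul_comm (algebraMap S B u), IsLocalization.mk'_spec] at this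
      rwa [map_mul]
    have h3 := (hmem 1 (t * z')).mp (by rwa [pow_one])
    obtain ⟨u', hu', hu'q⟩ := h3
    rw [pow_one] at hu'q
    have h4 : t * z' ∈ q := (hq.mem_or_mem hu'q).resolve_left (hMon u' hu')
    have h5 : z' ∈ q := (hq.mem_or_mem h4).resolve_left ht
    rw [IsLocalization.mk'_mem_map_algebraMap_iff Mon]
    exact ⟨1, Submonoid.one_mem _, by rwa [one_mul]⟩
  have hqn : q ^ n = (p ^ n).map (algebraMap R S) := by rw [hq_def, Ideal.map_pow]
  have h6 := mem_pow_map_of_mul_mem m (algebraMap S B t) htB n (algebraMap S B y) (by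
    rw [hpow, ← map_mul, hqn]
    exact Ideal.mem_map_of_mem _ hty)
  rw [hpow] at h6
  obtain ⟨u, ⟨s, hs, rfl⟩, hu⟩ := (hmem n y).mp h6
  exact ⟨s, hs, by rwa [hqn] at hu⟩

/-- The symbolic power `p^(n)`, as the contraction of `pⁿ R_p`. -/
theorem mem_symb_iff (P : Ideal R) [P.IsPrime] (n : ℕ) (x : R) :
    x ∈ ((P ^ n).map (algebraMap R (Localization.AtPrime P))).comap
      (algebraMap R (Localization.AtPrime P)) ↔ ∃ s, s ∉ P ∧ s * x ∈ P ^ n := by
  rw [Ideal.mem_comap, IsLocalization.algebraMap_mem_map_algebraMap_iff P.primeCompl]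
  constructor
  · rintro ⟨s, hs, h⟩; exact ⟨s, hs, h⟩
  · rintro ⟨s, hs, h⟩; exact ⟨s, hs, h⟩

theorem symb_map_eq (n : ℕ) :
    (((p ^ n).map (algebraMap R (Localization.AtPrime p))).comap
        (algebraMap R (Localization.AtPrime p))).map (algebraMap R S) =
      (((p.map (algebraMap R S)) ^ n).map
        (algebraMap S (Localization.AtPrime (p.map (algebraMap R S))))).comap
        (algebraMap S (Localization.AtPrime (p.map (algebraMap R S)))) := by
  apply le_antisymm
  · rw [Ideal.map_le_iff_le_comap]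
    intro x hx
    obtain ⟨s, hs, hsx⟩ := (mem_symb_iff p n x).mp hx
    rw [Ideal.mem_comap, mem_symb_iff]
    refine ⟨algebraMap R S s, algebraMap_notMem p hq.ne_top s hs, ?_⟩
    rw [← map_mul, ← Ideal.map_pow]
    exact Ideal.mem_map_of_mem _ hsx
  · intro y hy
    obtain ⟨t, ht, hty⟩ := (mem_symb_iff _ n y).mp hy
    rw [← Ideal.map_pow] at hty
    obtain ⟨s, hs, hsy⟩ := exists_mul_mem p n t y ht hty
    have h1 := mem_map_colon (p ^ n) s y hsy
    refine Ideal.map_mono ?_ h1
    intro a ha
    rw [mem_colon] at ha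
    exact (mem_symb_iff p n a).mpr ⟨s, hs, ha⟩

end Groth.Agent.Helper5.FlatSymb
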