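import Groth.Agent.Lib.Helper5.OBC13
import Groth.Agent.Lib.Helper29.PerfVanC
import Mathlib.Algebra.Homology.DerivedCategory.ShortExact
import Mathlib.Algebra.Homology.DerivedCategory.TStructure
import Mathlib.Algebra.Homology.DerivedCategory.HomologySequence

/-!
# Pseudo-coherence from the terms of a complex bounded above, and from the cohomology sheaves of
an object bounded above (absolute and relative versions)
-/

set_option autoImplicit false
set_option linter.unusedSectionVars false
set_option linter.unusedVariables false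
set_option linter.style.haveILetI false

universe u

open CategoryTheory CategoryTheory.Limits AlgebraicGeometry Pretriangulated DerivedCategory
  TopologicalSpace Opposite

attribute [local instance] HasDerivedCategory.standard

namespace Groth.Agent.Helper5.OBC

open Groth.Agent.Helper5.PCT Groth.Agent.Helper5.TB Groth.Agent.Helper5.RT
  Groth.Agent.Helper5.PCZ Groth.Agent.Helper11.MPC Groth.Agent.Helper5.CHP
  Groth.Agent.Helper5.XCH Groth.Agent.Helper5.CI Groth.Agent.Helper5.PDZ
  Groth.Agent.Helper5.LDer

section Top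

variable {𝒜 : Type*} [Category 𝒜] [Abelian 𝒜]
  (K : CochainComplex 𝒜 ℤ) (b : ℤ) (hb : ∀ i : ℤ, b < i → IsZero (K.X i))

/-- The inclusion of the top term. -/
noncomputable def topIncl : (HomologicalComplex.single 𝒜 (ComplexShape.up ℤ) b).obj
    (K.X b) ⟶ K :=
  HomologicalComplex.mkHomFromSingle (𝟙 _) (fun k _ => (hb k (by
    have : b + 1 = k := by simpa using ‹(ComplexShape.up ℤ).Rel b k›
    omega)).eq_of_tgt _ _)

instance : Mono (topIncl K b hb) := by
  apply (config := { allowSynthFailures := true }) HomologicalComplex.mono_of_mono_f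
  intro i
  by_cases hi : i = b
  · subst hi
    rw [topIncl, HomologicalComplex.mkHomFromSingle_f]
    infer_instance
  · have hz : IsZero (((HomologicalComplex.single 𝒜 (ComplexShape.up ℤ) b).obj
        (K.X b)).X i) := HomologicalComplex.isZero_single_obj_X _ _ _ _ hi
    exact ⟨fun g h _ => hz.eq_of_tgt _ _⟩

/-- The short complex `K^b[-b] → K → σ_{<b} K`. -/
noncomputable def topSC : ShortComplex (CochainComplex 𝒜 ℤ) :=
  ShortComplex.mk (topIncl K b hb) (cokernel.π (topIncl K b hb)) (cokernel.condition _)

theorem topSC_shortExact : (topSC K b hb).ShortExact :=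
  { exact := ShortComplex.exact_cokernel _
    mono_f := by dsimp [topSC]; infer_instance
    epi_g := by dsimp [topSC]; infer_instance }

theorem topSC_eval_shortExact (i : ℤ) :
    ((topSC K b hb).map (HomologicalComplex.eval _ _ i)).ShortExact :=
  (topSC_shortExact K b hb).map_of_exact _

theorem topSC_X₃_isZero : IsZero ((topSC K b hb).X₃.X b) := by
  have h := (topSC_eval_shortExact K b hb b).isIso_f_iff
  refine h.mp ?_
  change IsIso ((topIncl K b hb).f b)
  rw [topIncl, HomologicalComplex.mkHomFromSingle_f]
  infer_instance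

theorem topSC_g_isIso (i : ℤ) (hi : i ≠ b) : IsIso ((topSC K b hb).g.f i) := by
  have hz : IsZero (((HomologicalComplex.single 𝒜 (ComplexShape.up ℤ) b).obj
      (K.X b)).X i) := HomologicalComplex.isZero_single_obj_X _ _ _ _ hi
  exact (topSC_eval_shortExact K b hb i).isIso_g_iff.mpr hz

end Top

section Abs

variable {Y : Scheme.{u}}

/-- a module placed in degree `b` -/
lemma pc_single_of_pc (M : Y.Modules) (b m : ℤ)
    (h : DCoh.IsPseudoCoherentD (m - b) (DCoh.inD Y M)) :
    DCoh.IsPseudoCoherentD m ((DerivedCategory.singleFunctor Y.Modules b).obj M) := by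
  have e : ((DCoh.inD Y M)⟦-b⟧) ≅ (DerivedCategory.singleFunctor Y.Modules b).obj M :=
    (((DerivedCategory.singleFunctors Y.Modules).shiftIso (-b) b 0 (by omega)).app M)
  refine isPseudoCoherentD_of_iso e ?_
  exact isPseudoCoherentD_of_eq (by omega) (isPseudoCoherentD_shift _ (m - b) (-b) h)

lemma pc_Q_single_of_pc (M : Y.Modules) (b m : ℤ)
    (h : DCoh.IsPseudoCoherentD (m - b) (DCoh.inD Y M)) :
    DCoh.IsPseudoCoherentD m
      (Q.obj ((HomologicalComplex.single Y.Modules (ComplexShape.up ℤ) b).obj M)) :=
  isPseudoCoherentD_of_iso ((DerivedCategory.singleFunctorIsoCompQ Y.Modules b).app M)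
    (pc_single_of_pc M b m h)

/-- vanishing of the cohomology in degrees `≥ m` -/
lemma pc_of_isZero_HD (K : DCoh.D Y) (m : ℤ) (h : ∀ j : ℤ, m ≤ j → IsZero (DCoh.HD K j)) :
    DCoh.IsPseudoCoherentD m K := by
  let G := (Q (C := Y.Modules)).objPreimage K
  let e : Q.obj G ≅ K := (Q (C := Y.Modules)).objObjPreimageIso K
  refine isPseudoCoherentD_of_iso e (pc_of_isZero_homology G m (fun j hj => ?_))
  exact IsZero.of_iso (h j hj) ((HDQIso G j).symm ≪≫ (homologyFunctor _ j).mapIso e)

theorem pc_of_terms_aux (m : ℤ) (n : ℕ) : ∀ (K : CochainComplex Y.Modules ℤ),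
    (∀ i : ℤ, m - 1 + n < i → IsZero (K.X i)) →
    (∀ i : ℤ, DCoh.IsPseudoCoherentD (m - i) (DCoh.inD Y (K.X i))) →
    DCoh.IsPseudoCoherentD m (Q.obj K) := by
  induction n with
  | zero =>
    intro K hK _
    refine pc_of_isZero_homology K m (fun j hj => ?_)
    exact (HomologicalComplex.ExactAt.of_isZero (hK j (by simp; omega))).isZero_homology
  | succ n ih =>
    intro K hK hPK
    have hb' : ∀ i : ℤ, m + n < i → IsZero (K.X i) := fun i hi => hK i (by push_cast; omega)
    have hS := topSC_shortExact K (m + n) hb'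
    have h3 : DCoh.IsPseudoCoherentD m (Q.obj (topSC K (m + n) hb').X₃) := by
      refine ih _ ?_ ?_
      · intro i hi
        by_cases hib : i = m + n
        · subst hib
          exact topSC_X₃_isZero K _ hb'
        · have := topSC_g_isIso K (m + n) hb' i hib
          exact (hK i (by push_cast; omega)).of_iso (asIso ((topSC K (m + n) hb').g.f i)).symm
      · intro i
        by_cases hib : i = m + n
        · subst hib
          exact pc_of_isZero _ _ ((DerivedCategory.singleFunctor Y.Modules 0).map_isZero
            (topSC_X₃_isZero K _ hb'))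
        · have := topSC_g_isIso K (m + n) hb' i hib
          exact isPseudoCoherentD_of_iso ((DerivedCategory.singleFunctor Y.Modules 0).mapIso
            (asIso ((topSC K (m + n) hb').g.f i))) (hPK i)
    have h1 : DCoh.IsPseudoCoherentD m (Q.obj (topSC K (m + n) hb').X₁) :=
      pc_Q_single_of_pc (K.X (m + n)) (m + n) m (hPK (m + n))
    exact isPseudoCoherentD_obj₂ _ (triangleOfSES_distinguished hS) m h1 h3

/-- a complex bounded above whose term in degree `i` is `(m - i)`-pseudo-coherent is
`m`-pseudo-coherent -/
theorem pc_of_terms (m b : ℤ) (K : CochainComplex Y.Modules ℤ)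
    (hK : ∀ i : ℤ, b < i → IsZero (K.X i))
    (hPK : ∀ i : ℤ, DCoh.IsPseudoCoherentD (m - i) (DCoh.inD Y (K.X i))) :
    DCoh.IsPseudoCoherentD m (Q.obj K) :=
  pc_of_terms_aux m (b - m + 1).toNat K (fun i hi => hK i (by
    have := Int.self_le_toNat (b - m + 1)
    omega)) hPK

theorem pc_of_homology_aux (m : ℤ) (n : ℕ) : ∀ (K : DCoh.D Y),
    (∀ i : ℤ, m - 1 + n < i → IsZero (DCoh.HD K i)) →
    (∀ i : ℤ, DCoh.IsPseudoCoherentD (m - i) (DCoh.inD Y (DCoh.HD K i))) →
    DCoh.IsPseudoCoherentD m K := by
  induction n with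
  | zero =>
    intro K hK _
    exact pc_of_isZero_HD K m (fun j hj => hK j (by simp; omega))
  | succ n ih =>
    intro K hK hPK
    obtain ⟨X, Z, hX, hZ, f, g, h, hT⟩ :=
      TStructure.t.exists_triangle K (m + n - 1) (m + n) (by omega)
    have : X.IsLE (m + n - 1) := ⟨hX⟩
    have : Z.IsGE (m + n) := ⟨hZ⟩
    have hXiso : ∀ i : ℤ, i ≤ m + n - 1 → IsIso ((homologyFunctor Y.Modules i).map f) := by
      intro i hi
      have hY1 : IsZero ((homologyFunctor Y.Modules (i - 1)).obj Z) :=
        Z.isZero_of_isGE (m + n) (i - 1) (by omega)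
      have hY2 : IsZero ((homologyFunctor Y.Modules i).obj Z) :=
        Z.isZero_of_isGE (m + n) i (by omega)
      have : Mono ((homologyFunctor Y.Modules i).map f) :=
        (HomologySequence.mono_homologyMap_mor₁_iff (Triangle.mk f g h) hT (i - 1) i
          (by omega)).mpr (hY1.eq_of_src _ _)
      have : Epi ((homologyFunctor Y.Modules i).map f) :=
        (HomologySequence.epi_homologyMap_mor₁_iff (Triangle.mk f g h) hT i).mpr
          (hY2.eq_of_tgt _ _)
      exact isIso_of_mono_of_epi _
    have hZiso : ∀ i : ℤ, m + n ≤ i → IsIso ((homologyFunctor Y.Modules i).map g) := by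
      intro i hi
      have hX1 : IsZero ((homologyFunctor Y.Modules i).obj X) :=
        X.isZero_of_isLE (m + n - 1) i (by omega)
      have hX2 : IsZero ((homologyFunctor Y.Modules (i + 1)).obj X) :=
        X.isZero_of_isLE (m + n - 1) (i + 1) (by omega)
      have : Mono ((homologyFunctor Y.Modules i).map g) :=
        (HomologySequence.mono_homologyMap_mor₂_iff (Triangle.mk f g h) hT i).mpr
          (hX1.eq_of_src _ _)
      have : Epi ((homologyFunctor Y.Modules i).map g) :=
        (HomologySequence.epi_homologyMap_mor₂_iff (Triangle.mk f g h) hT i (i + 1) rfl).mpr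
          (hX2.eq_of_tgt _ _)
      exact isIso_of_mono_of_epi _
    have hXP : DCoh.IsPseudoCoherentD m X := by
      refine ih X ?_ ?_
      · intro i hi
        exact X.isZero_of_isLE (m + n - 1) i (by omega)
      · intro i
        by_cases hi : i ≤ m + n - 1
        · have := hXiso i hi
          exact isPseudoCoherentD_of_iso ((DerivedCategory.singleFunctor Y.Modules 0).mapIso
            (asIso ((homologyFunctor Y.Modules i).map f)).symm) (hPK i)
        · exact pc_of_isZero _ _ ((DerivedCategory.singleFunctor Y.Modules 0).map_isZero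
            (X.isZero_of_isLE (m + n - 1) i (by omega)))
    have hZP : DCoh.IsPseudoCoherentD m Z := by
      have h1 : Z.IsLE (m + n) := by
        rw [isLE_iff]
        intro i hi
        have := hZiso i (by omega)
        exact (hK i (by push_cast; omega)).of_iso
          (asIso ((homologyFunctor Y.Modules i).map g)).symm
      obtain ⟨N, ⟨e⟩⟩ := exists_iso_singleFunctor_obj_of_isGE_of_isLE Z (m + n)
      have := hZiso (m + n) le_rfl
      have eN : DCoh.HD K (m + n) ≅ N :=
        asIso ((homologyFunctor Y.Modules (m + n)).map g) ≪≫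
          (homologyFunctor Y.Modules (m + n)).mapIso e ≪≫
          (singleFunctorCompHomologyFunctorIso Y.Modules (m + n)).app N
      refine isPseudoCoherentD_of_iso e.symm (pc_single_of_pc N (m + n) m ?_)
      exact isPseudoCoherentD_of_iso ((DerivedCategory.singleFunctor Y.Modules 0).mapIso eN)
        (hPK (m + n))
    exact isPseudoCoherentD_obj₂ _ hT m hXP hZP

/-- an object bounded above whose cohomology sheaf in degree `i` is `(m - i)`-pseudo-coherent is
`m`-pseudo-coherent -/
theorem pc_of_homology (m b : ℤ) (K : DCoh.D Y)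
    (hK : ∀ i : ℤ, b < i → IsZero (DCoh.HD K i))
    (hPK : ∀ i : ℤ, DCoh.IsPseudoCoherentD (m - i) (DCoh.inD Y (DCoh.HD K i))) :
    DCoh.IsPseudoCoherentD m K :=
  pc_of_homology_aux m (b - m + 1).toNat K (fun i hi => hK i (by
    have := Int.self_le_toNat (b - m + 1)
    omega)) hPK

end Abs

end Groth.Agent.Helper5.OBC
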