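import Groth.Agent.Lib.Helper5.PCZ8
import Groth.Agent.Lib.Helper5.OBC14

/-!
# Pseudo-coherence along a closed immersion, graded version, part 1: if `i_* O_Z` is
`(m + 1 - b)`-pseudo-coherent, `G` has no cohomology above `b` and `i_* G` is `m`-pseudo-coherent,
then `G` is `m`-pseudo-coherent
-/

set_option autoImplicit false
set_option linter.unusedSectionVars false
set_option linter.unusedVariables false
set_option linter.style.haveILetI false

universe u

open CategoryTheory CategoryTheory.Limits AlgebraicGeometry Pretriangulated DerivedCategory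
  TopologicalSpace

attribute [local instance] HasDerivedCategory.standard

namespace Groth.Agent.Helper5.GPC

open Groth.Agent.Helper5.PCT Groth.Agent.Helper5.TBA Groth.Agent.Helper5.RT
  Groth.Agent.Helper5.BP Groth.Agent.Helper5.COHP Groth.Agent.Helper5.LOC
  Groth.Agent.Helper13.FinType Groth.Agent.Helper13.QCoh Groth.Agent.Helper5.CI
  Groth.Agent.Helper5.LDer Groth.Agent.Helper5.StalkCx Groth.Agent.Helper5.PC
  Groth.Agent.Helper5.PCM Groth.Agent.Helper5.PCH Groth.Agent.Helper5.PCZ
  Groth.Agent.Helper5.OBC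

section Gen

variable {Z X : Scheme.{u}}

lemma pc_of_le {K : DCoh.D X} {c c' : ℤ} (h : c ≤ c') (hK : DCoh.IsPseudoCoherentD c K) :
    DCoh.IsPseudoCoherentD c' K :=
  fun x => pcAt_of_le h (hK x)

variable (F : Z.Modules ⥤ DCoh.D X) [F.Additive]

theorem pc_map_freeMod_level (c : ℤ)
    (hO : DCoh.IsPseudoCoherentD c (F.obj (Coh.structureModule Z)))
    (n : ℕ) : DCoh.IsPseudoCoherentD c (F.obj (FlatMod.freeMod Z n)) := by
  haveI := preservesBinaryBiproducts_of_preservesBiproducts F
  induction n with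
  | zero => exact pc_of_isZero _ c (F.map_isZero isZero_freeMod_zero)
  | succ n ih =>
    have e : F.obj (FlatMod.freeMod Z n) ⊞ F.obj (Coh.structureModule Z) ≅
        F.obj (FlatMod.freeMod Z (n + 1)) :=
      (biprod.mapIso (Iso.refl _) (F.mapIso freeModOneIso).symm) ≪≫
        (F.mapBiprod (FlatMod.freeMod Z n) (FlatMod.freeMod Z 1)).symm ≪≫
        F.mapIso (freeModBiprodIso n 1)
    exact isPseudoCoherentD_of_iso e (pc_biprod _ _ c ih hO)

end Gen

variable {Z X : Scheme.{u}} (i : Z ⟶ X)

/-- the hypothesis on the structure sheaf, at one level, passes to opens -/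
theorem hO_restrict_level (W : X.Opens) (c : ℤ)
    (hO : DCoh.IsPseudoCoherentD c
      (DCoh.inD X ((Scheme.Modules.pushforward i).obj (Coh.structureModule Z)))) :
    DCoh.IsPseudoCoherentD c (DCoh.inD (W : Scheme.{u})
      ((Scheme.Modules.pushforward (i ∣_ W)).obj (Coh.structureModule (i ⁻¹ᵁ W : Scheme.{u})))) := by
  have h1 := pc_restrictD W.ι _ c hO
  have e : (DCoh.restrictD W.ι).obj
      (DCoh.inD X ((Scheme.Modules.pushforward i).obj (Coh.structureModule Z))) ≅
      DCoh.inD (W : Scheme.{u}) ((Scheme.Modules.pushforward (i ∣_ W)).obj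
        (Coh.structureModule (i ⁻¹ᵁ W : Scheme.{u}))) :=
    ((Scheme.Modules.restrictFunctor W.ι).mapDerivedCategorySingleFunctor 0).app _ ≪≫
      (DerivedCategory.singleFunctor _ 0).mapIso
        ((Groth.Agent.Helper29.OpenRes.γ i W).app _ ≪≫
          (Scheme.Modules.pushforward (i ∣_ W)).mapIso
            (Scheme.Modules.restrictUnitIso (i ⁻¹ᵁ W).ι))
  exact isPseudoCoherentD_of_iso e h1

/-- the direct image of a free module of finite rank placed in degree `b` is `m`-pseudo-coherent
when the direct image of the structure sheaf is `(m - b)`-pseudo-coherent -/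
theorem pc_Q_push_single_free_level (n : ℕ) (b m : ℤ)
    (hO : DCoh.IsPseudoCoherentD (m - b)
      (DCoh.inD X ((Scheme.Modules.pushforward i).obj (Coh.structureModule Z)))) :
    DCoh.IsPseudoCoherentD m (Q.obj ((DerSch.pushCx i).obj
      ((HomologicalComplex.single Z.Modules (ComplexShape.up ℤ) b).obj (FlatMod.freeMod Z n)))) := by
  have h1 : DCoh.IsPseudoCoherentD (m - b)
      (DCoh.inD X ((Scheme.Modules.pushforward i).obj (FlatMod.freeMod Z n))) :=
    pc_map_freeMod_level (Scheme.Modules.pushforward i ⋙ DerivedCategory.singleFunctor X.Modules 0)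
      (m - b) hO n
  exact isPseudoCoherentD_of_iso (Q.mapIso
    ((HomologicalComplex.singleMapHomologicalComplex (Scheme.Modules.pushforward i)
      (ComplexShape.up ℤ) b).app (FlatMod.freeMod Z n)).symm)
    (pc_Q_single_of_pc _ b m h1)

variable [IsClosedImmersion i]

lemma step_backward_cone_level (G : CochainComplex Z.Modules ℤ) (m : ℤ) (W : X.Opens) (k : ℕ)
    (b : ℤ)
    (hO : DCoh.IsPseudoCoherentD (m + 1 - b)
      (DCoh.inD X ((Scheme.Modules.pushforward i).obj (Coh.structureModule Z))))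
    (a : (HomologicalComplex.single (i ⁻¹ᵁ W : Scheme.{u}).Modules (ComplexShape.up ℤ) b).obj
        (FlatMod.freeMod (i ⁻¹ᵁ W : Scheme.{u}) k) ⟶ (rCx (i ⁻¹ᵁ W).ι).obj G)
    (hP : DCoh.IsPseudoCoherentD m (Q.obj ((DerSch.pushCx i).obj G))) :
    DCoh.IsPseudoCoherentD m
      (Q.obj ((DerSch.pushCx (i ∣_ W)).obj (CochainComplex.mappingCone a))) := by
  have hOW := hO_restrict_level i W (m + 1 - b) hO
  have h₁ := pc_Q_push_single_free_level (i ∣_ W) k b (m + 1) hOW
  have h₂ : DCoh.IsPseudoCoherentD m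
      (Q.obj ((DerSch.pushCx (i ∣_ W)).obj ((rCx (i ⁻¹ᵁ W).ι).obj G))) :=
    isPseudoCoherentD_of_iso (Q.mapIso (pushRestrictCxIso' i W G)) (pc_rCx W.ι _ m hP)
  have h₃ := isPseudoCoherentD_Q_mappingCone ((DerSch.pushCx (i ∣_ W)).map a) m h₁ h₂
  exact isPseudoCoherentD_of_iso (Q.mapIso (CochainComplex.mappingCone.mapHomologicalComplexIso a
    (Scheme.Modules.pushforward (i ∣_ W))).symm) h₃

/-- the key induction, graded version -/
theorem key_back (n : ℕ) : ∀ {Z X : Scheme.{u}} (i : Z ⟶ X) [IsClosedImmersion i] (c : ℤ)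
    (hc : n = 0 ∨ c ≤ 2 - (n : ℤ))
    (hO : DCoh.IsPseudoCoherentD c
      (DCoh.inD X ((Scheme.Modules.pushforward i).obj (Coh.structureModule Z))))
    (G : CochainComplex Z.Modules ℤ) (m : ℤ)
    (hv : ∀ j : ℤ, m + n ≤ j → IsZero (G.homology j)),
    DCoh.IsPseudoCoherentD m (Q.obj ((DerSch.pushCx i).obj G)) →
      DCoh.IsPseudoCoherentD m (Q.obj G) := by
  induction n with
  | zero =>
    intro Z X i _ c hc hO G m hv
    simp only [Nat.cast_zero, add_zero] at hv
    exact fun _ => pc_of_isZero_homology _ m hv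
  | succ n ih =>
    intro Z X i _ c hc hO G m hv
    have hc' : c ≤ 1 - (n : ℤ) := by
      rcases hc with hc | hc
      · exact absurd hc (Nat.succ_ne_zero n)
      · push_cast at hc
        omega
    have hv' : ∀ j : ℤ, m + n < j → IsZero (G.homology j) := fun j hj =>
      hv j (by push_cast; omega)
    intro hP z
    obtain ⟨W₁, hzW₁, P, a₁, hPs, ha₁⟩ := exists_chain_model_at ((DerSch.pushCx i).obj G) (m + n)
      (i.base z) (pcAt_of_le (by omega) (hP (i.base z)))
    have hft₀ := isFiniteType_homology_of_conn P _ hPs (Q.map a₁) (m + n) ha₁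
      (fun j hj => IsZero.of_iso ((Scheme.Modules.restrictFunctor _).map_isZero
        (isZero_homology_push i G j (hv' j hj))) (restrictHomologyIso _ _ j))
    have hft₁ : SheafOfModules.IsFiniteType (R := (W₁ : Scheme.{u}).ringCatSheaf)
        ((Scheme.Modules.pushforward (i ∣_ W₁)).obj
          (((rCx (i ⁻¹ᵁ W₁).ι).obj G).homology (m + n))) :=
      isFiniteType_of_iso' ((HomologicalComplex.homologyFunctor _ _ (m + n)).mapIso
        (pushRestrictCxIso' i W₁ G) ≪≫ pushHomologyIso (i ∣_ W₁) _ (m + n)) hft₀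
    have hft := isFiniteType_of_push (i ∣_ W₁) _ hft₁
    obtain ⟨W, hzW, k, a, hC⟩ := exists_kill i G (m + n) z (i ⁻¹ᵁ W₁) hzW₁ hft hv'
    have hO1 : DCoh.IsPseudoCoherentD (m + 1 - (m + n))
        (DCoh.inD X ((Scheme.Modules.pushforward i).obj (Coh.structureModule Z))) :=
      pc_of_le (by omega) hO
    have hpush := step_backward_cone_level i G m W k (m + n) hO1 a hP
    have hCpc := ih (i ∣_ W) c (Or.inr (by omega)) (hO_restrict_level i W c hO)
      (CochainComplex.mappingCone a) m hC hpush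
    have hS := pc_Q_single_free (Y := (i ⁻¹ᵁ W : Scheme.{u})) k (m + n) m
    have hGV := isPseudoCoherentD_obj₂ _
      (DerivedCategory.mappingCone_triangle_distinguished a) m hS hCpc
    exact pcAt_of_pc_rCx (i ⁻¹ᵁ W).ι G m ⟨z, hzW⟩ hGV

/-- graded version: `G` without cohomology above `b`, `i_* O_Z` `(m + 1 - b)`-pseudo-coherent,
`i_* G` `m`-pseudo-coherent: then `G` is `m`-pseudo-coherent -/
theorem pc_of_pc_push (G : CochainComplex Z.Modules ℤ) (m b : ℤ)
    (hv : ∀ j : ℤ, b < j → IsZero (G.homology j))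
    (hO : DCoh.IsPseudoCoherentD (m + 1 - b)
      (DCoh.inD X ((Scheme.Modules.pushforward i).obj (Coh.structureModule Z))))
    (hP : DCoh.IsPseudoCoherentD m (Q.obj ((DerSch.pushCx i).obj G))) :
    DCoh.IsPseudoCoherentD m (Q.obj G) := by
  refine key_back (b + 1 - m).toNat i (m + 1 - b) ?_ hO G m (fun j hj => hv j ?_) hP
  · by_cases h : 0 < b + 1 - m
    · right
      have := Int.toNat_of_nonneg h.le
      omega
    · left
      exact Int.toNat_eq_zero.mpr (by omega)
  · have := Int.self_le_toNat (b + 1 - m)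
    omega

end Groth.Agent.Helper5.GPC
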