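import Groth.Agent.Lib.Helper5.OBC14

/-!
# Relative pseudo-coherence from the terms of a complex bounded above, and from the cohomology
sheaves of an object bounded above
-/

set_option autoImplicit false
set_option linter.unusedSectionVars false
set_option linter.unusedVariables false
set_option linter.style.haveILetI false

universe u

open CategoryTheory CategoryTheory.Limits AlgebraicGeometry Pretriangulated DerivedCategory
  TopologicalSpace Opposite

attribute [local instance] HasDerivedCategory.standard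

namespace Groth.Agent.Helper5.OBC

open Groth.Agent.Helper5.PCT Groth.Agent.Helper5.TB Groth.Agent.Helper5.RT
  Groth.Agent.Helper5.PCZ Groth.Agent.Helper11.MPC Groth.Agent.Helper5.CHP
  Groth.Agent.Helper5.XCH Groth.Agent.Helper5.CI Groth.Agent.Helper5.PDZ
  Groth.Agent.Helper5.LDer

variable {X S : Scheme.{u}} (f : X ⟶ S)

section Fun

variable {U : X.Opens} (hU : IsAffineOpen U) (V : S.Opens) {n : ℕ}
  (φ : MvPolynomial (Fin n) Γ(S, V) →+* Γ(X, U)) [IsClosedImmersion (Spec.map (CommRingCat.ofHom φ))]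

/-- the chart functor on a module placed in degree `0` -/
noncomputable def chartDSingleIso (M : X.Modules) :
    (chartD hU V φ).obj (DCoh.inD X M) ≅ DCoh.inD _ ((chartFun hU V φ).obj M) :=
  ((chartFun hU V φ).mapDerivedCategorySingleFunctor 0).app M

end Fun

/-- S7215 -/
theorem main_S7215 (m : ℤ)
    (F : CochainComplex X.Modules ℤ) (b : ℤ) (hb : ∀ i : ℤ, b < i → IsZero (F.X i))
    (h : ∀ i : ℤ, DerSch.IsPseudoCoherentRel f (m - i) (DCoh.inD X (F.X i))) :
    DerSch.IsPseudoCoherentRel f m (DCoh.toD X F) := by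
  haveI : LocallyOfFiniteType f := (h 0).1
  rw [rel_iff_forall_chart]
  intro U V hUV n φ hφ
  haveI : IsClosedImmersion (Spec.map (CommRingCat.ofHom φ)) :=
    IsClosedImmersion.spec_of_surjective _ hφ.1
  rw [chartPC_iff_D U.2 V.1 φ]
  refine isPseudoCoherentD_of_iso
    ((chartFun U.2 V.1 φ).mapDerivedCategoryFactors.app F).symm ?_
  refine pc_of_terms m b _ (fun i hi => (chartFun U.2 V.1 φ).map_isZero (hb i hi)) (fun i => ?_)
  have h1 := (rel_iff_forall_chart f (m - i) _).mp (h i) U V hUV n φ hφ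
  rw [chartPC_iff_D U.2 V.1 φ] at h1
  exact isPseudoCoherentD_of_iso (chartDSingleIso U.2 V.1 φ (F.X i)) h1

/-- S7216 -/
theorem main_S7216 (m : ℤ) (E : DCoh.D X)
    (b : ℤ) [E.IsLE b]
    (h : ∀ i : ℤ, DerSch.IsPseudoCoherentRel f (m - i) (DCoh.inD X (DCoh.HD E i))) :
    DerSch.IsPseudoCoherentRel f m E := by
  haveI : LocallyOfFiniteType f := (h 0).1
  rw [rel_iff_forall_chart]
  intro U V hUV n φ hφ
  haveI : IsClosedImmersion (Spec.map (CommRingCat.ofHom φ)) :=
    IsClosedImmersion.spec_of_surjective _ hφ.1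
  rw [chartPC_iff_D U.2 V.1 φ]
  refine pc_of_homology m b _ (fun i hi => ?_) (fun i => ?_)
  · exact IsZero.of_iso ((chartFun U.2 V.1 φ).map_isZero (E.isZero_of_isLE b i hi))
      (Groth.Agent.Helper29.PerfVanC.homologyMapDIso (chartFun U.2 V.1 φ) E i)
  · have h1 := (rel_iff_forall_chart f (m - i) _).mp (h i) U V hUV n φ hφ
    rw [chartPC_iff_D U.2 V.1 φ] at h1
    exact isPseudoCoherentD_of_iso (chartDSingleIso U.2 V.1 φ (DCoh.HD E i) ≪≫
      (DerivedCategory.singleFunctor _ 0).mapIso
        (Groth.Agent.Helper29.PerfVanC.homologyMapDIso (chartFun U.2 V.1 φ) E i).symm) h1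

end Groth.Agent.Helper5.OBC
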