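import Groth.Agent.Lib.Helper5.GPC1
import Groth.Agent.Lib.Helper5.OBC15
import Groth.Agent.Lib.Helper11.DCExactH

/-!
# Pseudo-coherence along a closed immersion, graded version, part 2: relative pseudo-coherence
for a composite whose second morphism is `n`-pseudo-coherent
-/

set_option autoImplicit false
set_option linter.unusedSectionVars false
set_option linter.unusedVariables false
set_option linter.style.haveILetI false
set_option maxHeartbeats 400000

universe u

open CategoryTheory CategoryTheory.Limits AlgebraicGeometry Pretriangulated DerivedCategory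
  TopologicalSpace Opposite

attribute [local instance] HasDerivedCategory.standard

namespace Groth.Agent.Helper5.GPC

open Groth.Agent.Helper5.PCT Groth.Agent.Helper5.TB Groth.Agent.Helper5.RT
  Groth.Agent.Helper5.PCZ Groth.Agent.Helper11.MPC Groth.Agent.Helper5.CHP
  Groth.Agent.Helper5.XCH Groth.Agent.Helper5.CI Groth.Agent.Helper5.PDZ
  Groth.Agent.Helper5.LDer Groth.Agent.Helper5.OBC Groth.Agent.Helper11.DC

section Ring

variable {P A : Type u} [CommRing P] [CommRing A]

/-- `A` `c`-pseudo-coherent over `P` implies `A[y]` `c`-pseudo-coherent over `P[y]` -/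
theorem mpc_base_map (α : P →+* A) (k : ℕ) (c : ℤ)
    (h : DRing.IsPseudoCoherent P c ((singleFunctor (ModuleCat.{u} P) 0).obj
      ((ModuleCat.restrictScalars.{u} α).obj (ModuleCat.of A A)))) :
    DRing.IsPseudoCoherent (MvPolynomial (Fin k) P) c
      ((singleFunctor (ModuleCat.{u} (MvPolynomial (Fin k) P)) 0).obj
        ((ModuleCat.restrictScalars.{u}
          (MvPolynomial.map α : MvPolynomial (Fin k) P →+* MvPolynomial (Fin k) A)).obj
          (ModuleCat.of (MvPolynomial (Fin k) A) (MvPolynomial (Fin k) A)))) := by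
  have h1 := flatBC_pcm (MvPolynomial.C : P →+* MvPolynomial (Fin k) P) (flat_C k) c
    ((ModuleCat.restrictScalars.{u} α).obj (ModuleCat.of A A)) h
  exact mpc_of_iso
    ((singleFunctor (ModuleCat.{u} (MvPolynomial (Fin k) P)) 0).mapIso (asIso (polyBCHom α k))) h1

/-- the hypothesis on the structure sheaf for `Spec ρ`, at one level -/
theorem hO_spec_level (ρ : P →+* A) (c : ℤ)
    (h1 : DRing.IsPseudoCoherent P c ((singleFunctor (ModuleCat.{u} P) 0).obj
      ((ModuleCat.restrictScalars.{u} ρ).obj (ModuleCat.of A A)))) :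
    DCoh.IsPseudoCoherentD c (DCoh.inD (Spec (CommRingCat.of P))
      ((Scheme.Modules.pushforward (Spec.map (CommRingCat.ofHom ρ))).obj
        (Coh.structureModule (Spec (CommRingCat.of A))))) := by
  have h2 := tilde_mpc P _ c h1
  have e : (DCoh.tildeD (CommRingCat.of P)).obj ((singleFunctor (ModuleCat.{u} P) 0).obj
      ((ModuleCat.restrictScalars.{u} ρ).obj (ModuleCat.of A A))) ≅
      DCoh.inD (Spec (CommRingCat.of P))
        ((Scheme.Modules.pushforward (Spec.map (CommRingCat.ofHom ρ))).obj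
          (Coh.structureModule (Spec (CommRingCat.of A)))) :=
    ((tilde.functor (CommRingCat.of P)).mapDerivedCategorySingleFunctor 0).app _ ≪≫
      (singleFunctor _ 0).mapIso
        ((Groth.Agent.Helper24.TildePush.tildePushIso (CommRingCat.ofHom ρ)).app
          (ModuleCat.of A A))
  exact isPseudoCoherentD_of_iso e h2

end Ring

section Spec

variable {R B A : Type u} [CommRing R] [CommRing B] [CommRing A]
  [Algebra R B] [Algebra B A] [Algebra R A] [IsScalarTower R B A]

/-- graded version of `pc_push_trans`, one direction -/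
theorem pc_push_trans_level {l : ℕ} (π : MvPolynomial (Fin l) R →ₐ[R] B)
    (hπ : Function.Surjective π) (m bb : ℤ)
    (hb : DRing.IsPseudoCoherent (MvPolynomial (Fin l) R) (m + 1 - bb)
      ((singleFunctor (ModuleCat.{u} (MvPolynomial (Fin l) R)) 0).obj
        ((ModuleCat.restrictScalars.{u} (π : MvPolynomial (Fin l) R →+* B)).obj
          (ModuleCat.of B B))))
    {n : ℕ} (φ : MvPolynomial (Fin n) B →ₐ[B] A) (hφ : Function.Surjective φ) :
    ∃ δ : MvPolynomial (Fin (n + l)) R →ₐ[R] A, Function.Surjective δ ∧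
      ∀ (H : CochainComplex (Spec (CommRingCat.of A)).Modules ℤ),
        (∀ j : ℤ, bb < j → IsZero (H.homology j)) →
        DCoh.IsPseudoCoherentD m (Q.obj ((DerSch.pushCx (Spec.map (CommRingCat.ofHom
          (δ : MvPolynomial (Fin (n + l)) R →+* A)))).obj H)) →
        DCoh.IsPseudoCoherentD m (Q.obj ((DerSch.pushCx (Spec.map (CommRingCat.ofHom
          (φ : MvPolynomial (Fin n) B →+* A)))).obj H)) := by
  obtain ⟨δ, e, hδ, hδe⟩ := exists_delta π hπ φ hφ
  refine ⟨δ, hδ, fun H hH h0 => ?_⟩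
  have hPm : Function.Surjective (MvPolynomial.map (π : MvPolynomial (Fin l) R →+* B) :
      MvPolynomial (Fin n) (MvPolynomial (Fin l) R) →+* MvPolynomial (Fin n) B) :=
    MvPolynomial.map_surjective _ hπ
  have h2iff := pc_push_comp_iff (e : MvPolynomial (Fin (n + l)) R →+* _) e.surjective
    (baseIsPc_of_bijective _ e.bijective)
    ((φ : MvPolynomial (Fin n) B →+* A).comp
      (MvPolynomial.map (π : MvPolynomial (Fin l) R →+* B))) H m
  have h2 := h2iff.mpr (by rw [← hδe]; exact h0)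
  have h3 := isPseudoCoherentD_of_iso (Q.mapIso (pushSpecCompIso
    (MvPolynomial.map (π : MvPolynomial (Fin l) R →+* B) :
      MvPolynomial (Fin n) (MvPolynomial (Fin l) R) →+* MvPolynomial (Fin n) B)
    (φ : MvPolynomial (Fin n) B →+* A) H).symm) h2
  haveI : IsClosedImmersion (Spec.map (CommRingCat.ofHom
      (MvPolynomial.map (π : MvPolynomial (Fin l) R →+* B) :
        MvPolynomial (Fin n) (MvPolynomial (Fin l) R) →+* MvPolynomial (Fin n) B))) :=
    IsClosedImmersion.spec_of_surjective _ hPm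
  haveI : IsClosedImmersion (Spec.map (CommRingCat.ofHom (φ : MvPolynomial (Fin n) B →+* A))) :=
    IsClosedImmersion.spec_of_surjective _ hφ
  exact pc_of_pc_push _ _ m bb
    (fun j hj => isZero_homology_push _ H j (hH j hj))
    (hO_spec_level _ (m + 1 - bb) (mpc_base_map _ n _ hb)) h3

end Spec

variable {X T S : Scheme.{u}} (a : X ⟶ T) (b : T ⟶ S)

/-- from a chart over the base to a chart over an affine open of the middle scheme, graded
version -/
theorem hasChartPC_of_comp_level [LocallyOfFiniteType a] {U : X.Opens} (hU : IsAffineOpen U)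
    {W : T.Opens} (hW : IsAffineOpen W) {V : S.Opens} (hV : IsAffineOpen V)
    (hUW : U ≤ a ⁻¹ᵁ W) (hWV : W ≤ b ⁻¹ᵁ V) (hUV : U ≤ (a ≫ b) ⁻¹ᵁ V)
    (m bb : ℤ) (E : DCoh.D X) [E.IsLE bb]
    (hb : @DerCA.IsRelPseudoCoherent Γ(S, V) Γ(T, W) _ _ (b.appLE V W hWV).hom.toAlgebra
      (m + 1 - bb) (Dual.inD Γ(T, W) Γ(T, W)))
    (H : HasChartPC (a ≫ b) m E U V hUV) : HasChartPC a m E U W hUW := by
  letI algRB : Algebra Γ(S, V) Γ(T, W) := (b.appLE V W hWV).hom.toAlgebra
  letI algBA : Algebra Γ(T, W) Γ(X, U) := (a.appLE W U hUW).hom.toAlgebra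
  letI algRA : Algebra Γ(S, V) Γ(X, U) := ((a ≫ b).appLE V U hUV).hom.toAlgebra
  haveI : IsScalarTower Γ(S, V) Γ(T, W) Γ(X, U) := IsScalarTower.of_algebraMap_eq (fun r => by
    have h1 := Scheme.Hom.appLE_comp_appLE a b V W U hWV hUW
    exact (congrArg (fun g => g.hom r) h1).symm)
  obtain ⟨l, π, hπ, hvia⟩ := hb
  have hbπ : DRing.IsPseudoCoherent (MvPolynomial (Fin l) Γ(S, V)) (m + 1 - bb)
      ((singleFunctor (ModuleCat.{u} (MvPolynomial (Fin l) Γ(S, V))) 0).obj
        ((ModuleCat.restrictScalars.{u} (π : MvPolynomial (Fin l) Γ(S, V) →+* Γ(T, W))).obj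
          (ModuleCat.of Γ(T, W) Γ(T, W)))) :=
    (mpc_restrict_single_iff (π : MvPolynomial (Fin l) Γ(S, V) →+* Γ(T, W))
      (ModuleCat.of Γ(T, W) Γ(T, W)) (m + 1 - bb)).mp hvia
  obtain ⟨k', ψ', hψ', hpc⟩ := H
  obtain ⟨n, φ, hφ⟩ := exists_chart a hU hW hUW
  let α : MvPolynomial (Fin n) Γ(T, W) →ₐ[Γ(T, W)] Γ(X, U) :=
    { toRingHom := φ
      commutes' := fun r => by
        have := congrArg (fun g => g r) hφ.2
        exact this }
  obtain ⟨δ, hδ, hback⟩ := pc_push_trans_level π hπ m bb hbπ α hφ.1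
  have hδchart : DerSch.IsChart (a ≫ b) U V hUV
      (δ : MvPolynomial (Fin (n + l)) Γ(S, V) →+* Γ(X, U)) := by
    refine ⟨hδ, ?_⟩
    ext r
    exact δ.commutes r
  have hpcδ := chartPC_indep (a ≫ b) U hU V hUV m E ψ' hψ' hpc _ hδchart
  refine ⟨n, φ, hφ, ?_⟩
  rw [chartPC_iff_specRes hU V m E _] at hpcδ
  rw [chartPC_iff_specRes hU W m E φ]
  intro G hG
  obtain ⟨eG⟩ := hG
  refine hback (specRes hU G) (fun j hj => ?_) (hpcδ G ⟨eG⟩)
  have hz : IsZero (G.homology j) :=
    IsZero.of_iso (E.isZero_of_isLE bb j hj)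
      ((HDQIso G j).symm ≪≫ (homologyFunctor _ j).mapIso eG)
  have hz1 : IsZero (((rCx U.ι).obj G).homology j) :=
    IsZero.of_iso ((Scheme.Modules.restrictFunctor U.ι).map_isZero hz)
      (Groth.Agent.Helper5.LOC.restrictHomologyIso U.ι G j)
  exact IsZero.of_iso ((Scheme.Modules.restrictFunctor hU.isoSpec.inv).map_isZero hz1)
    (Groth.Agent.Helper5.LOC.restrictHomologyIso hU.isoSpec.inv _ j)

/-- S6205 -/
theorem main_S6205 {X Y Z : Scheme.{u}} (f : X ⟶ Y) (g : Y ⟶ Z)
    [LocallyOfFiniteType f] [LocallyOfFiniteType g] (a b : ℤ) (E : DCoh.D X) [E.IsLE b]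
    (hE : DerSch.IsPseudoCoherentRel (f ≫ g) a E) (hg : DerSch.IsNPseudoCoherent g (a + 1 - b)) :
    DerSch.IsPseudoCoherentRel f a E := by
  have H' := (rel_iff_hasChartPC (f ≫ g) a E).mp hE
  have Hg := (rel_iff_relPC g _ (a + 1 - b) (Groth.Agent.Helper5.FBX.isQCohD_unit Y)).mp hg
  refine ⟨inferInstance, {W : Y.affineOpens | ∃ V : Z.affineOpens, W.1 ≤ g ⁻¹ᵁ V.1}, ?_,
    fun W hW => ⟨{U : X.affineOpens | U.1 ≤ f ⁻¹ᵁ W.1}, ?_, ?_⟩⟩
  · apply le_antisymm le_top
    intro t _
    obtain ⟨V, hV, htV, -⟩ :=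
      (TopologicalSpace.Opens.isBasis_iff_nbhd.mp Z.isBasis_affineOpens)
        (show g t ∈ (⊤ : Z.Opens) from trivial)
    obtain ⟨W, hW, htW, hWV⟩ :=
      (TopologicalSpace.Opens.isBasis_iff_nbhd.mp Y.isBasis_affineOpens)
        (show t ∈ g ⁻¹ᵁ V from htV)
    simp only [TopologicalSpace.Opens.mem_iSup]
    exact ⟨⟨W, hW⟩, ⟨⟨V, hV⟩, hWV⟩, htW⟩
  · apply le_antisymm
    · exact iSup₂_le (fun U hU => hU)
    · intro x hx
      obtain ⟨U, hU, hxU, hUi⟩ :=
        (TopologicalSpace.Opens.isBasis_iff_nbhd.mp X.isBasis_affineOpens) hx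
      simp only [TopologicalSpace.Opens.mem_iSup]
      exact ⟨⟨U, hU⟩, hUi, hxU⟩
  · intro U _ hUW
    obtain ⟨V, hWV⟩ := hW
    have hUV : U.1 ≤ (f ≫ g) ⁻¹ᵁ V.1 := fun x hx => hWV (hUW hx)
    exact hasChartPC_of_comp_level f g U.2 W.2 V.2 hUW hWV hUV a b E
      ((relPC_unit_iff g (a + 1 - b) W.2 V.2 hWV).mp (Hg W.1 W.2 V.1 V.2 hWV)) (H' U V hUV)

end Groth.Agent.Helper5.GPC
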