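import Groth.Agent.Lib.Helper11.SplitTr3
import Groth.Agent.Lib.Helper11.RelLoc2
import Groth.Agent.Lib.Helper11.MPC6

/-!
# Lifting morphisms from a localization, part 1: a chain map between the localizations of a bounded
above complex of finite free modules and a bounded below complex comes, up to a unit, from a chain
map before localizing
-/

set_option autoImplicit false
set_option linter.unusedSectionVars false
set_option linter.unusedVariables false
set_option linter.style.haveILetI false

universe u

open CategoryTheory CategoryTheory.Limits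

namespace Groth.Agent.Helper5.HLS

open Groth.Agent.Helper11.TA Groth.Agent.Helper11.SplitTr

variable {R A : Type u} [CommRing R] [CommRing A] [Algebra R A] (S : Submonoid R)
  [IsLocalization S A]

/-- `1 ⊗ -` is natural -/
lemma ιU_naturality {M N : ModuleCat.{u} R} (f : M ⟶ N) :
    (ιU (A := A) N) ∘ₗ f.hom =
      ((ModuleCat.restrictScalars.{u} (algebraMap R A)).map
        ((es (algebraMap R A)).map f)).hom ∘ₗ (ιU (A := A) M) :=
  LinearMap.ext fun x => rfl

theorem exists_lift_chainMap (P L : DRing.Cx R) (b c : ℤ)
    (hPb : DRing.VanishesAbove P b) (hPf : DRing.TermwiseFiniteFree P)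
    (hLc : ∀ i : ℤ, i < c → IsZero (L.X i))
    (φ : (esC (algebraMap R A)).obj P ⟶ (esC (algebraMap R A)).obj L) :
    ∃ (ψ : P ⟶ L) (s : S), ∀ i : ℤ,
      (ιU (A := A) (L.X i)) ∘ₗ (ψ.f i).hom =
        (s : R) • (((ModuleCat.restrictScalars.{u} (algebraMap R A)).map (φ.f i)).hom ∘ₗ
          (ιU (A := A) (P.X i))) := by
  classical
  haveI := fun (M : ModuleCat.{u} R) => isLocalizedModule_unit (A := A) S M
  haveI : ∀ j, Module.Finite R (P.X j) := fun j => (hPf j).1
  haveI : ∀ j, Module.Free R (P.X j) := fun j => (hPf j).2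
  haveI : ∀ j, Module.FinitePresentation R (P.X j) := fun j =>
    Module.finitePresentation_of_projective R _
  -- the components
  let g : ∀ i, P.X i →ₗ[R] ((ModuleCat.restrictScalars.{u} (algebraMap R A)).obj
      ((es (algebraMap R A)).obj (L.X i))) := fun i =>
    ((ModuleCat.restrictScalars.{u} (algebraMap R A)).map (φ.f i)).hom ∘ₗ (ιU (A := A) (P.X i))
  have hg : ∀ i, ((ModuleCat.restrictScalars.{u} (algebraMap R A)).map
      ((es (algebraMap R A)).map (L.d i (i + 1)))).hom ∘ₗ g i =
      g (i + 1) ∘ₗ (P.d i (i + 1)).hom := by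
    intro i
    refine LinearMap.ext fun v => ?_
    have h1 := φ.comm i (i + 1)
    have h2 := congr($(h1).hom (ιU (A := A) (P.X i) v))
    exact h2
  choose h s hs using fun i => Module.FinitePresentation.exists_lift_of_isLocalizedModule S
    (ιU (A := A) (L.X i)) (g i)
  -- common denominator
  let I : Finset ℤ := Finset.Icc c b
  let s₀ : S := ∏ j ∈ I, s j
  let h' : ∀ i, P.X i →ₗ[R] L.X i := fun i =>
    if hi : i ∈ I then ((∏ j ∈ I.erase i, s j : S) : R) • h i else 0
  have hh' : ∀ i, (ιU (A := A) (L.X i)) ∘ₗ h' i = (s₀ : R) • g i := by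
    intro i
    by_cases hi : i ∈ I
    · simp only [h', dif_pos hi]
      rw [LinearMap.comp_smul, hs i]
      have : (s₀ : R) = ((∏ j ∈ I.erase i, s j : S) : R) * (s i : R) := by
        change ((∏ j ∈ I, s j : S) : R) = _
        rw [← Finset.mul_prod_erase I s hi, Submonoid.coe_mul, mul_comm]
      rw [this, mul_smul]
      rfl
    · simp only [h', dif_neg hi, LinearMap.comp_zero]
      have hi' : i < c ∨ b < i := by
        by_contra hc
        push Not at hc
        exact hi (Finset.mem_Icc.mpr hc)
      rcases hi' with hi' | hi'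
      · haveI : Subsingleton ((ModuleCat.restrictScalars.{u} (algebraMap R A)).obj
            ((es (algebraMap R A)).obj (L.X i))) :=
          ModuleCat.subsingleton_of_isZero
            ((ModuleCat.restrictScalars.{u} (algebraMap R A)).map_isZero
              ((es (algebraMap R A)).map_isZero (hLc i hi')))
        exact LinearMap.ext fun v => Subsingleton.elim _ _
      · haveI : Subsingleton (P.X i) := ModuleCat.subsingleton_of_isZero (hPb i hi')
        exact LinearMap.ext fun v => by
          rw [Subsingleton.elim v 0, map_zero, map_zero]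
  -- the defect of commutation
  let δ : ∀ i, P.X i →ₗ[R] L.X (i + 1) := fun i =>
    (L.d i (i + 1)).hom ∘ₗ h' i - h' (i + 1) ∘ₗ (P.d i (i + 1)).hom
  have hδ : ∀ i, (ιU (A := A) (L.X (i + 1))) ∘ₗ δ i = (ιU (A := A) (L.X (i + 1))) ∘ₗ 0 := by
    intro i
    simp only [δ, LinearMap.comp_sub, LinearMap.comp_zero]
    rw [← LinearMap.comp_assoc, ιU_naturality, LinearMap.comp_assoc, hh' i,
      ← LinearMap.comp_assoc, hh' (i + 1), LinearMap.comp_smul, LinearMap.smul_comp, hg i,
      sub_self]
  choose t ht using fun i => Module.Finite.exists_smul_of_comp_eq_of_isLocalizedModule S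
    (ιU (A := A) (L.X (i + 1))) (δ i) 0 (hδ i)
  let J : Finset ℤ := Finset.Icc (c - 1) b
  let t₀ : S := ∏ j ∈ J, t j
  have ht₀ : ∀ i, (t₀ : R) • δ i = 0 := by
    intro i
    by_cases hi : i ∈ J
    · have h1 : (t₀ : R) = ((∏ j ∈ J.erase i, t j : S) : R) * (t i : R) := by
        change ((∏ j ∈ J, t j : S) : R) = _
        rw [← Finset.mul_prod_erase J t hi, Submonoid.coe_mul, mul_comm]
      have h2 : (t i : R) • δ i = 0 := by
        have := ht i
        rw [smul_zero] at this
        exact this
      rw [h1, mul_smul, h2, smul_zero]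
    · have hi' : i < c - 1 ∨ b < i := by
        by_contra hc
        push Not at hc
        exact hi (Finset.mem_Icc.mpr hc)
      have hz : δ i = 0 := by
        rcases hi' with hi' | hi'
        · haveI : Subsingleton (L.X (i + 1)) :=
            ModuleCat.subsingleton_of_isZero (hLc (i + 1) (by omega))
          exact LinearMap.ext fun v => Subsingleton.elim _ _
        · haveI : Subsingleton (P.X i) := ModuleCat.subsingleton_of_isZero (hPb i hi')
          exact LinearMap.ext fun v => by
            rw [Subsingleton.elim v 0, map_zero, map_zero]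
      rw [hz, smul_zero]
  -- the chain map
  let ψ : P ⟶ L :=
    { f := fun i => ModuleCat.ofHom ((t₀ : R) • h' i)
      comm' := by
        rintro i _ rfl
        ext v
        have h1 := LinearMap.congr_fun (ht₀ i) v
        simp only [δ, LinearMap.smul_apply, LinearMap.sub_apply, LinearMap.comp_apply,
          LinearMap.zero_apply, smul_sub, sub_eq_zero] at h1
        change (L.d i (i + 1)).hom ((t₀ : R) • h' i v) =
          (t₀ : R) • h' (i + 1) ((P.d i (i + 1)).hom v)
        rw [map_smul]
        exact h1 }
  refine ⟨ψ, t₀ * s₀, fun i => ?_⟩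
  change (ιU (A := A) (L.X i)) ∘ₗ ((t₀ : R) • h' i) = ((t₀ * s₀ : S) : R) • g i
  rw [LinearMap.comp_smul, hh' i, Submonoid.coe_mul, mul_smul]

end Groth.Agent.Helper5.HLS
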