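import Groth.Agent.Lib.Helper5.HLS1

/-!
# Lifting morphisms from a localization, part 2: a quasi-isomorphism between the localizations
comes, up to a unit, from a chain map whose localization is a quasi-isomorphism
-/

set_option autoImplicit false
set_option linter.unusedSectionVars false
set_option linter.unusedVariables false
set_option linter.style.haveILetI false

universe u

open CategoryTheory CategoryTheory.Limits
open scoped ChangeOfRings

namespace Groth.Agent.Helper5.HLS

open Groth.Agent.Helper11.TA Groth.Agent.Helper11.SplitTr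

section Lin

variable {C : Type*} [Category C] [Preadditive C] {A : Type*} [CommRing A] [Linear A C]

lemma isIso_smul_id (X : C) (u : A) (hu : IsUnit u) : IsIso (u • 𝟙 X) := by
  obtain ⟨v, hv⟩ := hu.exists_right_inv
  refine ⟨v • 𝟙 X, ?_, ?_⟩
  · rw [Linear.smul_comp, Linear.comp_smul, Category.comp_id, smul_smul, hv, one_smul]
  · rw [Linear.smul_comp, Linear.comp_smul, Category.comp_id, smul_smul, mul_comm v u, hv,
      one_smul]

end Lin

variable {R A : Type u} [CommRing R] [CommRing A] [Algebra R A] (S : Submonoid R)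
  [IsLocalization S A]

theorem map_eq_comp_smul (P L : DRing.Cx R)
    (φ : (esC (algebraMap R A)).obj P ⟶ (esC (algebraMap R A)).obj L) (ψ : P ⟶ L) (s : R)
    (h : ∀ i : ℤ, (ιU (A := A) (L.X i)) ∘ₗ (ψ.f i).hom =
        s • (((ModuleCat.restrictScalars.{u} (algebraMap R A)).map (φ.f i)).hom ∘ₗ
          (ιU (A := A) (P.X i)))) :
    (esC (algebraMap R A)).map ψ = φ ≫ (algebraMap R A s • 𝟙 _) := by
  ext i : 1
  apply ModuleCat.ExtendScalars.hom_ext
  intro v
  have h1 := LinearMap.congr_fun (h i) v
  exact h1

theorem quasiIso_map_of_lift (P L : DRing.Cx R)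
    (φ : (esC (algebraMap R A)).obj P ⟶ (esC (algebraMap R A)).obj L) [QuasiIso φ]
    (ψ : P ⟶ L) (s : S)
    (h : ∀ i : ℤ, (ιU (A := A) (L.X i)) ∘ₗ (ψ.f i).hom =
        (s : R) • (((ModuleCat.restrictScalars.{u} (algebraMap R A)).map (φ.f i)).hom ∘ₗ
          (ιU (A := A) (P.X i)))) :
    QuasiIso ((esC (algebraMap R A)).map ψ) := by
  rw [map_eq_comp_smul P L φ ψ s h]
  haveI : IsIso (algebraMap R A (s : R) • 𝟙 ((esC (algebraMap R A)).obj L)) :=
    isIso_smul_id _ _ (IsLocalization.map_units A s)
  infer_instance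

end Groth.Agent.Helper5.HLS
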