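import Groth.Agent.Lib.Helper5.HLS2
import Groth.Agent.Lib.Helper11.MPC8

/-!
# Lifting morphisms from a localization, part 3: a pseudo-coherent complex with bounded cohomology
whose localization is acyclic has cohomology killed by the powers of one element of the
multiplicative set
-/

set_option autoImplicit false
set_option linter.unusedSectionVars false
set_option linter.unusedVariables false
set_option linter.style.haveILetI false

universe u

open CategoryTheory CategoryTheory.Limits DerivedCategory

attribute [local instance] HasDerivedCategory.standard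

namespace Groth.Agent.Helper5.HLS

open Groth.Agent.Helper11.TA Groth.Agent.Helper11.SplitTr Groth.Agent.Helper11.MPC
  Groth.Agent.Helper11.DC

variable {R : Type u} [CommRing R]

/-- every element of `M` is killed by a power of `f` -/
def PowTors (f : R) (M : ModuleCat.{u} R) : Prop := ∀ z : M, ∃ N : ℕ, f ^ N • z = 0

lemma PowTors.mul_right {f : R} {M : ModuleCat.{u} R} (h : PowTors f M) (f' : R) :
    PowTors (f * f') M := by
  intro z
  obtain ⟨N, hN⟩ := h z
  exact ⟨N, by rw [mul_pow, mul_comm, mul_smul, hN, smul_zero]⟩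

lemma powTors_of_isZero (f : R) (M : ModuleCat.{u} R) (h : IsZero M) : PowTors f M := by
  intro z
  haveI : Subsingleton M := ModuleCat.subsingleton_of_isZero h
  exact ⟨0, Subsingleton.elim _ _⟩

/-- extension of scalars kills `f`-power torsion modules when `f` becomes a unit -/
theorem isZero_es_of_powTors {R' : Type u} [CommRing R'] (φ : R →+* R') (f : R)
    (hf : IsUnit (φ f)) (M : ModuleCat.{u} R) (h : PowTors f M) :
    IsZero ((es φ).obj M) := by
  letI := φ.toAlgebra
  have key : ∀ t : TensorProduct R R' M, t = 0 := by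
    intro t
    induction t using TensorProduct.induction_on with
    | zero => rfl
    | tmul a z =>
      obtain ⟨N, hN⟩ := h z
      have hu : IsUnit ((algebraMap R R' f) ^ N) := (hf.pow N)
      obtain ⟨v, hv⟩ := hu.exists_left_inv
      have h1 : a ⊗ₜ[R] z = (a * v) ⊗ₜ[R] ((f ^ N) • z) := by
        rw [TensorProduct.tmul_smul, TensorProduct.smul_tmul', Algebra.smul_def, map_pow,
          mul_comm (algebraMap R R' f ^ N), mul_assoc, hv, mul_one]
      rw [h1, hN, TensorProduct.tmul_zero]
    | add t₁ t₂ h₁ h₂ => rw [h₁, h₂, add_zero]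
  haveI : Subsingleton ((es φ).obj M) := ⟨fun a b => (key a).trans (key b).symm⟩
  exact ModuleCat.isZero_of_subsingleton _

section Step

variable {A : Type u} [CommRing A] [Algebra R A] (S : Submonoid R) [IsLocalization S A]

/-- the key step: a module whose localization away from `f₁` is finite and whose localization at
`S` vanishes is killed by the powers of `f₁ f₂` for some `f₂ ∈ S` -/
theorem exists_powTors_mul (M : ModuleCat.{u} R) (f₁ : R)
    (hfin : Module.Finite (Localization.Away f₁)
      ((es (algebraMap R (Localization.Away f₁))).obj M))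
    (hz : IsZero ((es (algebraMap R A)).obj M)) :
    ∃ f₂ : R, f₂ ∈ S ∧ PowTors (f₁ * f₂) M := by
  classical
  haveI hloc₁ := isLocalizedModule_unit (A := Localization.Away f₁) (Submonoid.powers f₁) M
  haveI hlocA := isLocalizedModule_unit (A := A) S M
  -- every element of `M` is killed by an element of `S`
  have hkill : ∀ z : M, ∃ s : S, (s : R) • z = 0 := by
    intro z
    haveI : Subsingleton ↑((ModuleCat.restrictScalars.{u} (algebraMap R A)).obj
        ((es (algebraMap R A)).obj M)) :=
      ModuleCat.subsingleton_of_isZero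
        ((ModuleCat.restrictScalars.{u} (algebraMap R A)).map_isZero hz)
    have h0 : ιU (A := A) M z = ιU (A := A) M 0 := Subsingleton.elim _ _
    obtain ⟨s, hs⟩ := IsLocalizedModule.exists_of_eq (S := S) (f := ιU (A := A) M) h0
    exact ⟨s, by rw [smul_zero] at hs; exact hs⟩
  let ρ := algebraMap R (Localization.Away f₁)
  let ι₁ : M → (es ρ).obj M := fun z => ιU (A := Localization.Away f₁) M z
  have ι₁_smul : ∀ (r : R) (z : M), ι₁ (r • z) = ρ r • ι₁ z := fun r z =>
    (ιU (A := Localization.Away f₁) M).map_smul r z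
  have ι₁_zero : ι₁ 0 = 0 := (ιU (A := Localization.Away f₁) M).map_zero
  have ι₁_surj : ∀ n : (es ρ).obj M, ∃ (z : M) (t : Submonoid.powers f₁),
      ρ (t : R) • n = ι₁ z := by
    intro n
    obtain ⟨⟨z, t⟩, h⟩ := IsLocalizedModule.surj (Submonoid.powers f₁)
      (ιU (A := Localization.Away f₁) M) n
    exact ⟨z, t, h⟩
  have ι₁_eq : ∀ z : M, ι₁ z = 0 → ∃ N : ℕ, f₁ ^ N • z = 0 := by
    intro z hz'
    have h5 : ιU (A := Localization.Away f₁) M z = ιU (A := Localization.Away f₁) M 0 :=
      hz'.trans ι₁_zero.symm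
    obtain ⟨⟨t, N, rfl⟩, ht⟩ := IsLocalizedModule.exists_of_eq (S := Submonoid.powers f₁)
      (f := ιU (A := Localization.Away f₁) M) h5
    rw [smul_zero] at ht
    exact ⟨N, ht⟩
  obtain ⟨G, hG⟩ := hfin.fg_top
  choose zn tn hzt using ι₁_surj
  choose sk hsk using hkill
  let f₂ : S := ∏ n ∈ G, sk (zn n)
  have hf₂ : ∀ n ∈ G, (f₂ : R) • zn n = 0 := by
    intro n hn
    have h1 : (f₂ : R) = ((∏ j ∈ G.erase n, sk (zn j) : S) : R) * (sk (zn n) : R) := by
      change ((∏ j ∈ G, sk (zn j) : S) : R) = _
      rw [← Finset.mul_prod_erase G (fun j => sk (zn j)) hn, Submonoid.coe_mul, mul_comm]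
    rw [h1, mul_smul, hsk, smul_zero]
  -- `f₂` kills the localization away from `f₁`
  have hall : ∀ x : (es ρ).obj M, ρ (f₂ : R) • x = 0 := by
    have hle : (⊤ : Submodule (Localization.Away f₁) ((es ρ).obj M)) ≤
        LinearMap.ker (LinearMap.lsmul (Localization.Away f₁) ((es ρ).obj M) (ρ (f₂ : R))) := by
      rw [← hG, Submodule.span_le]
      intro n hn
      have hn' : n ∈ G := hn
      change ρ (f₂ : R) • n = 0
      have hu : IsUnit (ρ (tn n : R)) :=
        IsLocalization.map_units (Localization.Away f₁) (tn n)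
      obtain ⟨v, hv⟩ := hu.exists_left_inv
      have h3 : ρ (f₂ : R) • (ρ (tn n : R) • n) = 0 := by
        rw [hzt n, ← ι₁_smul, hf₂ n hn', ι₁_zero]
      calc ρ (f₂ : R) • n = ρ (f₂ : R) • ((v * ρ (tn n : R)) • n) := by rw [hv, one_smul]
        _ = v • (ρ (f₂ : R) • (ρ (tn n : R) • n)) := by
          rw [mul_smul, smul_comm]
        _ = 0 := by rw [h3, smul_zero]
    intro x
    exact hle (Submodule.mem_top : x ∈ ⊤)
  refine ⟨f₂, f₂.2, fun z => ?_⟩
  have h5 : ι₁ ((f₂ : R) • z) = 0 := by
    rw [ι₁_smul]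
    exact hall _
  obtain ⟨N, ht⟩ := ι₁_eq _ h5
  refine ⟨N + 1, ?_⟩
  rw [mul_pow, pow_succ (f₂ : R), pow_succ f₁]
  calc (f₁ ^ N * f₁ * ((f₂ : R) ^ N * (f₂ : R))) • z
      = (f₁ * (f₂ : R) ^ N) • (f₁ ^ N • ((f₂ : R) • z)) := by
        rw [smul_smul, smul_smul]
        congr 1
        ring
    _ = 0 := by rw [ht, smul_zero]

/-- descending induction on the cohomological degree -/
theorem exists_powTors_aux (C : DRing.Cx R) (d : ℤ)
    (hpc : ∀ m : ℤ, DRing.IsPseudoCoherent R m (Q.obj C))
    (hb : ∀ i : ℤ, d < i → IsZero (C.homology i))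
    (hA : ∀ i : ℤ, IsZero (((esC (algebraMap R A)).obj C).homology i)) :
    ∀ k : ℕ, ∃ f : R, f ∈ S ∧ ∀ i : ℤ, d - k < i → PowTors f (C.homology i) := by
  intro k
  induction k with
  | zero =>
    refine ⟨1, S.one_mem, fun i hi => powTors_of_isZero _ _ (hb i ?_)⟩
    simpa using hi
  | succ k ih =>
    obtain ⟨f₁, hf₁S, hf₁⟩ := ih
    let i₀ : ℤ := d - k
    let ρ := algebraMap R (Localization.Away f₁)
    have hρ : ρ.Flat :=
      RingHom.flat_algebraMap_iff.mpr (IsLocalization.flat _ (Submonoid.powers f₁))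
    have hg : (algebraMap R A).Flat := RingHom.flat_algebraMap_iff.mpr (IsLocalization.flat _ S)
    have hu : IsUnit (ρ f₁) := IsLocalization.Away.algebraMap_isUnit f₁
    have hpc₁ := mpc_esC ρ hρ i₀ C (hpc i₀)
    haveI hle : (Q.obj ((esC ρ).obj C)).IsLE i₀ := by
      rw [isLE_iff]
      intro i hi
      refine IsZero.of_iso ?_ ((homologyFunctorFactors (ModuleCat.{u} (Localization.Away f₁)) i).app _)
      refine IsZero.of_iso ?_ (esHomologyIso ρ hρ C i)
      exact isZero_es_of_powTors ρ f₁ hu _ (hf₁ i hi)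
    have hfin0 := finite_top_homology hpc₁
    have hfin : Module.Finite (Localization.Away f₁) ((es ρ).obj (C.homology i₀)) := by
      haveI : Module.Finite (Localization.Away f₁)
          ↑((Q ⋙ homologyFunctor (ModuleCat.{u} (Localization.Away f₁)) i₀).obj
            ((esC ρ).obj C)) := hfin0
      exact Module.Finite.equiv
        (((homologyFunctorFactors (ModuleCat.{u} (Localization.Away f₁)) i₀).app _ ≪≫
          esHomologyIso ρ hρ C i₀).toLinearEquiv)
    have hz : IsZero ((es (algebraMap R A)).obj (C.homology i₀)) :=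
      IsZero.of_iso (hA i₀) (esHomologyIso (algebraMap R A) hg C i₀).symm
    obtain ⟨f₂, hf₂S, hf₂⟩ := exists_powTors_mul S (C.homology i₀) f₁ hfin hz
    refine ⟨f₁ * f₂, S.mul_mem hf₁S hf₂S, fun i hi => ?_⟩
    have hi' : i₀ ≤ i := by
      push_cast at hi
      omega
    rcases hi'.eq_or_lt with rfl | hlt
    · exact hf₂
    · exact (hf₁ i hlt).mul_right f₂

/-- a pseudo-coherent complex with bounded cohomology whose localization at `S` is acyclic has
cohomology killed by the powers of an element of `S` -/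
theorem exists_powTors (C : DRing.Cx R) (c d : ℤ)
    (hpc : ∀ m : ℤ, DRing.IsPseudoCoherent R m (Q.obj C))
    (hb : ∀ i : ℤ, d < i → IsZero (C.homology i))
    (hlow : ∀ i : ℤ, i < c → IsZero (C.homology i))
    (hA : ∀ i : ℤ, IsZero (((esC (algebraMap R A)).obj C).homology i)) :
    ∃ f : R, f ∈ S ∧ ∀ i : ℤ, PowTors f (C.homology i) := by
  obtain ⟨f, hfS, hf⟩ := exists_powTors_aux S C d hpc hb hA (d - c + 1).toNat
  refine ⟨f, hfS, fun i => ?_⟩
  by_cases hi : i < c
  · exact powTors_of_isZero _ _ (hlow i hi)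
  · refine hf i ?_
    have : ((d - c + 1).toNat : ℤ) = max (d - c + 1) 0 := Int.toNat_eq_max _
    omega

end Step

end Groth.Agent.Helper5.HLS
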