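import Groth.Agent.Lib.Helper5.HLS3
import Groth.Agent.Lib.Helper5.QLift1
import Groth.Agent.Lib.Helper11.DCCone2

/-!
# Lifting morphisms from a localization, part 4: two pseudo-coherent complexes with bounded
cohomology which become isomorphic in the derived category of a localization become isomorphic
after inverting one element of the multiplicative set
-/

set_option autoImplicit false
set_option linter.unusedSectionVars false
set_option linter.unusedVariables false
set_option linter.style.haveILetI false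

universe u

open CategoryTheory CategoryTheory.Limits DerivedCategory Pretriangulated

attribute [local instance] HasDerivedCategory.standard

namespace Groth.Agent.Helper5.HLS

open Groth.Agent.Helper11.TA Groth.Agent.Helper11.SplitTr Groth.Agent.Helper11.MPC
  Groth.Agent.Helper11.DC

section Flat

variable {R R' : Type u} [CommRing R] [CommRing R'] (φ : R →+* R')

/-- flat extension of scalars of complexes respects isomorphisms in the derived category -/
noncomputable def esQIso (hφ : φ.Flat) {K K' : DRing.Cx R} (e : Q.obj K ≅ Q.obj K') :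
    Q.obj ((esC φ).obj K) ≅ Q.obj ((esC φ).obj K') := by
  haveI := ModuleCat.preservesFiniteLimits_extendScalars_of_flat.{u} hφ
  haveI : (es φ).IsLeftAdjoint := (ModuleCat.extendRestrictScalarsAdj φ).isLeftAdjoint
  haveI : PreservesFiniteColimits (es φ) := ⟨fun J _ _ => inferInstance⟩
  exact ((es φ).mapDerivedCategoryFactors.app K).symm ≪≫
    (es φ).mapDerivedCategory.mapIso e ≪≫ (es φ).mapDerivedCategoryFactors.app K'

/-- the mapping cone of a morphism whose cone has `f`-power torsion cohomology becomes a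
quasi-isomorphism after a flat extension of scalars inverting `f` -/
theorem quasiIso_esC_map_of_powTors (hφ : φ.Flat) {P L : DRing.Cx R} (ψ : P ⟶ L) (f : R)
    (hf : IsUnit (φ f))
    (h : ∀ i : ℤ, PowTors f ((CochainComplex.mappingCone ψ).homology i)) :
    QuasiIso ((esC φ).map ψ) := by
  rw [QL.quasiIso_iff_acyclic_mappingCone]
  intro i
  rw [HomologicalComplex.exactAt_iff_isZero_homology]
  refine IsZero.of_iso ?_ ((HomologicalComplex.homologyFunctor _ _ i).mapIso
    (CochainComplex.mappingCone.mapHomologicalComplexIso ψ (es φ)).symm)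
  refine IsZero.of_iso ?_ (esHomologyIso φ hφ _ i)
  exact isZero_es_of_powTors φ f hf _ (h i)

end Flat

variable {R A : Type u} [CommRing R] [CommRing A] [Algebra R A] (S : Submonoid R)
  [IsLocalization S A]

lemma isZero_homology_iff_Q (K : DRing.Cx R) (i : ℤ) :
    IsZero (K.homology i) ↔ IsZero ((homologyFunctor (ModuleCat.{u} R) i).obj (Q.obj K)) :=
  ⟨fun h => IsZero.of_iso h ((homologyFunctorFactors (ModuleCat.{u} R) i).app K),
    fun h => IsZero.of_iso h ((homologyFunctorFactors (ModuleCat.{u} R) i).app K).symm⟩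

theorem main (K₁ K₂ : DRing.Cx R) (c d : ℤ)
    (h1 : ∀ m : ℤ, DRing.IsPseudoCoherent R m (Q.obj K₁))
    (h2 : ∀ m : ℤ, DRing.IsPseudoCoherent R m (Q.obj K₂))
    (hb1 : ∀ i : ℤ, (i < c ∨ d < i) → IsZero (K₁.homology i))
    (hb2 : ∀ i : ℤ, (i < c ∨ d < i) → IsZero (K₂.homology i))
    (e : Q.obj ((esC (algebraMap R A)).obj K₁) ≅ Q.obj ((esC (algebraMap R A)).obj K₂)) :
    ∃ f : R, f ∈ S ∧ ∀ (R' : Type u) [CommRing R'] (ρ : R →+* R'), ρ.Flat → IsUnit (ρ f) →
      Nonempty (Q.obj ((esC ρ).obj K₁) ≅ Q.obj ((esC ρ).obj K₂)) := by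
  have hg : (algebraMap R A).Flat := RingHom.flat_algebraMap_iff.mpr (IsLocalization.flat _ S)
  -- representatives
  obtain ⟨P, b, hPb, hPf, ⟨e₁⟩⟩ := pc'_of_forall_mpc h1
  haveI hGE2 : (Q.obj K₂).IsGE c := by
    rw [isGE_iff]
    intro i hi
    exact (isZero_homology_iff_Q K₂ i).mp (hb2 i (Or.inl hi))
  obtain ⟨L, hL, ⟨e₂⟩⟩ := (Q.obj K₂).exists_iso_Q_obj_of_isGE c
  have hLc : ∀ i : ℤ, i < c → IsZero (L.X i) := fun i hi =>
    (CochainComplex.isStrictlyGE_iff L c).mp hL i hi
  -- the isomorphism over `A`, as a chain map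
  let φD : Q.obj ((esC (algebraMap R A)).obj P) ≅ Q.obj ((esC (algebraMap R A)).obj L) :=
    esQIso _ hg e₁ ≪≫ e ≪≫ esQIso _ hg e₂
  have hproj : ∀ i, Module.Projective A (((esC (algebraMap R A)).obj P).X i) := fun i => by
    haveI := (hPf i).2
    haveI : Module.Free A ((es (algebraMap R A)).obj (P.X i)) := es_free (algebraMap R A) (P.X i)
    change Module.Projective A ((es (algebraMap R A)).obj (P.X i))
    infer_instance
  haveI : ((esC (algebraMap R A)).obj P).IsKProjective :=
    isKProjective_of_vanishesAbove _ b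
      (fun i hi => (es (algebraMap R A)).map_isZero (hPb i hi)) hproj
  obtain ⟨φ, hφ⟩ := exists_lift_of_isKProjective ((esC (algebraMap R A)).obj P)
    ((esC (algebraMap R A)).obj L) φD.hom
  haveI : QuasiIso φ := by
    rw [← isIso_Q_map_iff_quasiIso, hφ]
    infer_instance
  obtain ⟨ψ, s, hψ⟩ := exists_lift_chainMap S P L b c hPb hPf hLc φ
  haveI hqi : QuasiIso ((esC (algebraMap R A)).map ψ) := quasiIso_map_of_lift S P L φ ψ s hψ
  -- the cone
  let C := CochainComplex.mappingCone ψ
  have hT := DerivedCategory.mappingCone_triangle_distinguished ψ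
  have hP_pc : ∀ m, DRing.IsPseudoCoherent R m (Q.obj P) := fun m => mpc_of_iso e₁.symm (h1 m)
  have hL_pc : ∀ m, DRing.IsPseudoCoherent R m (Q.obj L) := fun m => mpc_of_iso e₂ (h2 m)
  have hC_pc : ∀ m, DRing.IsPseudoCoherent R m (Q.obj C) := fun m =>
    mpc_third _ hT m (hP_pc (m + 1)) (hL_pc m)
  -- bounds
  haveI : (Q.obj K₁).IsGE c := by
    rw [isGE_iff]
    intro i hi
    exact (isZero_homology_iff_Q K₁ i).mp (hb1 i (Or.inl hi))
  haveI : (Q.obj K₁).IsLE d := by
    rw [isLE_iff]
    intro i hi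
    exact (isZero_homology_iff_Q K₁ i).mp (hb1 i (Or.inr hi))
  haveI : (Q.obj K₂).IsLE d := by
    rw [isLE_iff]
    intro i hi
    exact (isZero_homology_iff_Q K₂ i).mp (hb2 i (Or.inr hi))
  haveI : (Q.obj P).IsGE c := TStructure.t.isGE_of_iso e₁.symm c
  haveI : (Q.obj P).IsLE d := TStructure.t.isLE_of_iso e₁.symm d
  haveI : (Q.obj L).IsGE c := TStructure.t.isGE_of_iso e₂ c
  haveI : (Q.obj L).IsLE d := TStructure.t.isLE_of_iso e₂ d
  have hT' := rot_of_distTriang _ hT
  haveI : ((Q.obj P)⟦(1 : ℤ)⟧).IsGE (c - 1) := TStructure.t.isGE_shift (Q.obj P) c 1 (c - 1) (by omega)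
  haveI : ((Q.obj P)⟦(1 : ℤ)⟧).IsLE d :=
    haveI : ((Q.obj P)⟦(1 : ℤ)⟧).IsLE (d - 1) :=
      TStructure.t.isLE_shift (Q.obj P) d 1 (d - 1) (by omega)
    TStructure.t.isLE_of_le _ (d - 1) d (by omega)
  haveI : (Q.obj L).IsGE (c - 1) := TStructure.t.isGE_of_ge _ (c - 1) c (by omega)
  haveI hCge : (Q.obj C).IsGE (c - 1) :=
    TStructure.t.isGE₂ _ hT' (c - 1) (by assumption) (by assumption)
  haveI hCle : (Q.obj C).IsLE d :=
    TStructure.t.isLE₂ _ hT' d (by assumption) (by assumption)
  have hb : ∀ i : ℤ, d < i → IsZero (C.homology i) := fun i hi =>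
    (isZero_homology_iff_Q C i).mpr ((isLE_iff _ d).mp hCle i hi)
  have hlow : ∀ i : ℤ, i < c - 1 → IsZero (C.homology i) := fun i hi =>
    (isZero_homology_iff_Q C i).mpr ((isGE_iff _ (c - 1)).mp hCge i hi)
  -- acyclicity over `A`
  have hA : ∀ i : ℤ, IsZero (((esC (algebraMap R A)).obj C).homology i) := by
    intro i
    have hac := (QL.quasiIso_iff_acyclic_mappingCone ((esC (algebraMap R A)).map ψ)).mp hqi i
    rw [HomologicalComplex.exactAt_iff_isZero_homology] at hac
    exact IsZero.of_iso hac ((HomologicalComplex.homologyFunctor _ _ i).mapIso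
      (CochainComplex.mappingCone.mapHomologicalComplexIso ψ (es (algebraMap R A))))
  obtain ⟨f, hfS, hf⟩ := exists_powTors S C (c - 1) d hC_pc hb hlow hA
  refine ⟨f, hfS, fun R' _ ρ hρ hu => ?_⟩
  haveI := quasiIso_esC_map_of_powTors ρ hρ ψ f hu hf
  haveI : IsIso (Q.map ((esC ρ).map ψ)) := by
    rw [isIso_Q_map_iff_quasiIso]
    infer_instance
  exact ⟨esQIso ρ hρ e₁.symm ≪≫ asIso (Q.map ((esC ρ).map ψ)) ≪≫ esQIso ρ hρ e₂.symm⟩

end Groth.Agent.Helper5.HLS
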