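import Groth.Agent.Lib.Helper5.PDZ7
import Groth.Agent.Lib.Helper11.RelFin5
import Groth.Agent.Lib.Helper9.TorComp

/-!
# Perfect amplitude, part 8: relative pseudo-coherence and composition with a pseudo-coherent
morphism; perfect amplitude and composition
-/

set_option autoImplicit false
set_option linter.unusedSectionVars false
set_option linter.unusedVariables false
set_option linter.style.haveILetI false

universe u

open CategoryTheory CategoryTheory.Limits AlgebraicGeometry TopologicalSpace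

attribute [local instance] HasDerivedCategory.standard

namespace Groth.Agent.Helper5.PDZ

open Groth.Agent.Helper5.TB Groth.Agent.Helper5.RPR Groth.Agent.Helper11
  Groth.Agent.Helper5.TBA Groth.Agent.Helper5.RT Groth.Agent.Helper5.PCT Groth.Agent.Helper5.TT
  Groth.Agent.Helper5.KF Groth.Agent.Helper11.TA Groth.Agent.Helper5.CHP
  Groth.Agent.Helper11.MPC Groth.Agent.Helper11.PcHom

variable {X Y Z : Scheme.{u}}

/-- relative `m`-pseudo-coherence is preserved by composition with a pseudo-coherent morphism -/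
theorem rel_comp_of_pcMor (f : X ⟶ Y) (g : Y ⟶ Z) [LocallyOfFiniteType f]
    [LocallyOfFiniteType g] (hg : MoreMor.IsPseudoCoherentMor g) (E : DCoh.D X)
    (hq : DCoh.IsQCohD E) (m : ℤ) (hE : DerSch.IsPseudoCoherentRel f m E) :
    DerSch.IsPseudoCoherentRel (f ≫ g) m E := by
  have HX := (rel_iff_relPC f E m hq).mp hE
  rw [rel_iff_relPC (f ≫ g) E m hq]
  intro U hU W hW hUW
  refine relPC_of_local (f ≫ g) E m hU hW hUW (fun x hx => ?_)
  have hxW : f.base x ∈ g ⁻¹ᵁ W := hUW hx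
  obtain ⟨V, hV, hxV, hVW⟩ := (Opens.isBasis_iff_nbhd.mp Y.isBasis_affineOpens) hxW
  have hxUV : x ∈ U ⊓ f ⁻¹ᵁ V := ⟨hx, hxV⟩
  obtain ⟨U₂, hU₂, hxU₂, hU₂le⟩ := (Opens.isBasis_iff_nbhd.mp X.isBasis_affineOpens) hxUV
  have e₁ : U₂ ≤ f ⁻¹ᵁ V := le_trans hU₂le inf_le_right
  have e₂ : U₂ ≤ (f ≫ g) ⁻¹ᵁ W := fun y hy => hVW (e₁ hy)
  have H2 : RelPC (f ≫ g) E m hU₂ hW e₂ := by
    intro M ⟨e⟩
    have h1 := HX U₂ hU₂ V hV e₁ M ⟨e⟩
    letI algVU : Algebra Γ(Y, V) Γ(X, U₂) := (f.appLE V U₂ e₁).hom.toAlgebra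
    letI algWV : Algebra Γ(Z, W) Γ(Y, V) := (g.appLE W V hVW).hom.toAlgebra
    letI algWU : Algebra Γ(Z, W) Γ(X, U₂) := ((f ≫ g).appLE W U₂ e₂).hom.toAlgebra
    haveI : IsScalarTower Γ(Z, W) Γ(Y, V) Γ(X, U₂) := by
      refine IsScalarTower.of_algebraMap_eq' ?_
      have h := Scheme.Hom.appLE_comp_appLE f g W V U₂ hVW e₁
      exact (congrArg CommRingCat.Hom.hom h).symm
    haveI : Algebra.FiniteType Γ(Z, W) Γ(Y, V) := by
      have h := g.finiteType_appLE hW hV hVW
      exact h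
    haveI : Algebra.FiniteType Γ(Y, V) Γ(X, U₂) := by
      have h := f.finiteType_appLE hV hU₂ e₁
      exact h
    exact (rel_trans_iff (rel_of_hom (hg V W hV hW hVW)) M m).mp h1
  exact relPC_transfer (f ≫ g) E m hq hU hU₂ hW hW hUW e₂ H2 x hx hxU₂

/-- composition: perfect amplitude relative to `f` and a morphism `g` of perfect dimension `≤ n` -/
theorem perfAmp_comp (f : X ⟶ Y) (g : Y ⟶ Z) [LocallyOfFiniteType f] [LocallyOfFiniteType g]
    (n : ℕ) (hg : DerSch.HasPerfDimLE g n) (a b : ℤ) (F : CochainComplex X.Modules ℤ)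
    (hF : DerSch.HasPerfAmplitudeRel f a b F) :
    DerSch.HasPerfAmplitudeRel (f ≫ g) (a - n) b F := by
  have hq : DCoh.IsQCohD (DCoh.toD X F) :=
    Groth.Agent.Helper9.RelPC.isQCohD_of_isPseudoCoherentRelAll f _ hF.1
  have hgpc : MoreMor.IsPseudoCoherentMor g := (pcRelAll_unit_iff g).mp hg.1
  refine ⟨fun m => rel_comp_of_pcMor f g hgpc _ hq m (hF.1 m), fun x => ?_⟩
  exact Groth.Agent.Helper9.TorComp.main f g n hg.2 F a b hF.2 x

end Groth.Agent.Helper5.PDZ
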