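import Groth.Agent.Lib.Helper5.PCI2
import Groth.Agent.Lib.Helper5.PDZ8
import Groth.Agent.Lib.Helper5.CI8
import Groth.Agent.Lib.Helper11.PerfMor5
import Groth.Agent.Lib.Helper11.PcHom2
import Groth.Agent.S6984

/-!
# Direct image along a closed immersion on affine charts, part 3: perfect amplitude of the direct
image along a closed immersion into a smooth scheme gives relative perfect amplitude
-/

set_option autoImplicit false
set_option linter.unusedSectionVars false
set_option linter.unusedVariables false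
set_option linter.style.haveILetI false

universe u

open CategoryTheory CategoryTheory.Limits AlgebraicGeometry TopologicalSpace

attribute [local instance] HasDerivedCategory.standard

namespace Groth.Agent.Helper5.PCI

open Groth.Agent.Helper5.TB Groth.Agent.Helper5.RPR Groth.Agent.Helper11
  Groth.Agent.Helper5.TBA Groth.Agent.Helper5.RT Groth.Agent.Helper5.PCT Groth.Agent.Helper5.TT
  Groth.Agent.Helper5.KF Groth.Agent.Helper9.RelPC Groth.Agent.Helper5.CHP
  Groth.Agent.Helper11.MPC Groth.Agent.Helper11.PcHom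

variable {X Y S : Scheme.{u}}

/-- pseudo-coherence passes to charts -/
theorem pc_chart (E : DCoh.D Y) (m : ℤ) (hE : DCoh.IsPseudoCoherentD m E) {W : Y.Opens}
    (hW : IsAffineOpen W) : DCoh.IsPseudoCoherentD m (chart E hW) :=
  (isPseudoCoherentD_iff_forall_pcAt m _).mpr (fun z =>
    (pcAt_chart_iff E hW m z).mpr ((isPseudoCoherentD_iff_forall_pcAt m E).mp hE _))

/-- if the direct image of `F` along a closed immersion `i` into `Y` is `m`-pseudo-coherent and
`g : Y ⟶ S` is a pseudo-coherent morphism, then `F` is `m`-pseudo-coherent relative to `i ≫ g` -/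
theorem rel_of_push_pc (i : X ⟶ Y) [IsClosedImmersion i] (g : Y ⟶ S) [LocallyOfFiniteType g]
    (hg : MoreMor.IsPseudoCoherentMor g) (F : CochainComplex X.Modules ℤ)
    (hq : DCoh.IsQCohD (DCoh.toD X F)) (m : ℤ)
    (hpc : DCoh.IsPseudoCoherentD m (DCoh.toD Y ((DerSch.pushCx i).obj F))) :
    DerSch.IsPseudoCoherentRel (i ≫ g) m (DCoh.toD X F) := by
  haveI : LocallyOfFiniteType (i ≫ g) := inferInstance
  rw [rel_iff_relPC (i ≫ g) _ m hq]
  intro U hU V hV hUV
  refine relPC_of_local (i ≫ g) _ m hU hV hUV (fun x hx => ?_)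
  have hxV : i.base x ∈ g ⁻¹ᵁ V := hUV hx
  obtain ⟨W, hW, hxW, hWV⟩ := (Opens.isBasis_iff_nbhd.mp Y.isBasis_affineOpens) hxV
  have hU₂ : IsAffineOpen (i ⁻¹ᵁ W) := hW.preimage i
  have e₂ : i ⁻¹ᵁ W ≤ (i ≫ g) ⁻¹ᵁ V := fun y hy => hWV hy
  have H2 : RelPC (i ≫ g) (DCoh.toD X F) m hU₂ hV e₂ := by
    intro M ⟨e⟩
    have eN := pushChartIso i hW hU₂ F M e
    have hN : DRing.IsPseudoCoherent Γ(Y, W) m ((DRing.restrictD (i.app W).hom).obj M) :=
      mpc_of_tilde _ _ m (isPseudoCoherentD_of_iso eN (pc_chart _ m hpc hW))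
    letI algWU : Algebra Γ(Y, W) Γ(X, i ⁻¹ᵁ W) := (i.app W).hom.toAlgebra
    letI algVW : Algebra Γ(S, V) Γ(Y, W) := (g.appLE V W hWV).hom.toAlgebra
    letI algVU : Algebra Γ(S, V) Γ(X, i ⁻¹ᵁ W) := ((i ≫ g).appLE V (i ⁻¹ᵁ W) e₂).hom.toAlgebra
    haveI : IsScalarTower Γ(S, V) Γ(Y, W) Γ(X, i ⁻¹ᵁ W) := by
      refine IsScalarTower.of_algebraMap_eq' ?_
      have h := Scheme.Hom.appLE_comp_appLE i g V W (i ⁻¹ᵁ W) hWV le_rfl
      rw [← Scheme.Hom.app_eq_appLE] at h
      exact (congrArg CommRingCat.Hom.hom h).symm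
    haveI : Algebra.FiniteType Γ(S, V) Γ(Y, W) := by
      have h := g.finiteType_appLE hV hW hWV
      exact h
    haveI : Algebra.FiniteType Γ(S, V) Γ(X, i ⁻¹ᵁ W) := by
      have h := (i ≫ g).finiteType_appLE hV hU₂ e₂
      exact h
    haveI : Module.Finite Γ(Y, W) Γ(X, i ⁻¹ᵁ W) :=
      Module.Finite.of_surjective (Algebra.linearMap Γ(Y, W) Γ(X, i ⁻¹ᵁ W))
        (i.app_surjective W hW)
    have h2 : DerCA.IsRelPseudoCoherent Γ(S, V) Γ(Y, W) m
        ((DRing.restrictD (algebraMap Γ(Y, W) Γ(X, i ⁻¹ᵁ W))).obj M) :=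
      (rel_iff_mpc_of_hom (hg W V hW hV hWV) m _).mpr hN
    exact ((Groth.Agent.S6984.result (R := Γ(S, V)) (A := Γ(Y, W)) (B := Γ(X, i ⁻¹ᵁ W)) M m).1).mpr h2
  exact relPC_transfer (i ≫ g) _ m hq hU hU₂ hV hV hUV e₂ H2 x hx hxW

/-- S6218 -/
theorem main (i : X ⟶ Y) [IsClosedImmersion i] (g : Y ⟶ S) [Smooth g] (a b : ℤ)
    (F : CochainComplex X.Modules ℤ)
    (hF : KSix.HasPerfectAmplitudeIn a b (DCoh.toD Y ((DerSch.pushCx i).obj F))) :
    DerSch.HasPerfAmplitudeRel (i ≫ g) a b F := by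
  have hpc := pc_of_perfAmp _ a b hF
  have hq : DCoh.IsQCohD (DCoh.toD X F) := isQCohD_of_push i F hpc
  have hgpc : MoreMor.IsPseudoCoherentMor g := fun U V hU hV e =>
    (Groth.Agent.Helper11.PerfMor.perfMor_of_smooth g U V hU hV e).1
  haveI : LocallyOfFiniteType g := inferInstance
  haveI : Flat g := inferInstance
  exact ⟨fun m => rel_of_push_pc i g hgpc F hq m (hpc m),
    Groth.Agent.Helper5.CI.hasTorAmplitude_of_push i g F a b (flatAmp_of_perfAmp _ a b hF)⟩

end Groth.Agent.Helper5.PCI
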