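import Groth.Agent.Lib.Helper5.PCI1
import Groth.Agent.Lib.Helper24.RFQc10
import Groth.Agent.Lib.Helper29.PerfVanB
import Groth.Agent.Lib.Helper29.OpenRes

/-!
# Derived direct image along an affine morphism on affine charts, part 1

For an affine morphism `f : X ⟶ Y`, an affine open `W` of `Y` and `U = f⁻¹W`: if `E ∈ D(O_X)` is
represented on `U` by the complex of modules `M`, then `Rf_* E` is represented on `W` by `M` with
scalars restricted along `Γ(Y, W) ⟶ Γ(X, U)`.
-/

set_option autoImplicit false
set_option linter.unusedSectionVars false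
set_option linter.unusedVariables false
set_option linter.style.haveILetI false

universe u

open CategoryTheory CategoryTheory.Limits AlgebraicGeometry TopologicalSpace

attribute [local instance] HasDerivedCategory.standard

namespace Groth.Agent.Helper5.PFN

open Groth.Agent.Helper5.TB Groth.Agent.Helper5.RPR Groth.Agent.Helper11
  Groth.Agent.Helper5.TBA Groth.Agent.Helper5.RT Groth.Agent.Helper5.PCT Groth.Agent.Helper5.TT
  Groth.Agent.Helper5.KF Groth.Agent.Helper9.RelPC Groth.Agent.Helper5.CHP
  Groth.Agent.Helper5.PCI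

section Round

variable {U U' : Scheme.{u}} (e : U ≅ U')

/-- restriction along an isomorphism and back -/
noncomputable def restrictRoundIso :
    Scheme.Modules.restrictFunctor e.inv ⋙ Scheme.Modules.restrictFunctor e.hom ≅ 𝟭 U.Modules :=
  (Scheme.Modules.restrictFunctorComp e.hom e.inv).symm ≪≫
    Scheme.Modules.restrictFunctorCongr e.hom_inv_id ≪≫ Scheme.Modules.restrictFunctorId

/-- restriction along an isomorphism and back, the other way -/
noncomputable def restrictRoundIso' :
    Scheme.Modules.restrictFunctor e.hom ⋙ Scheme.Modules.restrictFunctor e.inv ≅ 𝟭 U'.Modules :=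
  (Scheme.Modules.restrictFunctorComp e.inv e.hom).symm ≪≫
    Scheme.Modules.restrictFunctorCongr e.inv_hom_id ≪≫ Scheme.Modules.restrictFunctorId

/-- on complexes -/
noncomputable def rCxRoundIso (G : CochainComplex U.Modules ℤ) :
    (rCx e.hom).obj ((rCx e.inv).obj G) ≅ G := by
  haveI i1 : (Scheme.Modules.restrictFunctor e.inv ⋙
      Scheme.Modules.restrictFunctor e.hom).PreservesZeroMorphisms := inferInstance
  haveI i2 : (𝟭 U.Modules).PreservesZeroMorphisms := inferInstance
  exact (@NatIso.mapHomologicalComplex _ _ _ _ _ _ _ _ _ i1 i2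
    (restrictRoundIso e) (ComplexShape.up ℤ)).app G ≪≫
    (Functor.mapHomologicalComplexIdIso U.Modules (ComplexShape.up ℤ)).app G

/-- on complexes, the other way -/
noncomputable def rCxRoundIso' (G : CochainComplex U'.Modules ℤ) :
    (rCx e.inv).obj ((rCx e.hom).obj G) ≅ G := by
  haveI i1 : (Scheme.Modules.restrictFunctor e.hom ⋙
      Scheme.Modules.restrictFunctor e.inv).PreservesZeroMorphisms := inferInstance
  haveI i2 : (𝟭 U'.Modules).PreservesZeroMorphisms := inferInstance
  exact (@NatIso.mapHomologicalComplex _ _ _ _ _ _ _ _ _ i1 i2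
    (restrictRoundIso' e) (ComplexShape.up ℤ)).app G ≪≫
    (Functor.mapHomologicalComplexIdIso U'.Modules (ComplexShape.up ℤ)).app G

end Round

variable {X Y : Scheme.{u}} (f : X ⟶ Y) {W : Y.Opens} (hW : IsAffineOpen W)
  (hU : IsAffineOpen (f ⁻¹ᵁ W))

/-- direct image along the restriction of `f` over `W`, on the affine charts -/
noncomputable def pushRestrictNatIso :
    Scheme.Modules.pushforward (f ∣_ W) ⋙ Scheme.Modules.restrictFunctor hW.isoSpec.inv ≅
      Scheme.Modules.restrictFunctor hU.isoSpec.inv ⋙
        Scheme.Modules.pushforward (Spec.map (f.app W)) :=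
  Functor.isoWhiskerLeft (Scheme.Modules.pushforward (f ∣_ W))
      (pushIsoRestrict hW.isoSpec).symm ≪≫
    Scheme.Modules.pushforwardComp _ _ ≪≫ Scheme.Modules.pushforwardCongr (sq f hW hU) ≪≫
    (Scheme.Modules.pushforwardComp _ _).symm ≪≫
    Functor.isoWhiskerRight (pushIsoRestrict hU.isoSpec) _

/-- on complexes -/
noncomputable def pushRestrictCxIso (K : CochainComplex (f ⁻¹ᵁ W : Scheme.{u}).Modules ℤ) :
    (rCx hW.isoSpec.inv).obj ((DerSch.pushCx (f ∣_ W)).obj K) ≅
      (DerSch.pushCx (Spec.map (f.app W))).obj ((rCx hU.isoSpec.inv).obj K) := by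
  haveI i1 : (Scheme.Modules.pushforward (f ∣_ W) ⋙
      Scheme.Modules.restrictFunctor hW.isoSpec.inv).PreservesZeroMorphisms := inferInstance
  haveI i2 : (Scheme.Modules.restrictFunctor hU.isoSpec.inv ⋙
      Scheme.Modules.pushforward (Spec.map (f.app W))).PreservesZeroMorphisms := inferInstance
  exact (@NatIso.mapHomologicalComplex _ _ _ _ _ _ _ _ _ i1 i2
    (pushRestrictNatIso f hW hU) (ComplexShape.up ℤ)).app K

end Groth.Agent.Helper5.PFN
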