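import Groth.Agent.Lib.Helper5.BP3
import Groth.Agent.Lib.Helper5.COHP5

/-!
# Pointwise perfectness
-/

set_option autoImplicit false
set_option linter.unusedSectionVars false
set_option linter.unusedVariables false
set_option linter.style.haveILetI false

universe u

open CategoryTheory CategoryTheory.Limits AlgebraicGeometry HomologicalComplex Opposite
  CategoryTheory.Pretriangulated

attribute [local instance] HasDerivedCategory.standard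

namespace Groth.Agent.Helper5.PRF

open Groth.Agent.Helper13.LocFree Groth.Agent.Helper5.LDer Groth.Agent.Helper5.RT CochainComplex
  Groth.Agent.Helper5.BP

variable {X : Scheme.{u}}

/-- `K` is perfect near `x` -/
def PerfAt (K : DCoh.D X) (x : X) : Prop :=
  ∃ (V : X.Opens), x ∈ V ∧ ∀ (F : CochainComplex X.Modules ℤ), Nonempty (DCoh.toD X F ≅ K) →
    ∃ E : CochainComplex (V : Scheme.{u}).Modules ℤ, DCoh.IsStrictlyPerfect E ∧
      Nonempty (DerivedCategory.Q.obj ((DCoh.restrictCx V).obj F) ≅ DerivedCategory.Q.obj E)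

lemma isPerfect_iff_forall_perfAt (K : DCoh.D X) : DCoh.IsPerfect K ↔ ∀ x : X, PerfAt K x :=
  Iff.rfl

lemma perfAt_of_iso {K K' : DCoh.D X} {x : X} (e : K ≅ K') (h : PerfAt K x) : PerfAt K' x := by
  obtain ⟨V, hxV, hV⟩ := h
  exact ⟨V, hxV, fun F ⟨eF⟩ => hV F ⟨eF ≪≫ e.symm⟩⟩

/-- the mapping cone of a morphism between complexes perfect near `x` is perfect near `x` -/
theorem perfAt_Q_mappingCone {K₁ L₁ : CochainComplex X.Modules ℤ} (φ : K₁ ⟶ L₁) (x : X)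
    (hK : PerfAt (DerivedCategory.Q.obj K₁) x) (hL : PerfAt (DerivedCategory.Q.obj L₁) x) :
    PerfAt (DerivedCategory.Q.obj (mappingCone φ)) x := by
  obtain ⟨V₁, hx₁, hV₁⟩ := hK
  obtain ⟨V₂, hx₂, hV₂⟩ := hL
  obtain ⟨P₁, hP₁, ⟨e₁⟩⟩ := hV₁ K₁ ⟨Iso.refl _⟩
  obtain ⟨P₂, hP₂, ⟨e₂⟩⟩ := hV₂ L₁ ⟨Iso.refl _⟩
  have e₁' := modelRestrict (inf_le_left : V₁ ⊓ V₂ ≤ V₁) e₁
  have e₂' := modelRestrict (inf_le_right : V₁ ⊓ V₂ ≤ V₂) e₂
  obtain ⟨W, hxW, P₃, hP₃, ⟨e₃⟩⟩ := exists_cone_model φ (V₁ ⊓ V₂) x ⟨hx₁, hx₂⟩ _ _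
    (isStrictlyPerfect_restrict _ P₁ hP₁) (isStrictlyPerfect_restrict _ P₂ hP₂) e₁' e₂'
  refine ⟨(W.ι ≫ (V₁ ⊓ V₂).ι).opensRange, ⟨⟨⟨x, ⟨hx₁, hx₂⟩⟩, hxW⟩, rfl⟩, ?_⟩
  rintro F ⟨eF⟩
  have e2 := restrictQIso (W.ι ≫ (V₁ ⊓ V₂).ι) eF ≪≫ e₃
  exact ⟨(rCx (W.ι ≫ (V₁ ⊓ V₂).ι).isoOpensRange.inv).obj P₃, isStrictlyPerfect_restrict _ P₃ hP₃,
    ⟨transferIso (W.ι ≫ (V₁ ⊓ V₂).ι) e2⟩⟩

/-- in a distinguished triangle, if the first two objects are perfect near `x`, so is the third -/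
theorem perfAt_obj₃ (T : Triangle (DCoh.D X)) (hT : T ∈ distTriang (DCoh.D X)) (x : X)
    (h₁ : PerfAt T.obj₁ x) (h₂ : PerfAt T.obj₂ x) : PerfAt T.obj₃ x := by
  obtain ⟨A, B, φ, ⟨e⟩⟩ := (DerivedCategory.mem_distTriang_iff T).mp hT
  have hA := perfAt_of_iso (Triangle.π₁.mapIso e) h₁
  have hB := perfAt_of_iso (Triangle.π₂.mapIso e) h₂
  exact perfAt_of_iso (Triangle.π₃.mapIso e).symm (perfAt_Q_mappingCone φ x hA hB)

/-- perfectness near a point can be checked on an open subscheme -/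
theorem perfAt_of_openImmersion {U : Scheme.{u}} (j : U ⟶ X) [IsOpenImmersion j] (K : DCoh.D X)
    (y : U) (h : PerfAt ((DCoh.restrictD j).obj K) y) : PerfAt K (j.base y) := by
  obtain ⟨W, hyW, hW⟩ := h
  set F₀ := DerivedCategory.Q.objPreimage K with hF₀
  have e₀ : DerivedCategory.Q.obj F₀ ≅ K := DerivedCategory.Q.objObjPreimageIso K
  have e₁ : DerivedCategory.Q.obj ((rCx j).obj F₀) ≅ (DCoh.restrictD j).obj K :=
    ((Scheme.Modules.restrictFunctor j).mapDerivedCategoryFactors.app F₀).symm ≪≫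
      (DCoh.restrictD j).mapIso e₀
  obtain ⟨P, hP, ⟨e⟩⟩ := hW _ ⟨e₁⟩
  refine ⟨(W.ι ≫ j).opensRange, ⟨⟨y, hyW⟩, rfl⟩, fun F ⟨eF⟩ => ?_⟩
  have e2 : DerivedCategory.Q.obj ((rCx (W.ι ≫ j)).obj F) ≅ DerivedCategory.Q.obj P :=
    restrictQIso (W.ι ≫ j) (eF ≪≫ e₀.symm) ≪≫
      DerivedCategory.Q.mapIso ((NatIso.mapHomologicalComplex
        (Scheme.Modules.restrictFunctorComp W.ι j) (ComplexShape.up ℤ)).app F₀) ≪≫ e
  exact ⟨_, isStrictlyPerfect_restrict _ P hP, ⟨transferIso (W.ι ≫ j) e2⟩⟩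

/-- a strictly perfect complex is perfect -/
theorem perfAt_Q_of_isStrictlyPerfect (P : CochainComplex X.Modules ℤ)
    (hP : DCoh.IsStrictlyPerfect P) (x : X) : PerfAt (DerivedCategory.Q.obj P) x := by
  refine ⟨⊤, trivial, fun F ⟨eF⟩ => ?_⟩
  exact ⟨_, isStrictlyPerfect_restrict _ _ hP, ⟨restrictQIso (⊤ : X.Opens).ι eF⟩⟩

end Groth.Agent.Helper5.PRF
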