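import Groth.Agent.Lib.Helper5.RTA2
import Groth.Agent.Lib.Helper5.BCF5
import Groth.Agent.Lib.Helper12.FlatModBC3
import Groth.Agent.Lib.Helper24.FlatPull

/-!
# Flat base change of relative tor amplitude (schemes)
-/

set_option autoImplicit false
set_option linter.unusedSectionVars false
set_option linter.unusedVariables false
set_option linter.style.haveILetI false

universe u

open CategoryTheory CategoryTheory.Limits MonoidalCategory HomologicalComplex AlgebraicGeometry
open scoped TensorProduct

attribute [local instance] HasDerivedCategory.standard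

namespace Groth.Agent.Helper5.RTA

open Groth.Agent.Helper5.KF Groth.Agent.Helper5.StalkCx Groth.Agent.Helper5.Sky
  Groth.Agent.Helper12.FlatModBC Groth.Agent.Helper5.LDer

section Scheme

variable {X S X' S' : Scheme.{u}} {f : X ⟶ S} {f' : X' ⟶ S'} {g' : X' ⟶ X} {g : S' ⟶ S}

/-- chain level: flat base change of the relative tor amplitude at a point -/
theorem hasTorAmplitudeAt_pullback (hc : IsPullback g' f' f g) [Flat g]
    (F : CochainComplex X.Modules ℤ) (a b : ℤ) (x' : X')
    (hF : DerSch.HasTorAmplitudeAt f a b F (g'.base x')) :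
    DerSch.HasTorAmplitudeAt f' a b
      (((Scheme.Modules.pullback g').mapHomologicalComplex (ComplexShape.up ℤ)).obj F) x' := by
  have hF' : DRing.HasTorAmplitudeIn (S.presheaf.stalk (f.base (g'.base x'))) a b
      (DRing.toD ((rsC (f.stalkMap (g'.base x')).hom).obj (stalkCx (g'.base x') F))) := hF
  have h := hasTorAmplitudeIn_of_pushoutFlat (f.stalkMap (g'.base x')).hom (gam hc x').hom
    (f'.stalkMap x').hom (φst g' x') (flat_gam hc x' (Flat.stalkMap g (f'.base x')))
    (flat_tensor_stalk hc x') (stalkCx (g'.base x') F) a b hF'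
  let e := (NatIso.mapHomologicalComplex (pullbackStalkIso g' x') (ComplexShape.up ℤ)).app F
  obtain ⟨E, hE, hEf, ⟨eE⟩⟩ := h
  exact ⟨E, hE, hEf, ⟨eE ≪≫ DerivedCategory.Q.mapIso ((rsC (f'.stalkMap x').hom).mapIso e.symm)⟩⟩

/-- for a flat morphism the derived pullback is computed by the pullback -/
noncomputable def LpullObjIsoOfFlat (g' : X' ⟶ X) [Flat g'] [DCoh.HasLpull g']
    (F : CochainComplex X.Modules ℤ) :
    (DCoh.Lpull g').obj (DerivedCategory.Q.obj F) ≅
      DerivedCategory.Q.obj (((Scheme.Modules.pullback g').mapHomologicalComplex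
        (ComplexShape.up ℤ)).obj F) := by
  haveI := Groth.Agent.Helper24.FlatPull.preservesFiniteLimits_pullback g'
  let P := (KRes.exists_kFlat_resolution F).choose
  let q : P ⟶ F := (KRes.exists_kFlat_resolution F).choose_spec.choose
  have hP : DCoh.IsKFlat P := (KRes.exists_kFlat_resolution F).choose_spec.choose_spec.1
  haveI hq : QuasiIso q := (KRes.exists_kFlat_resolution F).choose_spec.choose_spec.2.2.1
  haveI : QuasiIso (((Scheme.Modules.pullback g').mapHomologicalComplex
      (ComplexShape.up ℤ)).map q) := inferInstance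
  exact (DCoh.Lpull g').mapIso (asIso (DerivedCategory.Q.map q)).symm ≪≫ LpullObjIso g' P hP ≪≫
    asIso (DerivedCategory.Q.map (((Scheme.Modules.pullback g').mapHomologicalComplex
      (ComplexShape.up ℤ)).map q))

/-- the stalk complex over the base only depends on the object of the derived category -/
noncomputable def stalkCxOverDIso (f : X ⟶ S) (x : X) {E F : CochainComplex X.Modules ℤ}
    (e : DerivedCategory.Q.obj E ≅ DerivedCategory.Q.obj F) :
    DRing.toD ((DerSch.stalkCxOver f x).obj E) ≅ DRing.toD ((DerSch.stalkCxOver f x).obj F) :=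
  ((DerSch.stalkOver f x).mapDerivedCategoryFactors.app E).symm ≪≫
    (DerSch.stalkOver f x).mapDerivedCategory.mapIso e ≪≫
    (DerSch.stalkOver f x).mapDerivedCategoryFactors.app F

/-- flat base change of the relative tor amplitude -/
theorem hasTorAmplitudeD_Lpull (hc : IsPullback g' f' f g) [Flat g] [DCoh.HasLpull g']
    (F : CochainComplex X.Modules ℤ) (a b : ℤ) (hF : DerSch.HasTorAmplitude f a b F) :
    DerSch.HasTorAmplitudeD f' a b ((DCoh.Lpull g').obj (DCoh.toD X F)) := by
  haveI : Flat g' := MorphismProperty.of_isPullback (P := @Flat) hc.flip inferInstance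
  rintro G ⟨eG⟩ x'
  have h1 := hasTorAmplitudeAt_pullback hc F a b x' (hF (g'.base x'))
  have e : DerivedCategory.Q.obj G ≅ DerivedCategory.Q.obj
      (((Scheme.Modules.pullback g').mapHomologicalComplex (ComplexShape.up ℤ)).obj F) :=
    eG ≪≫ LpullObjIsoOfFlat g' F
  obtain ⟨E, hE, hEf, ⟨eE⟩⟩ := h1
  exact ⟨E, hE, hEf, ⟨eE ≪≫ (stalkCxOverDIso f' x' e).symm⟩⟩

end Scheme

end Groth.Agent.Helper5.RTA
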