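import Groth.Agent.Lib.Helper5.TB7
import Groth.Agent.Lib.Helper5.TB5
import Groth.Agent.Lib.Helper5.RTA3

/-!
# Tilde bridge, part 8: stalkwise relative tor amplitude of `M~` versus tor amplitude of `M`
-/

set_option autoImplicit false
set_option linter.unusedSectionVars false
set_option linter.unusedVariables false
set_option linter.style.haveILetI false

universe u

open CategoryTheory CategoryTheory.Limits AlgebraicGeometry
open scoped TensorProduct ChangeOfRings

attribute [local instance] HasDerivedCategory.standard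

namespace Groth.Agent.Helper5.TB

open Groth.Agent.Helper5.KF Groth.Agent.Helper5.RPR Groth.Agent.Helper5.TT
  Groth.Agent.Helper5.TildeSt Groth.Agent.Helper5.RTA

lemma hasTorAmplitudeIn_of_iso {R : Type u} [CommRing R] {K L : Dual.D R} (e : K ≅ L) {a b : ℤ}
    (h : DRing.HasTorAmplitudeIn R a b K) : DRing.HasTorAmplitudeIn R a b L := by
  obtain ⟨E, hE, hfl, ⟨i⟩⟩ := h
  exact ⟨E, hE, hfl, ⟨i ≪≫ e⟩⟩

variable {R A : Type u} [CommRing R] [CommRing A] (φ : R →+* A)

/-- the morphism `Spec A ⟶ Spec R` -/
noncomputable abbrev fφ : Spec (CommRingCat.of A) ⟶ Spec (CommRingCat.of R) :=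
  Spec.map (CommRingCat.ofHom φ)

/-- the stalk map at `x` -/
noncomputable abbrev μx (x : Spec (CommRingCat.of A)) :
    ((Spec (CommRingCat.of R)).presheaf.stalk ((fφ φ).base x) : CommRingCat.{u}) →+*
      ((Spec (CommRingCat.of A)).presheaf.stalk x : CommRingCat.{u}) :=
  ((fφ φ).stalkMap x).hom

lemma μx_φx (x : Spec (CommRingCat.of A)) (r : R) :
    μx φ x (φx (CommRingCat.of R) ((fφ φ).base x) r) = φx (CommRingCat.of A) x (φ r) := by
  have h := AlgebraicGeometry.stalkMap_toStalk (CommRingCat.ofHom φ) x
  exact congr($h r)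

section Iso

variable [PreservesFiniteLimits (tilde.functor (CommRingCat.of A))]

/-- the relative stalk functor of `Spec A ⟶ Spec R` on tildes -/
noncomputable def stalkOverTildeNatIso (x : Spec (CommRingCat.of A)) :
    tilde.functor (CommRingCat.of A) ⋙ DerSch.stalkOver (fφ φ) x ≅
      ModuleCat.extendScalars.{u, u, u} (φx (CommRingCat.of A) x) ⋙
        ModuleCat.restrictScalars.{u} (μx φ x) :=
  (Functor.associator _ _ _).symm ≪≫
    Functor.isoWhiskerRight (tildeStalkNatIso (CommRingCat.of A) x).symm _

/-- the relative stalk complex of the tilde of a complex -/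
noncomputable def stalkCxOverTildeIso (x : Spec (CommRingCat.of A)) (K : DRing.Cx A) :
    (DerSch.stalkCxOver (fφ φ) x).obj ((tildeC A).obj K) ≅
      (rsC (μx φ x)).obj ((extC (φx (CommRingCat.of A) x)).obj K) :=
  (NatIso.mapHomologicalComplex (stalkOverTildeNatIso φ x) (ComplexShape.up ℤ)).app K

end Iso

section Down

/-- the localisation map to the stalk is flat -/
lemma flat_φx (R : Type u) [CommRing R] (s : Spec (CommRingCat.of R)) :
    (φx (CommRingCat.of R) s).Flat := by
  letI : Algebra R (Ax (CommRingCat.of R) s) := (φx (CommRingCat.of R) s).toAlgebra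
  haveI : (PrimeSpectrum.asIdeal (R := R) s).IsPrime := PrimeSpectrum.isPrime (R := R) s
  haveI : IsLocalization.AtPrime (Ax (CommRingCat.of R) s) s.asIdeal :=
    StructureSheaf.IsLocalization.to_stalk R s
  exact IsLocalization.flat (Ax (CommRingCat.of R) s) s.asIdeal.primeCompl

/-- global tor amplitude over `R` gives stalkwise tor amplitude of the tilde -/
theorem hasTorAmplitudeIn_stalk_of_global (K : DRing.Cx A) (a b : ℤ)
    (h : DRing.HasTorAmplitudeIn R a b (DRing.toD ((rsC φ).obj K))) (x : Spec (CommRingCat.of A)) :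
    DRing.HasTorAmplitudeIn ((Spec (CommRingCat.of R)).presheaf.stalk ((fφ φ).base x)) a b
      (DRing.toD ((rsC (μx φ x)).obj ((extC (φx (CommRingCat.of A) x)).obj K))) := by
  haveI : (PrimeSpectrum.asIdeal (R := R) ((fφ φ).base x)).IsPrime :=
    PrimeSpectrum.isPrime (R := R) ((fφ φ).base x)
  haveI : (PrimeSpectrum.asIdeal (R := A) x).IsPrime := PrimeSpectrum.isPrime (R := A) x
  refine hasTorAmplitudeIn_of_pushoutFlat φ (φx (CommRingCat.of R) ((fφ φ).base x)) (μx φ x)
    (φx (CommRingCat.of A) x) (flat_φx R _) ?_ K a b h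
  refine exists_flat_comparison φ (φx (CommRingCat.of R) ((fφ φ).base x)) (μx φ x)
    (φx (CommRingCat.of A) x) (μx_φx φ x) ((fφ φ).base x).asIdeal.primeCompl
    x.asIdeal.primeCompl (StructureSheaf.IsLocalization.to_stalk R _)
    (StructureSheaf.IsLocalization.to_stalk A x) ?_
  rintro _ ⟨r, hr, rfl⟩
  exact hr

end Down

section Up

/-- stalkwise tor amplitude of the tilde gives global tor amplitude over `R` -/
theorem hasTorAmplitudeIn_global_of_stalks (K : DRing.Cx A) (a b : ℤ)
    (h : ∀ x : Spec (CommRingCat.of A),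
      DRing.HasTorAmplitudeIn ((Spec (CommRingCat.of R)).presheaf.stalk ((fφ φ).base x)) a b
        (DRing.toD ((rsC (μx φ x)).obj ((extC (φx (CommRingCat.of A) x)).obj K)))) :
    DRing.HasTorAmplitudeIn R a b (DRing.toD ((rsC φ).obj K)) := by
  letI := φ.toAlgebra
  refine Groth.Agent.Helper11.TorGE.torAmplitude_of_maximal_localizations R A K a b
    (fun m hm => ?_)
  haveI := hm.isPrime
  let x : PrimeSpectrum.Top A := (⟨m, hm.isPrime⟩ : PrimeSpectrum A)
  let s : PrimeSpectrum.Top R := (PrimeSpectrum.comap φ x : PrimeSpectrum R)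
  let e : Localization.AtPrime s.asIdeal →+* (structurePresheafInCommRingCat R).stalk s :=
    (StructureSheaf.stalkIso R s : Localization.AtPrime s.asIdeal →+* _)
  let e' : Localization.AtPrime x.asIdeal →+* (structurePresheafInCommRingCat A).stalk x :=
    (StructureSheaf.stalkIso A x : Localization.AtPrime x.asIdeal →+* _)
  have he : Function.Bijective e := (StructureSheaf.stalkIso R s).bijective
  have he' : Function.Bijective e' := (StructureSheaf.stalkIso A x).bijective
  have hsq : e'.comp (Localization.localRingHom s.asIdeal x.asIdeal φ rfl) = (μx φ x).comp e := by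
    ext r
    have h1 := AlgebraicGeometry.localRingHom_comp_stalkIso_apply (CommRingCat.ofHom φ) x (e r)
    have h2 : (StructureSheaf.stalkIso R s).symm (e r) = r :=
      (StructureSheaf.stalkIso R s).symm_apply_apply r
    erw [h2] at h1
    exact h1
  have hg : φx (CommRingCat.of A) x = e'.comp (algebraMap A (Localization.AtPrime x.asIdeal)) := by
    ext r
    exact ((StructureSheaf.stalkIso A x).commutes r).symm
  exact hasTorAmplitudeIn_of_square (Localization.localRingHom s.asIdeal x.asIdeal φ rfl)
    (μx φ x) e he e' he' hsq (algebraMap A (Localization.AtPrime x.asIdeal))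
    (φx (CommRingCat.of A) x) hg K a b (h x)

end Up

end Groth.Agent.Helper5.TB
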