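import Groth.Agent.Lib.Helper5.SPO3
import Groth.Agent.Lib.Helper5.PFN1
import Groth.Agent.Lib.Helper5.PRF1
import Groth.Agent.Lib.Helper5.TB8

/-!
# Spreading out perfect complexes, part 4: the direct image of `K~` from an affine open, its stalk
and its restriction
-/

set_option autoImplicit false
set_option linter.unusedSectionVars false
set_option linter.unusedVariables false
set_option linter.style.haveILetI false

universe u

open CategoryTheory CategoryTheory.Limits AlgebraicGeometry Opposite TopologicalSpace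

attribute [local instance] HasDerivedCategory.standard

namespace Groth.Agent.Helper5.SPO

open Groth.Agent.Helper5.KF Groth.Agent.Helper5.RT Groth.Agent.Helper5.TT
  Groth.Agent.Helper5.TildeSt Groth.Agent.Helper5.LDer Groth.Agent.Helper5.CHP
  Groth.Agent.Helper5.TBA

section Cancel

variable {C D D' : Type*} [Category C] [Category D] [Category D']

/-- cancelling a functor with a left inverse on the right -/
def cancelRight {F G : C ⥤ D} (H : D ⥤ D') (H' : D' ⥤ D) (e : H ⋙ H' ≅ 𝟭 D)
    (i : F ⋙ H ≅ G ⋙ H) : F ≅ G :=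
  (Functor.rightUnitor F).symm ≪≫ Functor.isoWhiskerLeft F e.symm ≪≫
    (Functor.associator F H H').symm ≪≫ Functor.isoWhiskerRight i H' ≪≫
    Functor.associator G H H' ≪≫ Functor.isoWhiskerLeft G e ≪≫ Functor.rightUnitor G

end Cancel

section Ring

variable {R₁ R₂ : Type u} [CommRing R₁] [CommRing R₂]

/-- extension of scalars along equal ring homomorphisms -/
noncomputable def extendScalarsCongr {f g : R₁ →+* R₂} (h : f = g) :
    ModuleCat.extendScalars.{u, u, u} f ≅ ModuleCat.extendScalars.{u, u, u} g := by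
  subst h
  exact Iso.refl _

/-- extension of scalars along a bijective ring homomorphism has a left inverse -/
noncomputable def extendScalarsBijInv (φ : R₁ →+* R₂) (hφ : Function.Bijective φ) :
    ModuleCat.extendScalars.{u, u, u} φ ⋙
      ModuleCat.extendScalars.{u, u, u} (RingEquiv.ofBijective φ hφ).symm.toRingHom ≅ 𝟭 _ :=
  (ModuleCat.extendScalarsComp φ (RingEquiv.ofBijective φ hφ).symm.toRingHom).symm ≪≫
    extendScalarsOfEqId _ (by
      ext r
      exact (RingEquiv.ofBijective φ hφ).symm_apply_apply r)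

end Ring

variable {X : Scheme.{u}} {U : X.Opens} (hU : IsAffineOpen U) (z : Spec Γ(X, U))

/-- the germ map at the image of `z` -/
noncomputable abbrev gz : Γ(X, U) →+* X.presheaf.stalk (hU.fromSpec.base z) :=
  (X.presheaf.germ U (hU.fromSpec.base z) (fromSpec_mem hU z)).hom

lemma φst_gz (s : Γ(X, U)) :
    Sky.φst hU.fromSpec z (gz hU z s) = φx Γ(X, U) z s := by
  change hU.fromSpec.stalkMap z (X.presheaf.germ U (hU.fromSpec.base z) (fromSpec_mem hU z) s) = _
  rw [Scheme.Hom.germ_stalkMap_apply, hU.fromSpec_app_self]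
  change (Spec Γ(X, U)).presheaf.germ _ z _ ((Spec Γ(X, U)).presheaf.map _
    ((Scheme.ΓSpecIso Γ(X, U)).inv s)) = _
  rw [TopCat.Presheaf.germ_res_apply']
  rfl

lemma φst_comp_gz : (Sky.φst hU.fromSpec z).comp (gz hU z) = φx Γ(X, U) z :=
  RingHom.ext (φst_gz hU z)

section Stalk

/-- the functor `M ↦ (j_* M~)_{j z}`, for `j : Spec Γ(X, U) ⟶ X` -/
noncomputable abbrev Φ : ModuleCat.{u} Γ(X, U) ⥤
    ModuleCat.{u} (X.presheaf.stalk (hU.fromSpec.base z)) :=
  tilde.functor Γ(X, U) ⋙ Scheme.Modules.pushforward hU.fromSpec ⋙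
    DerSch.stalkFunctor X (hU.fromSpec.base z)

/-- `(j_* M~)_{j z}`, extended to the local ring of `Spec Γ(X, U)` at `z`, is `M_z` -/
noncomputable def ΦextIso :
    Φ hU z ⋙ ModuleCat.extendScalars (Sky.φst hU.fromSpec z) ≅
      ModuleCat.extendScalars (φx Γ(X, U) z) :=
  Functor.associator _ _ _ ≪≫
    Functor.isoWhiskerLeft _ (Functor.associator _ _ _) ≪≫
    Functor.isoWhiskerLeft _ (Functor.isoWhiskerLeft _ (restrictStalkIso hU.fromSpec z).symm) ≪≫
    Functor.isoWhiskerLeft _ ((Functor.associator _ _ _).symm ≪≫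
      Functor.isoWhiskerRight (Scheme.Modules.restrictFunctorAdjCounitIso hU.fromSpec) _ ≪≫
      Functor.leftUnitor _) ≪≫
    (tildeStalkNatIso Γ(X, U) z).symm

/-- `(j_* M~)_{j z}` is the extension of scalars of `M` along the germ map -/
noncomputable def ΦIso : Φ hU z ≅ ModuleCat.extendScalars (gz hU z) :=
  cancelRight (ModuleCat.extendScalars (Sky.φst hU.fromSpec z)) _
    (extendScalarsBijInv _ (bijective_φst hU.fromSpec z))
    (ΦextIso hU z ≪≫ extendScalarsCongr (φst_comp_gz hU z).symm ≪≫
      ModuleCat.extendScalarsComp (gz hU z) (Sky.φst hU.fromSpec z))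

end Stalk

section Cx

theorem isStrictlyPerfect_tildeC {A : Type u} [CommRing A] (E : DRing.Cx A) (a b : ℤ)
    (hv : DRing.VanishesOutside E a b) (hf : DRing.TermwiseFiniteFree E) :
    DCoh.IsStrictlyPerfect ((tildeC A).obj E) := by
  refine ⟨⟨a, b, fun i hi => (tilde.functor (CommRingCat.of A)).map_isZero (hv i hi)⟩,
    fun i => ?_⟩
  haveI := (hf i).1
  haveI := (hf i).2
  exact (Groth.Agent.S12451.result (R := CommRingCat.of A) (E.X i)).mpr
    ⟨inferInstance, inferInstance⟩

variable (E' : DRing.Cx Γ(X, U))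

/-- the complex `j_* (E'~)` on `X` -/
noncomputable abbrev spread : CochainComplex X.Modules ℤ :=
  (DerSch.pushCx hU.fromSpec).obj ((tildeC Γ(X, U)).obj E')

/-- the complex of stalks of `j_* (E'~)` at `j z` -/
noncomputable def stalkSpreadIso :
    ((DerSch.stalkFunctor X (hU.fromSpec.base z)).mapHomologicalComplex
      (ComplexShape.up ℤ)).obj (spread hU E') ≅ (extC (gz hU z)).obj E' := by
  haveI i1 : (Φ hU z).PreservesZeroMorphisms := inferInstance
  haveI i2 : (ModuleCat.extendScalars.{u, u, u} (gz hU z)).PreservesZeroMorphisms := inferInstance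
  exact (@NatIso.mapHomologicalComplex _ _ _ _ _ _ _ _ _ i1 i2
    (ΦIso hU z) (ComplexShape.up ℤ)).app E'

/-- restricting `j_*` to `U` -/
noncomputable def pushRestrictIso :
    Scheme.Modules.pushforward hU.fromSpec ⋙ Scheme.Modules.restrictFunctor U.ι ≅
      Scheme.Modules.restrictFunctor hU.isoSpec.hom :=
  Functor.isoWhiskerRight (Scheme.Modules.pushforwardComp hU.isoSpec.inv U.ι).symm _ ≪≫
    Functor.associator _ _ _ ≪≫
    Functor.isoWhiskerLeft _ (Scheme.Modules.restrictFunctorAdjCounitIso U.ι) ≪≫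
    Functor.rightUnitor _ ≪≫ pushIsoRestrict hU.isoSpec.symm

/-- the restriction of `j_* (E'~)` to `U` -/
noncomputable def restrictSpreadIso :
    (DCoh.restrictCx U).obj (spread hU E') ≅
      (rCx hU.isoSpec.hom).obj ((tildeC Γ(X, U)).obj E') := by
  haveI i1 : (Scheme.Modules.pushforward hU.fromSpec ⋙
      Scheme.Modules.restrictFunctor U.ι).PreservesZeroMorphisms := inferInstance
  haveI i2 : (Scheme.Modules.restrictFunctor hU.isoSpec.hom).PreservesZeroMorphisms :=
    inferInstance
  exact (@NatIso.mapHomologicalComplex _ _ _ _ _ _ _ _ _ i1 i2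
    (pushRestrictIso hU) (ComplexShape.up ℤ)).app _

theorem isPerfect_restrict_spread (a b : ℤ) (hv : DRing.VanishesOutside E' a b)
    (hf : DRing.TermwiseFiniteFree E') :
    DCoh.IsPerfect (DerivedCategory.Q.obj ((DCoh.restrictCx U).obj (spread hU E'))) := by
  have h1 := isStrictlyPerfect_restrict hU.isoSpec.hom _
    (isStrictlyPerfect_tildeC E' a b hv hf)
  have h2 : DCoh.IsPerfect (DerivedCategory.Q.obj
      ((rCx hU.isoSpec.hom).obj ((tildeC Γ(X, U)).obj E'))) :=
    (PRF.isPerfect_iff_forall_perfAt _).mpr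
      (fun x => PRF.perfAt_Q_of_isStrictlyPerfect _ h1 x)
  exact BP.isPerfect_of_iso (DerivedCategory.Q.mapIso (restrictSpreadIso hU E').symm) h2

end Cx

end Groth.Agent.Helper5.SPO
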