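import Groth.Agent.Lib.Helper5.HLS4
import Groth.Agent.Lib.Helper5.SPO4
import Groth.Agent.Lib.Helper5.PCI3
import Groth.Agent.Lib.Helper5.CHP4
import Groth.Agent.Lib.Helper11.LocalPerf6
import Groth.Agent.S7240

/-!
# Lifting morphisms from a localization, part 5: the complex of stalks of a complex of
`O_X`-modules in terms of a model on an affine open
-/

set_option autoImplicit false
set_option linter.unusedSectionVars false
set_option linter.unusedVariables false
set_option linter.style.haveILetI false

universe u

open CategoryTheory CategoryTheory.Limits AlgebraicGeometry Opposite TopologicalSpace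
  DerivedCategory

attribute [local instance] HasDerivedCategory.standard

namespace Groth.Agent.Helper5.HLS

open Groth.Agent.Helper5.KF Groth.Agent.Helper5.RT Groth.Agent.Helper5.TT
  Groth.Agent.Helper5.TildeSt Groth.Agent.Helper5.LDer Groth.Agent.Helper5.CHP
  Groth.Agent.Helper5.TBA Groth.Agent.Helper5.SPO Groth.Agent.Helper11.TA

section StalkQ

variable {X : Scheme.{u}} (x : X)

/-- the complex of stalks only depends on the image in the derived category -/
noncomputable def stalkQIso {G G' : CochainComplex X.Modules ℤ} (e : Q.obj G ≅ Q.obj G') :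
    Q.obj (((DerSch.stalkFunctor X x).mapHomologicalComplex (ComplexShape.up ℤ)).obj G) ≅
      Q.obj (((DerSch.stalkFunctor X x).mapHomologicalComplex (ComplexShape.up ℤ)).obj G') :=
  ((DerSch.stalkFunctor X x).mapDerivedCategoryFactors.app G).symm ≪≫
    (DerSch.stalkFunctor X x).mapDerivedCategory.mapIso e ≪≫
    (DerSch.stalkFunctor X x).mapDerivedCategoryFactors.app G'

end StalkQ

section Imm

variable {X U : Scheme.{u}} (j : U ⟶ X) [IsOpenImmersion j] (y : U)

/-- the complex of stalks of a restriction -/
noncomputable def stalkRestrictCxIso (E : CochainComplex X.Modules ℤ) :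
    ((DerSch.stalkFunctor U y).mapHomologicalComplex (ComplexShape.up ℤ)).obj
        ((rCx j).obj E) ≅
      (esC (Sky.φst j y)).obj
        (((DerSch.stalkFunctor X (j.base y)).mapHomologicalComplex (ComplexShape.up ℤ)).obj E) := by
  haveI i1 : (Scheme.Modules.restrictFunctor j ⋙
      DerSch.stalkFunctor U y).PreservesZeroMorphisms := inferInstance
  haveI i2 : (DerSch.stalkFunctor X (j.base y) ⋙
      ModuleCat.extendScalars.{u, u, u} (Sky.φst j y)).PreservesZeroMorphisms := inferInstance
  exact (@NatIso.mapHomologicalComplex _ _ _ _ _ _ _ _ _ i1 i2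
    (restrictStalkIso j y) (ComplexShape.up ℤ)).app E

end Imm

section Tilde

variable (R : CommRingCat.{u}) (z : Spec R)

/-- the complex of stalks of `K~` -/
noncomputable def stalkTildeCxIso (K : DRing.Cx R) :
    (esC (φx R z)).obj K ≅
      ((DerSch.stalkFunctor (Spec R) z).mapHomologicalComplex (ComplexShape.up ℤ)).obj
        ((tildeC R).obj K) := by
  haveI i1 : (ModuleCat.extendScalars.{u, u, u} (φx R z)).PreservesZeroMorphisms := inferInstance
  haveI i2 : (tilde.functor R ⋙
      DerSch.stalkFunctor (Spec R) z).PreservesZeroMorphisms := inferInstance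
  exact (@NatIso.mapHomologicalComplex _ _ _ _ _ _ _ _ _ i1 i2
    (tildeStalkNatIso R z) (ComplexShape.up ℤ)).app K

end Tilde

variable {X : Scheme.{u}} {U : X.Opens} (hU : IsAffineOpen U) (z : Spec Γ(X, U))

/-- the complex of stalks of `E` at a point of an affine open, extended to the local ring of the
affine scheme, in terms of a model of `E` on the affine open -/
noncomputable def stalkModelIso (E : CochainComplex X.Modules ℤ) (K : DRing.Cx Γ(X, U))
    (e : chart (DCoh.toD X E) hU ≅ (DCoh.tildeD Γ(X, U)).obj (Q.obj K)) :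
    Q.obj ((esC (φx Γ(X, U) z)).obj K) ≅
      Q.obj ((esC (Sky.φst hU.fromSpec z)).obj
        (((DerSch.stalkFunctor X (hU.fromSpec.base z)).mapHomologicalComplex
          (ComplexShape.up ℤ)).obj E)) :=
  Q.mapIso (stalkTildeCxIso Γ(X, U) z K) ≪≫
    stalkQIso z ((QtildeIso Γ(X, U) K) ≪≫ e.symm ≪≫ chartIso (DCoh.toD X E) hU E (Iso.refl _)) ≪≫
    Q.mapIso (stalkRestrictCxIso hU.fromSpec z E)

end Groth.Agent.Helper5.HLS
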