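import Groth.Agent.Lib.Helper5.HLS5

/-!
# Lifting morphisms from a localization, part 6: two pseudo-coherent complexes of `O_X`-modules
with bounded cohomology whose complexes of stalks at `x` are isomorphic in the derived category are
isomorphic in the derived category of a neighbourhood of `x`
-/

set_option autoImplicit false
set_option linter.unusedSectionVars false
set_option linter.unusedVariables false
set_option linter.style.haveILetI false

universe u

open CategoryTheory CategoryTheory.Limits AlgebraicGeometry Opposite TopologicalSpace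
  DerivedCategory

attribute [local instance] HasDerivedCategory.standard

namespace Groth.Agent.Helper5.HLS

open Groth.Agent.Helper5.KF Groth.Agent.Helper5.RT Groth.Agent.Helper5.TT
  Groth.Agent.Helper5.TildeSt Groth.Agent.Helper5.LDer Groth.Agent.Helper5.CHP
  Groth.Agent.Helper5.TBA Groth.Agent.Helper5.SPO Groth.Agent.Helper11.TA
  Groth.Agent.Helper5.LOC Groth.Agent.Helper5.PCI Groth.Agent.Helper5.TB
  Groth.Agent.Helper5.PCT Groth.Agent.Helper11.MPC

variable {X : Scheme.{u}} {U : X.Opens} (hU : IsAffineOpen U)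

/-- vanishing of the cohomology of a model -/
lemma isZero_homology_model (E : CochainComplex X.Modules ℤ) (K : DRing.Cx Γ(X, U))
    (e : chart (DCoh.toD X E) hU ≅ (DCoh.tildeD Γ(X, U)).obj (Q.obj K)) (i : ℤ)
    (h : IsZero (E.homology i)) : IsZero (K.homology i) := by
  apply isZero_homology_of_tilde Γ(X, U) K i
  have h1 : IsZero ((Scheme.Modules.restrictFunctor hU.fromSpec).obj (E.homology i)) :=
    (Scheme.Modules.restrictFunctor hU.fromSpec).map_isZero h
  have h2 : IsZero (((rCx hU.fromSpec).obj E).homology i) :=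
    IsZero.of_iso h1 (restrictHomologyIso hU.fromSpec E i)
  have h3 : IsZero (DCoh.HD (Q.obj ((rCx hU.fromSpec).obj E)) i) := IsZero.of_iso h2 (HDQIso _ i)
  exact IsZero.of_iso h3 ((homologyFunctor _ i).mapIso
    (e.symm ≪≫ chartIso (DCoh.toD X E) hU E (Iso.refl _)))

/-- restriction to `U` through `Spec Γ(X, U)` -/
noncomputable def rCxFromSpecIso (E : CochainComplex X.Modules ℤ) :
    (DCoh.restrictCx U).obj E ≅ (rCx hU.isoSpec.hom).obj ((rCx hU.fromSpec).obj E) :=
  (NatIso.mapHomologicalComplex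
      (Scheme.Modules.restrictFunctorCongr hU.isoSpec_hom_fromSpec.symm)
      (ComplexShape.up ℤ)).app E ≪≫
    (NatIso.mapHomologicalComplex
      (Scheme.Modules.restrictFunctorComp hU.isoSpec.hom hU.fromSpec) (ComplexShape.up ℤ)).app E

/-- isomorphic charts give isomorphic restrictions -/
noncomputable def restrictIsoOfChartIso (E F : CochainComplex X.Modules ℤ)
    (e : chart (DCoh.toD X E) hU ≅ chart (DCoh.toD X F) hU) :
    Q.obj ((DCoh.restrictCx U).obj E) ≅ Q.obj ((DCoh.restrictCx U).obj F) :=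
  Q.mapIso (rCxFromSpecIso hU E) ≪≫
    restrictQIso hU.isoSpec.hom ((chartIso _ hU E (Iso.refl _)).symm ≪≫ e ≪≫
      chartIso _ hU F (Iso.refl _)) ≪≫
    Q.mapIso (rCxFromSpecIso hU F).symm

/-- a model of a complex with quasi-coherent cohomology on an affine open -/
lemma exists_cx_model (E : CochainComplex X.Modules ℤ) (hq : DCoh.IsQCohD (DCoh.toD X E)) :
    ∃ K : DRing.Cx Γ(X, U),
      Nonempty (chart (DCoh.toD X E) hU ≅ (DCoh.tildeD Γ(X, U)).obj (Q.obj K)) := by
  obtain ⟨M, ⟨e⟩⟩ := exists_model _ hq hU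
  exact ⟨(Q (C := ModuleCat.{u} Γ(X, U))).objPreimage M,
    ⟨e ≪≫ (DCoh.tildeD Γ(X, U)).mapIso
      ((Q (C := ModuleCat.{u} Γ(X, U))).objObjPreimageIso M).symm⟩⟩

lemma isQCohD_of_forall_pc (E : CochainComplex X.Modules ℤ)
    (hE : ∀ m : ℤ, DCoh.IsPseudoCoherentD m (DCoh.toD X E)) : DCoh.IsQCohD (DCoh.toD X E) :=
  fun i => (Groth.Agent.S7240.result (i - 1) _ (hE (i - 1))).1 i (by omega)

theorem scheme_main {X : Scheme.{u}} (x : X)
    (E F : CochainComplex X.Modules ℤ) (c d : ℤ) [(DCoh.toD X E).IsGE c] [(DCoh.toD X E).IsLE d]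
    [(DCoh.toD X F).IsGE c] [(DCoh.toD X F).IsLE d]
    (hE : ∀ m : ℤ, DCoh.IsPseudoCoherentD m (DCoh.toD X E))
    (hF : ∀ m : ℤ, DCoh.IsPseudoCoherentD m (DCoh.toD X F))
    (hx : Nonempty (DRing.toD (((DerSch.stalkFunctor X x).mapHomologicalComplex
        (ComplexShape.up ℤ)).obj E) ≅
      DRing.toD (((DerSch.stalkFunctor X x).mapHomologicalComplex (ComplexShape.up ℤ)).obj F))) :
    ∃ U : X.Opens, x ∈ U ∧
      Nonempty (Q.obj ((DCoh.restrictCx U).obj E) ≅ Q.obj ((DCoh.restrictCx U).obj F)) := by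
  obtain ⟨⟨U, hU, hxU⟩, -⟩ := exists_affNhd_le (X := X) (x := x) ⊤ trivial
  obtain ⟨z, hz⟩ := exists_fromSpec_eq hU x hxU
  subst hz
  obtain ⟨ex⟩ := hx
  have hqE := isQCohD_of_forall_pc E hE
  have hqF := isQCohD_of_forall_pc F hF
  obtain ⟨K₁, ⟨e₁⟩⟩ := exists_cx_model hU E hqE
  obtain ⟨K₂, ⟨e₂⟩⟩ := exists_cx_model hU F hqF
  have h1 : ∀ m : ℤ, DRing.IsPseudoCoherent Γ(X, U) m (Q.obj K₁) := fun m =>
    mpc_of_tilde _ _ m (isPseudoCoherentD_of_iso e₁ (pc_chart _ m (hE m) hU))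
  have h2 : ∀ m : ℤ, DRing.IsPseudoCoherent Γ(X, U) m (Q.obj K₂) := fun m =>
    mpc_of_tilde _ _ m (isPseudoCoherentD_of_iso e₂ (pc_chart _ m (hF m) hU))
  have hbE : ∀ i : ℤ, (i < c ∨ d < i) → IsZero (E.homology i) := by
    intro i hi
    refine IsZero.of_iso ?_ (HDQIso E i).symm
    rcases hi with hi | hi
    · exact (isGE_iff (DCoh.toD X E) c).mp inferInstance i hi
    · exact (isLE_iff (DCoh.toD X E) d).mp inferInstance i hi
  have hbF : ∀ i : ℤ, (i < c ∨ d < i) → IsZero (F.homology i) := by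
    intro i hi
    refine IsZero.of_iso ?_ (HDQIso F i).symm
    rcases hi with hi | hi
    · exact (isGE_iff (DCoh.toD X F) c).mp inferInstance i hi
    · exact (isLE_iff (DCoh.toD X F) d).mp inferInstance i hi
  have hb1 : ∀ i : ℤ, (i < c ∨ d < i) → IsZero (K₁.homology i) := fun i hi =>
    isZero_homology_model hU E K₁ e₁ i (hbE i hi)
  have hb2 : ∀ i : ℤ, (i < c ∨ d < i) → IsZero (K₂.homology i) := fun i hi =>
    isZero_homology_model hU F K₂ e₂ i (hbF i hi)
  -- the local ring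
  letI alg : Algebra Γ(X, U) (Ax Γ(X, U) z) := (φx Γ(X, U) z).toAlgebra
  haveI hloc : IsLocalization z.asIdeal.primeCompl (Ax Γ(X, U) z) :=
    StructureSheaf.IsLocalization.to_stalk (R := Γ(X, U)) z
  have hflat : (Sky.φst hU.fromSpec z).Flat :=
    RingHom.Flat.of_bijective (bijective_φst hU.fromSpec z)
  let e : Q.obj ((esC (algebraMap Γ(X, U) (Ax Γ(X, U) z))).obj K₁) ≅
      Q.obj ((esC (algebraMap Γ(X, U) (Ax Γ(X, U) z))).obj K₂) :=
    stalkModelIso hU z E K₁ e₁ ≪≫ esQIso _ hflat ex ≪≫ (stalkModelIso hU z F K₂ e₂).symm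
  obtain ⟨f, hfS, H⟩ := main z.asIdeal.primeCompl K₁ K₂ c d h1 h2 hb1 hb2 e
  have hle : X.basicOpen f ≤ U := X.basicOpen_le f
  have hU' : IsAffineOpen (X.basicOpen f) := hU.basicOpen f
  have hxf : hU.fromSpec.base z ∈ X.basicOpen f := by
    have h : z ∈ hU.fromSpec ⁻¹ᵁ X.basicOpen f := by
      rw [hU.fromSpec_preimage_basicOpen f]
      exact hfS
    exact h
  have hρ : (resΓ hle).Flat := by
    letI : Algebra Γ(X, U) Γ(X, X.basicOpen f) := (resΓ hle).toAlgebra
    haveI : IsLocalization.Away f Γ(X, X.basicOpen f) := hU.isLocalization_basicOpen f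
    exact RingHom.flat_algebraMap_iff.mpr (IsLocalization.flat _ (Submonoid.powers f))
  have hunit : IsUnit (resΓ hle f) := by
    letI : Algebra Γ(X, U) Γ(X, X.basicOpen f) := (resΓ hle).toAlgebra
    haveI : IsLocalization.Away f Γ(X, X.basicOpen f) := hU.isLocalization_basicOpen f
    exact IsLocalization.Away.algebraMap_isUnit f
  obtain ⟨eρ⟩ := H Γ(X, X.basicOpen f) (resΓ hle) hρ hunit
  refine ⟨X.basicOpen f, hxf, ⟨restrictIsoOfChartIso hU' E F ?_⟩⟩
  exact reprLoc (DCoh.toD X E) hU hU' hle K₁ e₁ ≪≫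
    (DCoh.tildeD Γ(X, X.basicOpen f)).mapIso eρ ≪≫
    (reprLoc (DCoh.toD X F) hU hU' hle K₂ e₂).symm

end Groth.Agent.Helper5.HLS
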