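import Groth.Agent.Lib.Helper5.HS3
import Groth.Agent.Lib.Helper5.HS4
import Mathlib.RingTheory.Nakayama
import Mathlib.RingTheory.Ideal.Colon

/-!
# Samuel functions: comparison lemmas
-/

open Polynomial Pointwise

namespace Groth.Agent.Helper5.HS

section General

variable {A : Type*} [CommRing A] {M N : Type*} [AddCommGroup M] [Module A M]
  [AddCommGroup N] [Module A N]

theorem col_top : col (⊤ : Submodule A M) = 0 := by
  rw [col, Module.length_eq_zero_iff]
  exact Submodule.Quotient.subsingleton_iff.mpr rfl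

theorem col_comap_le (ι : N →ₗ[A] M) (K : Submodule A M) : col (K.comap ι) ≤ col K := by
  apply Module.length_le_of_injective (Submodule.mapQ (K.comap ι) K ι le_rfl)
  rw [injective_iff_map_eq_zero]
  intro y hy
  obtain ⟨n, rfl⟩ := Submodule.mkQ_surjective _ y
  rw [Submodule.mkQ_apply, Submodule.mapQ_apply, Submodule.Quotient.mk_eq_zero] at hy
  rw [Submodule.mkQ_apply, Submodule.Quotient.mk_eq_zero]
  exact hy

theorem col_comap_of_surjective (π : M →ₗ[A] N) (hπ : Function.Surjective π)
    (K : Submodule A N) : col (K.comap π) = col K := by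
  apply le_antisymm (col_comap_le π K)
  apply Module.length_le_of_surjective (Submodule.mapQ (K.comap π) K π le_rfl)
  intro y
  obtain ⟨n, rfl⟩ := Submodule.mkQ_surjective _ y
  obtain ⟨m, rfl⟩ := hπ n
  exact ⟨Submodule.Quotient.mk m, rfl⟩

variable [IsNoetherianRing A] [Module.Finite A M]

/-- a consequence of the Artin–Rees lemma -/
theorem exists_comap_pow_le (ι : N →ₗ[A] M) (hι : Function.Injective ι) (I : Ideal A) :
    ∃ k, ∀ n, (I ^ (n + k) • ⊤ : Submodule A M).comap ι ≤ I ^ n • ⊤ := by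
  obtain ⟨k, hk⟩ := Ideal.exists_pow_inf_eq_pow_smul I (LinearMap.range ι)
  refine ⟨k, fun n m hm => ?_⟩
  have h1 : ι m ∈ (I ^ (n + k) • ⊤ ⊓ LinearMap.range ι : Submodule A M) :=
    ⟨hm, LinearMap.mem_range_self ι m⟩
  rw [hk (n + k) (by omega), Nat.add_sub_cancel] at h1
  have h2 : (I ^ n • (I ^ k • ⊤ ⊓ LinearMap.range ι) : Submodule A M) ≤
      (I ^ n • ⊤ : Submodule A N).map ι := by
    rw [Submodule.map_smul'', Submodule.map_top]
    exact Submodule.smul_mono le_rfl inf_le_right
  obtain ⟨m', hm', heq⟩ := h2 h1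
  rw [← hι heq]; exact hm'

end General

section Semilocal

variable (A : Type*) [CommRing A]

/-- the Samuel function `n ↦ length (M / r^n M)` where `r` is the Jacobson radical -/
noncomputable def sam (M : Type*) [AddCommGroup M] [Module A M] (n : ℕ) : ℕ :=
  colN (Ring.jacobson A ^ n • ⊤ : Submodule A M)

variable [IsNoetherianRing A] [Finite (MaximalSpectrum A)]
variable (M : Type*) [AddCommGroup M] [Module A M] [Module.Finite A M]

theorem isFiniteLength_quot_jacobson_smul :
    IsFiniteLength A (M ⧸ (Ring.jacobson A • ⊤ : Submodule A M)) := by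
  rw [isFiniteLength_iff_support, Module.support_quotient]
  rintro p ⟨_, hp⟩
  exact isMaximal_of_jacobson_le p.asIdeal hp

theorem isFiniteLength_quot_jacobson_pow_smul (n : ℕ) :
    IsFiniteLength A (M ⧸ (Ring.jacobson A ^ n • ⊤ : Submodule A M)) :=
  isFiniteLength_quotient_pow _ (isFiniteLength_quot_jacobson_smul A M) n

theorem exists_sam_poly : ∃ p : ℚ[X], IsEP (sam A M) p := by
  obtain ⟨m, g, hg⟩ := Submodule.fg_iff_exists_fin_generating_family.mp
    (IsNoetherian.noetherian (Ring.jacobson A))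
  obtain ⟨p, -, hp⟩ := exists_poly_colN (M := M) (Ring.jacobson A) g hg
    (isFiniteLength_quot_jacobson_smul A M)
  exact ⟨p, hp⟩

variable {M} {N : Type*} [AddCommGroup N] [Module A N]

theorem sam_le_of_injective (ι : N →ₗ[A] M) (hι : Function.Injective ι) :
    ∃ k, ∀ n, sam A N n ≤ sam A M (n + k) := by
  obtain ⟨k, hk⟩ := exists_comap_pow_le ι hι (Ring.jacobson A)
  refine ⟨k, fun n => ?_⟩
  have h1 : col (Ring.jacobson A ^ (n + k) • ⊤ : Submodule A M) ≠ ⊤ :=
    Module.length_ne_top_iff.mpr (isFiniteLength_quot_jacobson_pow_smul A M _)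
  have h2 := col_comap_le ι (Ring.jacobson A ^ (n + k) • ⊤ : Submodule A M)
  have h3 := col_anti (hk n)
  exact ENat.toNat_le_toNat (h3.trans h2) h1

theorem sam_quotSMulTop_add_le (x : A) (hx : IsSMulRegular M x) :
    ∃ k, ∀ n, sam A (QuotSMulTop x M) (n + k) + sam A M n ≤ sam A M (n + k) := by
  obtain ⟨k, hk⟩ := exists_comap_pow_le (μ x : M →ₗ[A] M) hx (Ring.jacobson A)
  refine ⟨k, fun n => ?_⟩
  set P : Submodule A M := Ring.jacobson A ^ (n + k) • ⊤ with hP
  have hfin : col P ≠ ⊤ :=
    Module.length_ne_top_iff.mpr (isFiniteLength_quot_jacobson_pow_smul A M _)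
  have h1 := col_inf_comap_add_col_sup_map (μ x : M →ₗ[A] M) P ⊤
  rw [top_inf_eq, col_top, zero_add] at h1
  have hrange : (⊤ : Submodule A M).map (μ x) = x • (⊤ : Submodule A M) := by
    ext m
    rw [Submodule.mem_smul_pointwise_iff_exists]
    constructor
    · rintro ⟨b, hb, rfl⟩; exact ⟨b, hb, rfl⟩
    · rintro ⟨b, hb, rfl⟩; exact ⟨b, hb, rfl⟩
  have h2 : col (P ⊔ (⊤ : Submodule A M).map (μ x)) =
      col (Ring.jacobson A ^ (n + k) • ⊤ : Submodule A (QuotSMulTop x M)) := by
    rw [← col_comap_of_surjective (x • (⊤ : Submodule A M)).mkQ (Submodule.mkQ_surjective _)]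
    congr 1
    have : (Ring.jacobson A ^ (n + k) • ⊤ : Submodule A (QuotSMulTop x M)) =
        P.map (x • (⊤ : Submodule A M)).mkQ := by
      rw [hP, Submodule.map_smul'', Submodule.map_top, Submodule.range_mkQ]
    rw [this, Submodule.comap_map_mkQ, hrange, sup_comm]
  rw [h2] at h1
  have h3 : col (P.comap (μ x)) ≠ ⊤ := by
    intro h
    rw [h, top_add] at h1
    exact hfin h1.symm
  have h4 : col (Ring.jacobson A ^ (n + k) • ⊤ : Submodule A (QuotSMulTop x M)) ≠ ⊤ :=
    Module.length_ne_top_iff.mpr (isFiniteLength_quot_jacobson_pow_smul A _ _)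
  have h5 : (col (P.comap (μ x))).toNat +
      (col (Ring.jacobson A ^ (n + k) • ⊤ : Submodule A (QuotSMulTop x M))).toNat =
      (col P).toNat := by
    rw [← ENat.toNat_add h3 h4, h1]
  have h6 : (col (Ring.jacobson A ^ n • ⊤ : Submodule A M)).toNat ≤
      (col (P.comap (μ x))).toNat := ENat.toNat_le_toNat (col_anti (hk n)) h3
  change (col (Ring.jacobson A ^ (n + k) • ⊤ : Submodule A (QuotSMulTop x M))).toNat +
    (col (Ring.jacobson A ^ n • ⊤ : Submodule A M)).toNat ≤ (col P).toNat
  omega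

omit [IsNoetherianRing A] [Finite (MaximalSpectrum A)] in
theorem subsingleton_of_col_eq_zero (n : ℕ) (hn : 0 < n)
    (h : col (Ring.jacobson A ^ n • ⊤ : Submodule A M) = 0) : Subsingleton M := by
  rw [col, Module.length_eq_zero_iff, Submodule.Quotient.subsingleton_iff] at h
  have h1 : (⊤ : Submodule A M) ≤ Ring.jacobson A • ⊤ := by
    obtain ⟨m, rfl⟩ : ∃ m, n = m + 1 := ⟨n - 1, by omega⟩
    calc (⊤ : Submodule A M) = Ring.jacobson A ^ (m + 1) • ⊤ := h.symm
      _ = Ring.jacobson A • (Ring.jacobson A ^ m • ⊤) := by rw [pow_succ', Submodule.mul_smul]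
      _ ≤ Ring.jacobson A • ⊤ := Submodule.smul_mono le_rfl le_top
  have h2 := Submodule.eq_bot_of_le_smul_of_le_jacobson_bot (Ring.jacobson A)
    (⊤ : Submodule A M) Module.Finite.fg_top h1 (Ideal.jacobson_bot.ge)
  have h3 : Subsingleton (Submodule A M) := subsingleton_of_bot_eq_top h2.symm
  exact (Submodule.subsingleton_iff A).mp h3

theorem subsingleton_of_sam_eq_zero (n : ℕ) (hn : 0 < n) (h : sam A M n = 0) :
    Subsingleton M := by
  apply subsingleton_of_col_eq_zero A n hn
  have h1 : col (Ring.jacobson A ^ n • ⊤ : Submodule A M) ≠ ⊤ :=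
    Module.length_ne_top_iff.mpr (isFiniteLength_quot_jacobson_pow_smul A M _)
  rcases (ENat.toNat_eq_zero.mp h) with h2 | h2
  · exact h2
  · exact absurd h2 h1

end Semilocal

end Groth.Agent.Helper5.HS
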