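import Mathlib
import Groth.Agent.Lib.Helper5.IdemFactor

/-!
# A local ring over which all `R[X]/(F)` are products of local rings is henselian
-/

set_option autoImplicit false
set_option linter.style.haveILetI false
set_option linter.unusedSectionVars false

namespace Groth.Agent.Helper5.HenselProd

open Polynomial IsLocalRing

universe u

theorem exists_root_of_prod {R : Type u} [CommRing R] [IsLocalRing R] (f : R[X]) (hf : f.Monic)
    {ι : Type u} [Fintype ι] (Ai : ι → Type u) [∀ i, CommRing (Ai i)] [∀ i, IsLocalRing (Ai i)]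
    (σ : AdjoinRoot f ≃+* (∀ i, Ai i)) (a₀ : R) (h₁ : f.eval a₀ ∈ maximalIdeal R)
    (h₂ : IsUnit (f.derivative.eval a₀)) : ∃ a, f.IsRoot a ∧ a - a₀ ∈ maximalIdeal R := by
  classical
  -- evaluation at `a₀` modulo `m`
  have hev0 : eval₂ (residue R) (residue R a₀) f = 0 := by
    rw [eval₂_at_apply, residue_eq_zero_iff]
    exact h₁
  set ev : AdjoinRoot f →+* ResidueField R := AdjoinRoot.lift (residue R) (residue R a₀) hev0
    with hev
  have hevmk : ∀ P : R[X], ev (AdjoinRoot.mk f P) = residue R (P.eval a₀) := by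
    intro P
    rw [hev, AdjoinRoot.lift_mk, eval₂_at_apply]
  -- the idempotents
  set E : ι → AdjoinRoot f := fun i => σ.symm (Pi.single i 1) with hE
  have hEsum : ∑ i, E i = 1 := by
    have h0 : ∑ i, (Pi.single i 1 : ∀ i, Ai i) = 1 := Finset.univ_sum_single (1 : ∀ i, Ai i)
    rw [hE, ← map_sum, h0, map_one]
  have hEidem : ∀ i, IsIdempotentElem (E i) := by
    intro i
    change σ.symm (Pi.single i 1) * σ.symm (Pi.single i 1) = σ.symm (Pi.single i 1)
    rw [← map_mul, ← Pi.single_mul, mul_one]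
  obtain ⟨i₀, hi₀⟩ : ∃ i, ev (E i) ≠ 0 := by
    by_contra hcon
    push Not at hcon
    have h1 : ev (∑ i, E i) = 0 := by
      rw [map_sum]
      exact Finset.sum_eq_zero fun i _ => hcon i
    rw [hEsum, map_one] at h1
    exact one_ne_zero h1
  set e := E i₀ with he
  have heidem : IsIdempotentElem e := hEidem i₀
  have heve : ev e = 1 := by
    have h1 : ev e * ev e = ev e := by rw [← map_mul, heidem.eq]
    have h2 : ev e * (ev e - 1) = 0 := by rw [mul_sub, mul_one, h1, sub_self]
    rcases mul_eq_zero.mp h2 with h | h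
    · exact absurd h hi₀
    · exact sub_eq_zero.mp h
  have hσe : σ e = Pi.single i₀ 1 := by rw [he, hE]; exact σ.apply_symm_apply _
  -- `B/(1 - e)` is local
  set ψ : AdjoinRoot f →+* Ai i₀ := (Pi.evalRingHom Ai i₀).comp σ.toRingHom with hψ
  have hψsurj : Function.Surjective ψ := by
    intro y
    refine ⟨σ.symm (Pi.single i₀ y), ?_⟩
    change (σ (σ.symm (Pi.single i₀ y))) i₀ = y
    rw [σ.apply_symm_apply, Pi.single_eq_same]
  have hker : RingHom.ker ψ = Ideal.span {1 - e} := by
    apply le_antisymm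
    · intro b hb
      rw [RingHom.mem_ker] at hb
      have hb' : (σ b) i₀ = 0 := hb
      have hbe : b * e = 0 := by
        apply σ.injective
        rw [map_mul, map_zero, hσe]
        funext j
        by_cases hj : j = i₀
        · subst hj
          rw [Pi.mul_apply, hb', zero_mul]
          rfl
        · rw [Pi.mul_apply, Pi.single_eq_of_ne hj, mul_zero]
          rfl
      rw [Ideal.mem_span_singleton]
      exact ⟨b, by rw [sub_mul, one_mul, mul_comm e b, hbe, sub_zero]⟩
    · rw [Ideal.span_singleton_le_iff_mem, RingHom.mem_ker]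
      change (σ (1 - e)) i₀ = 0
      rw [map_sub, map_one, hσe, Pi.sub_apply, Pi.one_apply, Pi.single_eq_same, sub_self]
  haveI hloc : IsLocalRing (AdjoinRoot f ⧸ Ideal.span {1 - e}) :=
    ((Ideal.quotEquivOfEq hker).symm.trans
      (RingHom.quotientKerEquivOfSurjective hψsurj)).symm.isLocalRing
  -- factorization
  obtain ⟨G, H, hGm, hHm, -, hGH, -, hspanH⟩ :=
    Groth.Agent.Helper5.IdemFactor.exists_factor f hf e heidem
  have hspanH' : Ideal.span {AdjoinRoot.mk f H} = Ideal.span {1 - e} := hspanH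
  set q : AdjoinRoot f →+* (AdjoinRoot f ⧸ Ideal.span {1 - e}) := Ideal.Quotient.mk _ with hq
  set xC := q (AdjoinRoot.root f) with hxC
  have hΦ : ∀ P : R[X], aeval xC P = q (AdjoinRoot.mk f P) := by
    intro P
    have := aeval_algHom_apply (Ideal.Quotient.mkₐ R (Ideal.span {1 - e})) (AdjoinRoot.root f) P
    rw [AdjoinRoot.aeval_eq] at this
    exact this
  -- evaluation on `C`
  have hevker : ∀ b ∈ Ideal.span {1 - e}, ev b = 0 := by
    intro b hb
    obtain ⟨c, rfl⟩ := Ideal.mem_span_singleton.mp hb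
    rw [map_mul, map_sub, map_one, heve, sub_self, zero_mul]
  set evC : (AdjoinRoot f ⧸ Ideal.span {1 - e}) →+* ResidueField R :=
    Ideal.Quotient.lift _ ev hevker with hevC
  have hevCsurj : Function.Surjective evC := by
    intro y
    obtain ⟨r, rfl⟩ := residue_surjective y
    refine ⟨q (AdjoinRoot.mk f (C r)), ?_⟩
    rw [hevC, hq, Ideal.Quotient.lift_mk, hevmk, eval_C]
  have hkermax : RingHom.ker evC = maximalIdeal (AdjoinRoot f ⧸ Ideal.span {1 - e}) :=
    eq_maximalIdeal (RingHom.ker_isMaximal_of_surjective evC hevCsurj)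
  set a₀' := algebraMap R (AdjoinRoot f ⧸ Ideal.span {1 - e}) a₀ with ha₀'
  set t := xC - a₀' with ht
  have hxCeq : xC = q (AdjoinRoot.mk f X) := by rw [hxC, AdjoinRoot.mk_X]
  have ha₀'eq : a₀' = q (AdjoinRoot.mk f (C a₀)) := by
    rw [ha₀', AdjoinRoot.mk_C]
    rfl
  have htmem : t ∈ maximalIdeal (AdjoinRoot f ⧸ Ideal.span {1 - e}) := by
    rw [← hkermax, RingHom.mem_ker, ht, map_sub, hxCeq, ha₀'eq, hevC, hq, Ideal.Quotient.lift_mk,
      Ideal.Quotient.lift_mk, hevmk, hevmk, eval_X, eval_C, sub_self]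
  -- Taylor expansion
  set fC := f.map (algebraMap R (AdjoinRoot f ⧸ Ideal.span {1 - e})) with hfC
  obtain ⟨κ, hκ⟩ := binomExpansion fC a₀' t
  have hx : a₀' + t = xC := by rw [ht]; ring
  have hfx : eval xC fC = 0 := by
    rw [hfC, eval_map_algebraMap, hΦ, AdjoinRoot.mk_self, map_zero]
  have hfa : eval a₀' fC = algebraMap R _ (f.eval a₀) := by
    rw [hfC, eval_map_algebraMap, ha₀', aeval_algebraMap_apply, coe_aeval_eq_eval]
  have hfa' : eval a₀' (derivative fC) = algebraMap R _ (f.derivative.eval a₀) := by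
    rw [hfC, derivative_map, eval_map_algebraMap, ha₀', aeval_algebraMap_apply, coe_aeval_eq_eval]
  rw [hx, hfx, hfa, hfa'] at hκ
  set mC : Ideal (AdjoinRoot f ⧸ Ideal.span {1 - e}) :=
    (maximalIdeal R).map (algebraMap R (AdjoinRoot f ⧸ Ideal.span {1 - e})) with hmC
  have hu : IsUnit (algebraMap R (AdjoinRoot f ⧸ Ideal.span {1 - e}) (f.derivative.eval a₀)
      + κ * t) := by
    by_contra hnu
    have h3 : algebraMap R (AdjoinRoot f ⧸ Ideal.span {1 - e}) (f.derivative.eval a₀) + κ * t ∈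
        maximalIdeal _ := (mem_maximalIdeal _).mpr hnu
    have h4 : algebraMap R (AdjoinRoot f ⧸ Ideal.span {1 - e}) (f.derivative.eval a₀) ∈
        maximalIdeal _ := by
      have := Ideal.sub_mem _ h3 (Ideal.mul_mem_left _ κ htmem)
      rwa [add_sub_cancel_right] at this
    exact (mem_maximalIdeal _).mp h4 (h₂.map _)
  have htmC : t ∈ mC := by
    obtain ⟨w, hw⟩ := hu
    have h5 : t * (w : AdjoinRoot f ⧸ Ideal.span {1 - e}) =
        - algebraMap R _ (f.eval a₀) := by
      rw [hw]
      linear_combination -hκ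
    have h6 : t = - algebraMap R _ (f.eval a₀) * ((w⁻¹ : _ˣ) : AdjoinRoot f ⧸ Ideal.span {1 - e}) := by
      rw [← h5, mul_assoc, Units.mul_inv, mul_one]
    rw [h6]
    exact Ideal.mul_mem_right _ _ (Submodule.neg_mem _ (Ideal.mem_map_of_mem _ h₁))
  -- Nakayama
  haveI : Module.Finite R (AdjoinRoot f) := (AdjoinRoot.powerBasis' hf).finite
  haveI : Module.Finite R (AdjoinRoot f ⧸ Ideal.span {1 - e}) :=
    Module.Finite.of_surjective (Ideal.Quotient.mkₐ R (Ideal.span {1 - e})).toLinearMap
      Ideal.Quotient.mk_surjective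
  have hNak : (⊤ : Submodule R (AdjoinRoot f ⧸ Ideal.span {1 - e})) ≤
      Submodule.span R {1} := by
    apply Submodule.le_of_le_smul_of_le_jacobson_bot (I := maximalIdeal R) Module.Finite.fg_top
      (maximalIdeal_le_jacobson _)
    intro c _
    obtain ⟨b, rfl⟩ := Ideal.Quotient.mk_surjective c
    obtain ⟨P, rfl⟩ := AdjoinRoot.mk_surjective b
    change q (AdjoinRoot.mk f P) ∈ _
    rw [← hΦ]
    have h7 : aeval xC P = algebraMap R _ (P.eval a₀) + (aeval xC P - aeval a₀' P) := by
      rw [ha₀', aeval_algebraMap_apply, coe_aeval_eq_eval]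
      ring
    rw [h7]
    refine Submodule.add_mem_sup ?_ ?_
    · rw [Algebra.algebraMap_eq_smul_one]
      exact Submodule.smul_mem _ _ (Submodule.subset_span rfl)
    · rw [Ideal.smul_top_eq_map, Submodule.restrictScalars_mem]
      have h8 := sub_dvd_eval_sub xC a₀' (P.map (algebraMap R _))
      rw [eval_map_algebraMap, eval_map_algebraMap] at h8
      obtain ⟨w, hw⟩ := h8
      rw [hw]
      exact Ideal.mul_mem_right _ _ htmC
  obtain ⟨a, ha⟩ := Submodule.mem_span_singleton.mp (hNak (Submodule.mem_top : xC ∈ ⊤))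
  -- `H ∣ X - C a`
  have hdvd : H ∣ X - C a := by
    have h9 : q (AdjoinRoot.mk f (X - C a)) = 0 := by
      rw [← hΦ, map_sub, aeval_X, aeval_C, ← ha, Algebra.algebraMap_eq_smul_one, sub_self]
    rw [hq, Ideal.Quotient.eq_zero_iff_mem, ← hspanH', Ideal.mem_span_singleton] at h9
    obtain ⟨w, hw⟩ := h9
    obtain ⟨W, rfl⟩ := AdjoinRoot.mk_surjective w
    rw [← map_mul, ← sub_eq_zero, ← map_sub, AdjoinRoot.mk_eq_zero] at hw
    obtain ⟨V, hV⟩ := hw
    refine ⟨W + G * V, ?_⟩
    have : X - C a = H * W + f * V := by rw [← hV]; ring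
    rw [this, ← hGH]
    ring
  have hHdeg : 1 ≤ H.natDegree := by
    by_contra hlt
    have h0 : H.natDegree = 0 := by omega
    have hH1 : H = 1 := eq_one_of_monic_natDegree_zero hHm h0
    have : (1 : AdjoinRoot f ⧸ Ideal.span {1 - e}) = 0 := by
      rw [← map_one q, hq, Ideal.Quotient.eq_zero_iff_mem, ← hspanH', hH1, map_one]
      exact Ideal.mem_span_singleton_self 1
    exact one_ne_zero this
  have hHeq : X - C a = H :=
    eq_of_monic_of_dvd_of_natDegree_le hHm (monic_X_sub_C a) hdvd (by rw [natDegree_X_sub_C]; exact hHdeg)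
  refine ⟨a, ?_, ?_⟩
  · rw [IsRoot.def, ← hGH, ← hHeq, eval_mul, eval_sub, eval_X, eval_C, sub_self, mul_zero]
  · have h10 : ev (AdjoinRoot.mk f H) = 0 :=
      hevker _ (hspanH' ▸ Ideal.mem_span_singleton_self _)
    rw [hevmk, ← hHeq, eval_sub, eval_X, eval_C, residue_eq_zero_iff] at h10
    have := Submodule.neg_mem _ h10
    rwa [neg_sub] at this

end Groth.Agent.Helper5.HenselProd
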