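import Groth.Agent.Lib.Helper5.Hopf
import Mathlib.Tactic.NoncommRing

set_option autoImplicit false
universe u

namespace Groth.Agent.Helper5.Hopf

open TensorProduct WithConv

variable {k : Type u} [CommRing k] {A : Type u} [CommRing A] [HopfAlgebra k A]
variable {R : Type u} [CommRing R] [Algebra k R]

/-- the linear map underlying a point, in the convolution ring -/
noncomputable def L (f : WithConv (A →ₐ[k] R)) : WithConv (A →ₗ[k] R) := toConv f.ofConv.toLinearMap

theorem L_mul (f g : WithConv (A →ₐ[k] R)) : L (f * g) = L f * L g :=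
  AlgHom.toLinearMap_convMul f g

theorem L_one : L (1 : WithConv (A →ₐ[k] R)) = 1 := AlgHom.toLinearMap_convOne

/-- the inverse point -/
noncomputable def inv' (f : WithConv (A →ₐ[k] R)) : WithConv (A →ₐ[k] R) :=
  toConv (f.ofConv.comp (HopfAlgebra.antipodeAlgHom k A))

theorem L_inv_mul (f : WithConv (A →ₐ[k] R)) : L (inv' f) * L f = 1 := by
  have h := LinearMap.algHom_comp_convMul_distrib (R := k) f.ofConv
    (toConv (HopfAlgebra.antipode k (A := A))) (toConv LinearMap.id)
  rw [LinearMap.antipode_mul_id] at h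
  apply WithConv.ofConv_injective
  have h' : (L (inv' f) * L f).ofConv =
      (toConv (f.ofConv.toLinearMap ∘ₗ (toConv (HopfAlgebra.antipode k (A := A))).ofConv) *
        toConv (f.ofConv.toLinearMap ∘ₗ (toConv (LinearMap.id (R := k) (M := A))).ofConv)).ofConv := rfl
  rw [h', ← h]
  ext a
  simp

/-- the element of the convolution ring attached to a derivation -/
noncomputable def dL (R : Type u) [CommRing R] [Algebra k R] (D : LieHopf.Lie k A) : WithConv (A →ₗ[k] R) :=
  toConv (Algebra.linearMap k R ∘ₗ LieHopf.dlin D)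

theorem L_ptOfLie (D : LieHopf.Lie k A) (t : R) (ht : t * t = 0) :
    L (toConv (LieHopf.ptOfLie D R t ht)) = 1 + t • dL R D := by
  apply WithConv.ofConv_injective
  ext a
  simp only [L, dL, LieHopf.ptOfLie]
  change algebraMap k R (Bialgebra.counitAlgHom k A a) + algebraMap k R (LieHopf.dlin D a) * t =
    algebraMap k R (Coalgebra.counit a) + t • algebraMap k R (LieHopf.dlin D a)
  rw [smul_eq_mul, mul_comm]
  rfl

theorem smul_dL_sq (D : LieHopf.Lie k A) (t : R) (ht : t * t = 0) :
    (t • dL R D) * (t • dL R D) = 0 := by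
  rw [smul_mul_smul_comm, ht, zero_smul]

theorem L_ptOfLie_inv (D : LieHopf.Lie k A) (t : R) (ht : t * t = 0) :
    L (inv' (toConv (LieHopf.ptOfLie D R t ht))) = 1 - t • dL R D := by
  have h1 := L_inv_mul (toConv (LieHopf.ptOfLie D R t ht))
  have h2 : L (toConv (LieHopf.ptOfLie D R t ht)) * (1 - t • dL R D) = 1 := by
    rw [L_ptOfLie]
    have := smul_dL_sq D t ht
    generalize t • dL R D = P at this ⊢
    calc (1 + P) * (1 - P) = 1 - P * P := by noncomm_ring
      _ = 1 := by rw [this, sub_zero]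
  calc L (inv' (toConv (LieHopf.ptOfLie D R t ht)))
      = L (inv' (toConv (LieHopf.ptOfLie D R t ht))) * (L (toConv (LieHopf.ptOfLie D R t ht)) * (1 - t • dL R D)) := by
        rw [h2, mul_one]
    _ = 1 - t • dL R D := by rw [← mul_assoc, h1, one_mul]

end Groth.Agent.Helper5.Hopf

namespace Groth.Agent.Helper5.Hopf

open TensorProduct WithConv

variable {k : Type u} [CommRing k] {A : Type u} [CommRing A] [HopfAlgebra k A]
variable {R : Type u} [CommRing R] [Algebra k R]

theorem dL_mul_apply (D E : LieHopf.Lie k A) (a : A) :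
    (dL R D * dL R E) a = algebraMap k R (LieHopf.conv (LieHopf.dlin D) (LieHopf.dlin E) a) := by
  rw [LinearMap.convMul_apply]
  simp only [LieHopf.conv, LinearMap.comp_apply]
  generalize (CoalgebraStruct.comul (R := k) a : A ⊗[k] A) = z
  induction z using TensorProduct.induction_on with
  | zero => simp
  | tmul x y => simp [dL]
  | add x y hx hy => simp only [map_add, hx, hy]

theorem commutator_identity {S : Type*} [Ring S] (P Q : S) (hP : P * P = 0) (hQ : Q * Q = 0)
    (hPQP : P * Q * P = 0) (hQPQ : Q * P * Q = 0) :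
    (1 + P) * (1 + Q) * (1 - P) * (1 - Q) = 1 + (P * Q - Q * P) := by
  have hPQQ : P * Q * Q = 0 := by rw [mul_assoc, hQ, mul_zero]
  have h1 : (1 + P) * (1 + Q) * (1 - P) = 1 + Q + P * Q - Q * P - P * P - P * Q * P := by
    noncomm_ring
  rw [h1, hP, hPQP, sub_zero, sub_zero]
  have h2 : (1 + Q + P * Q - Q * P) * (1 - Q) = 1 + (P * Q - Q * P) - Q * Q - P * Q * Q + Q * P * Q := by
    noncomm_ring
  rw [h2, hQ, hPQQ, hQPQ, sub_zero, sub_zero, add_zero]

theorem commutator_L (D E : LieHopf.Lie k A) (t t' : R) (ht : t * t = 0) (ht' : t' * t' = 0) :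
    L (toConv (LieHopf.ptOfLie D R t ht)) * L (toConv (LieHopf.ptOfLie E R t' ht')) *
      L (inv' (toConv (LieHopf.ptOfLie D R t ht))) * L (inv' (toConv (LieHopf.ptOfLie E R t' ht'))) =
    1 + (t * t') • (dL R D * dL R E - dL R E * dL R D) := by
  rw [L_ptOfLie, L_ptOfLie, L_ptOfLie_inv, L_ptOfLie_inv]
  rw [commutator_identity (t • dL R D) (t' • dL R E) (smul_dL_sq D t ht) (smul_dL_sq E t' ht')]
  · rw [smul_mul_smul_comm, smul_mul_smul_comm, mul_comm t' t, smul_sub]
  · rw [smul_mul_smul_comm, smul_mul_smul_comm, mul_right_comm, ht, zero_mul, zero_smul]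
  · rw [smul_mul_smul_comm, smul_mul_smul_comm, mul_right_comm, ht', zero_mul, zero_smul]

end Groth.Agent.Helper5.Hopf
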