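import Mathlib.Algebra.Homology.Homotopy
import Mathlib.Algebra.Homology.ShortComplex.HomologicalComplex
import Mathlib.Algebra.Homology.ShortComplex.Exact
import Mathlib.Algebra.Homology.HomologicalComplexAbelian
import Mathlib.Algebra.Homology.HomologySequence
import Mathlib.CategoryTheory.Preadditive.Injective.Basic
import Mathlib.CategoryTheory.Abelian.Injective.Basic

/-!
# Comparison and extension lemmas for maps into termwise injective cochain complexes
-/

set_option autoImplicit false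
set_option linter.style.haveILetI false

open CategoryTheory CategoryTheory.Limits

universe u v

namespace Groth.Agent.Helper5.HS13375

variable {V : Type u} [Category.{v} V] [Abelian V]

section Basic

variable (K L : CochainComplex V ℕ)

theorem exact₀ : (ShortComplex.mk (K.iCycles 0) (K.d 0 1) (K.iCycles_d 0 1)).Exact :=
  ShortComplex.exact_of_f_is_kernel _ (K.cyclesIsKernel 0 1 (by simp))

theorem exact_succ (hK : ∀ n, 0 < n → K.ExactAt n) (n : ℕ) :
    (ShortComplex.mk (K.d n (n + 1)) (K.d (n + 1) (n + 2)) (K.d_comp_d _ _ _)).Exact :=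
  (K.exactAt_iff' n (n + 1) (n + 2) (by simp) (by simp)).mp (hK (n + 1) (by omega))

variable {K L}

/-- Lemma A: existence of a chain map with prescribed effect on `0`-cycles. -/
theorem exists_hom (hK : ∀ n, 0 < n → K.ExactAt n) (hL : ∀ n, Injective (L.X n))
    (γ : K.cycles 0 ⟶ L.cycles 0) :
    ∃ f : K ⟶ L, K.iCycles 0 ≫ f.f 0 = γ ≫ L.iCycles 0 := by
  haveI := hL
  let f0 : K.X 0 ⟶ L.X 0 := Injective.factorThru (γ ≫ L.iCycles 0) (K.iCycles 0)
  have hf0 : K.iCycles 0 ≫ f0 = γ ≫ L.iCycles 0 := Injective.comp_factorThru _ _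
  have h1 : (ShortComplex.mk (K.iCycles 0) (K.d 0 1) (K.iCycles_d 0 1)).f ≫ (f0 ≫ L.d 0 1) = 0 := by
    dsimp
    rw [← Category.assoc, hf0, Category.assoc, L.iCycles_d, comp_zero]
  let f1 : K.X 1 ⟶ L.X 1 := (exact₀ K).descToInjective (f0 ≫ L.d 0 1) h1
  have hf1 : K.d 0 1 ≫ f1 = f0 ≫ L.d 0 1 := (exact₀ K).comp_descToInjective _ h1
  refine ⟨CochainComplex.mkHom K L f0 f1 hf1.symm (fun n p => ?_), ?_⟩
  · have h2 : (ShortComplex.mk (K.d n (n + 1)) (K.d (n + 1) (n + 2)) (K.d_comp_d _ _ _)).f ≫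
        (p.2.1 ≫ L.d (n + 1) (n + 2)) = 0 := by
      dsimp
      rw [← Category.assoc, ← p.2.2, Category.assoc, L.d_comp_d, comp_zero]
    exact ⟨(exact_succ K hK n).descToInjective (p.2.1 ≫ L.d (n + 1) (n + 2)) h2,
      ((exact_succ K hK n).comp_descToInjective _ h2).symm⟩
  · rw [CochainComplex.mkHom_f_0]
    exact hf0

/-- Lemma B: a chain map killing the `0`-cycles is null-homotopic. -/
theorem exists_homotopy_zero (hK : ∀ n, 0 < n → K.ExactAt n) (hL : ∀ n, Injective (L.X n))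
    (f : K ⟶ L) (hf : K.iCycles 0 ≫ f.f 0 = 0) : Nonempty (Homotopy f 0) := by
  haveI := hL
  let z : K.X 1 ⟶ L.X 0 := (exact₀ K).descToInjective (f.f 0) hf
  have hz : K.d 0 1 ≫ z = f.f 0 := (exact₀ K).comp_descToInjective _ hf
  have h1 : (ShortComplex.mk (K.d 0 1) (K.d 1 2) (K.d_comp_d _ _ _)).f ≫
      (f.f 1 - z ≫ L.d 0 1) = 0 := by
    dsimp
    rw [Preadditive.comp_sub, ← Category.assoc, hz, f.comm, sub_self]
  let o : K.X 2 ⟶ L.X 1 := (exact_succ K hK 0).descToInjective (f.f 1 - z ≫ L.d 0 1) h1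
  have ho : K.d 1 2 ≫ o = f.f 1 - z ≫ L.d 0 1 := (exact_succ K hK 0).comp_descToInjective _ h1
  refine ⟨Homotopy.mkCoinductive f z hz.symm o (by rw [ho]; abel) (fun n p => ?_)⟩
  obtain ⟨g, g', w⟩ := p
  have h2 : (ShortComplex.mk (K.d (n + 1) (n + 2)) (K.d (n + 2) (n + 3)) (K.d_comp_d _ _ _)).f ≫
      (f.f (n + 2) - g' ≫ L.d (n + 1) (n + 2)) = 0 := by
    dsimp
    rw [Preadditive.comp_sub, ← f.comm, w, Preadditive.add_comp, Category.assoc,
      Category.assoc, L.d_comp_d, comp_zero, zero_add, sub_self]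
  refine ⟨(exact_succ K hK (n + 1)).descToInjective _ h2, ?_⟩
  rw [(exact_succ K hK (n + 1)).comp_descToInjective _ h2]
  abel

/-- Lemma C: extension of a chain map along a termwise monomorphism. -/
theorem exists_extension {K' : CochainComplex V ℕ} (j : K' ⟶ K) (hj : ∀ n, Mono (j.f n))
    (hK' : ∀ n, 0 < n → K'.ExactAt n) (hK : ∀ n, 0 < n → K.ExactAt n)
    (hL : ∀ n, Injective (L.X n)) (φ : K' ⟶ L) (γ : K.cycles 0 ⟶ L.cycles 0)
    (hγ : HomologicalComplex.cyclesMap j 0 ≫ γ = HomologicalComplex.cyclesMap φ 0) :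
    ∃ ψ : K ⟶ L, j ≫ ψ = φ ∧ K.iCycles 0 ≫ ψ.f 0 = γ ≫ L.iCycles 0 := by
  haveI := hL
  haveI := hj
  obtain ⟨ψ₀, hψ₀⟩ := exists_hom hK hL γ
  let δ : K' ⟶ L := j ≫ ψ₀ - φ
  have hδ : K'.iCycles 0 ≫ δ.f 0 = 0 := by
    dsimp [δ]
    rw [Preadditive.comp_sub, ← Category.assoc, ← HomologicalComplex.cyclesMap_i, Category.assoc,
      hψ₀, ← Category.assoc, hγ, HomologicalComplex.cyclesMap_i, sub_self]
  obtain ⟨h⟩ := exists_homotopy_zero hK' hL δ hδ
  let ht : ∀ i k, K.X i ⟶ L.X k := fun i k => Injective.factorThru (h.hom i k) (j.f i)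
  have hht : ∀ i k, j.f i ≫ ht i k = h.hom i k := fun i k => Injective.comp_factorThru _ _
  have hδ' : δ = Homotopy.nullHomotopicMap h.hom := by
    ext n
    have := h.comm n
    rw [HomologicalComplex.zero_f, add_zero] at this
    exact this
  refine ⟨ψ₀ - Homotopy.nullHomotopicMap ht, ?_, ?_⟩
  · rw [Preadditive.comp_sub, Homotopy.comp_nullHomotopicMap]
    have : (fun i k => j.f i ≫ ht i k) = h.hom := by
      funext i k
      exact hht i k
    rw [this, ← hδ']
    dsimp [δ]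
    abel
  · rw [HomologicalComplex.sub_f_apply, Preadditive.comp_sub, hψ₀]
    have : K.iCycles 0 ≫ (Homotopy.nullHomotopicMap ht).f 0 = 0 := by
      change K.iCycles 0 ≫ (dNext 0 ht + prevD 0 ht) = 0
      rw [Homotopy.prevD_zero_cochainComplex, add_zero, Homotopy.dNext_cochainComplex, ← Category.assoc,
        K.iCycles_d, zero_comp]
    rw [this, sub_zero]

end Basic

end Groth.Agent.Helper5.HS13375
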