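import Groth.Agent.Lib.Helper5.Horseshoe1

/-!
# Lifting a ladder of degree zero cohomology maps to left exact sequences of resolutions
-/

set_option autoImplicit false
set_option linter.style.haveILetI false

open CategoryTheory CategoryTheory.Limits

universe u v

namespace Groth.Agent.Helper5.HS13375

variable {V : Type u} [Category.{v} V] [Abelian V]

/-- the map on `0`-cycles attached to a map on `H⁰` -/
noncomputable def gam {K L : CochainComplex V ℕ} (g : K.homology 0 ⟶ L.homology 0) :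
    K.cycles 0 ⟶ L.cycles 0 :=
  K.isoHomologyπ₀.hom ≫ g ≫ L.isoHomologyπ₀.inv

theorem cyclesMap_eq {K L : CochainComplex V ℕ} (f : K ⟶ L) :
    HomologicalComplex.cyclesMap f 0 = gam (HomologicalComplex.homologyMap f 0) := by
  unfold gam
  rw [CochainComplex.isoHomologyπ₀_inv_naturality, Iso.hom_inv_id_assoc]

theorem homologyMap_eq_of_cycles {K L : CochainComplex V ℕ} (f : K ⟶ L)
    (g : K.homology 0 ⟶ L.homology 0) (h : K.iCycles 0 ≫ f.f 0 = gam g ≫ L.iCycles 0) :
    HomologicalComplex.homologyMap f 0 = g := by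
  have h1 : HomologicalComplex.cyclesMap f 0 = gam g := by
    rw [← cancel_mono (L.iCycles 0), HomologicalComplex.cyclesMap_i, h]
  rw [cyclesMap_eq] at h1
  unfold gam at h1
  rw [← cancel_epi K.isoHomologyπ₀.hom, ← cancel_mono L.isoHomologyπ₀.inv]
  simpa using h1

theorem gam_comm {K L K' L' : CochainComplex V ℕ} (a : K ⟶ K') (b : L ⟶ L')
    (g : K.homology 0 ⟶ L.homology 0) (g' : K'.homology 0 ⟶ L'.homology 0)
    (h : HomologicalComplex.homologyMap a 0 ≫ g' = g ≫ HomologicalComplex.homologyMap b 0) :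
    HomologicalComplex.cyclesMap a 0 ≫ gam g' = gam g ≫ HomologicalComplex.cyclesMap b 0 := by
  rw [cyclesMap_eq a, cyclesMap_eq b]
  unfold gam
  simp only [Category.assoc, Iso.inv_hom_id_assoc]
  rw [reassoc_of% h]

theorem cycles_of_hom {K L : CochainComplex V ℕ} (f : K ⟶ L) (γ : K.cycles 0 ⟶ L.cycles 0)
    (h : K.iCycles 0 ≫ f.f 0 = γ ≫ L.iCycles 0) : HomologicalComplex.cyclesMap f 0 = γ := by
  rw [← cancel_mono (L.iCycles 0), HomologicalComplex.cyclesMap_i, h]

theorem main (C' C C'' I' I I'' : CochainComplex V ℕ)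
    (jC : C' ⟶ C) (πC : C ⟶ C'') (jI : I' ⟶ I) (πI : I ⟶ I'')
    (mC : ∀ n, Mono (jC.f n)) (wC : ∀ n, jC.f n ≫ πC.f n = 0)
    (exC : ∀ n, (ShortComplex.mk (jC.f n) (πC.f n) (wC n)).Exact)
    (wI : ∀ n, jI.f n ≫ πI.f n = 0)
    (hC' : ∀ n, 0 < n → C'.ExactAt n) (hC : ∀ n, 0 < n → C.ExactAt n)
    (hC'' : ∀ n, 0 < n → C''.ExactAt n)
    (injI' : ∀ n, Injective (I'.X n)) (injI : ∀ n, Injective (I.X n))
    (injI'' : ∀ n, Injective (I''.X n))
    (g' : C'.homology 0 ⟶ I'.homology 0) (g : C.homology 0 ⟶ I.homology 0)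
    (g'' : C''.homology 0 ⟶ I''.homology 0)
    (hg1 : HomologicalComplex.homologyMap jC 0 ≫ g = g' ≫ HomologicalComplex.homologyMap jI 0)
    (hg2 : HomologicalComplex.homologyMap πC 0 ≫ g'' = g ≫ HomologicalComplex.homologyMap πI 0) :
    ∃ (f' : C' ⟶ I') (f : C ⟶ I) (f'' : C'' ⟶ I''),
      jC ≫ f = f' ≫ jI ∧ πC ≫ f'' = f ≫ πI ∧
      HomologicalComplex.homologyMap f' 0 = g' ∧ HomologicalComplex.homologyMap f 0 = g ∧
      HomologicalComplex.homologyMap f'' 0 = g'' := by
  -- the first map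
  obtain ⟨f', hf'⟩ := exists_hom hC' injI' (gam g')
  have hf'c := cycles_of_hom f' _ hf'
  -- the second map
  obtain ⟨f, hf1, hf2⟩ := exists_extension jC mC hC' hC injI (f' ≫ jI) (gam g) (by
    rw [HomologicalComplex.cyclesMap_comp, hf'c]
    exact gam_comm jC jI g' g hg1)
  have hfc := cycles_of_hom f _ hf2
  -- the quotient complex
  have w0 : jC ≫ πC = 0 := by
    ext n
    exact wC n
  have w0I : jI ≫ πI = 0 := by
    ext n
    exact wI n
  haveI : Mono jC := HomologicalComplex.mono_of_mono_f jC mC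
  let S : ShortComplex (CochainComplex V ℕ) :=
    ShortComplex.mk jC (cokernel.π jC) (cokernel.condition jC)
  have hS : S.ShortExact :=
    ShortComplex.ShortExact.mk' (ShortComplex.exact_cokernel jC) inferInstance inferInstance
  let Q : CochainComplex V ℕ := cokernel jC
  let q : C ⟶ Q := cokernel.π jC
  let u : Q ⟶ C'' := cokernel.desc jC πC w0
  have hqu : q ≫ u = πC := cokernel.π_desc _ _ _
  -- `u` is termwise mono
  have hS0 : (ShortComplex.mk jC πC w0).Exact := by
    apply HomologicalComplex.exact_of_degreewise_exact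
    intro n
    exact exC n
  haveI : Mono u := hS0.mono_cokernelDesc
  have hu : ∀ n, Mono (u.f n) := fun n =>
    inferInstanceAs (Mono ((HomologicalComplex.eval V (ComplexShape.up ℕ) n).map u))
  -- `Q` is exact in positive degrees
  have hQ : ∀ n, 0 < n → Q.ExactAt n := by
    intro n hn
    rw [HomologicalComplex.exactAt_iff_isZero_homology]
    have h3 := hS.homology_exact₃ n (n + 1) (by simp)
    exact h3.isZero_of_both_isZero (hC n hn).isZero_homology
      (hC' (n + 1) (by omega)).isZero_homology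
  -- `Z⁰(C) → Z⁰(Q)` is epi
  have hepi : Epi (HomologicalComplex.cyclesMap q 0) := by
    have h3 := hS.homology_exact₃ 0 1 (by simp)
    have hz : hS.δ 0 1 (by simp) = 0 := (hC' 1 (by omega)).isZero_homology.eq_of_tgt _ _
    haveI : Epi (HomologicalComplex.homologyMap q 0) := h3.epi_f hz
    rw [cyclesMap_eq]
    unfold gam
    infer_instance
  -- the map from the quotient
  have wQ : jC ≫ f ≫ πI = 0 := by
    rw [← Category.assoc, hf1, Category.assoc, w0I, comp_zero]
  let φQ : Q ⟶ I'' := cokernel.desc jC (f ≫ πI) wQ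
  have hqφ : q ≫ φQ = f ≫ πI := cokernel.π_desc _ _ _
  obtain ⟨f'', hf''1, hf''2⟩ := exists_extension u hu hQ hC'' injI'' φQ (gam g'') (by
    rw [← cancel_epi (HomologicalComplex.cyclesMap q 0), ← Category.assoc,
      ← HomologicalComplex.cyclesMap_comp, ← HomologicalComplex.cyclesMap_comp, hqu, hqφ,
      HomologicalComplex.cyclesMap_comp, hfc]
    exact gam_comm πC πI g g'' hg2)
  refine ⟨f', f, f'', hf1, ?_, homologyMap_eq_of_cycles f' g' hf',
    homologyMap_eq_of_cycles f g hf2, homologyMap_eq_of_cycles f'' g'' hf''2⟩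
  rw [← hqu, Category.assoc, hf''1, hqφ]

end Groth.Agent.Helper5.HS13375
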