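import Mathlib
import Groth.Agent.Lib.Helper5.InvFun2

/-! Roots of one-units in power series rings via Hensel. -/

set_option autoImplicit false
set_option linter.style.haveILetI false

namespace Groth.Agent.Helper5.InvFun

open MvPowerSeries

variable {R : Type*} [CommRing R] {n : ℕ}

/-- `k`-th roots of one-units of `R[[x]]` when `k` is invertible in `R`. -/
lemma exists_root_one_add (k : ℕ) (hk : IsUnit (k : R)) (m : MvPowerSeries (Fin n) R)
    (hm : constantCoeff m = 0) :
    ∃ v : MvPowerSeries (Fin n) R, v ^ k = 1 + m ∧ constantCoeff v = 1 := by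
  have hens : HenselianRing (MvPowerSeries (Fin n) R) (XI R n) := inferInstance
  by_cases hk0 : k = 0
  · subst hk0
    simp only [Nat.cast_zero, isUnit_zero_iff] at hk
    haveI : Subsingleton R := subsingleton_of_zero_eq_one hk
    haveI : Subsingleton (MvPowerSeries (Fin n) R) :=
      ⟨fun a b => by ext d; exact Subsingleton.elim _ _⟩
    exact ⟨1, Subsingleton.elim _ _, Subsingleton.elim _ _⟩
  · obtain ⟨v, hroot, hv⟩ := hens.is_henselian
      (Polynomial.X ^ k - Polynomial.C (1 + m)) (Polynomial.monic_X_pow_sub_C _ hk0) 1
      (by
        simp only [Polynomial.eval_sub, Polynomial.eval_pow, Polynomial.eval_X, one_pow,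
          Polynomial.eval_C]
        apply mem_XI_of_constantCoeff
        simp [hm])
      (by
        simp only [Polynomial.derivative_sub, Polynomial.derivative_X_pow, Polynomial.derivative_C,
          sub_zero, Polynomial.eval_mul, Polynomial.eval_C, Polynomial.eval_pow,
          Polynomial.eval_X, one_pow, mul_one]
        apply IsUnit.map
        have : ((k : ℕ) : MvPowerSeries (Fin n) R) = C ((k : ℕ) : R) := (map_natCast C k).symm
        rw [this]
        exact hk.map C)
    refine ⟨v, ?_, ?_⟩
    · rw [Polynomial.IsRoot] at hroot
      simp only [Polynomial.eval_sub, Polynomial.eval_pow, Polynomial.eval_X,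
        Polynomial.eval_C] at hroot
      exact sub_eq_zero.mp hroot
    · have := constantCoeff_of_mem_XI hv
      rw [map_sub, map_one, sub_eq_zero] at this
      exact this

end Groth.Agent.Helper5.InvFun
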