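import Mathlib.RingTheory.Ideal.KrullsHeightTheorem
import Mathlib.AlgebraicGeometry.Noetherian
import Mathlib.Topology.JacobsonSpace
import Mathlib.Topology.LocallyClosed

/-!
# `X ∖ Y` is Jacobson when every nonempty closed subset of `X` meets `Y`
-/

open AlgebraicGeometry

universe u

namespace Groth.Agent.Helper5.JP

section Algebra

theorem height_ge_two_absurd {D : Type*} [CommRing D] [IsDomain D] [IsNoetherianRing D]
    (q' q : Ideal D) [q'.IsPrime] [q.IsPrime] (h0 : q' ≠ ⊥) (hlt : q' < q) (hq : q.height ≤ 1) :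
    False := by
  have h1 : (⊥ : Ideal D).height < q'.height :=
    Ideal.height_strict_mono_of_isPrime_of_isPrime (bot_lt_iff_ne_bot.mpr h0)
  have h2 : q'.height < q.height := Ideal.height_strict_mono_of_isPrime_of_isPrime hlt
  have h3 : (1 : ℕ∞) ≤ q'.height := Order.one_le_iff_pos.mpr (lt_of_le_of_lt zero_le h1)
  exact absurd (lt_of_le_of_lt h3 h2) (not_lt.mpr hq)

theorem exists_prime_notMem_domain (D : Type*) [CommRing D] [IsDomain D] [IsNoetherianRing D]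
    (p₁ p₂ : Ideal D) [p₁.IsPrime] [p₂.IsPrime] (h1 : p₁ ≠ ⊥) (h12 : p₁ < p₂) (g : D)
    (hg : g ≠ 0) : ∃ q : Ideal D, q.IsPrime ∧ q ≠ ⊥ ∧ q ≤ p₂ ∧ g ∉ q := by
  classical
  by_contra H
  push Not at H
  have hgp₁ : g ∈ p₁ := H p₁ inferInstance h1 h12.le
  have hfin := Ideal.finite_minimalPrimes_of_isNoetherianRing D (Ideal.span {g})
  have hht : ∀ q ∈ (Ideal.span {g}).minimalPrimes, q.height ≤ 1 := fun q hq =>
    Ideal.height_le_one_of_isPrincipal_of_mem_minimalPrimes (Ideal.span {g}) q hq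
  have havoid : ¬ ((p₂ : Set D) ⊆ ⋃ q ∈ (hfin.toFinset : Set (Ideal D)), (q : Set D)) := by
    intro hsub
    obtain ⟨q, hq, hp₂q⟩ := (Ideal.subset_union_prime (f := id) ⊥ ⊥
      (fun i hi _ _ => (hfin.mem_toFinset.mp hi).1.1)).mp hsub
    have hq' := hfin.mem_toFinset.mp hq
    haveI := hq'.1.1
    exact height_ge_two_absurd p₁ q h1 (lt_of_lt_of_le h12 hp₂q) (hht q hq')
  obtain ⟨h, hhp₂, hh⟩ := Set.not_subset.mp havoid
  have hh' : ∀ q ∈ (Ideal.span {g}).minimalPrimes, h ∉ q := by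
    intro q hq hhq
    apply hh
    simp only [Set.mem_iUnion]
    exact ⟨q, Finset.mem_coe.mpr (hfin.mem_toFinset.mpr hq), hhq⟩
  obtain ⟨q₀, hq₀, -⟩ := Ideal.exists_minimalPrimes_le
    (show Ideal.span {g} ≤ p₁ from (Ideal.span_singleton_le_iff_mem _).mpr hgp₁)
  have hh0 : h ≠ 0 := by
    rintro rfl
    exact hh' q₀ hq₀ (zero_mem _)
  obtain ⟨q', hq', hq'p₂⟩ := Ideal.exists_minimalPrimes_le
    (show Ideal.span {h} ≤ p₂ from (Ideal.span_singleton_le_iff_mem _).mpr hhp₂)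
  haveI := hq'.1.1
  have hhq' : h ∈ q' := hq'.1.2 (Ideal.mem_span_singleton_self h)
  have hq'0 : q' ≠ ⊥ := by
    rintro rfl
    exact hh0 (by simpa using hhq')
  have hgq' : g ∈ q' := H q' inferInstance hq'0 hq'p₂
  obtain ⟨q, hq, hqq'⟩ := Ideal.exists_minimalPrimes_le
    (show Ideal.span {g} ≤ q' from (Ideal.span_singleton_le_iff_mem _).mpr hgq')
  haveI := hq.1.1
  have hq0 : q ≠ ⊥ := by
    rintro rfl
    have : g ∈ (⊥ : Ideal D) := hq.1.2 (Ideal.mem_span_singleton_self g)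
    exact hg (by simpa using this)
  rcases eq_or_lt_of_le hqq' with heq | hlt
  · exact hh' q hq (heq ▸ hhq')
  · exact height_ge_two_absurd q q' hq0 hlt
      (Ideal.height_le_one_of_isPrincipal_of_mem_minimalPrimes (Ideal.span {h}) q' hq')

theorem exists_prime_notMem (R : Type*) [CommRing R] [IsNoetherianRing R]
    (P P₁ P₂ : Ideal R) [P.IsPrime] [P₁.IsPrime] [P₂.IsPrime] (h01 : P < P₁) (h12 : P₁ < P₂)
    (g : R) (hg : g ∉ P) : ∃ Q : Ideal R, Q.IsPrime ∧ P < Q ∧ Q ≤ P₂ ∧ g ∉ Q := by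
  have hsurj : Function.Surjective (Ideal.Quotient.mk P) := Ideal.Quotient.mk_surjective
  have hker : RingHom.ker (Ideal.Quotient.mk P) = P := Ideal.mk_ker
  haveI : (P₁.map (Ideal.Quotient.mk P)).IsPrime :=
    Ideal.map_isPrime_of_surjective hsurj (by rw [hker]; exact h01.le)
  haveI : (P₂.map (Ideal.Quotient.mk P)).IsPrime :=
    Ideal.map_isPrime_of_surjective hsurj (by rw [hker]; exact (h01.trans h12).le)
  have hc1 : (P₁.map (Ideal.Quotient.mk P)).comap (Ideal.Quotient.mk P) = P₁ :=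
    Ideal.comap_map_mk h01.le
  have hc2 : (P₂.map (Ideal.Quotient.mk P)).comap (Ideal.Quotient.mk P) = P₂ :=
    Ideal.comap_map_mk (h01.trans h12).le
  have h1 : P₁.map (Ideal.Quotient.mk P) ≠ ⊥ := by
    intro h
    rw [h, ← RingHom.ker_eq_comap_bot, hker] at hc1
    exact h01.ne hc1
  have h12' : P₁.map (Ideal.Quotient.mk P) < P₂.map (Ideal.Quotient.mk P) := by
    refine lt_of_le_of_ne (Ideal.map_mono h12.le) ?_
    intro h
    rw [h, hc2] at hc1
    exact h12.ne hc1.symm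
  have hg' : Ideal.Quotient.mk P g ≠ 0 := fun h => hg (Ideal.Quotient.eq_zero_iff_mem.mp h)
  obtain ⟨q, hqp, hq0, hq2, hgq⟩ := exists_prime_notMem_domain (R ⧸ P) _ _ h1 h12' _ hg'
  refine ⟨q.comap (Ideal.Quotient.mk P), inferInstance, ?_, ?_, hgq⟩
  · refine lt_of_le_of_ne ?_ ?_
    · intro a ha
      rw [Ideal.mem_comap, Ideal.Quotient.eq_zero_iff_mem.mpr ha]
      exact zero_mem _
    · intro h
      apply hq0
      rw [← Ideal.map_comap_of_surjective _ hsurj q, ← h, Ideal.map_quotient_self]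
  · rw [← hc2]
    exact Ideal.comap_mono hq2

end Algebra

section Scheme

variable {X : Scheme.{u}}

theorem primeIdealOf_le_iff {U : X.Opens} (hU : IsAffineOpen U) (a b : U) :
    hU.primeIdealOf a ≤ hU.primeIdealOf b ↔ a.1 ⤳ b.1 := by
  have h1 : Topology.IsInducing hU.fromSpec.base := hU.fromSpec.isOpenEmbedding.isInducing
  rw [PrimeSpectrum.le_iff_specializes]
  refine (h1.specializes_iff (x := hU.primeIdealOf a) (y := hU.primeIdealOf b)).symm.trans ?_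
  rw [hU.fromSpec_primeIdealOf, hU.fromSpec_primeIdealOf]

theorem exists_maximal_point {U : X.Opens} (hU : IsAffineOpen U) [IsNoetherianRing Γ(X, U)]
    (S : Set X) (hS : (S ∩ U).Nonempty) :
    ∃ t ∈ S ∩ U, ∀ t' ∈ S ∩ (U : Set X), t ⤳ t' → t' = t := by
  obtain ⟨w, hwS, hwU⟩ := hS
  let 𝒮 : Set (Ideal Γ(X, U)) := {I | ∃ t : U, t.1 ∈ S ∧ I = (hU.primeIdealOf t).asIdeal}
  have hne : 𝒮.Nonempty := ⟨_, ⟨w, hwU⟩, hwS, rfl⟩
  obtain ⟨I, ⟨t, htS, rfl⟩, hmax⟩ := (wellFounded_gt (α := Ideal Γ(X, U))).has_min 𝒮 hne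
  refine ⟨t.1, ⟨htS, t.2⟩, fun t' ht' hspec => ?_⟩
  have hle : hU.primeIdealOf t ≤ hU.primeIdealOf ⟨t', ht'.2⟩ :=
    (primeIdealOf_le_iff hU t ⟨t', ht'.2⟩).mpr hspec
  have hnlt := hmax _ ⟨⟨t', ht'.2⟩, ht'.1, rfl⟩
  have heq : (hU.primeIdealOf t).asIdeal = (hU.primeIdealOf ⟨t', ht'.2⟩).asIdeal :=
    eq_of_le_of_not_lt hle hnlt
  have heq' : hU.primeIdealOf t = hU.primeIdealOf ⟨t', ht'.2⟩ := PrimeSpectrum.ext heq
  have := congrArg hU.fromSpec.base heq'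
  rw [hU.fromSpec_primeIdealOf, hU.fromSpec_primeIdealOf] at this
  exact this.symm

theorem jacobsonSpace_compl (X : Scheme.{u}) [IsLocallyNoetherian X] (Y : Set X)
    (hY : IsClosed Y) (hmeet : ∀ Z : Set X, IsClosed Z → Z.Nonempty → (Z ∩ Y).Nonempty) :
    JacobsonSpace ↥(Yᶜ) := by
  rw [jacobsonSpace_iff_locallyClosed]
  intro Z hZne hZlc
  have hZ'lc : IsLocallyClosed (Subtype.val '' Z : Set X) := by
    refine hZlc.image Topology.IsEmbedding.subtypeVal.isInducing ?_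
    rw [Subtype.range_coe]
    exact hY.isOpen_compl.isLocallyClosed
  obtain ⟨O, C, hO, hC, hZ'⟩ := hZ'lc
  obtain ⟨w, hw⟩ := hZne
  obtain ⟨U, hU, hwU, -⟩ := exists_isAffineOpen_mem_and_subset (x := w.1)
    (U := (⊤ : X.Opens)) trivial
  haveI : IsNoetherianRing Γ(X, U) := IsLocallyNoetherian.component_noetherian ⟨U, hU⟩
  obtain ⟨t₀, ⟨ht₀Z, ht₀U⟩, hmax⟩ := exists_maximal_point hU (Subtype.val '' Z)
    ⟨w.1, ⟨w, hw, rfl⟩, hwU⟩
  obtain ⟨z₀, hz₀, rfl⟩ := ht₀Z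
  refine ⟨z₀, hz₀, ?_⟩
  rw [mem_closedPoints_iff]
  apply isClosed_of_closure_subset
  intro z' hz'
  rw [← specializes_iff_mem_closure, subtype_specializes_iff] at hz'
  rw [Set.mem_singleton_iff]
  by_contra hne
  have hne' : z'.1 ≠ z₀.1 := fun h => hne (Subtype.ext h)
  -- a point of `Y` in the closure of `z'`
  obtain ⟨y', hy'cl, hy'Y⟩ := hmeet (closure {z'.1}) isClosed_closure
    ⟨z'.1, subset_closure rfl⟩
  rw [← specializes_iff_mem_closure] at hy'cl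
  obtain ⟨U', hU', hy'U', -⟩ := exists_isAffineOpen_mem_and_subset (x := y')
    (U := (⊤ : X.Opens)) trivial
  haveI : IsNoetherianRing Γ(X, U') := IsLocallyNoetherian.component_noetherian ⟨U', hU'⟩
  have hz'U' : z'.1 ∈ U' := hy'cl.mem_open U'.2 hy'U'
  have hz₀U' : z₀.1 ∈ U' := hz'.mem_open U'.2 hz'U'
  set P₀ := hU'.primeIdealOf ⟨z₀.1, hz₀U'⟩ with hP₀
  set P₁ := hU'.primeIdealOf ⟨z'.1, hz'U'⟩ with hP₁
  set P₂ := hU'.primeIdealOf ⟨y', hy'U'⟩ with hP₂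
  have h01 : P₀.asIdeal < P₁.asIdeal := by
    refine lt_of_le_of_ne ((primeIdealOf_le_iff hU' _ _).mpr hz') ?_
    intro h
    have h' : P₀ = P₁ := PrimeSpectrum.ext h
    have := congrArg hU'.fromSpec.base h'
    rw [hP₀, hP₁, hU'.fromSpec_primeIdealOf, hU'.fromSpec_primeIdealOf] at this
    exact hne' this.symm
  have h12 : P₁.asIdeal < P₂.asIdeal := by
    refine lt_of_le_of_ne ((primeIdealOf_le_iff hU' _ _).mpr hy'cl) ?_
    intro h
    have h' : P₁ = P₂ := PrimeSpectrum.ext h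
    have := congrArg hU'.fromSpec.base h'
    rw [hP₁, hP₂, hU'.fromSpec_primeIdealOf, hU'.fromSpec_primeIdealOf] at this
    exact z'.2 (this ▸ hy'Y)
  -- a basic open neighbourhood of `P₀`
  have hz₀O : z₀.1 ∈ O := by
    have : z₀.1 ∈ Subtype.val '' Z := ⟨z₀, hz₀, rfl⟩
    rw [hZ'] at this
    exact this.1
  have hz₀C : z₀.1 ∈ C := by
    have : z₀.1 ∈ Subtype.val '' Z := ⟨z₀, hz₀, rfl⟩
    rw [hZ'] at this
    exact this.2
  have hopen : IsOpen (hU'.fromSpec.base ⁻¹' (O ∩ U)) :=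
    (hO.inter U.2).preimage hU'.fromSpec.continuous
  have hP₀mem : P₀ ∈ hU'.fromSpec.base ⁻¹' (O ∩ U) := by
    change hU'.fromSpec.base P₀ ∈ O ∩ U
    rw [hP₀, hU'.fromSpec_primeIdealOf]
    exact ⟨hz₀O, ht₀U⟩
  obtain ⟨_, ⟨g, rfl⟩, hgP₀, hgsub⟩ :=
    PrimeSpectrum.isTopologicalBasis_basic_opens.exists_subset_of_mem_open hP₀mem hopen
  have hg : g ∉ P₀.asIdeal := hgP₀
  obtain ⟨Q, hQ, hPQ, hQ2, hgQ⟩ := exists_prime_notMem _ P₀.asIdeal P₁.asIdeal P₂.asIdeal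
    h01 h12 g hg
  let Q' : PrimeSpectrum Γ(X, U') := ⟨Q, hQ⟩
  set t'' := hU'.fromSpec.base Q' with ht''
  have ht''OU : t'' ∈ O ∩ U := hgsub (show Q' ∈ (PrimeSpectrum.basicOpen g : Set _) from hgQ)
  have hspec : z₀.1 ⤳ t'' := by
    have h1 : Topology.IsInducing hU'.fromSpec.base :=
      hU'.fromSpec.isOpenEmbedding.isInducing
    have h2 : P₀ ⤳ Q' := (PrimeSpectrum.le_iff_specializes P₀ Q').mp hPQ.le
    have h3 := (h1.specializes_iff (x := P₀) (y := Q')).mpr h2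
    rw [hP₀, hU'.fromSpec_primeIdealOf] at h3
    exact h3
  have ht''C : t'' ∈ C := hspec.mem_closed hC hz₀C
  have ht''Z : t'' ∈ Subtype.val '' Z := by
    rw [hZ']; exact ⟨ht''OU.1, ht''C⟩
  have := hmax t'' ⟨ht''Z, ht''OU.2⟩ hspec
  -- so `Q' = P₀`, contradiction
  have h4 : hU'.fromSpec.base Q' = hU'.fromSpec.base P₀ := by
    rw [← ht'', this, hP₀, hU'.fromSpec_primeIdealOf]
  have h5 : Q' = P₀ := hU'.fromSpec.isOpenEmbedding.injective h4
  exact hPQ.ne (congrArg PrimeSpectrum.asIdeal h5).symm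

end Scheme

end Groth.Agent.Helper5.JP
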