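import Groth.Agent.Lib.Helper5.K0Tr
import Groth.Agent.Lib.Helper5.K0Res1
import Mathlib.Algebra.Homology.DerivedCategory.TStructure
import Mathlib.Algebra.Homology.DerivedCategory.HomologySequence
import Mathlib.Algebra.Homology.DerivedCategory.SingleTriangle
import Mathlib.Algebra.Homology.DerivedCategory.FullyFaithful
import Mathlib.Algebra.BigOperators.Finprod
import Mathlib.Data.Int.Interval
import Mathlib.Order.Interval.Finset.Defs
import Mathlib.CategoryTheory.ObjectProperty.Kernels
import Mathlib.CategoryTheory.ObjectProperty.Extensions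

/-!
# `K₀(P) ≅ K₀(D^b_P(C))`: the Euler characteristic
-/

set_option autoImplicit false
set_option linter.style.haveILetI false
set_option linter.unusedSectionVars false

open CategoryTheory CategoryTheory.Limits CategoryTheory.Pretriangulated ZeroObject

universe w v u

namespace Groth.Agent.Helper5.K0Der

variable {C : Type u} [Category.{v} C] [Abelian C] [HasDerivedCategory.{w} C]
  (P : ObjectProperty C)

/-- The property cutting out `D^b_P(C)`. -/
def Qp : ObjectProperty (DerivedCategory C) := fun K =>
  (∀ i : ℤ, P ((DerivedCategory.homologyFunctor C i).obj K)) ∧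
    ∃ a b : ℤ, (DerivedCategory.TStructure.t (C := C)).IsGE K a ∧
      (DerivedCategory.TStructure.t (C := C)).IsLE K b

theorem clSub_isZero' {X : C} (hX : IsZero X) : KZero.clSub P X = 0 := by
  by_cases h : P X
  · exact KZ.clSub_isZero P hX h
  · exact dif_neg h

theorem finite_support_of_bdd {G : Type*} [Zero G] (f : ℤ → G) (a b : ℤ)
    (ha : ∀ i, i < a → f i = 0) (hb : ∀ i, b < i → f i = 0) : (Function.support f).Finite := by
  refine (Set.finite_Icc a b).subset ?_
  intro i hi
  rw [Function.mem_support] at hi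
  constructor
  · by_contra h
    exact hi (ha i (not_le.1 h))
  · by_contra h
    exact hi (hb i (not_le.1 h))

variable [P.IsClosedUnderIsomorphisms] [P.ContainsZero] [P.IsClosedUnderKernels]

theorem clSub_exact (S : ShortComplex C) (hS : S.Exact) (h₁ : P S.X₁) (h₂ : P S.X₂)
    (h₃ : P S.X₃) :
    KZero.clSub P S.X₁ = KZero.clSub P (kernel S.f) + KZero.clSub P (kernel S.g) := by
  have hk1 : P (kernel S.f) := P.prop_kernel S.f h₁ h₂
  have hk2 : P (kernel S.g) := P.prop_kernel S.g h₂ h₃
  haveI : Epi (kernel.lift S.g S.f S.zero) := S.exact_iff_epi_kernel_lift.1 hS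
  have w : kernel.ι S.f ≫ kernel.lift S.g S.f S.zero = 0 := by
    rw [← cancel_mono (kernel.ι S.g)]
    simp
  have hk : IsLimit (KernelFork.ofι (kernel.ι S.f) w) :=
    isKernelOfComp (kernel.ι S.g) S.f (kernelIsKernel S.f) w (kernel.lift_ι _ _ _)
  exact KZ.clSub_shortExact P _ (KRes.shortExact_of_isKernel _ _ w hk) hk1 h₁ hk2

/-- The Euler characteristic of an object of the derived category. -/
noncomputable def chi (K : DerivedCategory C) : KZero.K0sub P :=
  ∑ᶠ i : ℤ, ((i.negOnePow : ℤˣ) : ℤ) • KZero.clSub P ((DerivedCategory.homologyFunctor C i).obj K)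

theorem chi_support (K : DerivedCategory C) (hK : Qp P K) :
    (Function.support (fun i : ℤ => ((i.negOnePow : ℤˣ) : ℤ) •
      KZero.clSub P ((DerivedCategory.homologyFunctor C i).obj K))).Finite := by
  obtain ⟨_, a, b, ha, hb⟩ := hK
  refine finite_support_of_bdd _ a b ?_ ?_
  · intro i hi
    rw [clSub_isZero' P (DerivedCategory.isZero_of_isGE K a i hi), smul_zero]
  · intro i hi
    rw [clSub_isZero' P (DerivedCategory.isZero_of_isLE K b i hi), smul_zero]

open DerivedCategory in
theorem chi_triangle (T : Triangle (DerivedCategory C)) (hT : T ∈ distTriang (DerivedCategory C))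
    (h₁ : Qp P T.obj₁) (h₂ : Qp P T.obj₂) (h₃ : Qp P T.obj₃) :
    chi P T.obj₂ = chi P T.obj₁ + chi P T.obj₃ := by
  -- classes of kernels
  let k : ℤ → KZero.K0sub P := fun i => KZero.clSub P (kernel ((homologyFunctor C i).map T.mor₁))
  let u : ℤ → KZero.K0sub P := fun i => ((i.negOnePow : ℤˣ) : ℤ) • k i
  have hu : (Function.support u).Finite := by
    obtain ⟨_, a, b, ha, hb⟩ := h₁
    refine finite_support_of_bdd _ a b ?_ ?_
    · intro i hi
      have hz : IsZero (kernel ((homologyFunctor C i).map T.mor₁)) :=
        IsZero.of_mono (kernel.ι _) (DerivedCategory.isZero_of_isGE T.obj₁ a i hi)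
      simp only [u, k]
      rw [clSub_isZero' P hz, smul_zero]
    · intro i hi
      have hz : IsZero (kernel ((homologyFunctor C i).map T.mor₁)) :=
        IsZero.of_mono (kernel.ι _) (DerivedCategory.isZero_of_isLE T.obj₁ b i hi)
      simp only [u, k]
      rw [clSub_isZero' P hz, smul_zero]
  have hu' : (Function.support (fun i => u (i + 1))).Finite := by
    have : (fun i => u (i + 1)) = u ∘ (Equiv.addRight (1 : ℤ)) := rfl
    rw [this]
    exact hu.preimage (Equiv.injective _).injOn
  have key : ∀ i : ℤ, ((i.negOnePow : ℤˣ) : ℤ) •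
        KZero.clSub P ((homologyFunctor C i).obj T.obj₂) =
      (((i.negOnePow : ℤˣ) : ℤ) • KZero.clSub P ((homologyFunctor C i).obj T.obj₁) +
        ((i.negOnePow : ℤˣ) : ℤ) • KZero.clSub P ((homologyFunctor C i).obj T.obj₃)) +
        (u (i + 1) - u i) := by
    intro i
    have e1 := clSub_exact P _ (HomologySequence.exact₂ T hT i) (h₁.1 i) (h₂.1 i) (h₃.1 i)
    have e2 := clSub_exact P _ (HomologySequence.exact₃ T hT i (i + 1) rfl)
      (h₂.1 i) (h₃.1 i) (h₁.1 (i + 1))
    have e3 := clSub_exact P _ (HomologySequence.exact₁ T hT i (i + 1) rfl)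
      (h₃.1 i) (h₁.1 (i + 1)) (h₂.1 (i + 1))
    dsimp only at e1 e2 e3
    simp only [u, k]
    rw [e1, e2, e3, Int.negOnePow_succ]
    simp only [Units.val_neg, neg_smul, smul_add]
    abel
  unfold chi
  rw [finsum_congr key, finsum_add_distrib, finsum_add_distrib (chi_support P _ h₁)
    (chi_support P _ h₃), finsum_sub_distrib hu' hu]
  · have : ∑ᶠ i : ℤ, u (i + 1) = ∑ᶠ i : ℤ, u i := finsum_comp_equiv (Equiv.addRight (1 : ℤ))
    rw [this, sub_self, add_zero]
  · exact (chi_support P _ h₁).union (chi_support P _ h₃) |>.subset (by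
      intro i hi
      rw [Function.mem_support] at hi
      by_contra h
      simp only [Set.mem_union, Function.mem_support, not_or, not_not] at h
      exact hi (by rw [h.1, h.2, add_zero]))
  · exact (hu'.union hu).subset (by
      intro i hi
      rw [Function.mem_support] at hi
      by_contra h
      simp only [Set.mem_union, Function.mem_support, not_or, not_not] at h
      exact hi (by rw [h.1, h.2, sub_self]))

end Groth.Agent.Helper5.K0Der
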