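import Groth.Agent.Lib.Helper5.K0Der2

/-!
# `K₀(A) ≅ K₀(D^b(A))`
-/

set_option autoImplicit false
set_option linter.style.haveILetI false
set_option linter.unusedSectionVars false

open CategoryTheory CategoryTheory.Limits CategoryTheory.Pretriangulated ZeroObject

universe w v u

namespace Groth.Agent.Helper5.K0Der

open DerivedCategory

variable (A : Type u) [Category.{v} A] [Abelian A]

theorem cl_shortExact (S : ShortComplex A) (hS : S.ShortExact) :
    KZero.cl S.X₂ = KZero.cl S.X₁ + KZero.cl S.X₃ := by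
  have h : (FreeAbelianGroup.of S.X₂ - FreeAbelianGroup.of S.X₁ -
      FreeAbelianGroup.of S.X₃) ∈ KZero.relAb A :=
    AddSubgroup.subset_closure ⟨S, hS, rfl⟩
  have h2 := (QuotientAddGroup.eq_zero_iff _).mpr h
  simp only [QuotientAddGroup.mk_sub] at h2
  rw [sub_sub, sub_eq_zero] at h2
  exact h2

instance : (⊤ : ObjectProperty A).IsClosedUnderKernels where
  kernels_le := fun _ _ => trivial

noncomputable def toSub : KZero.K0 A →+ KZero.K0sub (⊤ : ObjectProperty A) :=
  QuotientAddGroup.lift _
    (FreeAbelianGroup.lift (fun X => KZero.clSub (⊤ : ObjectProperty A) X)) (by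
    intro x hx
    have : KZero.relAb A ≤
        (FreeAbelianGroup.lift (fun X => KZero.clSub (⊤ : ObjectProperty A) X)).ker := by
      unfold KZero.relAb
      rw [AddSubgroup.closure_le]
      rintro _ ⟨S, hS, rfl⟩
      simp only [SetLike.mem_coe, AddMonoidHom.mem_ker, map_sub, FreeAbelianGroup.lift_apply_of]
      rw [KZ.clSub_shortExact ⊤ S hS trivial trivial trivial]
      abel
    exact this hx)

theorem toSub_cl (X : A) : toSub A (KZero.cl X) = KZero.clSub ⊤ X := by
  simp [toSub, KZero.cl]

noncomputable def ofSub : KZero.K0sub (⊤ : ObjectProperty A) →+ KZero.K0 A :=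
  KZ.lift ⊤ (fun x => KZero.cl x.1) (fun S _ _ _ hS => cl_shortExact A S hS)

theorem ofSub_clSub (X : A) : ofSub A (KZero.clSub ⊤ X) = KZero.cl X :=
  KZ.lift_clSub ⊤ _ _ X trivial

theorem ofSub_toSub (x : KZero.K0 A) : ofSub A (toSub A x) = x := by
  induction x using QuotientAddGroup.induction_on with
  | H z =>
    induction z using FreeAbelianGroup.induction_on with
    | zero => simp
    | of X =>
      change ofSub A (toSub A (KZero.cl X)) = KZero.cl X
      rw [toSub_cl, ofSub_clSub]
    | neg X hX =>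
      have : ofSub A (toSub A (KZero.cl X)) = KZero.cl X := by rw [toSub_cl, ofSub_clSub]
      rw [QuotientAddGroup.mk_neg, map_neg, map_neg]
      exact congrArg _ this
    | add x y hx hy =>
      rw [QuotientAddGroup.mk_add, map_add, map_add, hx, hy]

theorem toSub_ofSub (x : KZero.K0sub (⊤ : ObjectProperty A)) : toSub A (ofSub A x) = x := by
  induction x using KZ.induction_on ⊤ with
  | zero => simp
  | of X hX => rw [ofSub_clSub, toSub_cl]
  | neg x hx => rw [map_neg, map_neg, hx]
  | add x y hx hy => rw [map_add, map_add, hx, hy]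

noncomputable def equivSub : KZero.K0 A ≃+ KZero.K0sub (⊤ : ObjectProperty A) :=
  { toSub A with
    invFun := ofSub A
    left_inv := ofSub_toSub A
    right_inv := toSub_ofSub A }

theorem equivSub_cl (X : A) : equivSub A (KZero.cl X) = KZero.clSub ⊤ X := toSub_cl A X

variable [HasDerivedCategory.{w} A]

theorem main' : ∃ φ : KZero.K0 A ≃+
      KZero.K0tr (fun X : DerivedCategory A => ∃ a b : ℤ, X.IsGE a ∧ X.IsLE b),
    ∀ X : A, φ (KZero.cl X) =
      KZero.clTr (fun X : DerivedCategory A => ∃ a b : ℤ, X.IsGE a ∧ X.IsLE b)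
        ((DerivedCategory.singleFunctor A 0).obj X) := by
  have hQ : Qp (⊤ : ObjectProperty A) =
      (fun X : DerivedCategory A => ∃ a b : ℤ, X.IsGE a ∧ X.IsLE b) := by
    funext K
    exact propext ⟨fun h => h.2, fun h => ⟨fun _ => trivial, h⟩⟩
  rw [← hQ]
  obtain ⟨φ, hφ⟩ := main (⊤ : ObjectProperty A)
  refine ⟨(equivSub A).trans φ, fun X => ?_⟩
  rw [AddEquiv.trans_apply, equivSub_cl, hφ X trivial]

end Groth.Agent.Helper5.K0Der
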