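import Groth.Agent.Lib.Helper5.K0Der2
import Groth.Prelude.Def_Koszul
import Mathlib.RingTheory.Regular.RegularSequence
import Mathlib.Algebra.Homology.DerivedCategory.Linear
import Mathlib.Algebra.Category.ModuleCat.Abelian
import Mathlib.Algebra.Homology.ShortComplex.ModuleCat

/-!
# The Koszul complex of a regular sequence (in a Noetherian local ring) resolves the quotient
-/

set_option autoImplicit false
set_option linter.style.haveILetI false
set_option linter.unusedSectionVars false

open CategoryTheory CategoryTheory.Limits CategoryTheory.Pretriangulated ZeroObject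

universe u

namespace Groth.Agent.Helper5.K0Kos

open DerivedCategory

attribute [local instance] HasDerivedCategory.standard

variable {R : Type u} [CommRing R]

/-- the module `R/I` -/
abbrev qM (I : Ideal R) : ModuleCat.{u} R := ModuleCat.of R (R ⧸ I)

theorem le_span_sup (I : Ideal R) (f : R) : I ≤ Ideal.span {f} ⊔ I := le_sup_right

/-- the projection `R/I → R/((f) + I)` -/
noncomputable def qπ (I : Ideal R) (f : R) : qM I ⟶ qM (Ideal.span {f} ⊔ I) :=
  ModuleCat.ofHom (Submodule.factor (le_span_sup I f))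

theorem qπ_mk (I : Ideal R) (f : R) (x : R) :
    (qπ I f).hom (Submodule.Quotient.mk x) = Submodule.Quotient.mk x :=
  Submodule.factor_mk (le_span_sup I f) x

theorem smul_qπ (I : Ideal R) (f : R) : (f • 𝟙 (qM I)) ≫ qπ I f = 0 := by
  apply ModuleCat.hom_ext
  apply LinearMap.ext
  intro x
  obtain ⟨x, rfl⟩ := Submodule.mkQ_surjective _ x
  change (qπ I f).hom (f • (Submodule.Quotient.mk x : R ⧸ I)) = 0
  rw [← Submodule.Quotient.mk_smul, qπ_mk, Submodule.Quotient.mk_eq_zero]
  exact Ideal.mem_sup_left (Ideal.mem_span_singleton.2 ⟨x, by rw [smul_eq_mul]⟩)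

/-- `0 → R/I → R/I → R/((f)+I) → 0` -/
noncomputable def sesQ (I : Ideal R) (f : R) : ShortComplex (ModuleCat.{u} R) :=
  ShortComplex.mk (f • 𝟙 (qM I)) (qπ I f) (smul_qπ I f)

theorem sesQ_shortExact (I : Ideal R) (f : R) (hf : IsSMulRegular (R ⧸ I) f) :
    (sesQ I f).ShortExact := by
  refine ShortComplex.ShortExact.mk' ?_ ?_ ?_
  · rw [ShortComplex.moduleCat_exact_iff]
    intro x hx
    obtain ⟨x, rfl⟩ := Submodule.mkQ_surjective _ x
    change (qπ I f).hom (Submodule.Quotient.mk x) = 0 at hx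
    rw [qπ_mk, Submodule.Quotient.mk_eq_zero] at hx
    obtain ⟨a, b, hb, hab⟩ := Ideal.mem_span_singleton_sup.1 hx
    refine ⟨(Submodule.Quotient.mk a : R ⧸ I), ?_⟩
    change f • (Submodule.Quotient.mk a : R ⧸ I) = Submodule.Quotient.mk x
    rw [← Submodule.Quotient.mk_smul, eq_comm, Submodule.Quotient.eq, ← hab, smul_eq_mul]
    have : a * f + b - f * a = b := by ring
    rw [this]
    exact hb
  · rw [ModuleCat.mono_iff_injective]
    intro x y hxy
    exact hf hxy
  · rw [ModuleCat.epi_iff_surjective]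
    intro y
    obtain ⟨y, rfl⟩ := Submodule.mkQ_surjective _ y
    exact ⟨Submodule.Quotient.mk y, qπ_mk I f y⟩

/-- The cone of multiplication by `f` on a complex quasi-isomorphic to `R/I`, `f` regular on `R/I`. -/
theorem cone_smul_iso (K : CochainComplex (ModuleCat.{u} R) ℤ) (I : Ideal R) (f : R)
    (hf : IsSMulRegular (R ⧸ I) f)
    (e : Q.obj K ≅ (singleFunctor (ModuleCat.{u} R) 0).obj (qM I)) :
    Nonempty (Q.obj (CochainComplex.mappingCone (f • 𝟙 K)) ≅
      (singleFunctor (ModuleCat.{u} R) 0).obj (qM (Ideal.span {f} ⊔ I))) := by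
  have hS := sesQ_shortExact I f hf
  have hT₁ := mappingCone_triangle_distinguished (f • 𝟙 K)
  have hT₂ := hS.singleTriangle_distinguished
  have comm : (Q.mapTriangle.obj (CochainComplex.mappingCone.triangle (f • 𝟙 K))).mor₁ ≫ e.hom =
      e.hom ≫ hS.singleTriangle.mor₁ := by
    change Q.map (f • 𝟙 K) ≫ e.hom = e.hom ≫ (singleFunctor (ModuleCat.{u} R) 0).map (f • 𝟙 (qM I))
    rw [Functor.map_smul, Functor.map_smul, CategoryTheory.Functor.map_id,
      CategoryTheory.Functor.map_id,
      Linear.smul_comp, Linear.comp_smul, Category.id_comp, Category.comp_id]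
  exact ⟨Triangle.π₃.mapIso (isoTriangleOfIso₁₂ _ _ hT₁ hT₂ e e comm)⟩

theorem ofList_smul_top (l : List R) :
    (Ideal.ofList l • (⊤ : Submodule R R) : Submodule R R) = Ideal.ofList l := by
  rw [smul_eq_mul, Ideal.mul_top]

theorem koszul_iso [IsNoetherianRing R] [IsLocalRing R] : ∀ (l : List R),
    RingTheory.Sequence.IsWeaklyRegular R l → (∀ r ∈ l, r ∈ IsLocalRing.maximalIdeal R) →
    Nonempty (Q.obj (Koszul.koszul R l) ≅
      (singleFunctor (ModuleCat.{u} R) 0).obj (qM (Ideal.ofList l)))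
  | [], _, _ => by
    have e1 : Q.obj (Koszul.koszul R []) ≅
        (singleFunctor (ModuleCat.{u} R) 0).obj (ModuleCat.of R R) :=
      ((singleFunctorIsoCompQ (ModuleCat.{u} R) 0).app (ModuleCat.of R R)).symm
    have e2 : ModuleCat.of R R ≅ qM (Ideal.ofList ([] : List R)) :=
      (Submodule.quotEquivOfEqBot _ Ideal.ofList_nil).symm.toModuleIso
    exact ⟨e1 ≪≫ (singleFunctor (ModuleCat.{u} R) 0).mapIso e2⟩
  | f :: l, h, hm => by
    have hperm : RingTheory.Sequence.IsWeaklyRegular R (l ++ [f]) :=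
      IsLocalRing.isWeaklyRegular_of_perm_of_subset_maximalIdeal h
        (List.perm_append_singleton f l).symm hm
    rw [RingTheory.Sequence.isWeaklyRegular_append_iff] at hperm
    obtain ⟨hl, hf⟩ := hperm
    rw [RingTheory.Sequence.isWeaklyRegular_singleton_iff] at hf
    have hf' : IsSMulRegular (R ⧸ Ideal.ofList l) f :=
      ((Submodule.quotEquivOfEq _ _ (ofList_smul_top l)).isSMulRegular_congr f).1 hf
    obtain ⟨e⟩ := koszul_iso l hl (fun r hr => hm r (List.mem_cons_of_mem _ hr))
    obtain ⟨e'⟩ := cone_smul_iso (Koszul.koszul R l) (Ideal.ofList l) f hf' e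
    rw [Ideal.ofList_cons]
    exact ⟨e'⟩

end Groth.Agent.Helper5.K0Kos
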