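import Groth.Agent.Lib.Helper5.K0Kos1
import Groth.Agent.Lib.Helper5.HS2
import Groth.Agent.Lib.Helper11.DCPerfHom
import Groth.Agent.Lib.Helper11.DCRegular

/-!
# `K₀` of perfect complexes supported at the closed point of a regular local ring
-/

set_option autoImplicit false
set_option linter.style.haveILetI false
set_option linter.unusedSectionVars false

open CategoryTheory CategoryTheory.Limits CategoryTheory.Pretriangulated ZeroObject

universe u

namespace Groth.Agent.Helper5.K0Kos

open DerivedCategory Groth.Agent.Helper11.DC Groth.Agent.Helper5.K0Der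

attribute [local instance] HasDerivedCategory.standard

variable (R : Type u) [CommRing R]

/-- finite length modules -/
def flP : ObjectProperty (ModuleCat.{u} R) := fun M => IsFiniteLength R M

instance : (flP R).IsClosedUnderIsomorphisms where
  of_iso e h := e.toLinearEquiv.isFiniteLength h

instance : (flP R).ContainsZero where
  exists_zero := ⟨0, isZero_zero _, by
    haveI : Subsingleton ((0 : ModuleCat.{u} R) : Type u) :=
      ModuleCat.subsingleton_of_isZero (isZero_zero _)
    exact IsFiniteLength.of_subsingleton⟩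

instance : (flP R).IsClosedUnderKernels where
  kernels_le := by
    rintro _ ⟨f, k, hk, ⟨hX, hY⟩⟩
    haveI : Mono k.ι := Fork.IsLimit.mono hk
    exact IsFiniteLength.of_injective hX ((ModuleCat.mono_iff_injective k.ι).1 inferInstance)

/-- perfect complexes with cohomology supported at the closed point -/
def Qs [IsLocalRing R] : ObjectProperty (Dual.D R) := fun K =>
  DRing.IsPerfect R K ∧
    ∀ i : ℤ, Module.support R (Dual.HD R K i) ⊆ {IsLocalRing.closedPoint R}

variable {R}

section Local

variable [IsLocalRing R]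

theorem support_subset_of_isFiniteLength {M : Type u} [AddCommGroup M] [Module R M]
    (h : IsFiniteLength R M) : Module.support R M ⊆ {IsLocalRing.closedPoint R} := by
  intro p hp
  have hmax := HS.isMaximal_of_mem_support_of_isFiniteLength h p hp
  rw [Set.mem_singleton_iff]
  apply PrimeSpectrum.ext
  exact IsLocalRing.eq_maximalIdeal hmax

theorem isFiniteLength_of_support_subset [IsNoetherianRing R] {M : Type u} [AddCommGroup M]
    [Module R M] [Module.Finite R M]
    (h : Module.support R M ⊆ {IsLocalRing.closedPoint R}) : IsFiniteLength R M := by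
  apply HS.isFiniteLength_of_support
  intro p hp
  have := h hp
  rw [Set.mem_singleton_iff] at this
  rw [this]
  exact IsLocalRing.maximalIdeal.isMaximal R

theorem Qs_of_iso {K L : Dual.D R} (e : K ≅ L) (h : Qs R K) : Qs R L := by
  refine ⟨isPerfect_of_iso e h.1, fun i => ?_⟩
  have e' := ((homologyFunctor (ModuleCat.{u} R) i).mapIso e).toLinearEquiv
  rw [← e'.support_eq]
  exact h.2 i

theorem Qs_of_isZero {K : Dual.D R} (hK : IsZero K) : Qs R K := by
  refine ⟨isPerfect_of_isZero K hK, fun i => ?_⟩
  have hz : IsZero ((homologyFunctor (ModuleCat.{u} R) i).obj K) :=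
    (homologyFunctor (ModuleCat.{u} R) i).map_isZero hK
  haveI : Subsingleton (Dual.HD R K i) := ModuleCat.subsingleton_of_isZero hz
  rw [Module.support_eq_empty]
  exact Set.empty_subset _

theorem Qs_single (M : ModuleCat.{u} R)
    (hp : DRing.IsPerfect R ((singleFunctor (ModuleCat.{u} R) 0).obj M))
    (hfl : IsFiniteLength R M) : Qs R ((singleFunctor (ModuleCat.{u} R) 0).obj M) := by
  refine ⟨hp, fun i => ?_⟩
  by_cases hi : i = 0
  · subst hi
    have e' : ((homologyFunctor (ModuleCat.{u} R) 0).obj
        ((singleFunctor (ModuleCat.{u} R) 0).obj M)) ≃ₗ[R] M :=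
      ((singleFunctorCompHomologyFunctorIso (ModuleCat.{u} R) 0).app M).toLinearEquiv
    change Module.support R ((homologyFunctor (ModuleCat.{u} R) 0).obj
      ((singleFunctor (ModuleCat.{u} R) 0).obj M)) ⊆ _
    rw [e'.support_eq]
    exact support_subset_of_isFiniteLength hfl
  · have hz : IsZero ((homologyFunctor (ModuleCat.{u} R) i).obj
        ((singleFunctor (ModuleCat.{u} R) 0).obj M)) := by
      rcases lt_or_gt_of_ne hi with h | h
      · exact isZero_of_isGE _ 0 i h
      · exact isZero_of_isLE _ 0 i h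
    haveI : Subsingleton (Dual.HD R ((singleFunctor (ModuleCat.{u} R) 0).obj M) i) :=
      ModuleCat.subsingleton_of_isZero hz
    rw [Module.support_eq_empty]
    exact Set.empty_subset _

/-- the short exact sequence `0 → N → M → M/N → 0` in `ModuleCat`. -/
theorem shortExact_sub {M : Type u} [AddCommGroup M] [Module R M] (N : Submodule R M) :
    (ShortComplex.mk (ModuleCat.ofHom N.subtype) (ModuleCat.ofHom N.mkQ) (by
      apply ModuleCat.hom_ext
      apply LinearMap.ext
      intro x
      change N.mkQ (N.subtype x) = 0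
      simp)).ShortExact := by
  refine ShortComplex.ShortExact.mk' ?_ ?_ ?_
  · rw [ShortComplex.moduleCat_exact_iff]
    intro x hx
    change N.mkQ x = 0 at hx
    rw [Submodule.mkQ_apply, Submodule.Quotient.mk_eq_zero] at hx
    exact ⟨⟨x, hx⟩, rfl⟩
  · rw [ModuleCat.mono_iff_injective]
    exact N.injective_subtype
  · rw [ModuleCat.epi_iff_surjective]
    exact N.mkQ_surjective

/-- Every finite length module is perfect with class a multiple of the class of the residue
field; `K₀` is any perfect object isomorphic to `k[0]`. -/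
theorem fl_main (K₀ : Dual.D R)
    (e₀ : K₀ ≅ (singleFunctor (ModuleCat.{u} R) 0).obj (qM (IsLocalRing.maximalIdeal R)))
    (hK₀ : DRing.IsPerfect R K₀) {M : Type u} [AddCommGroup M] [Module R M]
    (h : IsFiniteLength R M) :
    DRing.IsPerfect R ((singleFunctor (ModuleCat.{u} R) 0).obj (ModuleCat.of R M)) ∧
      KZero.clTr (Qs R) ((singleFunctor (ModuleCat.{u} R) 0).obj (ModuleCat.of R M)) ∈
        AddSubgroup.closure {KZero.clTr (Qs R) K₀} := by
  have h0 : Qs R (0 : Dual.D R) := Qs_of_isZero (isZero_zero _)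
  have hkfl : IsFiniteLength R (R ⧸ IsLocalRing.maximalIdeal R) := by
    haveI : IsSimpleModule R (R ⧸ IsLocalRing.maximalIdeal R) :=
      isSimpleModule_iff_quot_maximal.2 ⟨_, IsLocalRing.maximalIdeal.isMaximal R,
        ⟨LinearEquiv.refl _ _⟩⟩
    rw [isFiniteLength_iff_isNoetherian_isArtinian]
    exact ⟨inferInstance, inferInstance⟩
  have hkp : DRing.IsPerfect R ((singleFunctor (ModuleCat.{u} R) 0).obj
      (qM (IsLocalRing.maximalIdeal R))) := isPerfect_of_iso e₀ hK₀
  have hkQ : Qs R ((singleFunctor (ModuleCat.{u} R) 0).obj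
      (qM (IsLocalRing.maximalIdeal R))) := Qs_single _ hkp hkfl
  have hK₀Q : Qs R K₀ := Qs_of_iso e₀.symm hkQ
  induction h with
  | @of_subsingleton M _ _ _ =>
    have hz : IsZero (ModuleCat.of R M) := ModuleCat.isZero_of_subsingleton _
    have hz' : IsZero ((singleFunctor (ModuleCat.{u} R) 0).obj (ModuleCat.of R M)) :=
      (singleFunctor (ModuleCat.{u} R) 0).map_isZero hz
    refine ⟨isPerfect_of_isZero _ hz', ?_⟩
    rw [KTr.clTr_isZero (Qs R) hz' (Qs_of_isZero hz') h0]
    exact zero_mem _
  | @of_simple_quotient M _ _ N _ hN ih =>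
    obtain ⟨ih1, ih2⟩ := ih
    have hS := shortExact_sub N
    have hT := hS.singleTriangle_distinguished
    obtain ⟨I, hI, ⟨eq⟩⟩ := isSimpleModule_iff_quot_maximal.1 (inferInstance :
      IsSimpleModule R (M ⧸ N))
    have hIm : I = IsLocalRing.maximalIdeal R := IsLocalRing.eq_maximalIdeal hI
    subst hIm
    have eq' : (singleFunctor (ModuleCat.{u} R) 0).obj (ModuleCat.of R (M ⧸ N)) ≅
        (singleFunctor (ModuleCat.{u} R) 0).obj (qM (IsLocalRing.maximalIdeal R)) :=
      (singleFunctor (ModuleCat.{u} R) 0).mapIso eq.toModuleIso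
    have hq3 : Qs R ((singleFunctor (ModuleCat.{u} R) 0).obj (ModuleCat.of R (M ⧸ N))) :=
      Qs_of_iso eq'.symm hkQ
    have hNfl : IsFiniteLength R N := hN
    have hMfl : IsFiniteLength R M := IsFiniteLength.of_simple_quotient hN
    have hq1 : Qs R ((singleFunctor (ModuleCat.{u} R) 0).obj (ModuleCat.of R N)) :=
      Qs_single _ ih1 hNfl
    have hp2 : DRing.IsPerfect R ((singleFunctor (ModuleCat.{u} R) 0).obj (ModuleCat.of R M)) :=
      (perf_two_of_three _ hT).2.1 ih1 hq3.1
    have hq2 : Qs R ((singleFunctor (ModuleCat.{u} R) 0).obj (ModuleCat.of R M)) :=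
      Qs_single _ hp2 hMfl
    refine ⟨hp2, ?_⟩
    have hrel := KTr.clTr_triangle (Qs R) _ hT hq1 hq2 hq3
    change KZero.clTr (Qs R) ((singleFunctor (ModuleCat.{u} R) 0).obj (ModuleCat.of R M)) =
      KZero.clTr (Qs R) ((singleFunctor (ModuleCat.{u} R) 0).obj (ModuleCat.of R N)) +
      KZero.clTr (Qs R) ((singleFunctor (ModuleCat.{u} R) 0).obj (ModuleCat.of R (M ⧸ N)))
      at hrel
    rw [hrel]
    refine add_mem ih2 ?_
    rw [KTr.clTr_iso (Qs R) (eq' ≪≫ e₀.symm) hq3 hK₀Q h0]
    exact AddSubgroup.subset_closure rfl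

end Local

end Groth.Agent.Helper5.K0Kos
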