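import Groth.Agent.Lib.Helper5.K0Kos2

/-!
# `K₀` of perfect complexes supported at the closed point is generated by the Koszul complex
-/

set_option autoImplicit false
set_option linter.style.haveILetI false
set_option linter.unusedSectionVars false

open CategoryTheory CategoryTheory.Limits CategoryTheory.Pretriangulated ZeroObject

universe w v u

namespace Groth.Agent.Helper5.K0Der

open DerivedCategory

variable {C : Type u} [Category.{v} C] [Abelian C] [HasDerivedCategory.{w} C]
  (P : ObjectProperty C) [P.IsClosedUnderIsomorphisms] [P.ContainsZero] [P.IsClosedUnderKernels]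

/-- `K₀(D^b_P(C))` is generated by the classes of the objects of `P` placed in degree `0`. -/
theorem closure_singles :
    AddSubgroup.closure {x : KZero.K0tr (Qp P) | ∃ M : C, P M ∧
      x = KZero.clTr (Qp P) ((singleFunctor C 0).obj M)} = ⊤ := by
  rw [eq_top_iff]
  intro x hx
  clear hx
  obtain ⟨y, rfl⟩ := phi_surjective P x
  induction y using KZ.induction_on P with
  | zero => rw [map_zero]; exact zero_mem _
  | of M hM =>
    rw [phi_clSub P M hM]
    exact AddSubgroup.subset_closure ⟨M, hM, rfl⟩
  | neg y hy => rw [map_neg]; exact neg_mem hy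
  | add y z hy hz => rw [map_add]; exact add_mem hy hz

end Groth.Agent.Helper5.K0Der

namespace Groth.Agent.Helper5.K0Kos

open DerivedCategory Groth.Agent.Helper11.DC Groth.Agent.Helper5.K0Der

attribute [local instance] HasDerivedCategory.standard

variable {R : Type u} [CommRing R]

theorem isPerfect_koszul : ∀ l : List R, DRing.IsPerfect R (Q.obj (Koszul.koszul R l))
  | [] => by
    have e1 : (singleFunctor (ModuleCat.{u} R) 0).obj (ModuleCat.of R R) ≅
        Q.obj (Koszul.koszul R []) :=
      (singleFunctorIsoCompQ (ModuleCat.{u} R) 0).app (ModuleCat.of R R)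
    haveI : Module.Finite R (ModuleCat.of R R) := inferInstanceAs (Module.Finite R R)
    haveI : Module.Projective R (ModuleCat.of R R) := inferInstanceAs (Module.Projective R R)
    exact isPerfect_of_iso e1 (isPerfect_single_of_finite_projective (ModuleCat.of R R))
  | f :: l => by
    have ih := isPerfect_koszul l
    have hT := mappingCone_triangle_distinguished (f • 𝟙 (Koszul.koszul R l))
    exact perf_third _ hT ih ih

variable [IsNoetherianRing R] [IsLocalRing R]

theorem Qs_eq_Qp (K₀ : Dual.D R)
    (e₀ : K₀ ≅ (singleFunctor (ModuleCat.{u} R) 0).obj (qM (IsLocalRing.maximalIdeal R)))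
    (hK₀ : DRing.IsPerfect R K₀) : Qs R = Qp (flP R) := by
  funext K
  apply propext
  constructor
  · rintro ⟨hperf, hsupp⟩
    obtain ⟨E, a, b, hb, hf, ⟨e⟩⟩ := hperf
    have hz : ∀ i : ℤ, (i < a ∨ b < i) →
        IsZero ((homologyFunctor (ModuleCat.{u} R) i).obj K) := by
      intro i hi
      have h1 : IsZero (E.homology i) :=
        (HomologicalComplex.exactAt_iff_isZero_homology _ _).1
          (HomologicalComplex.ExactAt.of_isZero (hb i hi))
      have e1 : (homologyFunctor (ModuleCat.{u} R) i).obj (Q.obj E) ≅ E.homology i :=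
        (homologyFunctorFactors (ModuleCat.{u} R) i).app E
      exact (h1.of_iso e1).of_iso ((homologyFunctor (ModuleCat.{u} R) i).mapIso e.symm)
    refine ⟨fun i => ?_, a, b, ?_, ?_⟩
    · have hfin : Module.Finite R ((homologyFunctor (ModuleCat.{u} R) i).obj (Q.obj E)) :=
        homology_finite_of_finite_term E i (hf i).1
      have e' := ((homologyFunctor (ModuleCat.{u} R) i).mapIso e).toLinearEquiv
      haveI : Module.Finite R ((homologyFunctor (ModuleCat.{u} R) i).obj K) :=
        Module.Finite.equiv e'
      exact isFiniteLength_of_support_subset (hsupp i)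
    · exact (isGE_iff K a).2 (fun i hi => hz i (Or.inl hi))
    · exact (isLE_iff K b).2 (fun i hi => hz i (Or.inr hi))
  · rintro ⟨hfl, a, b, ha, hb⟩
    refine ⟨?_, fun i => support_subset_of_isFiniteLength (hfl i)⟩
    refine isPerfect_of_homology_aux (b - a).toNat K a b (by lia) ?_ ?_
    · rintro i (hi | hi)
      · exact isZero_of_isGE K a i hi
      · exact isZero_of_isLE K b i hi
    · intro i
      exact (fl_main K₀ e₀ hK₀ (hfl i)).1

/-- The main theorem: the class of a perfect object isomorphic to `k[0]` generates. -/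
theorem closure_eq_top (K₀ : Dual.D R)
    (e₀ : K₀ ≅ (singleFunctor (ModuleCat.{u} R) 0).obj (qM (IsLocalRing.maximalIdeal R)))
    (hK₀ : DRing.IsPerfect R K₀) :
    AddSubgroup.closure {KZero.clTr (Qs R) K₀} = ⊤ := by
  have hQ := Qs_eq_Qp K₀ e₀ hK₀
  have key : ∀ (Q' : ObjectProperty (Dual.D R)) (_ : Q' = Qp (flP R))
      (G : AddSubgroup (KZero.K0tr Q')),
      (∀ M : ModuleCat.{u} R, flP R M →
        KZero.clTr Q' ((singleFunctor (ModuleCat.{u} R) 0).obj M) ∈ G) → G = ⊤ := by
    rintro Q' rfl G hG
    rw [eq_top_iff, ← closure_singles (flP R), AddSubgroup.closure_le]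
    rintro _ ⟨M, hM, rfl⟩
    exact hG M hM
  exact key (Qs R) hQ _ (fun M hM => (fl_main K₀ e₀ hK₀ hM).2)

theorem main (fs : List R) (hreg : RingTheory.Sequence.IsRegular R fs)
    (hgen : Ideal.ofList fs = IsLocalRing.maximalIdeal R) :
    AddSubgroup.closure {KZero.clTr (Qs R) (Q.obj (Koszul.koszul R fs))} = ⊤ := by
  have hmem : ∀ r ∈ fs, r ∈ IsLocalRing.maximalIdeal R := by
    intro r hr
    rw [← hgen]
    exact Ideal.subset_span hr
  obtain ⟨e⟩ := koszul_iso fs hreg.toIsWeaklyRegular hmem
  have e2 : qM (Ideal.ofList fs) ≅ qM (IsLocalRing.maximalIdeal R) :=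
    (Submodule.quotEquivOfEq _ _ hgen).toModuleIso
  exact closure_eq_top _ (e ≪≫ (singleFunctor (ModuleCat.{u} R) 0).mapIso e2)
    (isPerfect_koszul fs)

end Groth.Agent.Helper5.K0Kos
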