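import Groth.Agent.Lib.Helper5.K0Res1
import Groth.Prelude.Def_SGA6

/-!
# The one-step comparison of Grothendieck groups
-/

set_option autoImplicit false
set_option linter.style.haveILetI false
set_option linter.unusedSectionVars false

open CategoryTheory CategoryTheory.Limits

universe v u

namespace Groth.Agent.Helper5.KRes

open Groth.Agent.Helper5.KZ

variable {C : Type u} [Category.{v} C] [Abelian C]

theorem mapSub_clSub (P Q : ObjectProperty C) (h : ∀ X, P X → Q X) (X : C) (hX : P X) :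
    SGA6.mapSub (𝟭 C) P Q h (KZero.clSub P X) = KZero.clSub Q X := by
  rw [clSub_of P X hX, clSub_of Q X (h X hX)]
  rfl

theorem mapSub_comp (P Q R : ObjectProperty C) (h : ∀ X, P X → Q X) (h' : ∀ X, Q X → R X)
    (x : KZero.K0sub P) :
    SGA6.mapSub (𝟭 C) Q R h' (SGA6.mapSub (𝟭 C) P Q h x) =
      SGA6.mapSub (𝟭 C) P R (fun X hX => h' X (h X hX)) x := by
  induction x using induction_on P with
  | zero => simp
  | of X hX => rw [mapSub_clSub P Q h X hX, mapSub_clSub Q R h' X (h X hX), mapSub_clSub P R _ X hX]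
  | neg x hx => simp [hx]
  | add x y hx hy => simp [hx, hy]

section Step

variable (P₀ R Q : ObjectProperty C)
  (h₀R : ∀ X, P₀ X → R X) (hRQ : ∀ X, R X → Q X)
  (hext₀ : ∀ S : ShortComplex C, S.ShortExact → P₀ S.X₁ → P₀ S.X₃ → P₀ S.X₂)
  (hextR : ∀ S : ShortComplex C, S.ShortExact → R S.X₁ → R S.X₃ → R S.X₂)
  (h2 : ∀ (A B D : C) (u : A ⟶ B) (v : D ⟶ B), Epi u → Q A → Q B → Q D →
      ∃ (L : C) (u' : L ⟶ D) (v' : L ⟶ A), P₀ L ∧ Epi u' ∧ u' ≫ v = v' ≫ u)
  (h3 : ∀ S : ShortComplex C, S.ShortExact → P₀ S.X₂ → Q S.X₃ → R S.X₁)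

include h2 in
theorem exists_pres (A : C) (hA : Q A) : ∃ (L : C) (π : L ⟶ A), P₀ L ∧ Epi π := by
  obtain ⟨L, u', _, hL, hu', _⟩ := h2 A A A (𝟙 A) (𝟙 A) inferInstance hA hA hA
  exact ⟨L, u', hL, hu'⟩

include h₀R hextR h3 in
theorem pres_indep (A : C) (hA : Q A) {K L K' L' : C}
    (ι : K ⟶ L) (π : L ⟶ A) (w : ι ≫ π = 0) (hS : (ShortComplex.mk ι π w).ShortExact)
    (hL : P₀ L)
    (ι' : K' ⟶ L') (π' : L' ⟶ A) (w' : ι' ≫ π' = 0)
    (hS' : (ShortComplex.mk ι' π' w').ShortExact) (hL' : P₀ L') :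
    KZero.clSub R L - KZero.clSub R K = KZero.clSub R L' - KZero.clSub R K' := by
  have hK : R K := h3 _ hS hL hA
  have hK' : R K' := h3 _ hS' hL' hA
  have S₁ := schanuel_fst π ι' π' w' hS'
  have S₂ := schanuel_snd ι π w hS π'
  have hM : R (pullback π π') := hextR _ S₁ hK' (h₀R _ hL)
  have e₁ := clSub_shortExact R _ S₁ hK' hM (h₀R _ hL)
  have e₂ := clSub_shortExact R _ S₂ hK hM (h₀R _ hL')
  dsimp only at e₁ e₂
  rw [sub_eq_sub_iff_add_eq_add, add_comm, ← e₁, e₂, add_comm]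

/-- The class of a presentation of an object of `Q`. -/
noncomputable def presClass (A : Subtype Q) : KZero.K0sub R :=
  KZero.clSub R (exists_pres P₀ Q h2 A.1 A.2).choose -
    KZero.clSub R (kernel (exists_pres P₀ Q h2 A.1 A.2).choose_spec.choose)

include h₀R hextR h3 in
theorem presClass_eq (A : C) (hA : Q A) {K L : C}
    (ι : K ⟶ L) (π : L ⟶ A) (w : ι ≫ π = 0) (hS : (ShortComplex.mk ι π w).ShortExact)
    (hL : P₀ L) :
    presClass P₀ R Q h2 ⟨A, hA⟩ = KZero.clSub R L - KZero.clSub R K := by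
  obtain ⟨hL₀, hπ₀⟩ := (exists_pres P₀ Q h2 A hA).choose_spec.choose_spec
  haveI := hπ₀
  exact pres_indep P₀ R Q h₀R hextR h3 A hA _ _ _ (shortExact_kernel _) hL₀ ι π w hS hL

include h₀R hRQ hext₀ hextR h3 in
theorem presClass_add (S : ShortComplex C) (hS : S.ShortExact)
    (h₁ : Q S.X₁) (h₂ : Q S.X₂) (h₃ : Q S.X₃) :
    presClass P₀ R Q h2 ⟨S.X₂, h₂⟩ =
      presClass P₀ R Q h2 ⟨S.X₁, h₁⟩ + presClass P₀ R Q h2 ⟨S.X₃, h₃⟩ := by
  haveI : Epi S.g := hS.epi_g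
  obtain ⟨L', p', hL', hp'⟩ := exists_pres P₀ Q h2 S.X₁ h₁
  obtain ⟨L₀, p₀, hL₀, hp₀⟩ := exists_pres P₀ Q h2 S.X₃ h₃
  obtain ⟨L'', u', v', hL'', hu', fac⟩ :=
    h2 S.X₂ S.X₃ L₀ S.g p₀ inferInstance h₂ h₃ (hRQ _ (h₀R _ hL₀))
  haveI := hp'
  haveI := hp₀
  haveI := hu'
  haveI : Epi (u' ≫ p₀) := epi_comp _ _
  obtain ⟨hp, a, b, wab, hab⟩ := horseshoe S hS (kernel.ι p') p' (kernel.condition _)
    (shortExact_kernel p') (kernel.ι (u' ≫ p₀)) (u' ≫ p₀) (kernel.condition _)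
    (shortExact_kernel _) v' fac.symm
  haveI := hp
  have hsplit : (ShortComplex.mk (biprod.inl : L' ⟶ L' ⊞ L'') (biprod.snd : L' ⊞ L'' ⟶ L'')
      (by simp)).ShortExact := (ShortComplex.Splitting.ofHasBinaryBiproduct L' L'').shortExact
  have hLL : P₀ (L' ⊞ L'') := hext₀ _ hsplit hL' hL''
  rw [presClass_eq P₀ R Q h₀R hextR h2 h3 S.X₂ h₂ _ _ _
      (shortExact_kernel (biprod.desc (p' ≫ S.f) v')) hLL,
    presClass_eq P₀ R Q h₀R hextR h2 h3 S.X₁ h₁ _ _ _ (shortExact_kernel p') hL',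
    presClass_eq P₀ R Q h₀R hextR h2 h3 S.X₃ h₃ _ _ _ (shortExact_kernel (u' ≫ p₀)) hL'']
  have hK' : R (kernel p') := h3 _ (shortExact_kernel p') hL' h₁
  have hK'' : R (kernel (u' ≫ p₀)) := h3 _ (shortExact_kernel (u' ≫ p₀)) hL'' h₃
  have hK : R (kernel (biprod.desc (p' ≫ S.f) v')) := h3 _ (shortExact_kernel _) hLL h₂
  have e₁ := clSub_shortExact R _ hsplit (h₀R _ hL') (h₀R _ hLL) (h₀R _ hL'')
  have e₂ := clSub_shortExact R _ hab hK' hK hK''
  dsimp only at e₁ e₂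
  rw [e₁, e₂]
  abel

/-- The inverse of the comparison map. -/
noncomputable def stepInv : KZero.K0sub Q →+ KZero.K0sub R :=
  lift Q (presClass P₀ R Q h2) (fun S h₁ h₂ h₃ hS =>
    presClass_add P₀ R Q h₀R hRQ hext₀ hextR h2 h3 S hS h₁ h₂ h₃)

include h₀R hRQ hext₀ hextR h2 h3 in
theorem step_bijective : Function.Bijective (SGA6.mapSub (𝟭 C) R Q hRQ) := by
  have hinv1 : ∀ x, stepInv P₀ R Q h₀R hRQ hext₀ hextR h2 h3 (SGA6.mapSub (𝟭 C) R Q hRQ x) = x := by
    intro x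
    induction x using induction_on R with
    | zero => simp
    | of X hX =>
      rw [mapSub_clSub R Q hRQ X hX, stepInv, lift_clSub Q _ _ X (hRQ X hX)]
      obtain ⟨L, π, hL, hπ⟩ := exists_pres P₀ Q h2 X (hRQ X hX)
      haveI := hπ
      rw [presClass_eq P₀ R Q h₀R hextR h2 h3 X (hRQ X hX) _ _ _ (shortExact_kernel π) hL]
      have hK : R (kernel π) := h3 _ (shortExact_kernel π) hL (hRQ X hX)
      have e := clSub_shortExact R _ (shortExact_kernel π) hK (h₀R _ hL) hX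
      dsimp only at e
      rw [e]
      abel
    | neg x hx => simp [hx]
    | add x y hx hy => simp [hx, hy]
  have hinv2 : ∀ y, SGA6.mapSub (𝟭 C) R Q hRQ (stepInv P₀ R Q h₀R hRQ hext₀ hextR h2 h3 y) = y := by
    intro y
    induction y using induction_on Q with
    | zero => simp
    | of X hX =>
      rw [stepInv, lift_clSub Q _ _ X hX]
      obtain ⟨L, π, hL, hπ⟩ := exists_pres P₀ Q h2 X hX
      haveI := hπ
      rw [presClass_eq P₀ R Q h₀R hextR h2 h3 X hX _ _ _ (shortExact_kernel π) hL]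
      have hK : R (kernel π) := h3 _ (shortExact_kernel π) hL hX
      rw [map_sub, mapSub_clSub R Q hRQ _ (h₀R _ hL), mapSub_clSub R Q hRQ _ hK]
      have e := clSub_shortExact Q _ (shortExact_kernel π) (hRQ _ hK) (hRQ _ (h₀R _ hL)) hX
      dsimp only at e
      rw [e]
      abel
    | neg x hx => simp [hx]
    | add x y hx hy => simp [hx, hy]
  exact ⟨Function.LeftInverse.injective hinv1, Function.RightInverse.surjective hinv2⟩

end Step

end Groth.Agent.Helper5.KRes
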