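import Groth.Agent.Lib.Helper5.K0Res2

/-!
# The filtration by resolution dimension
-/

set_option autoImplicit false
set_option linter.style.haveILetI false
set_option linter.unusedSectionVars false

open CategoryTheory CategoryTheory.Limits

universe v u

namespace Groth.Agent.Helper5.KRes

open Groth.Agent.Helper5.KZ

variable {C : Type u} [Category.{v} C] [Abelian C]

/-- Objects of `P₁` all of whose `n`-th syzygies (with respect to presentations by objects of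
`P₀`) lie in `P₀`. -/
def Rn (P₀ P₁ : ObjectProperty C) : ℕ → ObjectProperty C
  | 0 => P₀
  | n + 1 => fun A => P₁ A ∧ ∀ S : ShortComplex C, S.ShortExact → P₀ S.X₂ →
      ∀ (_ : S.X₃ ≅ A), Rn P₀ P₁ n S.X₁

section

variable (P₀ P₁ : ObjectProperty C)
  (hle : ∀ X, P₀ X → P₁ X)
  (hext₀ : ∀ S : ShortComplex C, S.ShortExact → P₀ S.X₁ → P₀ S.X₃ → P₀ S.X₂)
  (hext₁ : ∀ S : ShortComplex C, S.ShortExact → P₁ S.X₁ → P₁ S.X₃ → P₁ S.X₂)
  (h1₀ : ∀ S : ShortComplex C, S.ShortExact → P₀ S.X₂ → P₀ S.X₃ → P₀ S.X₁)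
  (h1₁ : ∀ S : ShortComplex C, S.ShortExact → P₁ S.X₂ → P₁ S.X₃ → P₁ S.X₁)
  (h2 : ∀ (A B D : C) (u : A ⟶ B) (v : D ⟶ B), Epi u → P₁ A → P₁ B → P₁ D →
    ∃ (L : C) (u' : L ⟶ D) (v' : L ⟶ A), P₀ L ∧ Epi u' ∧ u' ≫ v = v' ≫ u)

theorem Rn_zero : Rn P₀ P₁ 0 = P₀ := rfl

theorem Rn_succ (n : ℕ) (A : C) : Rn P₀ P₁ (n + 1) A ↔
    P₁ A ∧ ∀ S : ShortComplex C, S.ShortExact → P₀ S.X₂ → ∀ (_ : S.X₃ ≅ A), Rn P₀ P₁ n S.X₁ :=
  Iff.rfl

include hle in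
theorem Rn_le_P₁ (n : ℕ) (A : C) (h : Rn P₀ P₁ n A) : P₁ A := by
  cases n with
  | zero => exact hle A h
  | succ n => exact h.1

/-- Transport of a short exact sequence along an isomorphism of the third term. -/
theorem shortExact_comp_iso (S : ShortComplex C) (hS : S.ShortExact) {A : C} (e : S.X₃ ≅ A) :
    (ShortComplex.mk S.f (S.g ≫ e.hom) (by rw [← Category.assoc, S.zero, zero_comp])).ShortExact :=
  ShortComplex.shortExact_of_iso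
    (ShortComplex.isoMk (S₁ := S) (S₂ := ShortComplex.mk S.f (S.g ≫ e.hom)
      (by rw [← Category.assoc, S.zero, zero_comp])) (Iso.refl _) (Iso.refl _) e
      (by simp) (by simp)) hS

include hle h1₀ in
theorem P₀_le_Rn (n : ℕ) : ∀ A : C, P₀ A → Rn P₀ P₁ n A := by
  induction n with
  | zero => exact fun A h => h
  | succ n ih =>
    intro A hA
    refine ⟨hle A hA, fun S hS hL e => ih _ ?_⟩
    exact h1₀ (ShortComplex.mk S.f (S.g ≫ e.hom) _) (shortExact_comp_iso S hS e) hL hA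

include hle h1₀ in
theorem Rn_mono_succ (n : ℕ) : ∀ A : C, Rn P₀ P₁ n A → Rn P₀ P₁ (n + 1) A := by
  induction n with
  | zero => exact fun A hA => P₀_le_Rn P₀ P₁ hle h1₀ 1 A hA
  | succ n ih =>
    intro A hA
    exact ⟨hA.1, fun S hS hL e => ih _ (hA.2 S hS hL e)⟩

include hle h1₀ in
theorem Rn_mono {n m : ℕ} (h : n ≤ m) (A : C) (hA : Rn P₀ P₁ n A) : Rn P₀ P₁ m A := by
  induction h with
  | refl => exact hA
  | step _ ih => exact Rn_mono_succ P₀ P₁ hle h1₀ _ A ih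

include hle hext₀ h1₀ h1₁ h2 in
/-- The kernel of an epimorphism from an object of `Rn n` onto an object of `P₀` is in `Rn n`. -/
theorem Rn_kernel (n : ℕ) : ∀ S : ShortComplex C, S.ShortExact → Rn P₀ P₁ n S.X₂ → P₀ S.X₃ →
    Rn P₀ P₁ n S.X₁ := by
  induction n with
  | zero => exact fun S hS h₂ h₃ => h1₀ S hS h₂ h₃
  | succ n ih =>
    intro T hT hM hL
    haveI : Epi T.g := hT.epi_g
    have hM₁ : P₁ T.X₂ := hM.1
    have hK₁ : P₁ T.X₁ := h1₁ T hT hM₁ (hle _ hL)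
    refine ⟨hK₁, fun S hS hLK e => ?_⟩
    -- a presentation of `T.X₃` lifting to `T.X₂`
    obtain ⟨L₂, u', v', hL₂, hu', fac⟩ :=
      h2 T.X₂ T.X₃ T.X₃ T.g (𝟙 _) inferInstance hM₁ (hle _ hL) (hle _ hL)
    haveI := hu'
    rw [Category.comp_id] at fac
    have hS' := shortExact_comp_iso S hS e
    obtain ⟨hp, a, b, wab, hab⟩ := horseshoe T hT S.f (S.g ≫ e.hom) _ hS'
      (kernel.ι u') u' (kernel.condition _) (shortExact_kernel u') v' fac.symm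
    haveI := hp
    have hsplit : (ShortComplex.mk (biprod.inl : S.X₂ ⟶ S.X₂ ⊞ L₂) (biprod.snd : S.X₂ ⊞ L₂ ⟶ L₂)
        (by simp)).ShortExact := (ShortComplex.Splitting.ofHasBinaryBiproduct S.X₂ L₂).shortExact
    have hLL : P₀ (S.X₂ ⊞ L₂) := hext₀ _ hsplit hLK hL₂
    have hKM : Rn P₀ P₁ n (kernel (biprod.desc ((S.g ≫ e.hom) ≫ T.f) v')) :=
      hM.2 _ (shortExact_kernel _) hLL (Iso.refl _)
    have hKu : P₀ (kernel u') := h1₀ _ (shortExact_kernel u') hL₂ hL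
    exact ih (ShortComplex.mk a b wab) hab hKM hKu

include hle hext₀ hext₁ h1₀ h1₁ h2 in
/-- `Rn n` is stable under extensions. -/
theorem Rn_ext (n : ℕ) : ∀ S : ShortComplex C, S.ShortExact → Rn P₀ P₁ n S.X₁ →
    Rn P₀ P₁ n S.X₃ → Rn P₀ P₁ n S.X₂ := by
  induction n with
  | zero => exact fun S hS h₁ h₃ => hext₀ S hS h₁ h₃
  | succ n ih =>
    intro T hT hA' hA''
    haveI : Epi T.g := hT.epi_g
    have hA₁ : P₁ T.X₂ := hext₁ T hT hA'.1 hA''.1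
    refine ⟨hA₁, fun S hS hL e => ?_⟩
    have hS' := shortExact_comp_iso S hS e
    -- presentations of the two ends
    obtain ⟨L', p', hL', hp'⟩ := exists_pres P₀ P₁ h2 T.X₁ hA'.1
    obtain ⟨L₀, p₀, hL₀, hp₀⟩ := exists_pres P₀ P₁ h2 T.X₃ hA''.1
    obtain ⟨L'', u', v', hL'', hu', fac⟩ :=
      h2 T.X₂ T.X₃ L₀ T.g p₀ inferInstance hA₁ hA''.1 (hle _ hL₀)
    haveI := hp'
    haveI := hp₀
    haveI := hu'
    haveI : Epi (u' ≫ p₀) := epi_comp _ _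
    obtain ⟨hp, a, b, wab, hab⟩ := horseshoe T hT (kernel.ι p') p' (kernel.condition _)
      (shortExact_kernel p') (kernel.ι (u' ≫ p₀)) (u' ≫ p₀) (kernel.condition _)
      (shortExact_kernel _) v' fac.symm
    haveI := hp
    have hsplit : (ShortComplex.mk (biprod.inl : L' ⟶ L' ⊞ L'') (biprod.snd : L' ⊞ L'' ⟶ L'')
        (by simp)).ShortExact := (ShortComplex.Splitting.ofHasBinaryBiproduct L' L'').shortExact
    have hLL : P₀ (L' ⊞ L'') := hext₀ _ hsplit hL' hL''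
    have hK' : Rn P₀ P₁ n (kernel p') := hA'.2 _ (shortExact_kernel p') hL' (Iso.refl _)
    have hK'' : Rn P₀ P₁ n (kernel (u' ≫ p₀)) :=
      hA''.2 _ (shortExact_kernel (u' ≫ p₀)) hL'' (Iso.refl _)
    have hK₁ : Rn P₀ P₁ n (kernel (biprod.desc (p' ≫ T.f) v')) :=
      ih (ShortComplex.mk a b wab) hab hK' hK''
    -- Schanuel
    have S₁ := schanuel_fst (S.g ≫ e.hom) (kernel.ι (biprod.desc (p' ≫ T.f) v'))
      (biprod.desc (p' ≫ T.f) v') (kernel.condition _) (shortExact_kernel _)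
    have S₂ := schanuel_snd S.f (S.g ≫ e.hom) _ hS' (biprod.desc (p' ≫ T.f) v')
    have hM : Rn P₀ P₁ n (pullback (S.g ≫ e.hom) (biprod.desc (p' ≫ T.f) v')) :=
      ih _ S₁ hK₁ (P₀_le_Rn P₀ P₁ hle h1₀ n _ hL)
    have hfin := Rn_kernel P₀ P₁ hle hext₀ h1₀ h1₁ h2 n _ S₂ hM hLL
    exact hfin

include hle hext₀ hext₁ h1₀ h1₁ h2 in
theorem mapSub_Rn_succ_bijective (n : ℕ) :
    Function.Bijective (SGA6.mapSub (𝟭 C) (Rn P₀ P₁ n) (Rn P₀ P₁ (n + 1))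
      (Rn_mono_succ P₀ P₁ hle h1₀ n)) := by
  refine step_bijective P₀ (Rn P₀ P₁ n) (Rn P₀ P₁ (n + 1)) (P₀_le_Rn P₀ P₁ hle h1₀ n)
    (Rn_mono_succ P₀ P₁ hle h1₀ n) hext₀ (Rn_ext P₀ P₁ hle hext₀ hext₁ h1₀ h1₁ h2 n) ?_ ?_
  · intro A B D u v hu hA hB hD
    exact h2 A B D u v hu hA.1 hB.1 hD.1
  · intro S hS hL hA
    exact hA.2 S hS hL (Iso.refl _)

include hle hext₀ hext₁ h1₀ h1₁ h2 in
theorem mapSub_P₀_Rn_bijective (n : ℕ) :
    Function.Bijective (SGA6.mapSub (𝟭 C) P₀ (Rn P₀ P₁ n) (P₀_le_Rn P₀ P₁ hle h1₀ n)) := by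
  induction n with
  | zero =>
    have hid : ∀ x, SGA6.mapSub (𝟭 C) P₀ (Rn P₀ P₁ 0) (P₀_le_Rn P₀ P₁ hle h1₀ 0) x = x := by
      intro x
      induction x using induction_on P₀ with
      | zero => exact map_zero _
      | of X hX => exact mapSub_clSub P₀ P₀ _ X hX
      | neg x hx => rw [map_neg, hx]; rfl
      | add x y hx hy => rw [map_add, hx, hy]; rfl
    exact ⟨fun x y h => by rw [← hid x, ← hid y, h], fun y => ⟨y, hid y⟩⟩
  | succ n ih =>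
    have hcomp : ∀ x, SGA6.mapSub (𝟭 C) P₀ (Rn P₀ P₁ (n + 1)) (P₀_le_Rn P₀ P₁ hle h1₀ (n + 1)) x =
        SGA6.mapSub (𝟭 C) (Rn P₀ P₁ n) (Rn P₀ P₁ (n + 1)) (Rn_mono_succ P₀ P₁ hle h1₀ n)
          (SGA6.mapSub (𝟭 C) P₀ (Rn P₀ P₁ n) (P₀_le_Rn P₀ P₁ hle h1₀ n) x) := fun x =>
      (mapSub_comp P₀ (Rn P₀ P₁ n) (Rn P₀ P₁ (n + 1)) _ _ x).symm
    have hb := (mapSub_Rn_succ_bijective P₀ P₁ hle hext₀ hext₁ h1₀ h1₁ h2 n).comp ih
    have he : (SGA6.mapSub (𝟭 C) P₀ (Rn P₀ P₁ (n + 1)) (P₀_le_Rn P₀ P₁ hle h1₀ (n + 1)) :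
        KZero.K0sub P₀ → KZero.K0sub (Rn P₀ P₁ (n + 1))) =
        (SGA6.mapSub (𝟭 C) (Rn P₀ P₁ n) (Rn P₀ P₁ (n + 1)) (Rn_mono_succ P₀ P₁ hle h1₀ n)) ∘
          (SGA6.mapSub (𝟭 C) P₀ (Rn P₀ P₁ n) (P₀_le_Rn P₀ P₁ hle h1₀ n)) := funext hcomp
    rw [he]
    exact hb

end

end Groth.Agent.Helper5.KRes
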