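import Groth.Agent.Lib.Helper5.K0Res3
import Mathlib.Algebra.Homology.ShortComplex.HomologicalComplex

/-!
# Resolutions built from presentations
-/

set_option autoImplicit false
set_option linter.style.haveILetI false
set_option linter.unusedSectionVars false

open CategoryTheory CategoryTheory.Limits

universe v u

namespace Groth.Agent.Helper5.KRes

variable {C : Type u} [Category.{v} C] [Abelian C]

/-- Exactness is preserved by precomposing with an epimorphism and postcomposing with a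
monomorphism. -/
theorem exact_epi_comp_comp_mono {X K L A Y : C} (ι : K ⟶ L) (π : L ⟶ A) (w : ι ≫ π = 0)
    (h : (ShortComplex.mk ι π w).Exact) (e : X ⟶ K) [Epi e] (m : A ⟶ Y) [Mono m] :
    (ShortComplex.mk (e ≫ ι) (π ≫ m) (by
      rw [Category.assoc, ← Category.assoc ι, w, zero_comp, comp_zero])).Exact := by
  rw [ShortComplex.exact_iff_exact_up_to_refinements]
  intro T (x₂ : T ⟶ L) (hx₂ : x₂ ≫ π ≫ m = 0)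
  have h0 : x₂ ≫ π = 0 := by
    have h1 : (x₂ ≫ π) ≫ m = 0 ≫ m := by
      rw [Category.assoc, zero_comp]; exact hx₂
    exact (cancel_mono m).1 h1
  obtain ⟨T₁, π₁, hπ₁, x₁, fac₁⟩ := h.exact_up_to_refinements x₂ h0
  obtain ⟨T₂, π₂, hπ₂, y, fac₂⟩ := surjective_up_to_refinements_of_epi e x₁
  haveI : Epi (π₂ ≫ π₁) := epi_comp' hπ₂ hπ₁
  refine ⟨T₂, π₂ ≫ π₁, inferInstance, y, ?_⟩
  dsimp at fac₁ ⊢
  rw [Category.assoc, fac₁, ← Category.assoc, fac₂, Category.assoc]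

section

variable (P₀ P₁ : ObjectProperty C)

/-- A presentation of `A` by an object of `P₀`. -/
structure Pres (A : C) where
  L : C
  K : C
  ι : K ⟶ L
  π : L ⟶ A
  w : ι ≫ π = 0
  hS : (ShortComplex.mk ι π w).ShortExact
  hL : P₀ L

/-- The state of the construction: an object of `P₁` and a counter. -/
structure St where
  A : C
  hA : P₁ A
  m : ℕ

variable
  (hle : ∀ X, P₀ X → P₁ X)
  (h1₁ : ∀ S : ShortComplex C, S.ShortExact → P₁ S.X₂ → P₁ S.X₃ → P₁ S.X₁)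
  (h2 : ∀ (A B D : C) (u : A ⟶ B) (v : D ⟶ B), Epi u → P₁ A → P₁ B → P₁ D →
    ∃ (L : C) (u' : L ⟶ D) (v' : L ⟶ A), P₀ L ∧ Epi u' ∧ u' ≫ v = v' ≫ u)

include h2 in
theorem exists_step (s : St P₁) : ∃ pr : Pres P₀ s.A,
    (¬ Rn P₀ P₁ (s.m + 1) s.A → ¬ Rn P₀ P₁ s.m pr.K) := by
  by_cases h : Rn P₀ P₁ (s.m + 1) s.A
  · obtain ⟨L, π, hL, hπ⟩ := exists_pres P₀ P₁ h2 s.A s.hA
    haveI := hπ
    exact ⟨⟨L, kernel π, kernel.ι π, π, kernel.condition π, shortExact_kernel π, hL⟩,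
      fun h' => absurd h h'⟩
  · have h' : ¬ ∀ S : ShortComplex C, S.ShortExact → P₀ S.X₂ → ∀ (_ : S.X₃ ≅ s.A),
        Rn P₀ P₁ s.m S.X₁ := fun hh => h ⟨s.hA, hh⟩
    push Not at h'
    obtain ⟨S, hS, hL, e, hK⟩ := h'
    exact ⟨⟨S.X₂, S.X₁, S.f, S.g ≫ e.hom, _, shortExact_comp_iso S hS e, hL⟩, fun _ => hK⟩

/-- The chosen presentation. -/
noncomputable def step (s : St P₁) : Pres P₀ s.A := (exists_step P₀ P₁ h2 s).choose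

theorem step_spec (s : St P₁) :
    ¬ Rn P₀ P₁ (s.m + 1) s.A → ¬ Rn P₀ P₁ s.m (step P₀ P₁ h2 s).K :=
  (exists_step P₀ P₁ h2 s).choose_spec

/-- The next state. -/
noncomputable def next (s : St P₁) : St P₁ :=
  ⟨(step P₀ P₁ h2 s).K, h1₁ _ (step P₀ P₁ h2 s).hS (hle _ (step P₀ P₁ h2 s).hL) s.hA, s.m - 1⟩

/-- The sequence of states. -/
noncomputable def seq (s₀ : St P₁) : ℕ → St P₁
  | 0 => s₀
  | i + 1 => next P₀ P₁ hle h1₁ h2 (seq s₀ i)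

variable (s₀ : St P₁)

/-- The terms of the resolution. -/
noncomputable def resX (i : ℕ) : C := (step P₀ P₁ h2 (seq P₀ P₁ hle h1₁ h2 s₀ i)).L

/-- The syzygies. -/
noncomputable def resK (i : ℕ) : C := (step P₀ P₁ h2 (seq P₀ P₁ hle h1₁ h2 s₀ i)).K

noncomputable def resι (i : ℕ) : resK P₀ P₁ hle h1₁ h2 s₀ i ⟶ resX P₀ P₁ hle h1₁ h2 s₀ i :=
  (step P₀ P₁ h2 (seq P₀ P₁ hle h1₁ h2 s₀ i)).ι

noncomputable def resπ (i : ℕ) : resX P₀ P₁ hle h1₁ h2 s₀ (i + 1) ⟶ resK P₀ P₁ hle h1₁ h2 s₀ i :=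
  (step P₀ P₁ h2 (seq P₀ P₁ hle h1₁ h2 s₀ (i + 1))).π

noncomputable def resπ₀ : resX P₀ P₁ hle h1₁ h2 s₀ 0 ⟶ s₀.A :=
  (step P₀ P₁ h2 (seq P₀ P₁ hle h1₁ h2 s₀ 0)).π

theorem res_w (i : ℕ) : resι P₀ P₁ hle h1₁ h2 s₀ (i + 1) ≫ resπ P₀ P₁ hle h1₁ h2 s₀ i = 0 :=
  (step P₀ P₁ h2 (seq P₀ P₁ hle h1₁ h2 s₀ (i + 1))).w

theorem res_shortExact (i : ℕ) : (ShortComplex.mk (resι P₀ P₁ hle h1₁ h2 s₀ (i + 1))
    (resπ P₀ P₁ hle h1₁ h2 s₀ i) (res_w P₀ P₁ hle h1₁ h2 s₀ i)).ShortExact :=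
  (step P₀ P₁ h2 (seq P₀ P₁ hle h1₁ h2 s₀ (i + 1))).hS

theorem res_w₀ : resι P₀ P₁ hle h1₁ h2 s₀ 0 ≫ resπ₀ P₀ P₁ hle h1₁ h2 s₀ = 0 :=
  (step P₀ P₁ h2 (seq P₀ P₁ hle h1₁ h2 s₀ 0)).w

theorem res_shortExact₀ : (ShortComplex.mk (resι P₀ P₁ hle h1₁ h2 s₀ 0)
    (resπ₀ P₀ P₁ hle h1₁ h2 s₀) (res_w₀ P₀ P₁ hle h1₁ h2 s₀)).ShortExact :=
  (step P₀ P₁ h2 (seq P₀ P₁ hle h1₁ h2 s₀ 0)).hS

theorem resX_prop (i : ℕ) : P₀ (resX P₀ P₁ hle h1₁ h2 s₀ i) :=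
  (step P₀ P₁ h2 (seq P₀ P₁ hle h1₁ h2 s₀ i)).hL

/-- The differential. -/
noncomputable def resd (i : ℕ) : resX P₀ P₁ hle h1₁ h2 s₀ (i + 1) ⟶ resX P₀ P₁ hle h1₁ h2 s₀ i :=
  resπ P₀ P₁ hle h1₁ h2 s₀ i ≫ resι P₀ P₁ hle h1₁ h2 s₀ i

theorem resd_sq (i : ℕ) : resd P₀ P₁ hle h1₁ h2 s₀ (i + 1) ≫ resd P₀ P₁ hle h1₁ h2 s₀ i = 0 := by
  unfold resd
  rw [Category.assoc, ← Category.assoc (resι P₀ P₁ hle h1₁ h2 s₀ (i + 1)), res_w, zero_comp,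
    comp_zero]

/-- The resolution. -/
noncomputable def res : ChainComplex C ℕ :=
  ChainComplex.of (resX P₀ P₁ hle h1₁ h2 s₀) (resd P₀ P₁ hle h1₁ h2 s₀) (resd_sq P₀ P₁ hle h1₁ h2 s₀)

theorem res_X (i : ℕ) : (res P₀ P₁ hle h1₁ h2 s₀).X i = resX P₀ P₁ hle h1₁ h2 s₀ i := rfl

theorem res_d (i : ℕ) : (res P₀ P₁ hle h1₁ h2 s₀).d (i + 1) i =
    resπ P₀ P₁ hle h1₁ h2 s₀ i ≫ resι P₀ P₁ hle h1₁ h2 s₀ i := by
  show ChainComplex.of.d _ _ (i + 1) i = _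
  rw [ChainComplex.of_d]
  rfl

instance resι_mono (i : ℕ) : Mono (resι P₀ P₁ hle h1₁ h2 s₀ i) :=
  (step P₀ P₁ h2 (seq P₀ P₁ hle h1₁ h2 s₀ i)).hS.mono_f

instance resπ_epi (i : ℕ) : Epi (resπ P₀ P₁ hle h1₁ h2 s₀ i) :=
  (step P₀ P₁ h2 (seq P₀ P₁ hle h1₁ h2 s₀ (i + 1))).hS.epi_g

theorem res_exactAt (i : ℕ) : (res P₀ P₁ hle h1₁ h2 s₀).ExactAt (i + 1) := by
  rw [HomologicalComplex.exactAt_iff' _ (i + 2) (i + 1) i (by simp) (by simp)]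
  have h := exact_epi_comp_comp_mono (resι P₀ P₁ hle h1₁ h2 s₀ (i + 1))
    (resπ P₀ P₁ hle h1₁ h2 s₀ i) (res_w P₀ P₁ hle h1₁ h2 s₀ i)
    (res_shortExact P₀ P₁ hle h1₁ h2 s₀ i).exact (resπ P₀ P₁ hle h1₁ h2 s₀ (i + 1))
    (resι P₀ P₁ hle h1₁ h2 s₀ i)
  refine ShortComplex.exact_of_iso ?_ h
  exact ShortComplex.isoMk (Iso.refl _) (Iso.refl _) (Iso.refl _)
    (by
      show 𝟙 _ ≫ (res P₀ P₁ hle h1₁ h2 s₀).d (i + 1 + 1) (i + 1) = _ ≫ 𝟙 _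
      rw [res_d]
      exact (Category.id_comp _).trans (Category.comp_id _).symm)
    (by
      show 𝟙 _ ≫ (res P₀ P₁ hle h1₁ h2 s₀).d (i + 1) i = _ ≫ 𝟙 _
      rw [res_d]
      exact (Category.id_comp _).trans (Category.comp_id _).symm)

theorem res_cycles_iso (i : ℕ) : Nonempty ((res P₀ P₁ hle h1₁ h2 s₀).cycles (i + 1) ≅
    resK P₀ P₁ hle h1₁ h2 s₀ (i + 1)) :=
  ⟨IsLimit.conePointUniqueUpToIso
    ((res P₀ P₁ hle h1₁ h2 s₀).cyclesIsKernel (i + 1) i (by simp))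
    (isKernelCompMono (res_shortExact P₀ P₁ hle h1₁ h2 s₀ i).fIsKernel
      (resι P₀ P₁ hle h1₁ h2 s₀ i) (h := (res P₀ P₁ hle h1₁ h2 s₀).d (i + 1) i)
      (res_d P₀ P₁ hle h1₁ h2 s₀ i))⟩

theorem res_homology_zero : Nonempty ((res P₀ P₁ hle h1₁ h2 s₀).homology 0 ≅ s₀.A) :=
  ⟨(res P₀ P₁ hle h1₁ h2 s₀).isoHomologyι₀ ≪≫ IsColimit.coconePointUniqueUpToIso
    ((res P₀ P₁ hle h1₁ h2 s₀).opcyclesIsCokernel 1 0 (by simp))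
    (isCokernelEpiComp (res_shortExact₀ P₀ P₁ hle h1₁ h2 s₀).gIsCokernel
      (resπ P₀ P₁ hle h1₁ h2 s₀ 0) (h := (res P₀ P₁ hle h1₁ h2 s₀).d 1 0)
      (res_d P₀ P₁ hle h1₁ h2 s₀ 0))⟩

theorem seq_m (i : ℕ) : (seq P₀ P₁ hle h1₁ h2 s₀ i).m = s₀.m - i := by
  induction i with
  | zero => rfl
  | succ i ih =>
    show (seq P₀ P₁ hle h1₁ h2 s₀ i).m - 1 = _
    rw [ih]
    omega

theorem seq_bad (hbad : ¬ Rn P₀ P₁ (s₀.m + 1) s₀.A) (j : ℕ) (hj : j ≤ s₀.m + 1) :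
    ¬ Rn P₀ P₁ (s₀.m + 1 - j) (seq P₀ P₁ hle h1₁ h2 s₀ j).A := by
  induction j with
  | zero => exact hbad
  | succ j ih =>
    have h1 := ih (by omega)
    have hm := seq_m P₀ P₁ hle h1₁ h2 s₀ j
    have e1 : s₀.m + 1 - j = (seq P₀ P₁ hle h1₁ h2 s₀ j).m + 1 := by rw [hm]; omega
    have e2 : s₀.m + 1 - (j + 1) = (seq P₀ P₁ hle h1₁ h2 s₀ j).m := by rw [hm]; omega
    rw [e1] at h1
    rw [e2]
    exact step_spec P₀ P₁ h2 _ h1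

end

section Main

variable (P₀ P₁ : ObjectProperty C) [P₀.IsClosedUnderIsomorphisms]
  (hle : ∀ X, P₀ X → P₁ X)
  (h1₁ : ∀ S : ShortComplex C, S.ShortExact → P₁ S.X₂ → P₁ S.X₃ → P₁ S.X₁)
  (h2 : ∀ (A B D : C) (u : A ⟶ B) (v : D ⟶ B), Epi u → P₁ A → P₁ B → P₁ D →
    ∃ (L : C) (u' : L ⟶ D) (v' : L ⟶ A), P₀ L ∧ Epi u' ∧ u' ≫ v = v' ≫ u)

include hle h1₁ h2 in
theorem Rn_of_resolutions (A : C) (hA : P₁ A) (d : ℕ)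
    (hd : ∀ L : ChainComplex C ℕ, (∀ i, P₀ (L.X i)) → (∀ i, 1 ≤ i → L.ExactAt i) →
      Nonempty (L.homology 0 ≅ A) → P₀ (L.cycles (d + 1))) :
    Rn P₀ P₁ (d + 2) A := by
  by_contra hbad
  let s₀ : St P₁ := ⟨A, hA, d + 1⟩
  have h1 := seq_bad P₀ P₁ hle h1₁ h2 s₀ hbad (d + 2) le_rfl
  have e : s₀.m + 1 - (d + 2) = 0 := by show d + 1 + 1 - (d + 2) = 0; omega
  rw [e] at h1
  have h3 := hd (res P₀ P₁ hle h1₁ h2 s₀) (fun i => resX_prop P₀ P₁ hle h1₁ h2 s₀ i)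
    (fun i hi => by
      obtain ⟨k, rfl⟩ := Nat.exists_eq_add_of_le hi
      rw [add_comm]
      exact res_exactAt P₀ P₁ hle h1₁ h2 s₀ k)
    (res_homology_zero P₀ P₁ hle h1₁ h2 s₀)
  obtain ⟨iso⟩ := res_cycles_iso P₀ P₁ hle h1₁ h2 s₀ d
  exact h1 (P₀.prop_of_iso iso h3)

end Main

end Groth.Agent.Helper5.KRes
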