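import Groth.Agent.Lib.Helper5.K0Res4

/-!
# The resolution theorem for `K₀`
-/

set_option autoImplicit false
set_option linter.style.haveILetI false
set_option linter.unusedSectionVars false

open CategoryTheory CategoryTheory.Limits

universe v u

namespace Groth.Agent.Helper5.KRes

open Groth.Agent.Helper5.KZ

variable {C : Type u} [Category.{v} C] [Abelian C]

section

variable (P₀ P₁ : ObjectProperty C) [P₀.IsClosedUnderIsomorphisms]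
  (hle : ∀ X, P₀ X → P₁ X)
  (hext₀ : ∀ S : ShortComplex C, S.ShortExact → P₀ S.X₁ → P₀ S.X₃ → P₀ S.X₂)
  (hext₁ : ∀ S : ShortComplex C, S.ShortExact → P₁ S.X₁ → P₁ S.X₃ → P₁ S.X₂)
  (h1₀ : ∀ S : ShortComplex C, S.ShortExact → P₀ S.X₂ → P₀ S.X₃ → P₀ S.X₁)
  (h1₁ : ∀ S : ShortComplex C, S.ShortExact → P₁ S.X₂ → P₁ S.X₃ → P₁ S.X₁)
  (h2 : ∀ (A B D : C) (u : A ⟶ B) (v : D ⟶ B), Epi u → P₁ A → P₁ B → P₁ D →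
    ∃ (L : C) (u' : L ⟶ D) (v' : L ⟶ A), P₀ L ∧ Epi u' ∧ u' ≫ v = v' ≫ u)
  (h3 : ∀ A : C, P₁ A → ∃ d : ℕ, ∀ L : ChainComplex C ℕ, (∀ i, P₀ (L.X i)) →
    (∀ i, 1 ≤ i → L.ExactAt i) → Nonempty (L.homology 0 ≅ A) → P₀ (L.cycles (d + 1)))

include hle h1₁ h2 h3 in
theorem exists_Rn (A : C) (hA : P₁ A) : ∃ n, Rn P₀ P₁ n A := by
  obtain ⟨d, hd⟩ := h3 A hA
  exact ⟨d + 2, Rn_of_resolutions P₀ P₁ hle h1₁ h2 A hA d hd⟩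

/-- The comparison isomorphism `K₀(P₀) ≃ K₀(Rn n)`. -/
noncomputable def eqv (n : ℕ) : KZero.K0sub P₀ ≃+ KZero.K0sub (Rn P₀ P₁ n) :=
  AddEquiv.ofBijective (SGA6.mapSub (𝟭 C) P₀ (Rn P₀ P₁ n) (P₀_le_Rn P₀ P₁ hle h1₀ n))
    (mapSub_P₀_Rn_bijective P₀ P₁ hle hext₀ hext₁ h1₀ h1₁ h2 n)

theorem eqv_apply (n : ℕ) (x : KZero.K0sub P₀) :
    eqv P₀ P₁ hle hext₀ hext₁ h1₀ h1₁ h2 n x =
      SGA6.mapSub (𝟭 C) P₀ (Rn P₀ P₁ n) (P₀_le_Rn P₀ P₁ hle h1₀ n) x := rfl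

theorem eqv_symm_clSub_le {n m : ℕ} (h : n ≤ m) (A : C) (hA : Rn P₀ P₁ n A) :
    (eqv P₀ P₁ hle hext₀ hext₁ h1₀ h1₁ h2 n).symm (KZero.clSub (Rn P₀ P₁ n) A) =
      (eqv P₀ P₁ hle hext₀ hext₁ h1₀ h1₁ h2 m).symm (KZero.clSub (Rn P₀ P₁ m) A) := by
  rw [AddEquiv.eq_symm_apply, eqv_apply,
    ← mapSub_comp P₀ (Rn P₀ P₁ n) (Rn P₀ P₁ m) (P₀_le_Rn P₀ P₁ hle h1₀ n)
      (fun X hX => Rn_mono P₀ P₁ hle h1₀ h X hX), ← eqv_apply P₀ P₁ hle hext₀ hext₁ h1₀ h1₁ h2 n, AddEquiv.apply_symm_apply,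
    mapSub_clSub _ _ _ A hA]

theorem eqv_symm_clSub_eq (n m : ℕ) (A : C) (hn : Rn P₀ P₁ n A) (hm : Rn P₀ P₁ m A) :
    (eqv P₀ P₁ hle hext₀ hext₁ h1₀ h1₁ h2 n).symm (KZero.clSub (Rn P₀ P₁ n) A) =
      (eqv P₀ P₁ hle hext₀ hext₁ h1₀ h1₁ h2 m).symm (KZero.clSub (Rn P₀ P₁ m) A) := by
  rw [eqv_symm_clSub_le P₀ P₁ hle hext₀ hext₁ h1₀ h1₁ h2 (le_max_left n m) A hn,
    eqv_symm_clSub_le P₀ P₁ hle hext₀ hext₁ h1₀ h1₁ h2 (le_max_right n m) A hm]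

/-- The inverse on generators. -/
noncomputable def invGen (A : Subtype P₁) : KZero.K0sub P₀ :=
  (eqv P₀ P₁ hle hext₀ hext₁ h1₀ h1₁ h2 (exists_Rn P₀ P₁ hle h1₁ h2 h3 A.1 A.2).choose).symm
    (KZero.clSub (Rn P₀ P₁ (exists_Rn P₀ P₁ hle h1₁ h2 h3 A.1 A.2).choose) A.1)

theorem invGen_eq (A : C) (hA : P₁ A) (n : ℕ) (hn : Rn P₀ P₁ n A) :
    invGen P₀ P₁ hle hext₀ hext₁ h1₀ h1₁ h2 h3 ⟨A, hA⟩ =
      (eqv P₀ P₁ hle hext₀ hext₁ h1₀ h1₁ h2 n).symm (KZero.clSub (Rn P₀ P₁ n) A) :=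
  eqv_symm_clSub_eq P₀ P₁ hle hext₀ hext₁ h1₀ h1₁ h2 _ n A
    (exists_Rn P₀ P₁ hle h1₁ h2 h3 A hA).choose_spec hn

theorem invGen_add (S : ShortComplex C) (h₁ : P₁ S.X₁) (h₂ : P₁ S.X₂) (h₃ : P₁ S.X₃)
    (hS : S.ShortExact) :
    invGen P₀ P₁ hle hext₀ hext₁ h1₀ h1₁ h2 h3 ⟨S.X₂, h₂⟩ =
      invGen P₀ P₁ hle hext₀ hext₁ h1₀ h1₁ h2 h3 ⟨S.X₁, h₁⟩ +
        invGen P₀ P₁ hle hext₀ hext₁ h1₀ h1₁ h2 h3 ⟨S.X₃, h₃⟩ := by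
  obtain ⟨n₁, hn₁⟩ := exists_Rn P₀ P₁ hle h1₁ h2 h3 S.X₁ h₁
  obtain ⟨n₂, hn₂⟩ := exists_Rn P₀ P₁ hle h1₁ h2 h3 S.X₂ h₂
  obtain ⟨n₃, hn₃⟩ := exists_Rn P₀ P₁ hle h1₁ h2 h3 S.X₃ h₃
  set n := max n₁ (max n₂ n₃) with hn
  have k₁ : Rn P₀ P₁ n S.X₁ := Rn_mono P₀ P₁ hle h1₀ (le_max_left _ _) _ hn₁
  have k₂ : Rn P₀ P₁ n S.X₂ :=
    Rn_mono P₀ P₁ hle h1₀ ((le_max_left _ _).trans (le_max_right _ _)) _ hn₂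
  have k₃ : Rn P₀ P₁ n S.X₃ :=
    Rn_mono P₀ P₁ hle h1₀ ((le_max_right _ _).trans (le_max_right _ _)) _ hn₃
  rw [invGen_eq P₀ P₁ hle hext₀ hext₁ h1₀ h1₁ h2 h3 _ h₁ n k₁,
    invGen_eq P₀ P₁ hle hext₀ hext₁ h1₀ h1₁ h2 h3 _ h₂ n k₂,
    invGen_eq P₀ P₁ hle hext₀ hext₁ h1₀ h1₁ h2 h3 _ h₃ n k₃,
    clSub_shortExact (Rn P₀ P₁ n) S hS k₁ k₂ k₃, map_add]

/-- The inverse homomorphism. -/
noncomputable def invHom : KZero.K0sub P₁ →+ KZero.K0sub P₀ :=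
  lift P₁ (invGen P₀ P₁ hle hext₀ hext₁ h1₀ h1₁ h2 h3)
    (fun S h₁ h₂ h₃ hS => invGen_add P₀ P₁ hle hext₀ hext₁ h1₀ h1₁ h2 h3 S h₁ h₂ h₃ hS)

include hext₀ hext₁ h1₀ h1₁ h2 h3 in
theorem resolution_bijective : Function.Bijective (SGA6.mapSub (𝟭 C) P₀ P₁ hle) := by
  have hinv1 : ∀ x, invHom P₀ P₁ hle hext₀ hext₁ h1₀ h1₁ h2 h3
      (SGA6.mapSub (𝟭 C) P₀ P₁ hle x) = x := by
    intro x
    induction x using induction_on P₀ with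
    | zero => simp
    | of X hX =>
      rw [mapSub_clSub P₀ P₁ hle X hX, invHom, lift_clSub P₁ _ _ X (hle X hX),
        invGen_eq P₀ P₁ hle hext₀ hext₁ h1₀ h1₁ h2 h3 X (hle X hX) 0 hX,
        AddEquiv.symm_apply_eq, eqv_apply, mapSub_clSub _ _ _ X hX]
    | neg x hx => simp [hx]
    | add x y hx hy => simp [hx, hy]
  have hinv2 : ∀ y, SGA6.mapSub (𝟭 C) P₀ P₁ hle
      (invHom P₀ P₁ hle hext₀ hext₁ h1₀ h1₁ h2 h3 y) = y := by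
    intro y
    induction y using induction_on P₁ with
    | zero => simp
    | of X hX =>
      obtain ⟨n, hn⟩ := exists_Rn P₀ P₁ hle h1₁ h2 h3 X hX
      rw [invHom, lift_clSub P₁ _ _ X hX,
        invGen_eq P₀ P₁ hle hext₀ hext₁ h1₀ h1₁ h2 h3 X hX n hn,
        ← mapSub_comp P₀ (Rn P₀ P₁ n) P₁ (P₀_le_Rn P₀ P₁ hle h1₀ n)
          (fun X hX => Rn_le_P₁ P₀ P₁ hle n X hX), ← eqv_apply P₀ P₁ hle hext₀ hext₁ h1₀ h1₁ h2 n, AddEquiv.apply_symm_apply,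
        mapSub_clSub _ _ _ X hn]
    | neg x hx => simp [hx]
    | add x y hx hy => simp [hx, hy]
  exact ⟨Function.LeftInverse.injective hinv1, Function.RightInverse.surjective hinv2⟩

end

end Groth.Agent.Helper5.KRes
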