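import Groth.Prelude.Def_KZero
import Mathlib.CategoryTheory.Triangulated.Pretriangulated
import Mathlib.CategoryTheory.Triangulated.Basic

/-!
# Basic facts on `KZero.K0tr Q`
-/

open CategoryTheory CategoryTheory.Limits CategoryTheory.Pretriangulated ZeroObject

universe v u

namespace Groth.Agent.Helper5.KTr

variable {D : Type u} [Category.{v} D] [Preadditive D] [HasZeroObject D] [HasShift D ℤ]
  [∀ n : ℤ, (shiftFunctor D n).Additive] [Pretriangulated D] (Q : ObjectProperty D)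

theorem clTr_of (X : D) (h : Q X) :
    KZero.clTr Q X = QuotientAddGroup.mk (FreeAbelianGroup.of ⟨X, h⟩) := dif_pos h

theorem clTr_triangle (T : Triangle D) (hT : T ∈ distTriang D)
    (h₁ : Q T.obj₁) (h₂ : Q T.obj₂) (h₃ : Q T.obj₃) :
    KZero.clTr Q T.obj₂ = KZero.clTr Q T.obj₁ + KZero.clTr Q T.obj₃ := by
  have h : (FreeAbelianGroup.of (⟨T.obj₂, h₂⟩ : Subtype Q) - FreeAbelianGroup.of ⟨T.obj₁, h₁⟩ -
      FreeAbelianGroup.of ⟨T.obj₃, h₃⟩) ∈ KZero.relTr Q :=
    AddSubgroup.subset_closure ⟨T, h₁, h₂, h₃, hT, rfl⟩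
  have h2 := (QuotientAddGroup.eq_zero_iff _).mpr h
  simp only [QuotientAddGroup.mk_sub] at h2
  rw [clTr_of Q _ h₁, clTr_of Q _ h₂, clTr_of Q _ h₃]
  rw [sub_sub, sub_eq_zero] at h2
  exact h2

theorem clTr_zero (h0 : Q (0 : D)) : KZero.clTr Q (0 : D) = 0 := by
  have := clTr_triangle Q _ (contractible_distinguished (0 : D)) h0 h0 h0
  simpa using this

theorem clTr_iso {X Y : D} (e : X ≅ Y) (hX : Q X) (hY : Q Y) (h0 : Q (0 : D)) :
    KZero.clTr Q X = KZero.clTr Q Y := by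
  have hT : Triangle.mk e.hom (0 : Y ⟶ (0 : D)) 0 ∈ distTriang D := by
    refine isomorphic_distinguished _ (contractible_distinguished X) _ ?_
    refine Triangle.isoMk _ _ (Iso.refl _) e.symm (Iso.refl _) ?_ ?_ ?_
    · change e.hom ≫ e.inv = 𝟙 X ≫ 𝟙 X
      simp
    · change (0 : Y ⟶ (0 : D)) ≫ 𝟙 (0 : D) = e.inv ≫ 0
      simp
    · change (0 : (0 : D) ⟶ X⟦(1 : ℤ)⟧) ≫ (shiftFunctor D (1 : ℤ)).map (𝟙 X) = 𝟙 (0 : D) ≫ 0
      simp
  have := clTr_triangle Q _ hT hX hY h0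
  simp only [Triangle.mk_obj₂, Triangle.mk_obj₁, Triangle.mk_obj₃, clTr_zero Q h0, add_zero] at this
  exact this.symm

theorem clTr_isZero {X : D} (hX : IsZero X) (h : Q X) (h0 : Q (0 : D)) : KZero.clTr Q X = 0 := by
  rw [clTr_iso Q hX.isoZero h h0 h0, clTr_zero Q h0]

theorem clTr_shift (X : D) (hX : Q X) (hX1 : Q (X⟦(1 : ℤ)⟧)) (h0 : Q (0 : D)) :
    KZero.clTr Q (X⟦(1 : ℤ)⟧) = - KZero.clTr Q X := by
  have hT := rot_of_distTriang _ (contractible_distinguished X)
  have := clTr_triangle Q _ hT hX h0 hX1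
  simp only [Triangle.rotate_obj₂, Triangle.rotate_obj₁, Triangle.rotate_obj₃,
    contractibleTriangle_obj₃, contractibleTriangle_obj₂, contractibleTriangle_obj₁,
    clTr_zero Q h0] at this
  exact (neg_eq_of_add_eq_zero_right this.symm).symm

/-- The homomorphism out of `K0tr Q` induced by a function additive on triangles. -/
noncomputable def lift {G : Type*} [AddCommGroup G] (φ : Subtype Q → G)
    (hφ : ∀ (T : Triangle D) (h₁ : Q T.obj₁) (h₂ : Q T.obj₂) (h₃ : Q T.obj₃),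
      T ∈ distTriang D → φ ⟨T.obj₂, h₂⟩ = φ ⟨T.obj₁, h₁⟩ + φ ⟨T.obj₃, h₃⟩) : KZero.K0tr Q →+ G :=
  QuotientAddGroup.lift _ (FreeAbelianGroup.lift φ) (by
    intro x hx
    have : KZero.relTr Q ≤ (FreeAbelianGroup.lift φ).ker := by
      unfold KZero.relTr
      rw [AddSubgroup.closure_le]
      rintro _ ⟨T, h₁, h₂, h₃, hT, rfl⟩
      simp only [SetLike.mem_coe, AddMonoidHom.mem_ker, map_sub, FreeAbelianGroup.lift_apply_of]
      rw [hφ T h₁ h₂ h₃ hT]
      abel
    exact this hx)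

theorem lift_clTr {G : Type*} [AddCommGroup G] (φ : Subtype Q → G)
    (hφ : ∀ (T : Triangle D) (h₁ : Q T.obj₁) (h₂ : Q T.obj₂) (h₃ : Q T.obj₃),
      T ∈ distTriang D → φ ⟨T.obj₂, h₂⟩ = φ ⟨T.obj₁, h₁⟩ + φ ⟨T.obj₃, h₃⟩) (X : D) (h : Q X) :
    lift Q φ hφ (KZero.clTr Q X) = φ ⟨X, h⟩ := by
  rw [clTr_of Q X h]
  simp [lift]

theorem induction_on {motive : KZero.K0tr Q → Prop} (x : KZero.K0tr Q)
    (zero : motive 0) (of : ∀ (X : D) (_ : Q X), motive (KZero.clTr Q X))
    (neg : ∀ x, motive x → motive (-x)) (add : ∀ x y, motive x → motive y → motive (x + y)) :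
    motive x := by
  induction x using QuotientAddGroup.induction_on with
  | H z =>
    induction z using FreeAbelianGroup.induction_on with
    | zero => exact zero
    | of x =>
      have := of x.1 x.2
      rw [clTr_of Q x.1 x.2] at this
      exact this
    | neg x hx =>
      have := neg _ (by
        have := of x.1 x.2
        rw [clTr_of Q x.1 x.2] at this
        exact this)
      rwa [← QuotientAddGroup.mk_neg] at this
    | add x y hx hy =>
      rw [QuotientAddGroup.mk_add]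
      exact add _ _ hx hy

end Groth.Agent.Helper5.KTr
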