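import Mathlib

/-!
# Abstract K-flatness: an additive bifunctor `T` on an abelian category

Degreewise split short exact sequences of complexes stay short exact after applying the total
complex of `T` in either variable.
-/

set_option autoImplicit false
set_option linter.unusedSectionVars false
set_option linter.unusedVariables false
set_option linter.style.haveILetI false

universe v u

open CategoryTheory CategoryTheory.Limits HomologicalComplex

namespace Groth.Agent.Helper5.KFA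

variable {𝒜 : Type u} [Category.{v} 𝒜] [Abelian 𝒜] (T : 𝒜 ⥤ 𝒜 ⥤ 𝒜) [T.Additive]
  [∀ X, (T.obj X).Additive]
  [∀ (K₁ K₂ : CochainComplex 𝒜 ℤ),
    HomologicalComplex.HasMapBifunctor K₁ K₂ T (ComplexShape.up ℤ)]

/-- the total complex of `T` applied to two complexes -/
noncomputable abbrev tens (L K : CochainComplex 𝒜 ℤ) : CochainComplex 𝒜 ℤ :=
  mapBifunctor L K T (ComplexShape.up ℤ)

/-- the inclusion of a summand -/
noncomputable abbrev ι (L K : CochainComplex 𝒜 ℤ) (p q n : ℤ) (h : p + q = n) :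
    (T.obj (L.X p)).obj (K.X q) ⟶ (tens T L K).X n :=
  ιMapBifunctor L K T (ComplexShape.up ℤ) p q n h

lemma hom_ext' {L K : CochainComplex 𝒜 ℤ} {n : ℤ} {Y : 𝒜} {f g : (tens T L K).X n ⟶ Y}
    (h : ∀ (p q : ℤ) (hpq : p + q = n), ι T L K p q n hpq ≫ f = ι T L K p q n hpq ≫ g) : f = g :=
  HomologicalComplex.mapBifunctor.hom_ext (fun p q hpq => h p q hpq)

/-- functoriality in the second variable -/
noncomputable abbrev tensL (L : CochainComplex 𝒜 ℤ) {K K' : CochainComplex 𝒜 ℤ} (g : K ⟶ K') :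
    tens T L K ⟶ tens T L K' :=
  mapBifunctorMap (𝟙 L) g T (ComplexShape.up ℤ)

/-- functoriality in the first variable -/
noncomputable abbrev tensR (K : CochainComplex 𝒜 ℤ) {L L' : CochainComplex 𝒜 ℤ} (f : L ⟶ L') :
    tens T L K ⟶ tens T L' K :=
  mapBifunctorMap f (𝟙 K) T (ComplexShape.up ℤ)

@[reassoc]
lemma ι_tensL (L : CochainComplex 𝒜 ℤ) {K K' : CochainComplex 𝒜 ℤ} (g : K ⟶ K') (p q n : ℤ)
    (h : p + q = n) :
    ι T L K p q n h ≫ (tensL T L g).f n = (T.obj (L.X p)).map (g.f q) ≫ ι T L K' p q n h := by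
  have := ι_mapBifunctorMap (𝟙 L) g T (ComplexShape.up ℤ) p q n h
  simp only [HomologicalComplex.id_f, CategoryTheory.Functor.map_id, NatTrans.id_app,
    Category.id_comp] at this
  exact this

@[reassoc]
lemma ι_tensR (K : CochainComplex 𝒜 ℤ) {L L' : CochainComplex 𝒜 ℤ} (f : L ⟶ L') (p q n : ℤ)
    (h : p + q = n) :
    ι T L K p q n h ≫ (tensR T K f).f n = (T.map (f.f p)).app (K.X q) ≫ ι T L' K p q n h := by
  have := ι_mapBifunctorMap f (𝟙 K) T (ComplexShape.up ℤ) p q n h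
  simp only [HomologicalComplex.id_f, CategoryTheory.Functor.map_id, Category.id_comp] at this
  exact this

/-! ### Graded maps -/

/-- a degreewise map on the second factor induces maps of the terms of the total complexes -/
noncomputable def gradedL (L : CochainComplex 𝒜 ℤ) {K K' : CochainComplex 𝒜 ℤ}
    (φ : ∀ q : ℤ, K.X q ⟶ K'.X q) (n : ℤ) : (tens T L K).X n ⟶ (tens T L K').X n :=
  mapBifunctorDesc (fun p q h => (T.obj (L.X p)).map (φ q) ≫ ι T L K' p q n h)

@[reassoc]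
lemma ι_gradedL (L : CochainComplex 𝒜 ℤ) {K K' : CochainComplex 𝒜 ℤ}
    (φ : ∀ q : ℤ, K.X q ⟶ K'.X q) (p q n : ℤ) (h : p + q = n) :
    ι T L K p q n h ≫ gradedL T L φ n = (T.obj (L.X p)).map (φ q) ≫ ι T L K' p q n h := by
  unfold gradedL ι
  rw [ι_mapBifunctorDesc]

/-- a degreewise map on the first factor induces maps of the terms of the total complexes -/
noncomputable def gradedR (K : CochainComplex 𝒜 ℤ) {L L' : CochainComplex 𝒜 ℤ}
    (φ : ∀ p : ℤ, L.X p ⟶ L'.X p) (n : ℤ) : (tens T L K).X n ⟶ (tens T L' K).X n :=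
  mapBifunctorDesc (fun p q h => (T.map (φ p)).app (K.X q) ≫ ι T L' K p q n h)

@[reassoc]
lemma ι_gradedR (K : CochainComplex 𝒜 ℤ) {L L' : CochainComplex 𝒜 ℤ}
    (φ : ∀ p : ℤ, L.X p ⟶ L'.X p) (p q n : ℤ) (h : p + q = n) :
    ι T L K p q n h ≫ gradedR T K φ n = (T.map (φ p)).app (K.X q) ≫ ι T L' K p q n h := by
  unfold gradedR ι
  rw [ι_mapBifunctorDesc]

lemma tensL_f (L : CochainComplex 𝒜 ℤ) {K K' : CochainComplex 𝒜 ℤ} (g : K ⟶ K') (n : ℤ) :
    (tensL T L g).f n = gradedL T L (fun q => g.f q) n := by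
  apply hom_ext'
  intro p q h
  rw [ι_tensL, ι_gradedL]

lemma tensR_f (K : CochainComplex 𝒜 ℤ) {L L' : CochainComplex 𝒜 ℤ} (f : L ⟶ L') (n : ℤ) :
    (tensR T K f).f n = gradedR T K (fun p => f.f p) n := by
  apply hom_ext'
  intro p q h
  rw [ι_tensR, ι_gradedR]

lemma gradedL_comp (L : CochainComplex 𝒜 ℤ) {K K' K'' : CochainComplex 𝒜 ℤ}
    (φ : ∀ q : ℤ, K.X q ⟶ K'.X q) (ψ : ∀ q : ℤ, K'.X q ⟶ K''.X q) (n : ℤ) :
    gradedL T L φ n ≫ gradedL T L ψ n = gradedL T L (fun q => φ q ≫ ψ q) n := by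
  apply hom_ext'
  intro p q h
  rw [ι_gradedL_assoc, ι_gradedL, ι_gradedL, CategoryTheory.Functor.map_comp, Category.assoc]

lemma gradedR_comp (K : CochainComplex 𝒜 ℤ) {L L' L'' : CochainComplex 𝒜 ℤ}
    (φ : ∀ p : ℤ, L.X p ⟶ L'.X p) (ψ : ∀ p : ℤ, L'.X p ⟶ L''.X p) (n : ℤ) :
    gradedR T K φ n ≫ gradedR T K ψ n = gradedR T K (fun p => φ p ≫ ψ p) n := by
  apply hom_ext'
  intro p q h
  rw [ι_gradedR_assoc, ι_gradedR, ι_gradedR, CategoryTheory.Functor.map_comp, NatTrans.comp_app, Category.assoc]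

lemma gradedL_id (L K : CochainComplex 𝒜 ℤ) (n : ℤ) :
    gradedL T L (fun q => 𝟙 (K.X q)) n = 𝟙 _ := by
  apply hom_ext'
  intro p q h
  rw [ι_gradedL, CategoryTheory.Functor.map_id, Category.id_comp, Category.comp_id]

lemma gradedR_id (L K : CochainComplex 𝒜 ℤ) (n : ℤ) :
    gradedR T K (fun p => 𝟙 (L.X p)) n = 𝟙 _ := by
  apply hom_ext'
  intro p q h
  rw [ι_gradedR, CategoryTheory.Functor.map_id, NatTrans.id_app, Category.id_comp,
    Category.comp_id]

lemma gradedL_add (L : CochainComplex 𝒜 ℤ) {K K' : CochainComplex 𝒜 ℤ}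
    (φ ψ : ∀ q : ℤ, K.X q ⟶ K'.X q) (n : ℤ) :
    gradedL T L (fun q => φ q + ψ q) n = gradedL T L φ n + gradedL T L ψ n := by
  apply hom_ext'
  intro p q h
  rw [ι_gradedL, Preadditive.comp_add, ι_gradedL, ι_gradedL, CategoryTheory.Functor.map_add,
    Preadditive.add_comp]

lemma gradedR_add (K : CochainComplex 𝒜 ℤ) {L L' : CochainComplex 𝒜 ℤ}
    (φ ψ : ∀ p : ℤ, L.X p ⟶ L'.X p) (n : ℤ) :
    gradedR T K (fun p => φ p + ψ p) n = gradedR T K φ n + gradedR T K ψ n := by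
  apply hom_ext'
  intro p q h
  rw [ι_gradedR, Preadditive.comp_add, ι_gradedR, ι_gradedR, CategoryTheory.Functor.map_add,
    NatTrans.app_add, Preadditive.add_comp]

lemma gradedL_zero (L : CochainComplex 𝒜 ℤ) {K K' : CochainComplex 𝒜 ℤ} (n : ℤ) :
    gradedL T L (fun q => (0 : K.X q ⟶ K'.X q)) n = 0 := by
  apply hom_ext'
  intro p q h
  rw [ι_gradedL, CategoryTheory.Functor.map_zero, zero_comp, comp_zero]

lemma gradedR_zero (K : CochainComplex 𝒜 ℤ) {L L' : CochainComplex 𝒜 ℤ} (n : ℤ) :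
    gradedR T K (fun p => (0 : L.X p ⟶ L'.X p)) n = 0 := by
  apply hom_ext'
  intro p q h
  rw [ι_gradedR, CategoryTheory.Functor.map_zero, NatTrans.app_zero, zero_comp, comp_zero]

/-! ### Functoriality -/

lemma tensL_comp (L : CochainComplex 𝒜 ℤ) {K K' K'' : CochainComplex 𝒜 ℤ} (g : K ⟶ K')
    (g' : K' ⟶ K'') : tensL T L (g ≫ g') = tensL T L g ≫ tensL T L g' := by
  ext n : 1
  rw [HomologicalComplex.comp_f, tensL_f, tensL_f, tensL_f, gradedL_comp]
  rfl

lemma tensR_comp (K : CochainComplex 𝒜 ℤ) {L L' L'' : CochainComplex 𝒜 ℤ} (f : L ⟶ L')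
    (f' : L' ⟶ L'') : tensR T K (f ≫ f') = tensR T K f ≫ tensR T K f' := by
  ext n : 1
  rw [HomologicalComplex.comp_f, tensR_f, tensR_f, tensR_f, gradedR_comp]
  rfl

lemma tensL_id (L K : CochainComplex 𝒜 ℤ) : tensL T L (𝟙 K) = 𝟙 _ := by
  ext n : 1
  rw [tensL_f, HomologicalComplex.id_f]
  exact gradedL_id T L K n

lemma tensR_id (L K : CochainComplex 𝒜 ℤ) : tensR T K (𝟙 L) = 𝟙 _ := by
  ext n : 1
  rw [tensR_f, HomologicalComplex.id_f]
  exact gradedR_id T L K n

lemma tensL_zero (L K K' : CochainComplex 𝒜 ℤ) : tensL T L (0 : K ⟶ K') = 0 := by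
  ext n : 1
  rw [tensL_f, HomologicalComplex.zero_f]
  exact gradedL_zero T L n

lemma tensR_zero (K L L' : CochainComplex 𝒜 ℤ) : tensR T K (0 : L ⟶ L') = 0 := by
  ext n : 1
  rw [tensR_f, HomologicalComplex.zero_f]
  exact gradedR_zero T K n

/-! ### Short complexes -/

/-- the short complex `L ⊗ S` -/
noncomputable def tensSC (L : CochainComplex 𝒜 ℤ) (S : ShortComplex (CochainComplex 𝒜 ℤ)) :
    ShortComplex (CochainComplex 𝒜 ℤ) :=
  ShortComplex.mk (tensL T L S.f) (tensL T L S.g)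
    (by rw [← tensL_comp, S.zero, tensL_zero])

/-- the short complex `S ⊗ K` -/
noncomputable def tensSCR (K : CochainComplex 𝒜 ℤ) (S : ShortComplex (CochainComplex 𝒜 ℤ)) :
    ShortComplex (CochainComplex 𝒜 ℤ) :=
  ShortComplex.mk (tensR T K S.f) (tensR T K S.g)
    (by rw [← tensR_comp, S.zero, tensR_zero])

/-- degreewise splitting data for a short complex of complexes, with well-typed fields -/
structure DSplit (S : ShortComplex (CochainComplex 𝒜 ℤ)) where
  r : ∀ q : ℤ, S.X₂.X q ⟶ S.X₁.X q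
  s : ∀ q : ℤ, S.X₃.X q ⟶ S.X₂.X q
  f_r : ∀ q : ℤ, S.f.f q ≫ r q = 𝟙 _
  s_g : ∀ q : ℤ, s q ≫ S.g.f q = 𝟙 _
  id : ∀ q : ℤ, r q ≫ S.f.f q + S.g.f q ≫ s q = 𝟙 _

/-- from degreewise splittings -/
def DSplit.ofSplitting {S : ShortComplex (CochainComplex 𝒜 ℤ)}
    (σ : ∀ q : ℤ, (S.map (HomologicalComplex.eval _ _ q)).Splitting) : DSplit S where
  r q := (σ q).r
  s q := (σ q).s
  f_r q := (σ q).f_r
  s_g q := (σ q).s_g
  id q := (σ q).id

/-- to degreewise splittings -/
def DSplit.splitting {S : ShortComplex (CochainComplex 𝒜 ℤ)} (σ : DSplit S) (q : ℤ) :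
    (S.map (HomologicalComplex.eval _ _ q)).Splitting where
  r := σ.r q
  s := σ.s q
  f_r := σ.f_r q
  s_g := σ.s_g q
  id := σ.id q

lemma DSplit.shortExact {S : ShortComplex (CochainComplex 𝒜 ℤ)} (σ : DSplit S) :
    S.ShortExact := by
  apply HomologicalComplex.shortExact_of_degreewise_shortExact
  intro n
  exact (σ.splitting n).shortExact

/-- degreewise splitting of `L ⊗ S` from a degreewise splitting of `S` -/
noncomputable def tensSCSplitting (L : CochainComplex 𝒜 ℤ) (S : ShortComplex (CochainComplex 𝒜 ℤ))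
    (σ : DSplit S) : DSplit (tensSC T L S) where
  r n := gradedL T L σ.r n
  s n := gradedL T L σ.s n
  f_r n := by
    change (tensL T L S.f).f n ≫ gradedL T L σ.r n = 𝟙 _
    rw [tensL_f, gradedL_comp]
    have : (fun q => S.f.f q ≫ σ.r q) = fun q => 𝟙 (S.X₁.X q) := by
      funext q
      exact σ.f_r q
    rw [this, gradedL_id]
  s_g n := by
    change gradedL T L σ.s n ≫ (tensL T L S.g).f n = 𝟙 _
    rw [tensL_f, gradedL_comp]
    have : (fun q => σ.s q ≫ S.g.f q) = fun q => 𝟙 (S.X₃.X q) := by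
      funext q
      exact σ.s_g q
    rw [this, gradedL_id]
  id n := by
    change gradedL T L σ.r n ≫ (tensL T L S.f).f n + (tensL T L S.g).f n ≫ gradedL T L σ.s n
      = 𝟙 ((tens T L S.X₂).X n)
    rw [tensL_f, tensL_f, gradedL_comp, gradedL_comp, ← gradedL_add]
    have : (fun q => σ.r q ≫ S.f.f q + S.g.f q ≫ σ.s q) = fun q => 𝟙 (S.X₂.X q) := by
      funext q
      exact σ.id q
    rw [this, gradedL_id]

/-- degreewise splitting of `S ⊗ K` from a degreewise splitting of `S` -/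
noncomputable def tensSCRSplitting (K : CochainComplex 𝒜 ℤ)
    (S : ShortComplex (CochainComplex 𝒜 ℤ))
    (σ : DSplit S) : DSplit (tensSCR T K S) where
  r n := gradedR T K σ.r n
  s n := gradedR T K σ.s n
  f_r n := by
    change (tensR T K S.f).f n ≫ gradedR T K σ.r n = 𝟙 _
    rw [tensR_f, gradedR_comp]
    have : (fun q => S.f.f q ≫ σ.r q) = fun q => 𝟙 (S.X₁.X q) := by
      funext q
      exact σ.f_r q
    rw [this, gradedR_id]
  s_g n := by
    change gradedR T K σ.s n ≫ (tensR T K S.g).f n = 𝟙 _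
    rw [tensR_f, gradedR_comp]
    have : (fun q => σ.s q ≫ S.g.f q) = fun q => 𝟙 (S.X₃.X q) := by
      funext q
      exact σ.s_g q
    rw [this, gradedR_id]
  id n := by
    change gradedR T K σ.r n ≫ (tensR T K S.f).f n + (tensR T K S.g).f n ≫ gradedR T K σ.s n
      = 𝟙 ((tens T S.X₂ K).X n)
    rw [tensR_f, tensR_f, gradedR_comp, gradedR_comp, ← gradedR_add]
    have : (fun q => σ.r q ≫ S.f.f q + S.g.f q ≫ σ.s q) = fun q => 𝟙 (S.X₂.X q) := by
      funext q
      exact σ.id q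
    rw [this, gradedR_id]

theorem shortExact_tensSC (L : CochainComplex 𝒜 ℤ) (S : ShortComplex (CochainComplex 𝒜 ℤ))
    (σ : DSplit S) : (tensSC T L S).ShortExact :=
  (tensSCSplitting T L S σ).shortExact

theorem shortExact_tensSCR (K : CochainComplex 𝒜 ℤ) (S : ShortComplex (CochainComplex 𝒜 ℤ))
    (σ : DSplit S) : (tensSCR T K S).ShortExact :=
  (tensSCRSplitting T K S σ).shortExact

end Groth.Agent.Helper5.KFA
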