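import Groth.Agent.Lib.Helper5.KFlat12

/-!
# K-flat resolutions by attaching cells
-/

set_option autoImplicit false
set_option linter.unusedSectionVars false
set_option linter.unusedVariables false
set_option linter.style.haveILetI false

universe u

open CategoryTheory CategoryTheory.Limits MonoidalCategory HomologicalComplex

namespace Groth.Agent.Helper5.KF

variable {A : Type u} [CommRing A] {M : DRing.Cx A}

section Step

variable (L : DRing.Cx A) (g : L ⟶ M)

/-- the cells to attach in degree `n`: a cycle `x` of degree `n + 1` of `L` together with a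
bounding element `m` of its image in `M` -/
structure Cell (n : ℤ) : Type u where
  x : L.X (n + 1)
  m : M.X n
  hx : L.d (n + 1) (n + 1 + 1) x = 0
  hm : M.d n (n + 1) m = g.f (n + 1) x

noncomputable def cellφ (n : ℤ) : (Cell L g n →₀ A) →ₗ[A] L.X (n + 1) :=
  Finsupp.linearCombination A (fun c => c.x)

noncomputable def cellα (n : ℤ) : (Cell L g n →₀ A) →ₗ[A] M.X n :=
  Finsupp.linearCombination A (fun c => c.m)

lemma cellφ_single (n : ℤ) (c : Cell L g n) (a : A) :
    cellφ L g n (Finsupp.single c a) = a • c.x := by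
  rw [cellφ, Finsupp.linearCombination_single]

lemma cellα_single (n : ℤ) (c : Cell L g n) (a : A) :
    cellα L g n (Finsupp.single c a) = a • c.m := by
  rw [cellα, Finsupp.linearCombination_single]

lemma d_cellφ (n : ℤ) (e : Cell L g n →₀ A) : L.d (n + 1) (n + 1 + 1) (cellφ L g n e) = 0 := by
  induction e using Finsupp.induction_linear with
  | zero => simp
  | add x y hx hy => rw [map_add, map_add, hx, hy, add_zero]
  | single c a => rw [cellφ_single, map_smul, c.hx, smul_zero]

lemma d_cellα (n : ℤ) (e : Cell L g n →₀ A) :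
    M.d n (n + 1) (cellα L g n e) = g.f (n + 1) (cellφ L g n e) := by
  induction e using Finsupp.induction_linear with
  | zero => simp
  | add x y hx hy => rw [map_add, map_add, hx, hy, map_add, map_add]
  | single c a => rw [cellφ_single, cellα_single, map_smul, map_smul, c.hm]

/-- the terms of the new complex -/
noncomputable def stepX (n : ℤ) : ModuleCat.{u} A :=
  ModuleCat.of A ((Cell L g n →₀ A) × L.X n)

noncomputable def stepD (n : ℤ) : stepX L g n ⟶ stepX L g (n + 1) :=
  ModuleCat.ofHom ((0 : _ →ₗ[A] (Cell L g (n + 1) →₀ A)).prod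
    ((cellφ L g n).coprod (L.d n (n + 1)).hom))

lemma stepD_apply (n : ℤ) (e : Cell L g n →₀ A) (l : L.X n) :
    stepD L g n ((e, l) : (Cell L g n →₀ A) × L.X n) =
      ((0, cellφ L g n e + L.d n (n + 1) l) : (Cell L g (n + 1) →₀ A) × L.X (n + 1)) := rfl

lemma stepD_sq (n : ℤ) : stepD L g n ≫ stepD L g (n + 1) = 0 := by
  ext ⟨e, l⟩
  change stepD L g (n + 1) (stepD L g n ((e, l) : (Cell L g n →₀ A) × L.X n)) = 0
  rw [stepD_apply, stepD_apply, map_zero, zero_add, map_add, d_cellφ, zero_add, d_d_apply]
  rfl

/-- the complex obtained by attaching cells -/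
noncomputable def stepL : DRing.Cx A := CochainComplex.of (stepX L g) (stepD L g) (stepD_sq L g)

lemma stepL_d (n : ℤ) : (stepL L g).d n (n + 1) = stepD L g n :=
  CochainComplex.of_d _ _ n

lemma stepL_d_apply (n : ℤ) (e : Cell L g n →₀ A) (l : L.X n) :
    (stepL L g).d n (n + 1) ((e, l) : (Cell L g n →₀ A) × L.X n) =
      ((0, cellφ L g n e + L.d n (n + 1) l) : (Cell L g (n + 1) →₀ A) × L.X (n + 1)) :=
  (app (stepL_d L g n) _).trans (stepD_apply L g n e l)

/-- the inclusion of `L` -/
noncomputable def stepι : L ⟶ stepL L g :=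
  CochainComplex.ofHom (Y := stepL L g)
    (fun n => ModuleCat.ofHom (LinearMap.inr A (Cell L g n →₀ A) (L.X n)))
    (by
      intro n
      rw [stepL_d]
      ext l
      change stepD L g n ((0, l) : (Cell L g n →₀ A) × L.X n) =
        ((0, L.d n (n + 1) l) : (Cell L g (n + 1) →₀ A) × L.X (n + 1))
      rw [stepD_apply, map_zero, zero_add])

/-- the map to `M` -/
noncomputable def stepg : stepL L g ⟶ M :=
  CochainComplex.ofHom (X := stepL L g)
    (fun n => ModuleCat.ofHom ((cellα L g n).coprod (g.f n).hom))
    (by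
      intro n
      rw [stepL_d]
      ext ⟨e, l⟩
      change M.d n (n + 1) (cellα L g n e + g.f n l) =
        ((cellα L g (n + 1)).coprod (g.f (n + 1)).hom)
          (stepD L g n ((e, l) : (Cell L g n →₀ A) × L.X n))
      rw [stepD_apply, map_add, d_cellα]
      change _ = cellα L g (n + 1) 0 + g.f (n + 1) (cellφ L g n e + L.d n (n + 1) l)
      rw [map_zero, zero_add, map_add]
      congr 1
      change (g.f n ≫ M.d n (n + 1)) l = (L.d n (n + 1) ≫ g.f (n + 1)) l
      exact app (g.comm n (n + 1)) l)

lemma stepι_f_apply (n : ℤ) (l : L.X n) :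
    (stepι L g).f n l = ((0, l) : (Cell L g n →₀ A) × L.X n) := rfl

lemma stepg_f_apply (n : ℤ) (e : Cell L g n →₀ A) (l : L.X n) :
    (stepg L g).f n ((e, l) : (Cell L g n →₀ A) × L.X n) = cellα L g n e + g.f n l := rfl

lemma stepι_stepg : stepι L g ≫ stepg L g = g := by
  ext n l
  change (stepg L g).f n ((stepι L g).f n l) = _
  rw [stepι_f_apply, stepg_f_apply, map_zero, zero_add]

/-- the attached cells kill the classes that die in `M` -/
lemma step_kill (n : ℤ) (x : L.X (n + 1)) (m : M.X n) (hx : L.d (n + 1) (n + 1 + 1) x = 0)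
    (hm : M.d n (n + 1) m = g.f (n + 1) x) :
    ∃ y : (stepL L g).X n, (stepL L g).d n (n + 1) y = (stepι L g).f (n + 1) x ∧
      (stepg L g).f n y = m := by
  refine ⟨((Finsupp.single (⟨x, m, hx, hm⟩ : Cell L g n) 1, 0) :
    (Cell L g n →₀ A) × L.X n), ?_, ?_⟩
  · rw [stepL_d_apply, stepι_f_apply, map_zero, add_zero, cellφ_single, one_smul]
  · rw [stepg_f_apply, map_zero, add_zero, cellα_single, one_smul]

/-- the quotient complex: free modules on the cells, with zero differentials -/
noncomputable def stepZ : DRing.Cx A :=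
  CochainComplex.of (fun n => ModuleCat.of A (Cell L g n →₀ A)) (fun n => 0) (fun n => by simp)

lemma stepZ_d (i j : ℤ) : (stepZ L g).d i j = 0 := by
  by_cases h : i + 1 = j
  · subst h
    exact CochainComplex.of_d (fun n => ModuleCat.of A (Cell L g n →₀ A))
      (fun n => (0 : ModuleCat.of A (Cell L g n →₀ A) ⟶ ModuleCat.of A (Cell L g (n + 1) →₀ A))) i
  · exact (stepZ L g).shape i j h

/-- the projection onto the cells -/
noncomputable def stepπ : stepL L g ⟶ stepZ L g :=
  CochainComplex.ofHom (X := stepL L g) (Y := stepZ L g)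
    (fun n => ModuleCat.ofHom (LinearMap.fst A (Cell L g n →₀ A) (L.X n)))
    (by
      intro n
      ext ⟨e, l⟩
      have h1 : (stepZ L g).d n (n + 1) (e : (stepZ L g).X n) = 0 := by
        rw [stepZ_d]
        rfl
      have h2 := stepL_d_apply L g n e l
      exact h1.trans (congrArg Prod.fst h2).symm)

lemma stepπ_f_apply (n : ℤ) (e : Cell L g n →₀ A) (l : L.X n) :
    (stepπ L g).f n ((e, l) : (Cell L g n →₀ A) × L.X n) = e := rfl

/-- the short exact sequence `L → stepL → stepZ` -/
noncomputable def stepSC : ShortComplex (DRing.Cx A) :=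
  ShortComplex.mk (stepι L g) (stepπ L g) (by
    ext n l
    change (stepπ L g).f n ((stepι L g).f n l) = 0
    rw [stepι_f_apply, stepπ_f_apply]
    rfl)

lemma stepSC_shortExact : (stepSC L g).ShortExact := by
  apply HomologicalComplex.shortExact_of_degreewise_shortExact
  intro n
  refine ModuleCat.shortComplex_shortExact _ ?_ ?_ ?_
  · rintro ⟨e, l⟩
    constructor
    · intro h
      have he : e = 0 := h
      subst he
      exact ⟨l, rfl⟩
    · rintro ⟨l', hl'⟩
      have : ((0, l') : (Cell L g n →₀ A) × L.X n) = (e, l) := hl'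
      have he : e = 0 := (congrArg Prod.fst this).symm
      subst he
      rfl
  · intro l l' h
    have : ((0, l) : (Cell L g n →₀ A) × L.X n) = (0, l') := h
    exact congrArg Prod.snd this
  · intro e
    exact ⟨((e, 0) : (Cell L g n →₀ A) × L.X n), rfl⟩

noncomputable def stepSplitting (q : ℤ) :
    ((stepSC L g).map (HomologicalComplex.eval _ _ q)).Splitting :=
  splittingOfRetraction (stepSC L g) (stepSC_shortExact L g)
    (fun q => ModuleCat.ofHom (LinearMap.snd A (Cell L g q →₀ A) (L.X q)))
    (fun q => by ext l; rfl) q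

theorem KFl.step (hL : KFl L) : KFl (stepL L g) := by
  intro N hN
  have hS := shortExact_tensorSC_of_splitting N (stepSC L g) (stepSplitting L g)
  exact (acyclic_of_shortExact _ hS).2.1 (hL N hN)
    (KFl.of_d_eq_zero (stepZ L g) (stepZ_d L g)
      (fun i => show Module.Flat A (Cell L g i →₀ A) from inferInstance) N hN)

lemma free_stepL (n : ℤ) (h : Module.Free A (L.X n)) : Module.Free A ((stepL L g).X n) :=
  show Module.Free A ((Cell L g n →₀ A) × L.X n) from inferInstance

end Step

end Groth.Agent.Helper5.KF
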