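import Groth.Agent.Lib.Helper5.KFlat13

/-!
# Existence of K-flat resolutions
-/

set_option autoImplicit false
set_option linter.unusedSectionVars false
set_option linter.unusedVariables false
set_option linter.style.haveILetI false

universe u

open CategoryTheory CategoryTheory.Limits MonoidalCategory HomologicalComplex ZeroObject

namespace Groth.Agent.Helper5.KF

variable {A : Type u} [CommRing A]

instance preservesColimitsOfShape_nat_forget :
    PreservesColimitsOfShape ℕ (forget (ModuleCat.{u} A)) := by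
  haveI := preservesSmallestFilteredColimits_of_preservesFilteredColimits
    (forget (ModuleCat.{u} A))
  exact PreservesFilteredColimitsOfSize.preserves_filtered_colimits ℕ

lemma KFl.zero : KFl (0 : DRing.Cx A) := by
  have hz : ∀ i : ℤ, IsZero ((0 : DRing.Cx A).X i) := fun i =>
    (HomologicalComplex.eval _ _ i).map_isZero (isZero_zero _)
  refine KFl.of_d_eq_zero _ (fun i j => (hz i).eq_of_src _ _) (fun i => ?_)
  haveI := ModuleCat.subsingleton_of_isZero (hz i)
  infer_instance

section Resolution

variable (M : DRing.Cx A)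

/-- a stage of the construction: a complex over `M` -/
structure Stage where
  L : DRing.Cx A
  g : L ⟶ M

/-- the stages, obtained by attaching cells repeatedly -/
noncomputable def stage : ℕ → Stage M
  | 0 => ⟨0, 0⟩
  | n + 1 => ⟨stepL (stage n).L (stage n).g, stepg (stage n).L (stage n).g⟩

noncomputable def stageι (n : ℕ) : (stage M n).L ⟶ (stage M (n + 1)).L :=
  stepι (stage M n).L (stage M n).g

lemma stageι_g (n : ℕ) : stageι M n ≫ (stage M (n + 1)).g = (stage M n).g :=
  stepι_stepg _ _

lemma stage_KFl : ∀ n : ℕ, KFl (stage M n).L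
  | 0 => KFl.zero
  | n + 1 => KFl.step _ _ (stage_KFl n)

lemma stage_free : ∀ (n : ℕ) (q : ℤ), Module.Free A ((stage M n).L.X q)
  | 0, q => by
    have hz : IsZero ((0 : DRing.Cx A).X q) :=
      (HomologicalComplex.eval _ _ q).map_isZero (isZero_zero (DRing.Cx A))
    haveI : Subsingleton ((0 : DRing.Cx A).X q) := ModuleCat.subsingleton_of_isZero hz
    exact (Module.Free.of_subsingleton A ((0 : DRing.Cx A).X q) : _)
  | n + 1, q => free_stepL _ _ q (stage_free n q)

lemma stage_kill (k : ℕ) (n : ℤ) (x : (stage M k).L.X (n + 1)) (m : M.X n)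
    (hx : (stage M k).L.d (n + 1) (n + 1 + 1) x = 0)
    (hm : M.d n (n + 1) m = (stage M k).g.f (n + 1) x) :
    ∃ y : (stage M (k + 1)).L.X n,
      (stage M (k + 1)).L.d n (n + 1) y = (stageι M k).f (n + 1) x ∧
        (stage M (k + 1)).g.f n y = m :=
  step_kill _ _ n x m hx hm

/-- the sequence of stages -/
noncomputable def resF : ℕ ⥤ DRing.Cx A := Functor.ofSequence (stageι M)

lemma resF_map_succ (n : ℕ) : (resF M).map (homOfLE (Nat.le_add_right n 1)) = stageι M n :=
  Functor.ofSequence_map_homOfLE_succ _ n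

noncomputable def resCocone : Cocone (resF M) where
  pt := M
  ι := NatTrans.ofSequence (fun n => (stage M n).g) (by
    intro n
    have h := stageι_g M n
    rw [resF_map_succ]
    exact h.trans (Category.comp_id _).symm)

/-- the resolution -/
noncomputable def resK : DRing.Cx A := colimit (resF M)

noncomputable def resf : resK M ⟶ M := colimit.desc (resF M) (resCocone M)

lemma ι_resf (n : ℕ) : colimit.ι (resF M) n ≫ resf M = (stage M n).g :=
  colimit.ι_desc _ _

lemma ι_resf_apply (n : ℕ) (q : ℤ) (y : (stage M n).L.X q) :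
    (resf M).f q ((colimit.ι (resF M) n).f q y) = (stage M n).g.f q y :=
  app (congrArg (fun φ => φ.f q) (ι_resf M n)) y

lemma stageι_ι_apply (n : ℕ) (q : ℤ) (y : (stage M n).L.X q) :
    (colimit.ι (resF M) (n + 1)).f q ((stageι M n).f q y) = (colimit.ι (resF M) n).f q y := by
  have := colimit.w (resF M) (homOfLE (Nat.le_add_right n 1))
  rw [resF_map_succ] at this
  exact app (congrArg (fun φ => φ.f q) this) y

theorem resK_KFl : KFl (resK M) :=
  G.KFl.of_isColimit (resF M) (colimit.cocone (resF M)) (colimit.isColimit (resF M))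
    (fun n => stage_KFl M n)

theorem resK_flat (q : ℤ) : Module.Flat A ((resK M).X q) :=
  G.flat_X_of_isColimit (resF M) (colimit.cocone (resF M)) (colimit.isColimit (resF M))
    (fun n q => by
      haveI := stage_free M n q
      exact (inferInstance : Module.Flat A ((stage M n).L.X q))) q

lemma res_kill (k : ℕ) (n : ℤ) (x : (stage M k).L.X (n + 1)) (m : M.X n)
    (hx : (stage M k).L.d (n + 1) (n + 1 + 1) x = 0)
    (hm : M.d n (n + 1) m = (stage M k).g.f (n + 1) x) :
    ∃ y : (resK M).X n,
      (resK M).d n (n + 1) y = (colimit.ι (resF M) k).f (n + 1) x ∧ (resf M).f n y = m := by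
  obtain ⟨y', hy'1, hy'2⟩ := stage_kill M k n x m hx hm
  refine ⟨(colimit.ι (resF M) (k + 1)).f n y', ?_, ?_⟩
  · have e1 := app ((colimit.ι (resF M) (k + 1)).comm n (n + 1)) y'
    have e2 := stageι_ι_apply M k (n + 1) x
    exact e1.trans ((congrArg (fun t => (colimit.ι (resF M) (k + 1)).f (n + 1) t) hy'1).trans e2)
  · rw [ι_resf_apply, hy'2]

theorem resf_surjective (i : ℤ) : Function.Surjective ((resf M).f i) := by
  intro m
  obtain ⟨y₁, hy₁, hy₁'⟩ := stage_kill M 0 (i + 1) 0 (M.d i (i + 1) m) (map_zero _)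
    (by rw [d_d_apply, map_zero])
  rw [map_zero] at hy₁
  obtain ⟨y₂, -, hy₂⟩ := stage_kill M 1 i y₁ m hy₁ hy₁'.symm
  exact ⟨(colimit.ι (resF M) 2).f i y₂, by rw [ι_resf_apply, hy₂]⟩

theorem resf_quasiIso : QuasiIso (resf M) := by
  apply quasiIso_of_elements
  · rintro n n' rfl x m hx hfx
    obtain ⟨j, x', rfl⟩ := G.X_exists_rep (resF M) (colimit.cocone (resF M))
      (colimit.isColimit (resF M)) (n + 1) x
    have h1 : (colimit.ι (resF M) j).f (n + 1 + 1)
        (((resF M).obj j).d (n + 1) (n + 1 + 1) x') = 0 :=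
      (app ((colimit.ι (resF M) j).comm (n + 1) (n + 1 + 1)).symm x').trans hx
    obtain ⟨k, u, hu⟩ := G.X_ker (resF M) (colimit.cocone (resF M))
      (colimit.isColimit (resF M)) (n + 1 + 1) j _ h1
    set x'' : (stage M k).L.X (n + 1) := ((resF M).map u).f (n + 1) x' with hx''
    have hdx'' : (stage M k).L.d (n + 1) (n + 1 + 1) x'' = 0 :=
      (app (((resF M).map u).comm (n + 1) (n + 1 + 1)) x').trans hu
    have hιx'' : (colimit.ι (resF M) k).f (n + 1) x'' = (colimit.ι (resF M) j).f (n + 1) x' :=
      app (congrArg (fun φ => φ.f (n + 1)) (colimit.w (resF M) u)) x'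
    have hg : M.d n (n + 1) m = (stage M k).g.f (n + 1) x'' := by
      rw [← ι_resf_apply, hιx'']
      exact hfx.symm
    obtain ⟨y, hy, -⟩ := res_kill M k n x'' m hdx'' hg
    exact ⟨y, hy.trans hιx''⟩
  · rintro n n' rfl m hm
    obtain ⟨y, hy, hy'⟩ := res_kill M 0 (n + 1) 0 m (map_zero _) (by rw [hm, map_zero])
    refine ⟨y, 0, ?_, ?_⟩
    · exact hy.trans (map_zero ((colimit.ι (resF M) 0).f (n + 1 + 1)).hom)
    · rw [hy', map_zero, add_zero]

end Resolution

end Groth.Agent.Helper5.KF
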