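import Groth.Agent.Lib.Helper5.KFlat1

/-!
# A bounded above complex of flat modules is K-flat (staircase argument)
-/

set_option autoImplicit false
set_option linter.unusedSectionVars false
set_option linter.unusedVariables false
set_option linter.style.haveILetI false

universe u

open CategoryTheory CategoryTheory.Limits MonoidalCategory HomologicalComplex

namespace Groth.Agent.Helper5.KF

variable {A : Type u} [CommRing A]

/-- elementwise criterion for exactness of a cochain complex of modules -/
lemma exactAt_of_elements (C : DRing.Cx A) (n : ℤ)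
    (h : ∀ z : C.X n, C.d n (n + 1) z = 0 → ∃ w : C.X (n - 1), C.d (n - 1) n w = z) :
    C.ExactAt n := by
  rw [HomologicalComplex.exactAt_iff' C (n - 1) n (n + 1) (by simp) (by simp),
    ShortComplex.moduleCat_exact_iff]
  intro z hz
  exact h z hz

lemma elements_of_exactAt (C : DRing.Cx A) (n : ℤ) (h : C.ExactAt n)
    (z : C.X n) (hz : C.d n (n + 1) z = 0) : ∃ w : C.X (n - 1), C.d (n - 1) n w = z := by
  rw [HomologicalComplex.exactAt_iff' C (n - 1) n (n + 1) (by simp) (by simp),
    ShortComplex.moduleCat_exact_iff] at h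
  exact h z hz

lemma d_d_apply (C : DRing.Cx A) (i j k : ℤ) (x : C.X i) : C.d j k (C.d i j x) = 0 :=
  app (C.d_comp_d i j k) x

section Staircase

variable (L P : DRing.Cx A) (b : ℤ) (hb : ∀ i : ℤ, b < i → IsZero (P.X i))
  (hP : ∀ i : ℤ, Module.Flat A (P.X i)) (hL : ∀ i : ℤ, L.ExactAt i) (n : ℤ)

include hb hP hL in
lemma staircase (k : ℕ) : ∀ (m : ℤ), b + 1 - m ≤ k → ∀ (z : (L ⊗ P).X n),
    (L ⊗ P).d n (n + 1) z = 0 →
    (∀ p q : ℤ, p + q = n → q < m → pr L P p q n z = 0) →
    ∃ w : (L ⊗ P).X (n - 1), (L ⊗ P).d (n - 1) n w = z := by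
  induction k with
  | zero =>
    intro m hm z hz hcomp
    refine ⟨0, ?_⟩
    rw [map_zero]
    symm
    apply eq_zero_of_components
    intro p q hpq
    by_cases hq : q < m
    · exact hcomp p q hpq hq
    · have hz0 : IsZero (L.X p ⊗ P.X q) :=
        (tensorLeft (L.X p)).map_isZero (hb q (by push_cast at hm; omega))
      haveI := ModuleCat.subsingleton_of_isZero hz0
      exact Subsingleton.elim _ _
  | succ k ih =>
    intro m hm z hz hcomp
    by_cases hm' : b + 1 - m ≤ k
    · exact ih m hm' z hz hcomp
    -- the lowest component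
    set p₀ : ℤ := n - m with hp₀
    set t := pr L P p₀ m n z with ht
    have h1 := pr_d_apply L P n (n + 1) rfl p₀ (m - 1) (p₀ + 1) m rfl (by omega) z
    rw [hz, map_zero, hcomp (p₀ + 1) (m - 1) (by omega) (by omega), map_zero, smul_zero,
      add_zero] at h1
    -- exactness of `L` tensored with the flat module `P.X m`
    have hex : Function.Exact (L.d (p₀ - 1) p₀).hom (L.d p₀ (p₀ + 1)).hom := by
      have := hL p₀
      rw [HomologicalComplex.exactAt_iff' L (p₀ - 1) p₀ (p₀ + 1) (by simp) (by simp),
        ShortComplex.moduleCat_exact_iff_range_eq_ker] at this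
      exact (LinearMap.exact_iff.mpr this.symm)
    haveI := hP m
    have hex' := Module.Flat.rTensor_exact (P.X m) hex
    obtain ⟨s, hs⟩ := (hex' t).mp h1.symm
    set w₀ : (L ⊗ P).X (n - 1) := ι L P (p₀ - 1) m (n - 1) (by omega) s with hw₀
    set z' := z - (L ⊗ P).d (n - 1) n w₀ with hz'
    have hz'd : (L ⊗ P).d n (n + 1) z' = 0 := by
      rw [hz', map_sub, hz, d_d_apply, sub_zero]
    have hcomp' : ∀ p q : ℤ, p + q = n → q < m + 1 → pr L P p q n z' = 0 := by
      intro p q hpq hq
      rw [hz', map_sub, pr_d_apply L P (n - 1) n (by omega) (p - 1) (q - 1) p q (by omega)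
        (by omega) w₀]
      have e2 : pr L P p (q - 1) (n - 1) w₀ = 0 := by
        rw [hw₀]
        exact pr_ι_ne_apply L P p (q - 1) (p₀ - 1) m (n - 1) (by omega) (by omega) s
      rw [e2, map_zero, smul_zero, add_zero]
      by_cases hqm : q = m
      · subst hqm
        obtain rfl : p = p₀ := by omega
        rw [hw₀, pr_ι_apply]
        rw [sub_eq_zero]
        exact hs.symm
      · have e1 : pr L P (p - 1) q (n - 1) w₀ = 0 := by
          rw [hw₀]
          exact pr_ι_ne_apply L P (p - 1) q (p₀ - 1) m (n - 1) (by omega) (by omega) s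
        rw [e1, map_zero, sub_zero]
        exact hcomp p q hpq (by omega)
    obtain ⟨w', hw'⟩ := ih (m + 1) (by push_cast at hm; omega) z' hz'd hcomp'
    refine ⟨w' + w₀, ?_⟩
    rw [map_add, hw', hz']
    abel

include hb hP hL in
/-- A bounded above complex of flat modules is K-flat. -/
theorem exactAt_tensor_of_flat_bddAbove : (L ⊗ P).ExactAt n := by
  apply exactAt_of_elements
  intro z hz
  -- finitely many components: find a lower bound for the support
  classical
  -- we use `mem_of_components` to find that `z` is supported on finitely many `q`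
  have key : ∀ z : (L ⊗ P).X n, ∃ m : ℤ, ∀ p q : ℤ, p + q = n → q < m → pr L P p q n z = 0 := by
    intro z
    let S : Submodule A ((L ⊗ P).X n) :=
      { carrier := {z | ∃ m : ℤ, ∀ p q : ℤ, p + q = n → q < m → pr L P p q n z = 0}
        add_mem' := by
          rintro x y ⟨m₁, h₁⟩ ⟨m₂, h₂⟩
          refine ⟨min m₁ m₂, fun p q hpq hq => ?_⟩
          rw [map_add, h₁ p q hpq (lt_of_lt_of_le hq (min_le_left _ _)),
            h₂ p q hpq (lt_of_lt_of_le hq (min_le_right _ _)), add_zero]
        zero_mem' := ⟨0, fun p q _ _ => map_zero _⟩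
        smul_mem' := by
          rintro c x ⟨m, h⟩
          exact ⟨m, fun p q hpq hq => by rw [map_smul, h p q hpq hq, smul_zero]⟩ }
    refine mem_of_components L P S z (fun p q hpq => ⟨q, fun p' q' hpq' hq' => ?_⟩)
    exact pr_ι_ne_apply L P p' q' p q n hpq (by omega) _
  obtain ⟨m, hm⟩ := key z
  exact staircase L P b hb hP hL n (b + 1 - m).toNat m (by omega) z hz hm

end Staircase

end Groth.Agent.Helper5.KF
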