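import Groth.Agent.Lib.Helper5.KFlat4

/-!
# A complex `K` with `M ⊗ K` acyclic for all modules `M` is K-flat (even: `L ⊗ K` is acyclic for
every complex `L`)
-/

set_option autoImplicit false
set_option linter.unusedSectionVars false
set_option linter.unusedVariables false
set_option linter.style.haveILetI false

universe u

open CategoryTheory CategoryTheory.Limits MonoidalCategory HomologicalComplex

namespace Groth.Agent.Helper5.KF

variable {A : Type u} [CommRing A] (L K : DRing.Cx A)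

/-- the differential on a pure component -/
lemma d_ι_apply (p q n : ℤ) (hpq : p + q = n) (n' : ℤ) (hn : n + 1 = n')
    (p' q' : ℤ) (hp' : p + 1 = p') (hq' : q + 1 = q') (w : (L.X p ⊗ K.X q : ModuleCat.{u} A)) :
    (L ⊗ K).d n n' (ι L K p q n hpq w) =
      ι L K p' q n' (by omega) ((L.d p p' ▷ K.X q) w) +
        p.negOnePow • ι L K p q' n' (by omega) ((L.X p ◁ K.d q q') w) := by
  have := app (ι_d L K p q n hpq n' hn p' q' hp' hq') w
  simpa using this

lemma whiskerRight_comp_apply {X Y Z : ModuleCat.{u} A} (f : X ⟶ Y) (g : Y ⟶ Z)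
    (W : ModuleCat.{u} A) (x : (X ⊗ W : ModuleCat.{u} A)) :
    (g ▷ W) ((f ▷ W) x) = ((f ≫ g) ▷ W) x := by
  rw [MonoidalCategory.comp_whiskerRight]
  rfl

lemma whiskerLeft_comp_apply {X Y Z : ModuleCat.{u} A} (f : X ⟶ Y) (g : Y ⟶ Z)
    (W : ModuleCat.{u} A) (x : (W ⊗ X : ModuleCat.{u} A)) :
    (W ◁ g) ((W ◁ f) x) = (W ◁ (f ≫ g)) x := by
  rw [MonoidalCategory.whiskerLeft_comp]
  rfl

lemma whisker_exchange_apply {X Y Z W : ModuleCat.{u} A} (f : X ⟶ Y) (g : Z ⟶ W)
    (x : (X ⊗ Z : ModuleCat.{u} A)) :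
    (f ▷ W) ((X ◁ g) x) = (Y ◁ g) ((f ▷ Z) x) :=
  app (whisker_exchange f g) x

lemma zero_whiskerRight_apply {X Y : ModuleCat.{u} A} (W : ModuleCat.{u} A)
    (x : (X ⊗ W : ModuleCat.{u} A)) : ((0 : X ⟶ Y) ▷ W) x = 0 := by
  rw [MonoidalPreadditive.zero_whiskerRight]
  rfl

lemma whiskerLeft_zero_apply {X Y : ModuleCat.{u} A} (W : ModuleCat.{u} A)
    (x : (W ⊗ X : ModuleCat.{u} A)) : (W ◁ (0 : X ⟶ Y)) x = 0 := by
  rw [MonoidalPreadditive.whiskerLeft_zero]
  rfl

lemma map_units_smul' {X Y : ModuleCat.{u} A} (f : X ⟶ Y) (ε : ℤˣ) (x : X) :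
    f (ε • x) = ε • f x := by
  rw [Units.smul_def, Units.smul_def, map_zsmul]

/-- `M ⊗ K` is acyclic for all modules `M` (elementwise form) -/
def ModAcyclic (K : DRing.Cx A) : Prop :=
  ∀ (M : ModuleCat.{u} A) (q q' q'' : ℤ) (_ : q + 1 = q') (_ : q' + 1 = q'')
    (t : (M ⊗ K.X q' : ModuleCat.{u} A)), (M ◁ K.d q' q'') t = 0 →
      ∃ s : (M ⊗ K.X q : ModuleCat.{u} A), (M ◁ K.d q q') s = t

variable {L K}

/-- Lemma A: a single-level element of the form `dL w`, where `dK w` is in the image of `dL`,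
is a boundary. -/
lemma boundary_of_image (hK : ModAcyclic K) (p₀ p₁ p₂ p₃ q₀ q₁ q₂ n : ℤ) (hp01 : p₀ + 1 = p₁)
    (hp12 : p₁ + 1 = p₂) (hp23 : p₂ + 1 = p₃) (hq01 : q₀ + 1 = q₁) (hq12 : q₁ + 1 = q₂)
    (hn : p₂ + q₁ = n) (w : (L.X p₁ ⊗ K.X q₁ : ModuleCat.{u} A))
    (w' : (L.X p₀ ⊗ K.X q₂ : ModuleCat.{u} A))
    (hww' : (L.X p₁ ◁ K.d q₁ q₂) w = (L.d p₀ p₁ ▷ K.X q₂) w') :
    ∃ y : (L ⊗ K).X (n - 1),
      (L ⊗ K).d (n - 1) n y = ι L K p₂ q₁ n hn ((L.d p₁ p₂ ▷ K.X q₁) w) := by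
  let B : ModuleCat.{u} A := ModuleCat.of A (LinearMap.range (L.d p₁ p₂).hom)
  let dbar : L.X p₁ ⟶ B := ModuleCat.ofHom (L.d p₁ p₂).hom.rangeRestrict
  let j : B ⟶ L.X p₂ := ModuleCat.ofHom (LinearMap.range (L.d p₁ p₂).hom).subtype
  have h1 : dbar ≫ j = L.d p₁ p₂ := by
    ext x
    rfl
  have h2 : L.d p₀ p₁ ≫ dbar = 0 := by
    ext x
    exact d_d_apply L p₀ p₁ p₂ x
  have h3 : j ≫ L.d p₂ p₃ = 0 := by
    ext ⟨y, x, rfl⟩
    exact d_d_apply L p₁ p₂ p₃ x
  set ut := (dbar ▷ K.X q₁) w with hut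
  have hut0 : (B ◁ K.d q₁ q₂) ut = 0 := by
    rw [hut, ← whisker_exchange_apply, hww', whiskerRight_comp_apply, h2,
      zero_whiskerRight_apply]
  obtain ⟨vt, hvt⟩ := hK B q₀ q₁ q₂ hq01 hq12 ut hut0
  set v := (j ▷ K.X q₀) vt with hv
  have hv1 : (L.X p₂ ◁ K.d q₀ q₁) v = (L.d p₁ p₂ ▷ K.X q₁) w := by
    rw [hv, ← whisker_exchange_apply, hvt, hut, whiskerRight_comp_apply, h1]
  have hv2 : (L.d p₂ p₃ ▷ K.X q₀) v = 0 := by
    rw [hv, whiskerRight_comp_apply, h3, zero_whiskerRight_apply]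
  refine ⟨p₂.negOnePow • ι L K p₂ q₀ (n - 1) (by omega) v, ?_⟩
  rw [map_units_smul', d_ι_apply L K p₂ q₀ (n - 1) (by omega) n (by omega) p₃ q₁ hp23 hq01 v, hv2,
    map_zero, zero_add, hv1, smul_smul, Int.units_mul_self, one_smul]

lemma units_smul_eq_zero {X : ModuleCat.{u} A} (ε : ℤˣ) (x : X) (h : ε • x = 0) : x = 0 := by
  have := congrArg (fun y => ε • y) h
  simpa [smul_smul] using this

/-- Lemma C: a single-level cycle is a boundary. -/
lemma boundary_of_single (hK : ModAcyclic K) (p q n : ℤ) (hpq : p + q = n)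
    (c : (L.X p ⊗ K.X q : ModuleCat.{u} A)) (p' q' : ℤ) (hp' : p + 1 = p') (hq' : q + 1 = q')
    (hc1 : (L.d p p' ▷ K.X q) c = 0) (hc2 : (L.X p ◁ K.d q q') c = 0) :
    ∃ y : (L ⊗ K).X (n - 1), (L ⊗ K).d (n - 1) n y = ι L K p q n hpq c := by
  obtain ⟨w, hw⟩ := hK (L.X p) (q - 1) q q' (by omega) hq' c hc2
  set u₁ := (L.d p p' ▷ K.X (q - 1)) w with hu₁
  have hu₁0 : (L.X p' ◁ K.d (q - 1) q) u₁ = 0 := by
    rw [hu₁, ← whisker_exchange_apply, hw, hc1]
  obtain ⟨w₁, hw₁⟩ := hK (L.X p') (q - 2) (q - 1) q (by omega) (by omega) u₁ hu₁0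
  obtain ⟨y₂, hy₂⟩ := boundary_of_image (L := L) hK p p' (p' + 1) (p' + 2) (q - 3) (q - 2) (q - 1) n
    hp' rfl (by omega) (by omega) (by omega) (by omega) w₁ w (by rw [hw₁])
  have e1 := d_ι_apply L K p (q - 1) (n - 1) (by omega) n (by omega) p' q hp' (by omega) w
  have e2 := d_ι_apply L K p' (q - 2) (n - 1) (by omega) n (by omega) (p' + 1) (q - 1) rfl
    (by omega) w₁
  rw [hw] at e1
  rw [hw₁] at e2
  rw [← hu₁] at e1
  refine ⟨p.negOnePow • ι L K p (q - 1) (n - 1) (by omega) w -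
    (p.negOnePow * p'.negOnePow) • (ι L K p' (q - 2) (n - 1) (by omega) w₁ - y₂), ?_⟩
  rw [map_sub, map_units_smul', map_units_smul', map_sub, e1, e2, hy₂, add_sub_cancel_left,
    smul_add, smul_smul, smul_smul, Int.units_mul_self, one_smul, mul_assoc, Int.units_mul_self,
    mul_one, add_sub_cancel_left]

/-- a cycle supported on a single level is a boundary -/
lemma boundary_of_support_single (hK : ModAcyclic K) (n m : ℤ) (z : (L ⊗ K).X n)
    (hz : (L ⊗ K).d n (n + 1) z = 0)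
    (hcomp : ∀ p q : ℤ, p + q = n → p ≠ m → pr L K p q n z = 0) :
    ∃ w : (L ⊗ K).X (n - 1), (L ⊗ K).d (n - 1) n w = z := by
  set c := pr L K m (n - m) n z with hc
  have hzc : z = ι L K m (n - m) n (by omega) c := by
    rw [← sub_eq_zero]
    apply eq_zero_of_components
    intro p q hpq
    rw [map_sub]
    by_cases hp : p = m
    · subst hp
      obtain rfl : q = n - p := by omega
      rw [pr_ι_apply, sub_self]
    · rw [hcomp p q hpq hp, pr_ι_ne_apply L K p q m (n - m) n (by omega) (by omega), sub_zero]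
  have h1 := pr_d_apply L K n (n + 1) rfl m (n - m - 1) (m + 1) (n - m) rfl (by omega) z
  rw [hz, map_zero, hcomp (m + 1) (n - m - 1) (by omega) (by omega), map_zero, smul_zero,
    add_zero] at h1
  have h2 := pr_d_apply L K n (n + 1) rfl (m - 1) (n - m) m (n - m + 1) (by omega) rfl z
  rw [hz, map_zero, hcomp (m - 1) (n - m + 1) (by omega) (by omega), map_zero, zero_add] at h2
  have h2' := units_smul_eq_zero _ _ h2.symm
  obtain ⟨y, hy⟩ := boundary_of_single (L := L) hK m (n - m) n (by omega) c (m + 1) (n - m + 1)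
    rfl rfl h1.symm h2'
  exact ⟨y, by rw [hy, ← hzc]⟩

lemma staircase2 (hK : ModAcyclic K) (n M : ℤ) (k : ℕ) : ∀ (m : ℤ), M - m ≤ k → m ≤ M →
    ∀ (z : (L ⊗ K).X n), (L ⊗ K).d n (n + 1) z = 0 →
    (∀ p q : ℤ, p + q = n → p < m → pr L K p q n z = 0) →
    (∀ p q : ℤ, p + q = n → M < p → pr L K p q n z = 0) →
    ∃ w : (L ⊗ K).X (n - 1), (L ⊗ K).d (n - 1) n w = z := by
  induction k with
  | zero =>
    intro m hm hmM z hz h1 h2
    obtain rfl : m = M := by push_cast at hm; omega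
    exact boundary_of_support_single hK n m z hz (fun p q hpq hp => by
      rcases lt_or_gt_of_ne hp with h | h
      · exact h1 p q hpq h
      · exact h2 p q hpq h)
  | succ k ih =>
    intro m hm hmM z hz h1 h2
    by_cases hm' : M - m ≤ k
    · exact ih m hm' hmM z hz h1 h2
    have hmM' : m + 1 ≤ M := by push_cast at hm; omega
    set c := pr L K m (n - m) n z with hc
    have e2 := pr_d_apply L K n (n + 1) rfl (m - 1) (n - m) m (n - m + 1) (by omega) rfl z
    rw [hz, map_zero, h1 (m - 1) (n - m + 1) (by omega) (by omega), map_zero, zero_add] at e2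
    have e2' := units_smul_eq_zero _ _ e2.symm
    obtain ⟨w, hw⟩ := hK (L.X m) (n - m - 1) (n - m) (n - m + 1) (by omega) rfl c e2'
    set w₀ : (L ⊗ K).X (n - 1) := m.negOnePow • ι L K m (n - m - 1) (n - 1) (by omega) w with hw₀
    have hdw₀ : (L ⊗ K).d (n - 1) n w₀ =
        m.negOnePow • ι L K (m + 1) (n - m - 1) n (by omega)
          ((L.d m (m + 1) ▷ K.X (n - m - 1)) w) + ι L K m (n - m) n (by omega) c := by
      rw [hw₀, map_units_smul', d_ι_apply L K m (n - m - 1) (n - 1) (by omega) n (by omega)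
        (m + 1) (n - m) rfl (by omega) w, hw, smul_add, smul_smul, Int.units_mul_self, one_smul]
    set z' := z - (L ⊗ K).d (n - 1) n w₀ with hz'
    have hz'd : (L ⊗ K).d n (n + 1) z' = 0 := by
      rw [hz', map_sub, hz, d_d_apply, sub_zero]
    have h1' : ∀ p q : ℤ, p + q = n → p < m + 1 → pr L K p q n z' = 0 := by
      intro p q hpq hp
      rw [hz', map_sub, hdw₀, map_add, map_units_smul',
        pr_ι_ne_apply L K p q (m + 1) (n - m - 1) n (by omega) (by omega), smul_zero, zero_add]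
      by_cases hpm : p = m
      · subst hpm
        obtain rfl : q = n - p := by omega
        rw [pr_ι_apply, sub_self]
      · rw [pr_ι_ne_apply L K p q m (n - m) n (by omega) (by omega), sub_zero]
        exact h1 p q hpq (by omega)
    have h2' : ∀ p q : ℤ, p + q = n → M < p → pr L K p q n z' = 0 := by
      intro p q hpq hp
      rw [hz', map_sub, hdw₀, map_add, map_units_smul',
        pr_ι_ne_apply L K p q (m + 1) (n - m - 1) n (by omega) (by omega), smul_zero, zero_add,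
        pr_ι_ne_apply L K p q m (n - m) n (by omega) (by omega), sub_zero]
      exact h2 p q hpq hp
    obtain ⟨w', hw'⟩ := ih (m + 1) (by push_cast at hm; omega) hmM' z' hz'd h1' h2'
    refine ⟨w' + w₀, ?_⟩
    rw [map_add, hw', hz']
    abel

/-- If `M ⊗ K` is acyclic for every module `M`, then `L ⊗ K` is acyclic for every complex `L`. -/
theorem exactAt_tensor_of_modAcyclic (hK : ModAcyclic K) (L : DRing.Cx A) (n : ℤ) :
    (L ⊗ K).ExactAt n := by
  apply exactAt_of_elements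
  intro z hz
  have key : ∀ z : (L ⊗ K).X n, ∃ m M : ℤ,
      (∀ p q : ℤ, p + q = n → p < m → pr L K p q n z = 0) ∧
      (∀ p q : ℤ, p + q = n → M < p → pr L K p q n z = 0) := by
    intro z
    let S : Submodule A ((L ⊗ K).X n) :=
      { carrier := {z | ∃ m M : ℤ,
          (∀ p q : ℤ, p + q = n → p < m → pr L K p q n z = 0) ∧
          (∀ p q : ℤ, p + q = n → M < p → pr L K p q n z = 0)}
        add_mem' := by
          rintro x y ⟨m₁, M₁, h₁, h₁'⟩ ⟨m₂, M₂, h₂, h₂'⟩
          refine ⟨min m₁ m₂, max M₁ M₂, fun p q hpq hq => ?_, fun p q hpq hq => ?_⟩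
          · rw [map_add, h₁ p q hpq (lt_of_lt_of_le hq (min_le_left _ _)),
              h₂ p q hpq (lt_of_lt_of_le hq (min_le_right _ _)), add_zero]
          · rw [map_add, h₁' p q hpq (lt_of_le_of_lt (le_max_left _ _) hq),
              h₂' p q hpq (lt_of_le_of_lt (le_max_right _ _) hq), add_zero]
        zero_mem' := ⟨0, 0, fun p q _ _ => map_zero _, fun p q _ _ => map_zero _⟩
        smul_mem' := by
          rintro c x ⟨m, M, h, h'⟩
          exact ⟨m, M, fun p q hpq hq => by rw [map_smul, h p q hpq hq, smul_zero],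
            fun p q hpq hq => by rw [map_smul, h' p q hpq hq, smul_zero]⟩ }
    refine mem_of_components L K S z (fun p q hpq => ⟨p, p, fun p' q' hpq' hq' => ?_,
      fun p' q' hpq' hq' => ?_⟩)
    · exact pr_ι_ne_apply L K p' q' p q n hpq (by omega) _
    · exact pr_ι_ne_apply L K p' q' p q n hpq (by omega) _
  obtain ⟨m, M, h1, h2⟩ := key z
  exact staircase2 hK n (max m M) (max m M - m).toNat m (by omega) (le_max_left _ _) z hz h1
    (fun p q hpq hp => h2 p q hpq (lt_of_le_of_lt (le_max_right _ _) hp))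

end Groth.Agent.Helper5.KF
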