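import Mathlib

/-!
# Exactness of `M ⊗ (X → Y → Z)` for all finitely presented `M` implies it for all `M`
-/

set_option autoImplicit false
set_option linter.unusedSectionVars false
set_option linter.unusedVariables false

universe u

open TensorProduct

namespace Groth.Agent.Helper5.KF

variable {R : Type u} [CommRing R] {X Y Z : Type u} [AddCommGroup X] [Module R X]
  [AddCommGroup Y] [Module R Y] [AddCommGroup Z] [Module R Z] (f : X →ₗ[R] Y) (g : Y →ₗ[R] Z)

/-- the property: `M ⊗ X → M ⊗ Y → M ⊗ Z` is exact in the middle (elementwise) -/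
def TExact (M : Type u) [AddCommGroup M] [Module R M] : Prop :=
  ∀ t : M ⊗[R] Y, LinearMap.lTensor M g t = 0 → ∃ s : M ⊗[R] X, LinearMap.lTensor M f s = t

variable {f g}

/-- pushing forward a solution -/
lemma TExact.push {M' M : Type u} [AddCommGroup M'] [Module R M'] [AddCommGroup M] [Module R M]
    (h : TExact f g M') (φ : M' →ₗ[R] M) (t' : M' ⊗[R] Y)
    (ht' : LinearMap.lTensor M' g t' = 0) :
    ∃ s : M ⊗[R] X, LinearMap.lTensor M f s = LinearMap.rTensor Y φ t' := by
  obtain ⟨s', hs'⟩ := h t' ht'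
  refine ⟨LinearMap.rTensor X φ s', ?_⟩
  rw [← hs', ← LinearMap.comp_apply, ← LinearMap.comp_apply, LinearMap.lTensor_comp_rTensor,
    LinearMap.rTensor_comp_lTensor]

/-- Step A: finitely generated modules. -/
lemma TExact.of_finite
    (hfp : ∀ (M : Type u) [AddCommGroup M] [Module R M], Module.FinitePresentation R M →
      TExact f g M)
    (M : Type u) [AddCommGroup M] [Module R M] [Module.Finite R M] : TExact f g M := by
  intro t ht
  obtain ⟨n, π, hπ⟩ := Module.Finite.exists_fin' R M
  obtain ⟨tt, rfl⟩ := LinearMap.rTensor_surjective Y hπ t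
  set y := LinearMap.lTensor (Fin n → R) g tt with hy
  have hy0 : LinearMap.rTensor Z π y = 0 := by
    rw [hy, ← LinearMap.comp_apply, LinearMap.rTensor_comp_lTensor,
      ← LinearMap.lTensor_comp_rTensor, LinearMap.comp_apply, ht]
  have hex := rTensor_exact Z (LinearMap.exact_subtype_ker_map π) hπ
  obtain ⟨y', hy'⟩ := (hex y).mp hy0
  obtain ⟨N'', hfin, hsub⟩ :=
    TensorProduct.exists_finite_submodule_left_of_setFinite {y'} (Set.finite_singleton y')
  obtain ⟨y'', hy''⟩ := hsub (Set.mem_singleton y')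
  set N' : Submodule R (Fin n → R) := Submodule.map (LinearMap.ker π).subtype N'' with hN'def
  have hN' : N' ≤ LinearMap.ker π := Submodule.map_subtype_le _ _
  have hfg : (LinearMap.ker N'.mkQ).FG := by
    rw [Submodule.ker_mkQ]
    exact (Module.Finite.iff_fg.mp hfin).map _
  have hfpM' : Module.FinitePresentation R ((Fin n → R) ⧸ N') :=
    Module.finitePresentation_of_free_of_surjective N'.mkQ (Submodule.mkQ_surjective N') hfg
  set t' := LinearMap.rTensor Y N'.mkQ tt with ht'
  have ht'0 : LinearMap.lTensor ((Fin n → R) ⧸ N') g t' = 0 := by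
    rw [ht', ← LinearMap.comp_apply, LinearMap.lTensor_comp_rTensor,
      ← LinearMap.rTensor_comp_lTensor, LinearMap.comp_apply, ← hy, ← hy', ← hy'',
      ← LinearMap.comp_apply, ← LinearMap.comp_apply, ← LinearMap.rTensor_comp,
      ← LinearMap.rTensor_comp]
    have : (N'.mkQ ∘ₗ (LinearMap.ker π).subtype) ∘ₗ N''.subtype = 0 := by
      ext x
      exact (Submodule.Quotient.mk_eq_zero _).mpr ⟨x.1, x.2, rfl⟩
    rw [this, LinearMap.rTensor_zero, LinearMap.zero_apply]
  obtain ⟨s, hs⟩ := (hfp _ hfpM').push (N'.liftQ π hN') t' ht'0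
  refine ⟨s, ?_⟩
  rw [hs, ht', ← LinearMap.comp_apply, ← LinearMap.rTensor_comp, Submodule.liftQ_mkQ]

/-- Step B: all modules. -/
theorem TExact.of_finitePresentation
    (hfp : ∀ (M : Type u) [AddCommGroup M] [Module R M], Module.FinitePresentation R M →
      TExact f g M)
    (M : Type u) [AddCommGroup M] [Module R M] : TExact f g M := by
  intro t ht
  obtain ⟨M₀, hfin, hsub⟩ :=
    TensorProduct.exists_finite_submodule_left_of_setFinite {t} (Set.finite_singleton t)
  obtain ⟨t₀, rfl⟩ := hsub (Set.mem_singleton t)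
  set x := LinearMap.lTensor M₀ g t₀ with hx
  have hx0 : LinearMap.rTensor Z M₀.subtype x = LinearMap.rTensor Z M₀.subtype 0 := by
    rw [map_zero, hx, ← LinearMap.comp_apply, LinearMap.rTensor_comp_lTensor,
      ← LinearMap.lTensor_comp_rTensor, LinearMap.comp_apply, ht]
  obtain ⟨M₁, hM₁, hle, heq⟩ :=
    Submodule.FG.exists_rTensor_fg_inclusion_eq (Module.Finite.iff_fg.mp hfin) hx0
  rw [map_zero] at heq
  have : Module.Finite R M₁ := Module.Finite.iff_fg.mpr hM₁
  set t₁ := LinearMap.rTensor Y (Submodule.inclusion hle) t₀ with ht₁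
  have ht₁0 : LinearMap.lTensor M₁ g t₁ = 0 := by
    rw [ht₁, ← LinearMap.comp_apply, LinearMap.lTensor_comp_rTensor,
      ← LinearMap.rTensor_comp_lTensor, LinearMap.comp_apply, ← hx, heq]
  obtain ⟨s, hs⟩ := (TExact.of_finite hfp M₁).push M₁.subtype t₁ ht₁0
  refine ⟨s, ?_⟩
  rw [hs, ht₁, ← LinearMap.comp_apply, ← LinearMap.rTensor_comp]
  rfl

end Groth.Agent.Helper5.KF
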