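import Groth.Agent.Lib.Helper5.KFlat7
import Groth.Agent.Lib.Helper5.KFlat8

/-!
# `K ⊗ M` acyclic for all finitely presented `M` implies `K` is K-flat
-/

set_option autoImplicit false
set_option linter.unusedSectionVars false
set_option linter.unusedVariables false

universe u

open CategoryTheory CategoryTheory.Limits MonoidalCategory HomologicalComplex TensorProduct

namespace Groth.Agent.Helper5.KF

variable {A : Type u} [CommRing A]

lemma elements_of_exactAt' (C : DRing.Cx A) (i j k : ℤ) (hij : i + 1 = j) (hjk : j + 1 = k)
    (h : C.ExactAt j) (z : C.X j) (hz : C.d j k z = 0) : ∃ w : C.X i, C.d i j w = z := by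
  rw [HomologicalComplex.exactAt_iff' C i j k (by subst hij; simp) (by subst hjk; simp),
    ShortComplex.moduleCat_exact_iff] at h
  exact h z hz

theorem modAcyclic_of_tensorCx (K : DRing.Cx A)
    (hK : ∀ (M : Type u) [AddCommGroup M] [Module A M], Module.FinitePresentation A M →
      (∀ i : ℤ, IsZero ((DRing.tensorCx K (ModuleCat.of A M)).homology i))) : ModAcyclic K := by
  intro M q q' q'' hq hq' t ht
  have hfp : ∀ (M : Type u) [AddCommGroup M] [Module A M], Module.FinitePresentation A M →
      TExact (K.d q q').hom (K.d q' q'').hom M := by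
    intro M _ _ hM t ht
    have hex : (DRing.tensorCx K (ModuleCat.of A M)).ExactAt q' :=
      (HomologicalComplex.exactAt_iff_isZero_homology _ _).mpr (hK M hM q')
    have hz : (DRing.tensorCx K (ModuleCat.of A M)).d q' q''
        (TensorProduct.comm A M (K.X q') t : (K.X q' ⊗[A] M)) = 0 := by
      have := LinearMap.rTensor_comm (N := M) (K.d q' q'').hom t
      rw [ht, map_zero] at this
      exact this
    obtain ⟨w, hw⟩ : ∃ w : K.X q ⊗[A] M, LinearMap.rTensor M (K.d q q').hom w =
        TensorProduct.comm A M (K.X q') t := elements_of_exactAt' _ q q' q'' hq hq' hex _ hz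
    refine ⟨(TensorProduct.comm A M (K.X q)).symm w, ?_⟩
    apply (TensorProduct.comm A M (K.X q')).injective
    rw [← LinearMap.rTensor_comm, LinearEquiv.apply_symm_apply]
    exact hw
  exact TExact.of_finitePresentation hfp M t ht

end Groth.Agent.Helper5.KF
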