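import Groth.Agent.Lib.Helper5.KZeroPID

/-!
# Generation of `K₀` of finitely generated modules by cyclic modules
-/

open CategoryTheory CategoryTheory.Limits

universe u

namespace Groth.Agent.Helper5.KZ

variable {A : Type u} [CommRing A]

/-- If `H` contains the classes of `A ⧸ I` for all `I` in an upward closed set `S` of ideals,
it contains the class of every finitely generated module all of whose elements have annihilator
in `S`. -/
theorem clSub_mem_of_card' (H : AddSubgroup (KZero.K0sub (Pfin A))) (S : Set (Ideal A))
    (hS : ∀ I J : Ideal A, I ∈ S → I ≤ J → J ∈ S)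
    (hH : ∀ I ∈ S, KZero.clSub (Pfin A) (ModuleCat.of A (A ⧸ I)) ∈ H) (n : ℕ) :
    ∀ (M : Type u) [AddCommGroup M] [Module A M] (s : Finset M),
    s.card ≤ n → Submodule.span A (s : Set M) = ⊤ →
    (∀ m : M, LinearMap.ker (LinearMap.toSpanSingleton A M m) ∈ S) →
    KZero.clSub (Pfin A) (ModuleCat.of A M) ∈ H := by
  classical
  induction n with
  | zero =>
    intro M _ _ s hs hspan _
    have : s = ∅ := Finset.card_eq_zero.mp (Nat.le_zero.mp hs)
    subst this
    have hsub : Subsingleton M := by
      rw [← Submodule.subsingleton_iff A, ← subsingleton_iff_bot_eq_top]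
      simpa using hspan
    rw [clSub_subsingleton M]
    exact zero_mem _
  | succ n ih =>
    intro M _ _ s hs hspan hann
    by_cases hse : s = ∅
    · subst hse
      have hsub : Subsingleton M := by
        rw [← Submodule.subsingleton_iff A, ← subsingleton_iff_bot_eq_top]
        simpa using hspan
      rw [clSub_subsingleton M]
      exact zero_mem _
    · obtain ⟨x, hx⟩ := Finset.nonempty_iff_ne_empty.mpr hse
      have : Module.Finite A M := ⟨⟨s, hspan⟩⟩
      let N : Submodule A M := Submodule.span A {x}
      have hSES := clSub_exact N.subtype N.mkQ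
        (by rw [LinearMap.exact_iff, Submodule.ker_mkQ, Submodule.range_subtype])
        N.injective_subtype (Submodule.mkQ_surjective _)
      rw [hSES]
      refine add_mem ?_ ?_
      · -- the cyclic part
        have e : (A ⧸ LinearMap.ker (LinearMap.toSpanSingleton A M x)) ≃ₗ[A] N :=
          (LinearMap.quotKerEquivRange (LinearMap.toSpanSingleton A M x)).trans
            (LinearEquiv.ofEq _ _ (LinearMap.span_singleton_eq_range A M x).symm)
        rw [← clSub_equiv e]
        exact hH _ (hann x)
      · -- the quotient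
        refine ih (M ⧸ N) ((s.erase x).image N.mkQ) ?_ ?_ ?_
        · refine (Finset.card_image_le).trans ?_
          rw [Finset.card_erase_of_mem hx]
          omega
        · rw [Finset.coe_image, ← Submodule.map_span]
          have h2 : N ⊔ Submodule.span A ((s.erase x : Finset M) : Set M) = ⊤ := by
            rw [← Submodule.span_union, ← hspan]
            congr 1
            rw [Finset.coe_erase]
            ext y
            simp only [Set.singleton_union, Set.mem_insert_iff, Set.mem_diff, Finset.mem_coe,
              Set.mem_singleton_iff]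
            constructor
            · rintro (rfl | ⟨h, _⟩)
              · exact hx
              · exact h
            · intro h
              by_cases hy : y = x
              · exact Or.inl hy
              · exact Or.inr ⟨h, hy⟩
          exact (Submodule.map_mkQ_eq_top _ _).mpr h2
        · intro m
          obtain ⟨m, rfl⟩ := N.mkQ_surjective m
          refine hS _ _ (hann m) ?_
          intro a ha
          simp only [LinearMap.mem_ker, LinearMap.toSpanSingleton_apply] at ha ⊢
          rw [← map_smul, ha, map_zero]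

theorem clSub_mem' (H : AddSubgroup (KZero.K0sub (Pfin A))) (S : Set (Ideal A))
    (hS : ∀ I J : Ideal A, I ∈ S → I ≤ J → J ∈ S)
    (hH : ∀ I ∈ S, KZero.clSub (Pfin A) (ModuleCat.of A (A ⧸ I)) ∈ H)
    (M : Type u) [AddCommGroup M] [Module A M] [Module.Finite A M]
    (hann : ∀ m : M, LinearMap.ker (LinearMap.toSpanSingleton A M m) ∈ S) :
    KZero.clSub (Pfin A) (ModuleCat.of A M) ∈ H := by
  obtain ⟨s, hs⟩ := (inferInstance : Module.Finite A M).fg_top
  exact clSub_mem_of_card' H S hS hH s.card M s le_rfl hs hann

/-- The cyclic case over a quotient which is a principal ideal domain. -/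
theorem clSub_quot_mem_zmultiples (x : A) [IsDomain (A ⧸ Ideal.span {x})]
    [IsPrincipalIdealRing (A ⧸ Ideal.span {x})] (I : Ideal A) (hxI : x ∈ I) :
    KZero.clSub (Pfin A) (ModuleCat.of A (A ⧸ I)) ∈
      AddSubgroup.zmultiples (KZero.clSub (Pfin A) (ModuleCat.of A (A ⧸ Ideal.span {x}))) := by
  have hle : Ideal.span {x} ≤ I := (Ideal.span_singleton_le_iff_mem I).mpr hxI
  set π := Ideal.Quotient.mk (Ideal.span {x}) with hπ
  have hπs : Function.Surjective π := Ideal.Quotient.mk_surjective
  obtain ⟨g, hg⟩ : ∃ g, Ideal.map π I = Ideal.span {g} :=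
    (IsPrincipalIdealRing.principal (Ideal.map π I)).principal
  have hgmem : g ∈ Ideal.map π I := by rw [hg]; exact Ideal.mem_span_singleton_self g
  obtain ⟨f, hfI, hfg⟩ := (Ideal.mem_map_iff_of_surjective π hπs).mp hgmem
  by_cases hg0 : g = 0
  · -- then `I = (x)`
    have hI : I = Ideal.span {x} := by
      refine le_antisymm ?_ hle
      intro a ha
      have : π a ∈ Ideal.map π I := Ideal.mem_map_of_mem π ha
      rw [hg, hg0, Ideal.span_singleton_zero] at this
      have h0 : π a = 0 := this
      exact Ideal.Quotient.eq_zero_iff_mem.mp h0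
    rw [hI]
    exact AddSubgroup.mem_zmultiples _
  · -- the short exact sequence `0 → A/(x) → A/(x) → A/I → 0`
    let μ : (A ⧸ Ideal.span {x}) →ₗ[A] (A ⧸ Ideal.span {x}) :=
      LinearMap.lsmul A (A ⧸ Ideal.span {x}) f
    let q : (A ⧸ Ideal.span {x}) →ₗ[A] (A ⧸ I) := Submodule.factor hle
    have hμ : ∀ b : A ⧸ Ideal.span {x}, μ b = g * b := by
      intro b
      change f • b = g * b
      rw [← hfg, Algebra.smul_def]
      rfl
    have hq : ∀ a : A, q (π a) = Ideal.Quotient.mk I a := fun a => rfl
    have hinj : Function.Injective μ := by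
      intro b c hbc
      rw [hμ, hμ] at hbc
      exact mul_left_cancel₀ hg0 hbc
    have hsurj : Function.Surjective q := by
      intro z
      obtain ⟨a, rfl⟩ := Ideal.Quotient.mk_surjective z
      exact ⟨π a, hq a⟩
    have hex : Function.Exact μ q := by
      intro b
      obtain ⟨a, rfl⟩ := hπs b
      rw [hq]
      constructor
      · intro h
        have haI : a ∈ I := Ideal.Quotient.eq_zero_iff_mem.mp h
        have : π a ∈ Ideal.map π I := Ideal.mem_map_of_mem π haI
        rw [hg] at this
        obtain ⟨c, hc⟩ := Ideal.mem_span_singleton'.mp this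
        exact ⟨c, by rw [hμ, mul_comm, hc]⟩
      · rintro ⟨c, hc⟩
        obtain ⟨c', rfl⟩ := hπs c
        rw [hμ, ← hfg, ← map_mul] at hc
        have : π (f * c' - a) = 0 := by rw [map_sub, hc, sub_self]
        have h1 : f * c' - a ∈ I := hle (Ideal.Quotient.eq_zero_iff_mem.mp this)
        have h2 : f * c' ∈ I := I.mul_mem_right _ hfI
        have h3 : a ∈ I := by
          have := I.sub_mem h2 h1
          simpa using this
        exact Ideal.Quotient.eq_zero_iff_mem.mpr h3
    have := clSub_exact μ q hex hinj hsurj
    have h0 : KZero.clSub (Pfin A) (ModuleCat.of A (A ⧸ I)) = 0 := by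
      have h' : KZero.clSub (Pfin A) (ModuleCat.of A (A ⧸ Ideal.span {x})) + 0 =
          KZero.clSub (Pfin A) (ModuleCat.of A (A ⧸ Ideal.span {x})) +
            KZero.clSub (Pfin A) (ModuleCat.of A (A ⧸ I)) := by
        rw [add_zero]; exact this
      exact (add_left_cancel h').symm
    rw [h0]
    exact zero_mem _

/-- modules killed by `x` have class in `ℤ [A/(x)]` when `A/(x)` is a PID -/
theorem clSub_mem_zmultiples_of_smul_eq_zero (x : A) [IsDomain (A ⧸ Ideal.span {x})]
    [IsPrincipalIdealRing (A ⧸ Ideal.span {x})]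
    (M : Type u) [AddCommGroup M] [Module A M] [Module.Finite A M]
    (hx : ∀ m : M, x • m = 0) :
    KZero.clSub (Pfin A) (ModuleCat.of A M) ∈
      AddSubgroup.zmultiples (KZero.clSub (Pfin A) (ModuleCat.of A (A ⧸ Ideal.span {x}))) := by
  refine clSub_mem' _ {I | x ∈ I} (fun I J hI hIJ => hIJ hI)
    (fun I hI => clSub_quot_mem_zmultiples x I hI) M ?_
  intro m
  simp only [Set.mem_setOf_eq, LinearMap.mem_ker, LinearMap.toSpanSingleton_apply]
  exact hx m

/-- generation by the two branches -/
theorem clSub_mem_closure_pair (x y : A) (hxy : x * y = 0) [IsDomain (A ⧸ Ideal.span {x})]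
    [IsPrincipalIdealRing (A ⧸ Ideal.span {x})] [IsDomain (A ⧸ Ideal.span {y})]
    [IsPrincipalIdealRing (A ⧸ Ideal.span {y})]
    (M : Type u) [AddCommGroup M] [Module A M] [Module.Finite A M] :
    KZero.clSub (Pfin A) (ModuleCat.of A M) ∈
      AddSubgroup.zmultiples (KZero.clSub (Pfin A) (ModuleCat.of A (A ⧸ Ideal.span {x}))) ⊔
      AddSubgroup.zmultiples (KZero.clSub (Pfin A) (ModuleCat.of A (A ⧸ Ideal.span {y}))) := by
  let μ : M →ₗ[A] M := LinearMap.lsmul A M x
  let N : Submodule A M := LinearMap.range μ
  have hSES := clSub_exact N.subtype N.mkQ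
    (by rw [LinearMap.exact_iff, Submodule.ker_mkQ, Submodule.range_subtype])
    N.injective_subtype (Submodule.mkQ_surjective _)
  rw [hSES, add_comm]
  refine AddSubgroup.add_mem_sup ?_ ?_
  · refine clSub_mem_zmultiples_of_smul_eq_zero x (M ⧸ N) ?_
    intro m
    obtain ⟨m, rfl⟩ := N.mkQ_surjective m
    rw [← map_smul]
    exact (Submodule.Quotient.mk_eq_zero N).mpr ⟨m, rfl⟩
  · refine clSub_mem_zmultiples_of_smul_eq_zero y N ?_
    rintro ⟨_, m, rfl⟩
    apply Subtype.ext
    change y • (x • m) = 0
    rw [smul_smul, mul_comm, hxy, zero_smul]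

end Groth.Agent.Helper5.KZ
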