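import Groth.Agent.Lib.Helper5.KNode1
import Mathlib.RingTheory.Flat.Localization
import Mathlib.RingTheory.Localization.FractionRing
import Mathlib.LinearAlgebra.Dimension.Constructions
import Mathlib.LinearAlgebra.FiniteDimensional.Lemmas
import Mathlib.RingTheory.TensorProduct.Finite

/-!
# Rank functions on `K₀` of a ring with two branches
-/

open CategoryTheory CategoryTheory.Limits TensorProduct

universe u

set_option linter.style.haveILetI false
set_option linter.unusedSectionVars false

namespace Groth.Agent.Helper5.KZ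

variable {A : Type u} [CommRing A]

section Flat

variable (x y : A) [IsDomain (A ⧸ Ideal.span {x})]

/-- the fraction field of the branch `A/(x)` -/
abbrev KK : Type u := FractionRing (A ⧸ Ideal.span {x})

theorem algebraMap_KK (a : A) :
    algebraMap A (KK x) a =
      algebraMap (A ⧸ Ideal.span {x}) (KK x) (Ideal.Quotient.mk (Ideal.span {x}) a) :=
  IsScalarTower.algebraMap_apply A (A ⧸ Ideal.span {x}) (KK x) a

theorem isUnit_algebraMap_KK (a : A) (ha : a ∉ Ideal.span {x}) :
    IsUnit (algebraMap A (KK x) a) := by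
  rw [algebraMap_KK]
  have h0 : Ideal.Quotient.mk (Ideal.span {x}) a ≠ 0 := fun h =>
    ha (Ideal.Quotient.eq_zero_iff_mem.mp h)
  exact IsLocalization.map_units (KK x)
    (⟨Ideal.Quotient.mk (Ideal.span {x}) a, mem_nonZeroDivisors_of_ne_zero h0⟩ :
      nonZeroDivisors (A ⧸ Ideal.span {x}))

/-- the submonoid of elements which are nonzero on the branch -/
def SS : Submonoid A :=
  (nonZeroDivisors (A ⧸ Ideal.span {x})).comap (Ideal.Quotient.mk (Ideal.span {x}))

theorem isLocalization_KK (hxy : x * y = 0) (hy : y ∉ Ideal.span {x}) :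
    IsLocalization (SS x) (KK x) := by
  have hmem : ∀ a : A, a ∈ SS x ↔ Ideal.Quotient.mk (Ideal.span {x}) a ≠ 0 := by
    intro a
    change Ideal.Quotient.mk (Ideal.span {x}) a ∈ nonZeroDivisors _ ↔ _
    exact mem_nonZeroDivisors_iff_ne_zero
  refine ⟨?_, ?_, ?_⟩
  · rintro ⟨s, hs⟩
    refine isUnit_algebraMap_KK x s ?_
    intro h
    exact (hmem s).mp hs (Ideal.Quotient.eq_zero_iff_mem.mpr h)
  · intro z
    obtain ⟨⟨b, c⟩, hbc⟩ := IsLocalization.surj (nonZeroDivisors (A ⧸ Ideal.span {x})) z
    obtain ⟨a, rfl⟩ := Ideal.Quotient.mk_surjective b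
    obtain ⟨s, hs⟩ := Ideal.Quotient.mk_surjective (c : A ⧸ Ideal.span {x})
    have hsS : s ∈ SS x := by
      change Ideal.Quotient.mk (Ideal.span {x}) s ∈ nonZeroDivisors _
      rw [hs]
      exact c.2
    refine ⟨(a, ⟨s, hsS⟩), ?_⟩
    change z * algebraMap A (KK x) s = algebraMap A (KK x) a
    rw [algebraMap_KK, algebraMap_KK, hs]
    exact hbc
  · intro a a' h
    rw [algebraMap_KK, algebraMap_KK] at h
    have h1 := IsFractionRing.injective (A ⧸ Ideal.span {x}) (KK x) h
    have h2 : a - a' ∈ Ideal.span {x} := by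
      rw [← Ideal.Quotient.eq_zero_iff_mem, map_sub, h1, sub_self]
    obtain ⟨d, hd⟩ := Ideal.mem_span_singleton'.mp h2
    have hyS : y ∈ SS x := by
      rw [hmem]
      intro h
      exact hy (Ideal.Quotient.eq_zero_iff_mem.mp h)
    refine ⟨⟨y, hyS⟩, ?_⟩
    change y * a = y * a'
    have : y * (a - a') = 0 := by
      rw [← hd]
      calc y * (d * x) = d * (x * y) := by ring
        _ = 0 := by rw [hxy, mul_zero]
    rw [mul_sub, sub_eq_zero] at this
    exact this

theorem flat_KK (hxy : x * y = 0) (hy : y ∉ Ideal.span {x}) : Module.Flat A (KK x) := by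
  haveI := isLocalization_KK x y hxy hy
  exact IsLocalization.flat (KK x) (SS x)

end Flat

section Rank

variable (x y : A) [IsDomain (A ⧸ Ideal.span {x})]

theorem finrank_exact {K : Type*} [Field K] {M N L : Type*} [AddCommGroup M] [Module K M]
    [AddCommGroup N] [Module K N] [AddCommGroup L] [Module K L] [Module.Finite K N]
    (f : M →ₗ[K] N) (g : N →ₗ[K] L) (hfg : Function.Exact f g) (hf : Function.Injective f)
    (hg : Function.Surjective g) :
    Module.finrank K N = Module.finrank K M + Module.finrank K L := by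
  have h1 := LinearMap.finrank_range_add_finrank_ker g
  have h2 : Module.finrank K (LinearMap.range g) = Module.finrank K L := by
    rw [LinearMap.range_eq_top.mpr hg]
    exact finrank_top K L
  have h3 : Module.finrank K (LinearMap.ker g) = Module.finrank K M := by
    rw [LinearMap.exact_iff.mp hfg]
    exact LinearMap.finrank_range_of_inj hf
  omega

/-- the rank along the branch `A/(x)` -/
noncomputable def rkBranch (hxy : x * y = 0) (hy : y ∉ Ideal.span {x}) :
    KZero.K0sub (Pfin A) →+ ℤ :=
  lift (Pfin A) (fun M => (Module.finrank (KK x) (KK x ⊗[A] M.1) : ℤ)) (by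
    intro S h₁ h₂ h₃ hS
    haveI : Module.Finite A S.X₂ := h₂
    haveI := flat_KK x y hxy hy
    have hinj := hS.moduleCat_injective_f
    have hsurj := hS.moduleCat_surjective_g
    have hex : Function.Exact S.f.hom S.g.hom :=
      (ShortComplex.ShortExact.moduleCat_exact_iff_function_exact S).mp hS.exact
    have h1 : Function.Injective (S.f.hom.baseChange (KK x)) := by
      rw [LinearMap.baseChange_eq_ltensor]
      exact Module.Flat.lTensor_preserves_injective_linearMap _ hinj
    have h2 : Function.Surjective (S.g.hom.baseChange (KK x)) := by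
      rw [LinearMap.baseChange_eq_ltensor]
      exact LinearMap.lTensor_surjective _ hsurj
    have h3 : Function.Exact (S.f.hom.baseChange (KK x)) (S.g.hom.baseChange (KK x)) := by
      have := Module.Flat.lTensor_exact (KK x) hex
      intro z
      rw [LinearMap.baseChange_eq_ltensor, LinearMap.baseChange_eq_ltensor]
      exact this z
    have := finrank_exact (S.f.hom.baseChange (KK x)) (S.g.hom.baseChange (KK x)) h3 h1 h2
    push_cast [this]
    rfl)

theorem rkBranch_clSub (hxy : x * y = 0) (hy : y ∉ Ideal.span {x}) (M : ModuleCat.{u} A)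
    (h : Module.Finite A M) :
    rkBranch x y hxy hy (KZero.clSub (Pfin A) M) = (Module.finrank (KK x) (KK x ⊗[A] M) : ℤ) :=
  lift_clSub (Pfin A) _ _ M h

theorem subsingleton_tensor_of_smul_eq_zero (a : A) (ha : a ∉ Ideal.span {x})
    (M : Type u) [AddCommGroup M] [Module A M] (hM : ∀ m : M, a • m = 0) :
    Subsingleton (KK x ⊗[A] M) := by
  obtain ⟨u, hu⟩ := isUnit_algebraMap_KK x a ha
  refine subsingleton_of_forall_eq 0 ?_
  intro z
  induction z using TensorProduct.induction_on with
  | zero => rfl
  | tmul k m =>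
    have : k = a • (k * (u⁻¹ : (KK x)ˣ)) := by
      rw [Algebra.smul_def, ← hu]
      rw [mul_comm k, ← mul_assoc, Units.mul_inv, one_mul]
    rw [this, TensorProduct.smul_tmul, hM, TensorProduct.tmul_zero]
  | add z w hz hw => rw [hz, hw, add_zero]

theorem rkBranch_of_smul_eq_zero (hxy : x * y = 0) (hy : y ∉ Ideal.span {x})
    (a : A) (ha : a ∉ Ideal.span {x})
    (M : Type u) [AddCommGroup M] [Module A M] [Module.Finite A M] (hM : ∀ m : M, a • m = 0) :
    rkBranch x y hxy hy (KZero.clSub (Pfin A) (ModuleCat.of A M)) = 0 := by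
  rw [rkBranch_clSub x y hxy hy _ (inferInstanceAs (Module.Finite A M))]
  haveI : Subsingleton (KK x ⊗[A] M) := subsingleton_tensor_of_smul_eq_zero x a ha M hM
  change ((Module.finrank (KK x) (KK x ⊗[A] M) : ℕ) : ℤ) = 0
  rw [Module.finrank_zero_of_subsingleton]
  rfl

theorem rkBranch_self (hxy : x * y = 0) (hy : y ∉ Ideal.span {x}) :
    rkBranch x y hxy hy (KZero.clSub (Pfin A) (ModuleCat.of A A)) = 1 := by
  rw [rkBranch_clSub x y hxy hy _ (inferInstanceAs (Module.Finite A A))]
  change ((Module.finrank (KK x) (KK x ⊗[A] A) : ℕ) : ℤ) = 1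
  rw [(TensorProduct.AlgebraTensorModule.rid A (KK x) (KK x)).finrank_eq, Module.finrank_self]
  rfl

theorem rkBranch_quot_self (hxy : x * y = 0) (hy : y ∉ Ideal.span {x}) :
    rkBranch x y hxy hy (KZero.clSub (Pfin A) (ModuleCat.of A (A ⧸ Ideal.span {x}))) = 1 := by
  haveI : Module.Finite A (Ideal.span {x}) :=
    Module.Finite.iff_fg.mpr (Submodule.fg_span_singleton x)
  have hSES := clSub_exact (Ideal.span {x}).subtype (Ideal.span {x}).mkQ
    (by rw [LinearMap.exact_iff, Submodule.ker_mkQ, Submodule.range_subtype])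
    (Ideal.span {x}).injective_subtype (Submodule.mkQ_surjective _)
  have h1 := congrArg (rkBranch x y hxy hy) hSES
  rw [map_add, rkBranch_self, rkBranch_of_smul_eq_zero x y hxy hy y hy (Ideal.span {x})] at h1
  · rw [zero_add] at h1
    exact h1.symm
  · rintro ⟨m, hm⟩
    apply Subtype.ext
    obtain ⟨d, rfl⟩ := Ideal.mem_span_singleton'.mp hm
    change y * (d * x) = 0
    calc y * (d * x) = d * (x * y) := by ring
      _ = 0 := by rw [hxy, mul_zero]

theorem rkBranch_quot_other (hxy : x * y = 0) (hy : y ∉ Ideal.span {x}) :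
    rkBranch x y hxy hy (KZero.clSub (Pfin A) (ModuleCat.of A (A ⧸ Ideal.span {y}))) = 0 := by
  refine rkBranch_of_smul_eq_zero x y hxy hy y hy (A ⧸ Ideal.span {y}) ?_
  intro m
  obtain ⟨m, rfl⟩ := Ideal.Quotient.mk_surjective m
  change Ideal.Quotient.mk (Ideal.span {y}) (y * m) = 0
  exact Ideal.Quotient.eq_zero_iff_mem.mpr
    (Ideal.mul_mem_right _ _ (Ideal.mem_span_singleton_self y))

end Rank

/-- the main abstract statement -/
theorem bijective_pair (x y : A) (hxy : x * y = 0) [IsDomain (A ⧸ Ideal.span {x})]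
    [IsPrincipalIdealRing (A ⧸ Ideal.span {x})] [IsDomain (A ⧸ Ideal.span {y})]
    [IsPrincipalIdealRing (A ⧸ Ideal.span {y})] (hy : y ∉ Ideal.span {x})
    (hx : x ∉ Ideal.span {y}) :
    Function.Bijective (fun p : ℤ × ℤ =>
      p.1 • KZero.clSub (Pfin A) (ModuleCat.of A (A ⧸ Ideal.span {x})) +
      p.2 • KZero.clSub (Pfin A) (ModuleCat.of A (A ⧸ Ideal.span {y}))) := by
  have hyx : y * x = 0 := by rw [mul_comm]; exact hxy
  constructor
  · intro p q hpq
    have h1 := congrArg (rkBranch x y hxy hy) hpq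
    have h2 := congrArg (rkBranch y x hyx hx) hpq
    simp only [map_add, map_zsmul, rkBranch_quot_self, rkBranch_quot_other] at h1 h2
    simp only [smul_eq_mul, mul_one, mul_zero, add_zero, zero_add] at h1 h2
    exact Prod.ext h1 h2
  · intro z
    have : z ∈ AddSubgroup.zmultiples
        (KZero.clSub (Pfin A) (ModuleCat.of A (A ⧸ Ideal.span {x}))) ⊔
        AddSubgroup.zmultiples
          (KZero.clSub (Pfin A) (ModuleCat.of A (A ⧸ Ideal.span {y}))) := by
      induction z using induction_on with
      | zero => exact zero_mem _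
      | of X hX =>
        haveI : Module.Finite A X := hX
        exact clSub_mem_closure_pair x y hxy X
      | neg x hx => exact neg_mem hx
      | add x y hx hy => exact add_mem hx hy
    obtain ⟨u, hu, v, hv, rfl⟩ := AddSubgroup.mem_sup.mp this
    obtain ⟨a, rfl⟩ := AddSubgroup.mem_zmultiples_iff.mp hu
    obtain ⟨b, rfl⟩ := AddSubgroup.mem_zmultiples_iff.mp hv
    exact ⟨(a, b), rfl⟩

end Groth.Agent.Helper5.KZ
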