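import Groth.Agent.Lib.Helper5.KNode2
import Mathlib.Algebra.MvPolynomial.CommRing
import Mathlib.RingTheory.Polynomial.Basic
import Mathlib.RingTheory.Ideal.Quotient.Operations
import Mathlib.Algebra.Polynomial.AlgebraMap
import Mathlib.Algebra.Polynomial.FieldDivision
import Mathlib.RingTheory.PrincipalIdealDomain

/-!
# `K₀` of the node `k[x,y]/(xy)`
-/

open CategoryTheory CategoryTheory.Limits TensorProduct

universe u

set_option linter.style.haveILetI false
set_option linter.unusedSectionVars false

namespace Groth.Agent.Helper5.KZ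

section Node

variable (k : Type u) [Field k]

/-- the ideal `(xy)` -/
noncomputable abbrev I0 : Ideal (MvPolynomial (Fin 2) k) :=
  Ideal.span {(MvPolynomial.X 0 * MvPolynomial.X 1 : MvPolynomial (Fin 2) k)}

/-- the node -/
abbrev Node : Type u := MvPolynomial (Fin 2) k ⧸ I0 k

/-- the coordinate functions on the node -/
noncomputable abbrev xx (i : Fin 2) : Node k := Ideal.Quotient.mk (I0 k) (MvPolynomial.X i)

/-- evaluation killing the `i`-th variable -/
noncomputable def ev (i : Fin 2) : MvPolynomial (Fin 2) k →ₐ[k] Polynomial k :=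
  MvPolynomial.aeval (fun l => if l = i then 0 else Polynomial.X)

theorem ev_X (i l : Fin 2) : ev k i (MvPolynomial.X l) = if l = i then 0 else Polynomial.X := by
  simp [ev]

theorem ev_I0 (i : Fin 2) : ∀ a ∈ I0 k, ev k i a = 0 := by
  intro a ha
  have hle : I0 k ≤ RingHom.ker (ev k i).toRingHom := by
    rw [Ideal.span_le, Set.singleton_subset_iff]
    change (ev k i) (MvPolynomial.X 0 * MvPolynomial.X 1) = 0
    rw [map_mul, ev_X, ev_X]
    fin_cases i <;> simp
  exact hle ha

/-- evaluation on the node -/
noncomputable def evNode (i : Fin 2) : Node k →ₐ[k] Polynomial k :=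
  Ideal.Quotient.liftₐ (I0 k) (ev k i) (ev_I0 k i)

theorem evNode_xx (i l : Fin 2) : evNode k i (xx k l) = if l = i then 0 else Polynomial.X := by
  have : evNode k i (xx k l) = ev k i (MvPolynomial.X l) := rfl
  rw [this]
  exact ev_X k i l

theorem evNode_span (i : Fin 2) : ∀ a ∈ Ideal.span {xx k i}, evNode k i a = 0 := by
  intro a ha
  have hle : Ideal.span {xx k i} ≤ RingHom.ker (evNode k i).toRingHom := by
    rw [Ideal.span_le, Set.singleton_subset_iff]
    change evNode k i (xx k i) = 0
    rw [evNode_xx, if_pos rfl]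
  exact hle ha

/-- evaluation on the branch -/
noncomputable def evBranch (i : Fin 2) : (Node k ⧸ Ideal.span {xx k i}) →ₐ[k] Polynomial k :=
  Ideal.Quotient.liftₐ (Ideal.span {xx k i}) (evNode k i) (evNode_span k i)

theorem evBranch_mk (i : Fin 2) (a : Node k) :
    evBranch k i (Ideal.Quotient.mk (Ideal.span {xx k i}) a) = evNode k i a := by
  rfl

/-- the inverse map -/
noncomputable def coord (i j : Fin 2) : Polynomial k →ₐ[k] (Node k ⧸ Ideal.span {xx k i}) :=
  Polynomial.aeval (Ideal.Quotient.mk (Ideal.span {xx k i}) (xx k j))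

theorem evBranch_coord (i j : Fin 2) (hij : j ≠ i) :
    (evBranch k i).comp (coord k i j) = AlgHom.id k _ := by
  apply Polynomial.algHom_ext
  simp only [AlgHom.comp_apply, coord, Polynomial.aeval_X, AlgHom.id_apply]
  rw [evBranch_mk, evNode_xx, if_neg hij]

theorem coord_evBranch (i j : Fin 2) (hij : j ≠ i) :
    (coord k i j).comp (evBranch k i) = AlgHom.id k _ := by
  apply Ideal.Quotient.algHom_ext
  apply Ideal.Quotient.algHom_ext
  apply MvPolynomial.algHom_ext
  intro l
  simp only [AlgHom.comp_apply, AlgHom.id_apply]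
  change coord k i j (evBranch k i (Ideal.Quotient.mk _ (xx k l))) =
    Ideal.Quotient.mk _ (xx k l)
  rw [evBranch_mk, evNode_xx]
  by_cases hl : l = i
  · subst hl
    rw [if_pos rfl, map_zero]
    exact (Ideal.Quotient.eq_zero_iff_mem.mpr (Ideal.mem_span_singleton_self _)).symm
  · rw [if_neg hl]
    have : l = j := by
      fin_cases i <;> fin_cases j <;> fin_cases l <;> simp_all
    subst this
    simp [coord]

/-- the branch is a polynomial ring -/
noncomputable def branchEquiv (i j : Fin 2) (hij : j ≠ i) :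
    (Node k ⧸ Ideal.span {xx k i}) ≃ₐ[k] Polynomial k :=
  AlgEquiv.ofAlgHom (evBranch k i) (coord k i j) (evBranch_coord k i j hij)
    (coord_evBranch k i j hij)

theorem isDomain_branch (i j : Fin 2) (hij : j ≠ i) :
    IsDomain (Node k ⧸ Ideal.span {xx k i}) :=
  (branchEquiv k i j hij).toMulEquiv.isDomain _

theorem isPrincipalIdealRing_branch (i j : Fin 2) (hij : j ≠ i) :
    IsPrincipalIdealRing (Node k ⧸ Ideal.span {xx k i}) :=
  IsPrincipalIdealRing.of_surjective (branchEquiv k i j hij).symm.toAlgHom.toRingHom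
    (branchEquiv k i j hij).symm.surjective

theorem xx_not_mem (i j : Fin 2) (hij : j ≠ i) : xx k j ∉ Ideal.span {xx k i} := by
  intro h
  have := evNode_span k i _ h
  rw [evNode_xx, if_neg hij] at this
  exact Polynomial.X_ne_zero this

theorem xx_mul : xx k 0 * xx k 1 = 0 := by
  change Ideal.Quotient.mk (I0 k) (MvPolynomial.X 0) * Ideal.Quotient.mk (I0 k) (MvPolynomial.X 1) = 0
  rw [← map_mul]
  exact Ideal.Quotient.eq_zero_iff_mem.mpr (Ideal.mem_span_singleton_self _)

theorem node_bijective :
    Function.Bijective (fun p : ℤ × ℤ =>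
      p.1 • KZero.clSub (Pfin (Node k)) (ModuleCat.of (Node k) (Node k ⧸ Ideal.span {xx k 0})) +
      p.2 • KZero.clSub (Pfin (Node k)) (ModuleCat.of (Node k) (Node k ⧸ Ideal.span {xx k 1}))) := by
  haveI := isDomain_branch k 0 1 (by decide)
  haveI := isDomain_branch k 1 0 (by decide)
  haveI := isPrincipalIdealRing_branch k 0 1 (by decide)
  haveI := isPrincipalIdealRing_branch k 1 0 (by decide)
  exact bijective_pair (xx k 0) (xx k 1) (xx_mul k) (xx_not_mem k 0 1 (by decide))
    (xx_not_mem k 1 0 (by decide))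

end Node

end Groth.Agent.Helper5.KZ
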