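import Groth.Agent.Lib.Helper5.K0Der2
import Groth.Agent.Lib.Helper11.DCTrim
import Groth.Agent.Lib.Helper11.DCCone2

/-!
# Euler characteristic of bounded complexes of finite projective modules
-/

set_option autoImplicit false
set_option linter.style.haveILetI false
set_option linter.unusedSectionVars false

open CategoryTheory CategoryTheory.Limits CategoryTheory.Pretriangulated ZeroObject

universe u

namespace Groth.Agent.Helper5.KPerf

open DerivedCategory Groth.Agent.Helper11.DC Groth.Agent.Helper5.K0Der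

attribute [local instance] HasDerivedCategory.standard

variable (R : Type u) [CommRing R]

/-- finite projective modules -/
def Pfp : ObjectProperty (ModuleCat.{u} R) := fun M => Module.Finite R M ∧ Module.Projective R M

variable {R}

theorem Pfp_of_iso {M N : ModuleCat.{u} R} (e : M ≅ N) (h : Pfp R M) : Pfp R N := by
  obtain ⟨h1, h2⟩ := h
  exact ⟨Module.Finite.equiv e.toLinearEquiv, Module.Projective.of_equiv e.toLinearEquiv⟩

theorem Pfp_of_isZero {M : ModuleCat.{u} R} (h : IsZero M) : Pfp R M := by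
  haveI : Subsingleton M := ModuleCat.subsingleton_of_isZero h
  exact ⟨inferInstance, inferInstance⟩

instance : (Pfp R).IsClosedUnderIsomorphisms where
  of_iso e h := Pfp_of_iso e h

instance : (Pfp R).ContainsZero where
  exists_zero := ⟨0, isZero_zero _, Pfp_of_isZero (isZero_zero _)⟩

theorem Pfp_of_retract {M N : ModuleCat.{u} R} (i : M ⟶ N) (r : N ⟶ M) (h : i ≫ r = 𝟙 M)
    (hN : Pfp R N) : Pfp R M := by
  obtain ⟨h1, h2⟩ := hN
  have hr : Function.Surjective r.hom := by
    intro x
    refine ⟨i.hom x, ?_⟩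
    have := congrArg (fun f => f.hom x) h
    simpa using this
  refine ⟨Module.Finite.of_surjective r.hom hr, ?_⟩
  refine Module.Projective.of_split i.hom r.hom ?_
  ext x
  have := congrArg (fun f => f.hom x) h
  simpa using this

/-- The Euler characteristic of a complex. -/
noncomputable def chi (E : DRing.Cx R) : KZero.K0sub (Pfp R) :=
  ∑ᶠ i : ℤ, ((i.negOnePow : ℤˣ) : ℤ) • KZero.clSub (Pfp R) (E.X i)

theorem chi_support (E : DRing.Cx R) (a b : ℤ) (hE : DRing.VanishesOutside E a b) :
    (Function.support (fun i : ℤ => ((i.negOnePow : ℤˣ) : ℤ) •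
      KZero.clSub (Pfp R) (E.X i))).Finite := by
  refine finite_support_of_bdd _ a b ?_ ?_
  · intro i hi
    rw [clSub_isZero' (Pfp R) (hE i (Or.inl hi)), smul_zero]
  · intro i hi
    rw [clSub_isZero' (Pfp R) (hE i (Or.inr hi)), smul_zero]

theorem chi_eq_zero_of_isZero (E : DRing.Cx R) (h : ∀ i, IsZero (E.X i)) : chi E = 0 := by
  unfold chi
  rw [finsum_eq_zero_of_forall_eq_zero]
  intro i
  rw [clSub_isZero' (Pfp R) (h i), smul_zero]

/-- additivity of the Euler characteristic for termwise short exact sequences -/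
theorem chi_add (S : ShortComplex (DRing.Cx R)) (hS : S.ShortExact) (a b : ℤ)
    (h1 : DRing.VanishesOutside S.X₁ a b) (h2 : DRing.VanishesOutside S.X₂ a b)
    (h3 : DRing.VanishesOutside S.X₃ a b)
    (p1 : ∀ i, Pfp R (S.X₁.X i)) (p2 : ∀ i, Pfp R (S.X₂.X i)) (p3 : ∀ i, Pfp R (S.X₃.X i)) :
    chi S.X₂ = chi S.X₁ + chi S.X₃ := by
  unfold chi
  rw [← finsum_add_distrib (chi_support _ a b h1) (chi_support _ a b h3)]
  apply finsum_congr
  intro i
  have hSi := hS.map_of_exact (HomologicalComplex.eval (ModuleCat.{u} R) (ComplexShape.up ℤ) i)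
  have := KZ.clSub_shortExact (Pfp R) _ hSi (p1 i) (p2 i) (p3 i)
  change KZero.clSub (Pfp R) (S.X₂.X i) = KZero.clSub (Pfp R) (S.X₁.X i) +
    KZero.clSub (Pfp R) (S.X₃.X i) at this
  rw [this, smul_add]

theorem chi_trimD (C : DRing.Cx R) (b : ℤ) (hb : Pfp R (C.X b)) : chi (trimD C b) = 0 := by
  unfold chi
  have hne : b - 1 ≠ b := by omega
  rw [finsum_eq_sum_of_support_subset _ (s := {b - 1, b})]
  · rw [Finset.sum_pair hne]
    have e0 : (trimD C b).X (b - 1) ≅ C.X b :=
      HomologicalComplex.doubleXIso₀ (𝟙 (C.X b)) (trim_rel b)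
    have e1 : (trimD C b).X b ≅ C.X b :=
      HomologicalComplex.doubleXIso₁ (𝟙 (C.X b)) (trim_rel b) (trim_ne b)
    have hz : Pfp R (0 : ModuleCat.{u} R) := Pfp_of_isZero (isZero_zero _)
    rw [KZ.clSub_iso (Pfp R) e0 (Pfp_of_iso e0.symm hb) hb (isZero_zero _) hz,
      KZ.clSub_iso (Pfp R) e1 (Pfp_of_iso e1.symm hb) hb (isZero_zero _) hz]
    have : (b - 1).negOnePow = - b.negOnePow := by
      rw [Int.negOnePow_sub, Int.negOnePow_one]
      simp
    rw [this]
    simp
  · intro i hi
    rw [Function.mem_support] at hi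
    by_contra hc
    simp only [Finset.coe_insert, Finset.coe_singleton, Set.mem_insert_iff,
      Set.mem_singleton_iff, not_or] at hc
    exact hi (by rw [clSub_isZero' (Pfp R) (trimD_isZero C b i hc.1 hc.2), smul_zero])

end Groth.Agent.Helper5.KPerf
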