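import Groth.Agent.Lib.Helper5.KPerf1

/-!
# The Euler characteristic of an acyclic bounded complex of finite projectives vanishes
-/

set_option autoImplicit false
set_option linter.style.haveILetI false
set_option linter.unusedSectionVars false
set_option linter.unusedVariables false

open CategoryTheory CategoryTheory.Limits CategoryTheory.Pretriangulated ZeroObject

universe u

namespace Groth.Agent.Helper5.KPerf

open DerivedCategory Groth.Agent.Helper11.DC Groth.Agent.Helper5.K0Der

attribute [local instance] HasDerivedCategory.standard

variable {R : Type u} [CommRing R]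

theorem isZero_Q_of_exactAt (C : DRing.Cx R) (h : ∀ i, C.ExactAt i) : IsZero (Q.obj C) := by
  apply isZero_of_homology
  intro n
  refine IsZero.of_iso ?_ ((homologyFunctorFactors (ModuleCat.{u} R) n).app C)
  exact (HomologicalComplex.exactAt_iff_isZero_homology _ _).mp (h n)

theorem exactAt_of_isZero_Q (C : DRing.Cx R) (h : IsZero (Q.obj C)) (i : ℤ) : C.ExactAt i := by
  rw [HomologicalComplex.exactAt_iff_isZero_homology]
  refine IsZero.of_iso ?_ ((homologyFunctorFactors (ModuleCat.{u} R) i).app C).symm
  exact (homologyFunctor (ModuleCat.{u} R) i).map_isZero h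

theorem chi_acyclic (n : ℕ) : ∀ (C : DRing.Cx R) (a b : ℤ), b < a + n →
    DRing.VanishesOutside C a b → (∀ i, Pfp R (C.X i)) → IsZero (Q.obj C) → chi C = 0 := by
  induction n with
  | zero =>
    intro C a b hab hC _ _
    apply chi_eq_zero_of_isZero
    intro i
    refine hC i ?_
    rcases lt_or_ge i a with h | h
    · left; exact h
    · right; push_cast at hab; lia
  | succ n ih =>
    intro C a b hab hC hP hz
    have hb : ∀ i : ℤ, b < i → IsZero (C.X i) := fun i hi => hC i (Or.inr hi)
    -- the top differential is a split epimorphism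
    have hex := exactAt_of_isZero_Q C hz b
    rw [HomologicalComplex.exactAt_iff' C (b - 1) b (b + 1) (by simp) (by simp)] at hex
    have hepi : Epi (C.d (b - 1) b) := by
      have h0 : (C.sc' (b - 1) b (b + 1)).g = 0 := (hb (b + 1) (by lia)).eq_of_tgt _ _
      exact (ShortComplex.exact_iff_epi _ h0).1 hex
    haveI : Projective (C.X b) := (IsProjective.iff_projective (C.X b)).mp (hP b).2
    let s : C.X b ⟶ C.X (b - 1) := Projective.factorThru (𝟙 (C.X b)) (C.d (b - 1) b)
    have hs : s ≫ C.d (b - 1) b = 𝟙 (C.X b) := Projective.factorThru_comp _ _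
    have hS := trimSC_shortExact C b hb s hs
    -- the quotient complex
    have hP3 : ∀ i, Pfp R ((trimSC C b hb s hs).X₃.X i) := by
      intro i
      obtain ⟨σ, hσ⟩ := trimSC_section C b hb s hs i
      exact Pfp_of_retract σ _ hσ (hP i)
    have hP1 : ∀ i, Pfp R ((trimSC C b hb s hs).X₁.X i) := by
      intro i
      change Pfp R ((trimD C b).X i)
      by_cases h₀ : i = b - 1
      · subst h₀
        exact Pfp_of_iso (HomologicalComplex.doubleXIso₀ (𝟙 (C.X b)) (trim_rel b)).symm (hP b)
      · by_cases h₁ : i = b
        · subst h₁
          exact Pfp_of_iso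
            (HomologicalComplex.doubleXIso₁ (𝟙 (C.X i)) (trim_rel i) (trim_ne i)).symm (hP i)
        · exact Pfp_of_isZero (trimD_isZero C b i h₀ h₁)
    have hV3 : DRing.VanishesOutside (trimSC C b hb s hs).X₃ a (b - 1) := by
      intro i hi
      by_cases hib : i = b
      · subst hib
        exact trimSC_X₃_isZero C i hb s hs
      · obtain ⟨σ, hσ⟩ := trimSC_section C b hb s hs i
        have hzi : IsZero (C.X i) := by
          refine hC i ?_
          rcases hi with hi | hi
          · left; exact hi
          · right; lia
        rw [IsZero.iff_id_eq_zero, ← hσ, hzi.eq_of_tgt σ 0]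
        exact zero_comp
    by_cases hab' : b < a
    · apply chi_eq_zero_of_isZero
      intro i
      refine hC i ?_
      rcases lt_or_ge i a with h | h
      · left; exact h
      · right; lia
    have hV3' : DRing.VanishesOutside (trimSC C b hb s hs).X₃ (a - 1) b := by
      intro i hi
      refine hV3 i ?_
      rcases hi with hi | hi
      · left; lia
      · right; lia
    have hV1 : DRing.VanishesOutside (trimSC C b hb s hs).X₁ (a - 1) b := by
      intro i hi
      change IsZero ((trimD C b).X i)
      refine trimD_isZero C b i ?_ ?_
      · rcases hi with hi | hi <;> lia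
      · rcases hi with hi | hi <;> lia
    have hV2 : DRing.VanishesOutside (trimSC C b hb s hs).X₂ (a - 1) b := by
      intro i hi
      refine hC i ?_
      rcases hi with hi | hi
      · left; lia
      · right; exact hi
    have hadd := chi_add (trimSC C b hb s hs) hS (a - 1) b hV1 hV2 hV3' hP1 hP hP3
    have hz3 : IsZero (Q.obj (trimSC C b hb s hs).X₃) := by
      haveI := trimSC_Q_g_isIso C b hb s hs
      exact IsZero.of_iso hz (asIso (Q.map (trimSC C b hb s hs).g)).symm
    have h3 := ih (trimSC C b hb s hs).X₃ a (b - 1) (by push_cast at hab; lia) hV3 hP3 hz3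
    change chi C = chi (trimD C b) + chi (trimSC C b hb s hs).X₃ at hadd
    rw [hadd, h3, chi_trimD C b (hP b), add_zero]

end Groth.Agent.Helper5.KPerf
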