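import Mathlib

/-!
# Attaching cells to a complex over a complex (abstract step of the K-flat resolution)
-/

set_option autoImplicit false
set_option linter.unusedSectionVars false
set_option linter.unusedVariables false
set_option linter.style.haveILetI false

universe w u' v u

open CategoryTheory CategoryTheory.Limits CochainComplex HomComplex

namespace Groth.Agent.Helper5.KRes

variable {𝒜 : Type u} [Category.{v} 𝒜] [Abelian 𝒜]

/-- covering data: for every object an epimorphism onto it -/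
structure Cov (𝒜 : Type u) [Category.{v} 𝒜] where
  obj : 𝒜 → 𝒜
  π : ∀ A, obj A ⟶ A
  epi : ∀ A, Epi (π A)

variable (cov : Cov 𝒜) {L M : CochainComplex 𝒜 ℤ} (g : L ⟶ M)

/-- the complex of cells, with zero differentials: in degree `n` the cover of the cycles of
degree `n - 1` of the mapping cone of `g` -/
noncomputable def cellCx : CochainComplex 𝒜 ℤ where
  X n := cov.obj ((mappingCone g).cycles (n - 1))
  d _ _ := 0
  shape _ _ _ := rfl
  d_comp_d' _ _ _ _ _ := zero_comp

lemma cellCx_d (i j : ℤ) : (cellCx cov g).d i j = 0 := rfl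

/-- the covering map, typed on the complex of cells -/
noncomputable def cellπ (n : ℤ) : (cellCx cov g).X n ⟶ (mappingCone g).cycles (n - 1) :=
  cov.π _

instance (n : ℤ) : Epi (cellπ cov g n) := cov.epi _

/-- the cycle of the mapping cone defined by a cell -/
noncomputable def cellc (n : ℤ) : (cellCx cov g).X n ⟶ (mappingCone g).X (n - 1) :=
  cellπ cov g n ≫ (mappingCone g).iCycles (n - 1)

lemma cellc_d (n : ℤ) : cellc cov g n ≫ (mappingCone g).d (n - 1) n = 0 := by
  rw [cellc, Category.assoc, HomologicalComplex.iCycles_d, comp_zero]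

/-- the attaching map -/
noncomputable def cellφ : cellCx cov g ⟶ L where
  f n := cellc cov g n ≫ (mappingCone.fst g).1.v (n - 1) n (by omega)
  comm' i j hij := by
    obtain rfl : j = i + 1 := hij.symm
    rw [cellCx_d, zero_comp, Category.assoc]
    have h := mappingCone.d_fst_v g (i - 1) i (i + 1) (by omega) rfl
    have h2 : (mappingCone.fst g).1.v (i - 1) i (by omega) ≫ L.d i (i + 1) =
        -((mappingCone g).d (i - 1) i ≫ (mappingCone.fst g).1.v i (i + 1) rfl) := by
      rw [h, neg_neg]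
    rw [h2, Preadditive.comp_neg, ← Category.assoc, cellc_d, zero_comp, neg_zero]

lemma cellφ_f (n : ℤ) :
    (cellφ cov g).f n = cellc cov g n ≫ (mappingCone.fst g).1.v (n - 1) n (by omega) := rfl

/-- the null-homotopy of the image of the attaching map in `M` -/
noncomputable def cellα : Cochain (cellCx cov g) M (-1) :=
  Cochain.mk fun p q hpq => -(cellc cov g p ≫ (mappingCone.snd g).v (p - 1) q (by omega))

lemma cellα_v (p q : ℤ) (hpq : p + (-1) = q) :
    (cellα cov g).v p q hpq =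
      -(cellc cov g p ≫ (mappingCone.snd g).v (p - 1) q (by omega)) := rfl

lemma cellα_δ : δ (-1) 0 (cellα cov g) = Cochain.ofHom (cellφ cov g ≫ g) := by
  ext p
  rw [δ_v (-1) 0 (neg_add_cancel 1) (cellα cov g) p p (add_zero p) (p - 1) (p + 1) rfl rfl,
    cellCx_d, zero_comp, smul_zero, add_zero, Cochain.ofHom_v, HomologicalComplex.comp_f,
    cellα_v, cellφ_f, Preadditive.neg_comp, Category.assoc, Category.assoc]
  have h := mappingCone.d_snd_v g (p - 1) p (by omega)
  have h2 := congrArg (fun t => cellc cov g p ≫ t) h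
  simp only [Preadditive.comp_add] at h2
  rw [← Category.assoc, cellc_d, zero_comp] at h2
  exact (neg_eq_of_add_eq_zero_left h2.symm)

/-- the complex obtained by attaching the cells -/
noncomputable abbrev stepL : CochainComplex 𝒜 ℤ := mappingCone (cellφ cov g)

/-- the inclusion into the new complex -/
noncomputable def stepι : L ⟶ stepL cov g := mappingCone.inr (cellφ cov g)

/-- the map from the new complex -/
noncomputable def stepg : stepL cov g ⟶ M :=
  mappingCone.desc (cellφ cov g) (cellα cov g) g (cellα_δ cov g)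

@[reassoc]
lemma stepι_stepg : stepι cov g ≫ stepg cov g = g := mappingCone.inr_desc _ _ _ _

/-- the cells, as elements of the new complex -/
noncomputable def stepH (n : ℤ) : (cellCx cov g).X n ⟶ (stepL cov g).X (n - 1) :=
  (mappingCone.inl (cellφ cov g)).v n (n - 1) (by omega)

lemma stepH_d (n : ℤ) :
    stepH cov g n ≫ (stepL cov g).d (n - 1) n =
      cellc cov g n ≫ (mappingCone.fst g).1.v (n - 1) n (by omega) ≫ (stepι cov g).f n := by
  have h := mappingCone.inl_v_d (cellφ cov g) n (n - 1) (n + 1) (by omega) (by omega)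
  rw [cellCx_d, zero_comp, sub_zero] at h
  rw [stepH, h, cellφ_f, Category.assoc]
  rfl

lemma stepH_g (n : ℤ) :
    stepH cov g n ≫ (stepg cov g).f (n - 1) =
      -(cellc cov g n ≫ (mappingCone.snd g).v (n - 1) (n - 1) (add_zero _)) := by
  rw [stepH, stepg, mappingCone.inl_v_desc_f, cellα_v]

section Transfer

variable {R : Type u'} [Ring R] (Φ : 𝒜 ⥤ ModuleCat.{w} R) [Φ.Additive]

lemma Φ_comp {A B C : 𝒜} (f : A ⟶ B) (h : B ⟶ C) (x : Φ.obj A) :
    Φ.map (f ≫ h) x = Φ.map h (Φ.map f x) := by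
  rw [Φ.map_comp]; rfl

lemma Φ_congr {A B : 𝒜} {f f' : A ⟶ B} (h : f = f') (x : Φ.obj A) : Φ.map f x = Φ.map f' x := by
  rw [h]

lemma Φ_sub {A B : 𝒜} (f f' : A ⟶ B) (x : Φ.obj A) :
    Φ.map (f - f') x = Φ.map f x - Φ.map f' x := by
  rw [Φ.map_sub]; rfl

lemma Φ_add {A B : 𝒜} (f f' : A ⟶ B) (x : Φ.obj A) :
    Φ.map (f + f') x = Φ.map f x + Φ.map f' x := by
  rw [Φ.map_add]; rfl

lemma Φ_neg {A B : 𝒜} (f : A ⟶ B) (x : Φ.obj A) :
    Φ.map (-f) x = -Φ.map f x := by
  rw [Φ.map_neg]; rfl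

lemma Φ_zero {A B : 𝒜} (x : Φ.obj A) : Φ.map (0 : A ⟶ B) x = 0 := by
  rw [Φ.map_zero]; rfl

lemma Φ_id {A : 𝒜} (x : Φ.obj A) : Φ.map (𝟙 A) x = x := by
  rw [Φ.map_id]; rfl

variable [PreservesFiniteLimits Φ] [PreservesFiniteColimits Φ]

lemma exists_cycle (C : CochainComplex 𝒜 ℤ) (p q : ℤ) (hpq : p + 1 = q) (c : Φ.obj (C.X p))
    (hc : Φ.map (C.d p q) c = 0) : ∃ z : Φ.obj (C.cycles p), Φ.map (C.iCycles p) z = c := by
  let S : ShortComplex 𝒜 := ShortComplex.mk (C.iCycles p) (C.d p q) (C.iCycles_d p q)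
  have hS : S.Exact := ShortComplex.exact_of_f_is_kernel S (C.cyclesIsKernel p q (by simp [hpq]))
  have hS' : (S.map Φ).Exact := hS.map Φ
  exact (ShortComplex.moduleCat_exact_iff _).mp hS' c hc

theorem kill (n : ℤ) (x : Φ.obj (L.X n)) (m : Φ.obj (M.X (n - 1)))
    (hx : Φ.map (L.d n (n + 1)) x = 0)
    (hm : Φ.map (M.d (n - 1) n) m = Φ.map (g.f n) x) :
    ∃ y : Φ.obj ((stepL cov g).X (n - 1)),
      Φ.map ((stepL cov g).d (n - 1) n) y = Φ.map ((stepι cov g).f n) x ∧
      Φ.map ((stepg cov g).f (n - 1)) y = m := by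
  set c₀ : Φ.obj ((mappingCone g).X (n - 1)) :=
    Φ.map ((mappingCone.inl g).v n (n - 1) (by omega)) x -
      Φ.map ((mappingCone.inr g).f (n - 1)) m with hc₀
  have h1 : Φ.map ((mappingCone g).d (n - 1) n) c₀ = 0 := by
    rw [hc₀, map_sub, ← Φ_comp, ← Φ_comp,
      Φ_congr Φ (mappingCone.inl_v_d g n (n - 1) (n + 1) (by omega) (by omega)),
      Φ_congr Φ (mappingCone.inr_f_d g (n - 1) n), Φ_sub, Φ_comp, Φ_comp, Φ_comp, hx, map_zero,
      sub_zero, hm, sub_self]
  obtain ⟨z, hz⟩ := exists_cycle Φ (mappingCone g) (n - 1) n (by omega) c₀ h1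
  have hsurj : Function.Surjective (Φ.map (cellπ cov g n)) :=
    (ModuleCat.epi_iff_surjective _).mp inferInstance
  obtain ⟨e, he⟩ := hsurj z
  have hce : Φ.map (cellc cov g n) e = c₀ := by
    rw [cellc, Φ_comp, he, hz]
  have hfst : Φ.map ((mappingCone.fst g).1.v (n - 1) n (by omega)) c₀ = x := by
    rw [hc₀, map_sub, ← Φ_comp, ← Φ_comp,
      Φ_congr Φ (mappingCone.inl_v_fst_v g n (n - 1) (by omega)),
      Φ_congr Φ (mappingCone.inr_f_fst_v g (n - 1) n (by omega)), Φ_id, Φ_zero, sub_zero]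
  have hsnd : Φ.map ((mappingCone.snd g).v (n - 1) (n - 1) (add_zero _)) c₀ = -m := by
    rw [hc₀, map_sub, ← Φ_comp, ← Φ_comp,
      Φ_congr Φ (mappingCone.inl_v_snd_v g n (n - 1) (by omega)),
      Φ_congr Φ (mappingCone.inr_f_snd_v g (n - 1)), Φ_id, Φ_zero, zero_sub]
  refine ⟨Φ.map (stepH cov g n) e, ?_, ?_⟩
  · rw [← Φ_comp, Φ_congr Φ (stepH_d cov g n), Φ_comp, Φ_comp, hce, hfst]
  · rw [← Φ_comp, Φ_congr Φ (stepH_g cov g n), Φ_neg, Φ_comp, hce, hsnd, neg_neg]

/-- flexible indices -/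
theorem kill' (n n' : ℤ) (hn : n + 1 = n') (x : Φ.obj (L.X n')) (m : Φ.obj (M.X n))
    (hx : Φ.map (L.d n' (n' + 1)) x = 0)
    (hm : Φ.map (M.d n n') m = Φ.map (g.f n') x) :
    ∃ y : Φ.obj ((stepL cov g).X n),
      Φ.map ((stepL cov g).d n n') y = Φ.map ((stepι cov g).f n') x ∧
      Φ.map ((stepg cov g).f n) y = m := by
  obtain rfl : n = n' - 1 := by omega
  exact kill cov g Φ n' x m hx hm

end Transfer

end Groth.Agent.Helper5.KRes
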