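import Groth.Agent.Lib.Helper5.KFlat15

/-!
# Ring level: a sequence of complexes over `M` in which relative cycles die at the next stage
has a colimit quasi-isomorphic to `M`
-/

set_option autoImplicit false
set_option linter.unusedSectionVars false
set_option linter.unusedVariables false
set_option linter.style.haveILetI false

universe u

open CategoryTheory CategoryTheory.Limits HomologicalComplex

namespace Groth.Agent.Helper5.KRes

open Groth.Agent.Helper5.KF

variable {A : Type u} [CommRing A] (F : ℕ ⥤ DRing.Cx A) (c : Cocone F) (hc : IsColimit c)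
  (M : DRing.Cx A) (g : ∀ k, F.obj k ⟶ M) (f : c.pt ⟶ M) (hf : ∀ k, c.ι.app k ≫ f = g k)
  (kill : ∀ (k : ℕ) (n n' : ℤ) (_ : n + 1 = n') (x : (F.obj k).X n') (m : M.X n),
    (F.obj k).d n' (n' + 1) x = 0 → M.d n n' m = (g k).f n' x →
    ∃ y : (F.obj (k + 1)).X n,
      (F.obj (k + 1)).d n n' y = (F.map (homOfLE (Nat.le_succ k))).f n' x ∧
        (g (k + 1)).f n y = m)

include hf in
lemma ι_f_apply (k : ℕ) (q : ℤ) (y : (F.obj k).X q) :
    f.f q ((c.ι.app k).f q y) = (g k).f q y :=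
  app (congrArg (fun φ => φ.f q) (hf k)) y

lemma map_ι_apply (k : ℕ) (q : ℤ) (y : (F.obj k).X q) :
    (c.ι.app (k + 1)).f q ((F.map (homOfLE (Nat.le_succ k))).f q y) = (c.ι.app k).f q y :=
  app (congrArg (fun φ => φ.f q) (c.w (homOfLE (Nat.le_succ k)))) y

include hf kill in
lemma res_kill (k : ℕ) (n n' : ℤ) (hn : n + 1 = n') (x : (F.obj k).X n') (m : M.X n)
    (hx : (F.obj k).d n' (n' + 1) x = 0) (hm : M.d n n' m = (g k).f n' x) :
    ∃ y : c.pt.X n, c.pt.d n n' y = (c.ι.app k).f n' x ∧ f.f n y = m := by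
  obtain ⟨y', hy'1, hy'2⟩ := kill k n n' hn x m hx hm
  refine ⟨(c.ι.app (k + 1)).f n y', ?_, ?_⟩
  · have e1 := app ((c.ι.app (k + 1)).comm n n') y'
    have e2 := map_ι_apply F c k n' x
    exact e1.trans ((congrArg (fun t => (c.ι.app (k + 1)).f n' t) hy'1).trans e2)
  · rw [ι_f_apply F c M g f hf, hy'2]

include hf kill in
theorem surjective_of_kill (i : ℤ) : Function.Surjective (f.f i) := by
  intro m
  obtain ⟨y₁, hy₁, hy₁'⟩ := kill 0 (i + 1) (i + 1 + 1) rfl 0 (M.d i (i + 1) m) (map_zero _)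
    (by rw [d_d_apply, map_zero])
  rw [map_zero] at hy₁
  obtain ⟨y₂, -, hy₂⟩ := kill 1 i (i + 1) rfl y₁ m hy₁ hy₁'.symm
  exact ⟨(c.ι.app 2).f i y₂, by rw [ι_f_apply F c M g f hf, hy₂]⟩

include hc hf kill in
theorem quasiIso_of_kill : QuasiIso f := by
  apply quasiIso_of_elements
  · rintro n n' rfl x m hx hfx
    obtain ⟨j, x', rfl⟩ := G.X_exists_rep F c hc (n + 1) x
    have h1 : (c.ι.app j).f (n + 1 + 1) ((F.obj j).d (n + 1) (n + 1 + 1) x') = 0 :=
      (app ((c.ι.app j).comm (n + 1) (n + 1 + 1)).symm x').trans hx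
    obtain ⟨k, u, hu⟩ := G.X_ker F c hc (n + 1 + 1) j _ h1
    set x'' : (F.obj k).X (n + 1) := (F.map u).f (n + 1) x' with hx''
    have hdx'' : (F.obj k).d (n + 1) (n + 1 + 1) x'' = 0 :=
      (app ((F.map u).comm (n + 1) (n + 1 + 1)) x').trans hu
    have hιx'' : (c.ι.app k).f (n + 1) x'' = (c.ι.app j).f (n + 1) x' :=
      app (congrArg (fun φ => φ.f (n + 1)) (c.w u)) x'
    have hg : M.d n (n + 1) m = (g k).f (n + 1) x'' := by
      rw [← ι_f_apply F c M g f hf, hιx'']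
      exact hfx.symm
    obtain ⟨y, hy, -⟩ := res_kill F c M g f hf kill k n (n + 1) rfl x'' m hdx'' hg
    exact ⟨y, hy.trans hιx''⟩
  · rintro n n' rfl m hm
    obtain ⟨y, hy, hy'⟩ := res_kill F c M g f hf kill 0 (n + 1) (n + 1 + 1) rfl 0 m (map_zero _)
      (by rw [hm, map_zero])
    refine ⟨y, 0, ?_, ?_⟩
    · exact hy.trans (map_zero ((c.ι.app 0).f (n + 1 + 1)).hom)
    · rw [hy', map_zero, add_zero]

end Groth.Agent.Helper5.KRes
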