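import Groth.Agent.Lib.Helper5.KRes1
import Groth.Agent.Lib.Helper5.KRes2
import Groth.Agent.Lib.Helper5.FlatGen1
import Groth.Agent.Lib.Helper5.StalkCx6

/-!
# K-flat resolutions of complexes of `O_X`-modules: the construction and the quasi-isomorphism
-/

set_option autoImplicit false
set_option linter.unusedSectionVars false
set_option linter.unusedVariables false
set_option linter.style.haveILetI false

universe u

open CategoryTheory CategoryTheory.Limits AlgebraicGeometry HomologicalComplex

namespace Groth.Agent.Helper5.KRes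

variable {X : Scheme.{u}}

/-- the covering data on `O_X`-modules by coproducts of extensions by zero of structure sheaves -/
noncomputable def covX (X : Scheme.{u}) : Cov X.Modules :=
  ⟨FlatGen.cover, FlatGen.coverπ, fun F => inferInstance⟩

/-- the complex of stalks functor -/
noncomputable abbrev Sx (x : X) : CochainComplex X.Modules ℤ ⥤ DRing.Cx (X.presheaf.stalk x) :=
  (DerSch.stalkFunctor X x).mapHomologicalComplex (ComplexShape.up ℤ)

noncomputable instance (x : X) : PreservesColimitsOfShape ℕ (Sx x) := by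
  apply HomologicalComplex.preservesColimitsOfShape_of_eval
  intro n
  exact preservesColimitsOfShape_of_natIso (Iso.refl _ :
    HomologicalComplex.eval X.Modules (ComplexShape.up ℤ) n ⋙ DerSch.stalkFunctor X x ≅ _)

variable (M : CochainComplex X.Modules ℤ)

/-- a stage of the construction: a complex over `M` -/
structure Stage where
  L : CochainComplex X.Modules ℤ
  g : L ⟶ M

variable {M} (s₀ : Stage M)

/-- the stages, obtained by attaching cells repeatedly -/
noncomputable def stage : ℕ → Stage M
  | 0 => s₀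
  | n + 1 => ⟨stepL (covX X) (stage n).g, stepg (covX X) (stage n).g⟩

noncomputable def stageι (n : ℕ) : (stage s₀ n).L ⟶ (stage s₀ (n + 1)).L :=
  stepι (covX X) (stage s₀ n).g

lemma stageι_g (n : ℕ) : stageι s₀ n ≫ (stage s₀ (n + 1)).g = (stage s₀ n).g :=
  stepι_stepg _ _

/-- the sequence of stages -/
noncomputable def resF : ℕ ⥤ CochainComplex X.Modules ℤ := Functor.ofSequence (stageι s₀)

lemma resF_map_succ (n : ℕ) : (resF s₀).map (homOfLE (Nat.le_succ n)) = stageι s₀ n :=
  Functor.ofSequence_map_homOfLE_succ _ n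

noncomputable def resCocone : Cocone (resF s₀) where
  pt := M
  ι := NatTrans.ofSequence (fun n => (stage s₀ n).g) (by
    intro n
    have h := stageι_g s₀ n
    have h2 := resF_map_succ s₀ n
    rw [show (resF s₀).map (homOfLE (Nat.le_add_right n 1)) = stageι s₀ n from h2]
    exact h.trans (Category.comp_id _).symm)

/-- the resolution -/
noncomputable def resK : CochainComplex X.Modules ℤ := colimit (resF s₀)

noncomputable def resf : resK s₀ ⟶ M := colimit.desc (resF s₀) (resCocone s₀)

lemma ι_resf (n : ℕ) : colimit.ι (resF s₀) n ≫ resf s₀ = (stage s₀ n).g :=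
  colimit.ι_desc _ _

/-- the inclusion of the initial stage -/
noncomputable def resι : s₀.L ⟶ resK s₀ := colimit.ι (resF s₀) 0

lemma resι_resf : resι s₀ ≫ resf s₀ = s₀.g := ι_resf s₀ 0

theorem resf_stalk (x : X) : QuasiIso ((Sx x).map (resf s₀)) ∧
    ∀ i : ℤ, Function.Surjective (((Sx x).map (resf s₀)).f i) := by
  have hc := isColimitOfPreserves (Sx x) (colimit.isColimit (resF s₀))
  have hf : ∀ k, ((Sx x).mapCocone (colimit.cocone (resF s₀))).ι.app k ≫ (Sx x).map (resf s₀) =
      (Sx x).map (stage s₀ k).g := by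
    intro k
    exact ((Sx x).map_comp _ _).symm.trans (congrArg (Sx x).map (ι_resf s₀ k))
  have kill : ∀ (k : ℕ) (n n' : ℤ) (_ : n + 1 = n')
      (x' : ((resF s₀ ⋙ Sx x).obj k).X n') (m : ((Sx x).obj M).X n),
      ((resF s₀ ⋙ Sx x).obj k).d n' (n' + 1) x' = 0 →
      ((Sx x).obj M).d n n' m = ((Sx x).map (stage s₀ k).g).f n' x' →
      ∃ y : ((resF s₀ ⋙ Sx x).obj (k + 1)).X n,
        ((resF s₀ ⋙ Sx x).obj (k + 1)).d n n' y =
          ((resF s₀ ⋙ Sx x).map (homOfLE (Nat.le_succ k))).f n' x' ∧
          ((Sx x).map (stage s₀ (k + 1)).g).f n y = m := by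
    intro k n n' hn x' m hx' hm
    obtain ⟨y, hy1, hy2⟩ := kill' (covX X) (stage s₀ k).g (DerSch.stalkFunctor X x) n n' hn x' m
      hx' hm
    refine ⟨y, ?_, hy2⟩
    refine hy1.trans ?_
    change (DerSch.stalkFunctor X x).map ((stageι s₀ k).f n') x' =
      (DerSch.stalkFunctor X x).map (((resF s₀).map (homOfLE (Nat.le_succ k))).f n') x'
    rw [resF_map_succ]
    rfl
  exact ⟨quasiIso_of_kill (resF s₀ ⋙ Sx x) ((Sx x).mapCocone (colimit.cocone (resF s₀))) hc
      ((Sx x).obj M) (fun k => (Sx x).map (stage s₀ k).g) ((Sx x).map (resf s₀)) hf kill,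
    fun i => surjective_of_kill (resF s₀ ⋙ Sx x) ((Sx x).mapCocone (colimit.cocone (resF s₀)))
      ((Sx x).obj M) (fun k => (Sx x).map (stage s₀ k).g) ((Sx x).map (resf s₀)) hf kill i⟩

theorem resf_quasiIso : QuasiIso (resf s₀) :=
  StalkCx.quasiIso_of_stalks _ fun x => (resf_stalk s₀ x).1

theorem resf_epi (n : ℤ) : Epi ((resf s₀).f n) := by
  apply StalkCx.epi_of_stalks
  intro x
  exact (ModuleCat.epi_iff_surjective _).mpr ((resf_stalk s₀ x).2 n)

end Groth.Agent.Helper5.KRes
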