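import Groth.Agent.Lib.Helper5.KRes1

/-!
# Functoriality of the cell attachment
-/

set_option autoImplicit false
set_option linter.unusedSectionVars false
set_option linter.unusedVariables false
set_option linter.style.haveILetI false

universe v u

open CategoryTheory CategoryTheory.Limits CochainComplex HomComplex

namespace Groth.Agent.Helper5.KRes

variable {𝒜 : Type u} [Category.{v} 𝒜] [Abelian 𝒜]

/-- functorial covering data -/
structure CovF (𝒜 : Type u) [Category.{v} 𝒜] where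
  F : 𝒜 ⥤ 𝒜
  π : F ⟶ 𝟭 𝒜
  epi : ∀ A, Epi (π.app A)

/-- the underlying covering data -/
def CovF.toCov (c : CovF 𝒜) : Cov 𝒜 := ⟨c.F.obj, fun A => c.π.app A, c.epi⟩

section

variable {L M L' M' : CochainComplex 𝒜 ℤ} (g : L ⟶ M) (g' : L' ⟶ M') (u : L ⟶ L') (φ : M ⟶ M')
  (comm : g ≫ φ = u ≫ g')

/-- the induced map on mapping cones -/
noncomputable abbrev coneMap : mappingCone g ⟶ mappingCone g' := mappingCone.map g g' u φ comm

lemma coneMap_f_fst (p q : ℤ) (hpq : p + 1 = q) :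
    (coneMap g g' u φ comm).f p ≫ (mappingCone.fst g').1.v p q hpq =
      (mappingCone.fst g).1.v p q hpq ≫ u.f q := by
  simp [mappingCone.ext_from_iff _ _ _ hpq, mappingCone.map]

lemma coneMap_f_snd (p q : ℤ) (hpq : p + 0 = q) :
    (coneMap g g' u φ comm).f p ≫ (mappingCone.snd g').v p q hpq =
      (mappingCone.snd g).v p q hpq ≫ φ.f q := by
  obtain rfl : p = q := by omega
  simp [mappingCone.ext_from_iff _ (p + 1) p rfl, mappingCone.map]

variable (cov : CovF 𝒜)

/-- the induced map on the complexes of cells -/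
noncomputable def cellCxMap : cellCx cov.toCov g ⟶ cellCx cov.toCov g' where
  f n := cov.F.map (HomologicalComplex.cyclesMap (coneMap g g' u φ comm) (n - 1))
  comm' i j _ := comp_zero.trans zero_comp.symm

lemma cellCxMap_f (n : ℤ) : (cellCxMap g g' u φ comm cov).f n =
    cov.F.map (HomologicalComplex.cyclesMap (coneMap g g' u φ comm) (n - 1)) := rfl

lemma cellπ_cyclesMap (n : ℤ) :
    cellπ cov.toCov g n ≫ HomologicalComplex.cyclesMap (coneMap g g' u φ comm) (n - 1) =
      (cellCxMap g g' u φ comm cov).f n ≫ cellπ cov.toCov g' n :=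
  (cov.π.naturality (HomologicalComplex.cyclesMap (coneMap g g' u φ comm) (n - 1))).symm

lemma cellc_coneMap (n : ℤ) :
    cellc cov.toCov g n ≫ (coneMap g g' u φ comm).f (n - 1) =
      (cellCxMap g g' u φ comm cov).f n ≫ cellc cov.toCov g' n := by
  rw [cellc, cellc, Category.assoc, ← HomologicalComplex.cyclesMap_i, ← Category.assoc,
    cellπ_cyclesMap, Category.assoc]

lemma cellφ_comm : cellφ cov.toCov g ≫ u = cellCxMap g g' u φ comm cov ≫ cellφ cov.toCov g' := by
  ext n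
  rw [HomologicalComplex.comp_f, HomologicalComplex.comp_f, cellφ_f, cellφ_f, Category.assoc,
    ← coneMap_f_fst g g' u φ comm, ← Category.assoc, cellc_coneMap, Category.assoc]

lemma cellα_comm (p q : ℤ) (hpq : p + (-1) = q) :
    (cellα cov.toCov g).v p q hpq ≫ φ.f q =
      (cellCxMap g g' u φ comm cov).f p ≫ (cellα cov.toCov g').v p q hpq := by
  rw [cellα_v, cellα_v, Preadditive.neg_comp, Preadditive.comp_neg, Category.assoc,
    ← coneMap_f_snd g g' u φ comm, ← Category.assoc, cellc_coneMap, Category.assoc]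

/-- the induced map on the complexes with cells attached -/
noncomputable def stepMap : stepL cov.toCov g ⟶ stepL cov.toCov g' :=
  mappingCone.map (cellφ cov.toCov g) (cellφ cov.toCov g') (cellCxMap g g' u φ comm cov) u
    (cellφ_comm g g' u φ comm cov)

@[reassoc]
lemma stepι_stepMap :
    stepι cov.toCov g ≫ stepMap g g' u φ comm cov = u ≫ stepι cov.toCov g' := by
  simp [stepι, stepMap, mappingCone.map]

@[reassoc]
lemma stepMap_stepg :
    stepMap g g' u φ comm cov ≫ stepg cov.toCov g' = stepg cov.toCov g ≫ φ := by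
  ext n
  rw [mappingCone.ext_from_iff _ (n + 1) n rfl]
  constructor
  · simp only [HomologicalComplex.comp_f, stepMap, stepg, mappingCone.map]
    rw [mappingCone.inl_v_desc_f_assoc, mappingCone.inl_v_desc_f_assoc]
    simp only [Cochain.comp_v _ _ (zero_add (-1)) (n + 1) (n + 1) n (add_zero _) (by omega),
      Cochain.ofHom_v, Category.assoc, mappingCone.inl_v_desc_f]
    exact (cellα_comm g g' u φ comm cov (n + 1) n (by omega)).symm
  · simp only [HomologicalComplex.comp_f, stepMap, stepg, mappingCone.map]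
    rw [mappingCone.inr_f_desc_f_assoc, mappingCone.inr_f_desc_f_assoc,
      HomologicalComplex.comp_f, Category.assoc, mappingCone.inr_f_desc_f]
    exact (congrArg (fun t => t.f n) comm).symm

end

section Laws

lemma map_congr {K₁ L₁ K₂ L₂ : CochainComplex 𝒜 ℤ} (φ₁ : K₁ ⟶ L₁) (φ₂ : K₂ ⟶ L₂)
    {a a' : K₁ ⟶ K₂} {b b' : L₁ ⟶ L₂} (ha : a = a') (hb : b = b')
    (comm : φ₁ ≫ b = a ≫ φ₂) (comm' : φ₁ ≫ b' = a' ≫ φ₂) :
    mappingCone.map φ₁ φ₂ a b comm = mappingCone.map φ₁ φ₂ a' b' comm' := by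
  subst ha hb
  rfl

variable (cov : CovF 𝒜) {L M L' M' L'' M'' : CochainComplex 𝒜 ℤ} (g : L ⟶ M) (g' : L' ⟶ M')
  (g'' : L'' ⟶ M'') (u : L ⟶ L') (φ : M ⟶ M') (comm : g ≫ φ = u ≫ g')
  (u' : L' ⟶ L'') (φ' : M' ⟶ M'') (comm' : g' ≫ φ' = u' ≫ g'')

lemma cellCxMap_id (h : g ≫ 𝟙 M = 𝟙 L ≫ g) : cellCxMap g g (𝟙 L) (𝟙 M) h cov = 𝟙 _ := by
  ext n
  have e : coneMap g g (𝟙 L) (𝟙 M) h = 𝟙 _ := mappingCone.map_id g
  rw [cellCxMap_f, e, HomologicalComplex.cyclesMap_id, CategoryTheory.Functor.map_id]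
  rfl

lemma stepMap_id (h : g ≫ 𝟙 M = 𝟙 L ≫ g) : stepMap g g (𝟙 L) (𝟙 M) h cov = 𝟙 _ :=
  (map_congr _ _ (cellCxMap_id cov g h) rfl _ _).trans (mappingCone.map_id _)

lemma cellCxMap_comp (h : g ≫ φ ≫ φ' = (u ≫ u') ≫ g'') :
    cellCxMap g g'' (u ≫ u') (φ ≫ φ') h cov =
      cellCxMap g g' u φ comm cov ≫ cellCxMap g' g'' u' φ' comm' cov := by
  ext n
  have e : coneMap g g'' (u ≫ u') (φ ≫ φ') h =
      coneMap g g' u φ comm ≫ coneMap g' g'' u' φ' comm' :=
    mappingCone.map_comp g g' g'' u φ comm u' φ' comm'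
  rw [HomologicalComplex.comp_f, cellCxMap_f, cellCxMap_f, cellCxMap_f, e,
    HomologicalComplex.cyclesMap_comp, CategoryTheory.Functor.map_comp]
  rfl

lemma stepMap_comp (h : g ≫ φ ≫ φ' = (u ≫ u') ≫ g'') :
    stepMap g g'' (u ≫ u') (φ ≫ φ') h cov =
      stepMap g g' u φ comm cov ≫ stepMap g' g'' u' φ' comm' cov :=
  (map_congr _ _ (cellCxMap_comp cov g g' g'' u φ comm u' φ' comm' h) rfl _ _).trans
    (mappingCone.map_comp _ _ _ _ _ (cellφ_comm g g' u φ comm cov) _ _
      (cellφ_comm g' g'' u' φ' comm' cov))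

end Laws

end Groth.Agent.Helper5.KRes
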