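import Groth.Agent.Lib.Helper5.KRes5

/-!
# The functorial sequence of stages and its colimit
-/

set_option autoImplicit false
set_option linter.unusedSectionVars false
set_option linter.unusedVariables false
set_option linter.style.haveILetI false

universe v u

open CategoryTheory CategoryTheory.Limits CochainComplex HomComplex

namespace Groth.Agent.Helper5.KRes

variable {𝒜 : Type u} [Category.{v} 𝒜] [Abelian 𝒜] (cov : CovF 𝒜)

lemma stepMap_congr {L M L' M' : CochainComplex 𝒜 ℤ} (g : L ⟶ M) (g' : L' ⟶ M')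
    {u u₂ : L ⟶ L'} {φ φ₂ : M ⟶ M'} (hu : u = u₂) (hφ : φ = φ₂)
    (comm : g ≫ φ = u ≫ g') (comm₂ : g ≫ φ₂ = u₂ ≫ g') :
    stepMap g g' u φ comm cov = stepMap g g' u₂ φ₂ comm₂ cov := by
  subst hu hφ
  rfl

/-- a functorial stage: a functor on complexes with a natural transformation to the identity -/
structure FStage (𝒜 : Type u) [Category.{v} 𝒜] [Abelian 𝒜] where
  P : CochainComplex 𝒜 ℤ ⥤ CochainComplex 𝒜 ℤ
  γ : P ⟶ 𝟭 (CochainComplex 𝒜 ℤ)

variable (s : FStage 𝒜)

lemma FStage.comm {C C' : CochainComplex 𝒜 ℤ} (φ : C ⟶ C') :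
    s.γ.app C ≫ φ = s.P.map φ ≫ s.γ.app C' := (s.γ.naturality φ).symm

/-- attaching cells functorially -/
noncomputable def FStage.step : FStage 𝒜 where
  P :=
    { obj := fun C => stepL cov.toCov (s.γ.app C)
      map := fun {C C'} φ => stepMap (s.γ.app C) (s.γ.app C') (s.P.map φ) φ (s.comm φ) cov
      map_id := fun C =>
        (stepMap_congr cov _ _ (s.P.map_id C) rfl _ (by simp)).trans (stepMap_id cov _ _)
      map_comp := fun {C C' C''} φ φ' =>
        (stepMap_congr cov _ _ (s.P.map_comp φ φ') rfl _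
          (by rw [Category.assoc, ← s.comm φ', ← Category.assoc, s.comm φ,
            Category.assoc])).trans
          (stepMap_comp cov _ _ _ _ _ (s.comm φ) _ _ (s.comm φ') _) }
  γ :=
    { app := fun C => stepg cov.toCov (s.γ.app C)
      naturality := fun {C C'} φ => stepMap_stepg _ _ _ _ (s.comm φ) cov }

/-- the inclusion of a stage into the next -/
noncomputable def FStage.ι : s.P ⟶ (s.step cov).P where
  app := fun C => stepι cov.toCov (s.γ.app C)
  naturality := fun {C C'} φ => (stepι_stepMap _ _ _ _ (s.comm φ) cov).symm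

lemma FStage.ι_γ : s.ι cov ≫ (s.step cov).γ = s.γ := by
  ext C : 2
  exact stepι_stepg _ _

section Sequence

variable (s₀ : FStage 𝒜) [HasColimitsOfShape ℕ (CochainComplex 𝒜 ℤ)]

/-- the functorial stages -/
noncomputable def fstage : ℕ → FStage 𝒜
  | 0 => s₀
  | k + 1 => (fstage k).step cov

/-- the sequence of functors -/
noncomputable def Fseq : ℕ ⥤ (CochainComplex 𝒜 ℤ ⥤ CochainComplex 𝒜 ℤ) :=
  Functor.ofSequence (fun k => (fstage cov s₀ k).ι cov)

lemma Fseq_map_succ (k : ℕ) :
    (Fseq cov s₀).map (homOfLE (Nat.le_succ k)) = (fstage cov s₀ k).ι cov :=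
  Functor.ofSequence_map_homOfLE_succ _ k

/-- the cocone to the identity functor -/
noncomputable def FseqCocone : Cocone (Fseq cov s₀) where
  pt := 𝟭 _
  ι := NatTrans.ofSequence (fun k => (fstage cov s₀ k).γ) (by
    intro k
    have h2 := Fseq_map_succ cov s₀ k
    rw [show (Fseq cov s₀).map (homOfLE (Nat.le_add_right k 1)) = (fstage cov s₀ k).ι cov from h2]
    exact ((fstage cov s₀ k).ι_γ cov).trans (Category.comp_id _).symm)

/-- the functorial resolution -/
noncomputable def resP : CochainComplex 𝒜 ℤ ⥤ CochainComplex 𝒜 ℤ := colimit (Fseq cov s₀)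

/-- the natural transformation to the identity -/
noncomputable def resψ : resP cov s₀ ⟶ 𝟭 _ := colimit.desc _ (FseqCocone cov s₀)

variable (C : CochainComplex 𝒜 ℤ)

/-- the sequence of stages at a complex -/
noncomputable abbrev seqAt : ℕ ⥤ CochainComplex 𝒜 ℤ :=
  Fseq cov s₀ ⋙ (evaluation _ _).obj C

/-- the colimit cocone at a complex -/
noncomputable def coconeAt : Cocone (seqAt cov s₀ C) :=
  ((evaluation _ _).obj C).mapCocone (colimit.cocone (Fseq cov s₀))

noncomputable def isColimitAt : IsColimit (coconeAt cov s₀ C) :=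
  isColimitOfPreserves _ (colimit.isColimit _)

/-- the cocone to the complex -/
noncomputable def targetAt : Cocone (seqAt cov s₀ C) :=
  ((evaluation _ _).obj C).mapCocone (FseqCocone cov s₀)

lemma desc_at : (isColimitAt cov s₀ C).desc (targetAt cov s₀ C) = (resψ cov s₀).app C := by
  apply (isColimitAt cov s₀ C).hom_ext
  intro k
  rw [IsColimit.fac]
  exact (congrArg (fun t => t.app C) (colimit.ι_desc (FseqCocone cov s₀) k)).symm

lemma seqAt_map_succ (k : ℕ) :
    (seqAt cov s₀ C).map (homOfLE (Nat.le_succ k)) =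
      stepι cov.toCov ((fstage cov s₀ k).γ.app C) :=
  congrArg (fun t => t.app C) (Fseq_map_succ cov s₀ k)

lemma targetAt_ι (k : ℕ) : (targetAt cov s₀ C).ι.app k = (fstage cov s₀ k).γ.app C := rfl

lemma targetAt_ι_succ (k : ℕ) :
    (targetAt cov s₀ C).ι.app (k + 1) = stepg cov.toCov ((fstage cov s₀ k).γ.app C) := rfl

end Sequence

end Groth.Agent.Helper5.KRes
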