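import Groth.Agent.Lib.Helper5.KRes4
import Groth.Agent.Lib.Helper5.KRes6
import Groth.Agent.Lib.Helper5.FlatGen2

/-!
# Functorial K-flat resolutions of complexes of `O_X`-modules
-/

set_option autoImplicit false
set_option linter.unusedSectionVars false
set_option linter.unusedVariables false
set_option linter.style.haveILetI false

universe u

open CategoryTheory CategoryTheory.Limits AlgebraicGeometry HomologicalComplex ZeroObject

namespace Groth.Agent.Helper5.KRes

variable {X : Scheme.{u}}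

section Generic

variable (F : ℕ ⥤ CochainComplex X.Modules ℤ) (c' c : Cocone F) (hc : IsColimit c)

include hc in
theorem quasiIso_of_stalk_kill
    (H : ∀ (x : X) (k : ℕ) (n n' : ℤ) (_ : n + 1 = n')
      (x' : (DerSch.stalkFunctor X x).obj ((F.obj k).X n'))
      (m : (DerSch.stalkFunctor X x).obj (c'.pt.X n)),
      (DerSch.stalkFunctor X x).map ((F.obj k).d n' (n' + 1)) x' = 0 →
      (DerSch.stalkFunctor X x).map (c'.pt.d n n') m =
        (DerSch.stalkFunctor X x).map ((c'.ι.app k).f n') x' →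
      ∃ y : (DerSch.stalkFunctor X x).obj ((F.obj (k + 1)).X n),
        (DerSch.stalkFunctor X x).map ((F.obj (k + 1)).d n n') y =
          (DerSch.stalkFunctor X x).map ((F.map (homOfLE (Nat.le_succ k))).f n') x' ∧
        (DerSch.stalkFunctor X x).map ((c'.ι.app (k + 1)).f n) y = m) :
    QuasiIso (hc.desc c') := by
  apply StalkCx.quasiIso_of_stalks
  intro x
  have hcx := isColimitOfPreserves (Sx x) hc
  have hf : ∀ k, ((Sx x).mapCocone c).ι.app k ≫ (Sx x).map (hc.desc c') =
      (Sx x).map (c'.ι.app k) := by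
    intro k
    exact ((Sx x).map_comp _ _).symm.trans (congrArg (Sx x).map (hc.fac c' k))
  exact quasiIso_of_kill (F ⋙ Sx x) ((Sx x).mapCocone c) hcx ((Sx x).obj c'.pt)
    (fun k => (Sx x).map (c'.ι.app k)) ((Sx x).map (hc.desc c')) hf (H x)

include hc in
theorem isKFlat_of_isColimit_nat (H : ∀ k, DCoh.IsKFlat (F.obj k)) : DCoh.IsKFlat c.pt := by
  apply StalkCx.isKFlat_of_stalks
  intro x
  exact KF.G.KFl.of_isColimit (F ⋙ Sx x) ((Sx x).mapCocone c) (isColimitOfPreserves (Sx x) hc)
    (fun n => Sky.isKFlat_stalk x _ (H n))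

end Generic

section Functorial

/-- the functorial covering data on `O_X`-modules -/
noncomputable def covXF (X : Scheme.{u}) : CovF X.Modules :=
  ⟨FlatGen.coverF X, FlatGen.coverNat X, fun F => inferInstanceAs (Epi (FlatGen.coverπ F))⟩

lemma covXF_toCov : (covXF X).toCov = covX X := rfl

/-- the initial functorial stage: the zero functor -/
noncomputable def fs₀ (X : Scheme.{u}) : FStage X.Modules :=
  ⟨(Functor.const _).obj 0, 0⟩

theorem fstage_isKFlat (C : CochainComplex X.Modules ℤ) :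
    ∀ k : ℕ, DCoh.IsKFlat ((fstage (covXF X) (fs₀ X) k).P.obj C)
  | 0 => isKFlat_zero
  | k + 1 => isKFlat_stepL _ (fstage_isKFlat C k)

theorem exists_functorial_kFlat_resolution (X : Scheme.{u}) :
    ∃ (P : CochainComplex X.Modules ℤ ⥤ CochainComplex X.Modules ℤ)
      (ψ : P ⟶ 𝟭 (CochainComplex X.Modules ℤ)),
      ∀ C : CochainComplex X.Modules ℤ, DCoh.IsKFlat (P.obj C) ∧ QuasiIso (ψ.app C) := by
  refine ⟨resP (covXF X) (fs₀ X), resψ (covXF X) (fs₀ X), fun C => ⟨?_, ?_⟩⟩
  · exact isKFlat_of_isColimit_nat (seqAt (covXF X) (fs₀ X) C) (coconeAt (covXF X) (fs₀ X) C)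
      (isColimitAt (covXF X) (fs₀ X) C) (fstage_isKFlat C)
  · rw [← desc_at]
    apply quasiIso_of_stalk_kill (seqAt (covXF X) (fs₀ X) C) (targetAt (covXF X) (fs₀ X) C)
      (coconeAt (covXF X) (fs₀ X) C) (isColimitAt (covXF X) (fs₀ X) C)
    intro x k n n' hn x' m hx hm
    obtain ⟨y, hy1, hy2⟩ := kill' (covXF X).toCov ((fstage (covXF X) (fs₀ X) k).γ.app C)
      (DerSch.stalkFunctor X x) n n' hn x' m hx hm
    refine ⟨y, ?_, hy2⟩
    refine hy1.trans ?_
    rw [seqAt_map_succ]
    rfl

end Functorial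

end Groth.Agent.Helper5.KRes
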