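import Groth.Agent.Lib.Helper5.KZeroSub
import Mathlib.Algebra.Homology.ShortComplex.ModuleCat
import Mathlib.LinearAlgebra.Dimension.RankNullity
import Mathlib.LinearAlgebra.Dimension.Localization
import Mathlib.LinearAlgebra.Dimension.Finrank
import Mathlib.RingTheory.PrincipalIdealDomain
import Mathlib.RingTheory.Finiteness.Basic
import Mathlib.Algebra.Category.ModuleCat.Abelian
import Mathlib.LinearAlgebra.FreeModule.StrongRankCondition

/-!
# `K₀` of finitely generated modules over a principal ideal domain
-/

open CategoryTheory CategoryTheory.Limits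

universe u

namespace Groth.Agent.Helper5.KZ

variable (A : Type u) [CommRing A]

/-- the property of being finitely generated -/
abbrev Pfin : ObjectProperty (ModuleCat.{u} A) := fun M : ModuleCat.{u} A => Module.Finite A M

variable {A}

theorem clSub_exact {M N L : Type u} [AddCommGroup M] [Module A M] [AddCommGroup N] [Module A N]
    [AddCommGroup L] [Module A L] [Module.Finite A M] [Module.Finite A N] [Module.Finite A L]
    (f : M →ₗ[A] N) (g : N →ₗ[A] L) (hfg : Function.Exact f g) (hf : Function.Injective f)
    (hg : Function.Surjective g) :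
    KZero.clSub (Pfin A) (ModuleCat.of A N) =
      KZero.clSub (Pfin A) (ModuleCat.of A M) + KZero.clSub (Pfin A) (ModuleCat.of A L) := by
  have hS := ModuleCat.shortComplex_shortExact
    (ModuleCat.shortComplexOfCompEqZero f g hfg.linearMap_comp_eq_zero) hfg hf hg
  exact clSub_shortExact (Pfin A) _ hS (inferInstanceAs (Module.Finite A M))
    (inferInstanceAs (Module.Finite A N)) (inferInstanceAs (Module.Finite A L))

theorem clSub_subsingleton (M : Type u) [AddCommGroup M] [Module A M] [Subsingleton M] :
    KZero.clSub (Pfin A) (ModuleCat.of A M) = 0 :=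
  clSub_isZero (Pfin A) (ModuleCat.isZero_of_subsingleton _)
    (inferInstanceAs (Module.Finite A M))

theorem clSub_equiv {M N : Type u} [AddCommGroup M] [Module A M] [AddCommGroup N] [Module A N]
    [Module.Finite A M] [Module.Finite A N] (e : M ≃ₗ[A] N) :
    KZero.clSub (Pfin A) (ModuleCat.of A M) = KZero.clSub (Pfin A) (ModuleCat.of A N) :=
  clSub_iso (Pfin A) (Z := ModuleCat.of A PUnit) e.toModuleIso (inferInstanceAs (Module.Finite A M))
    (inferInstanceAs (Module.Finite A N)) (ModuleCat.isZero_of_subsingleton _)
    (inferInstanceAs (Module.Finite A PUnit))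

section Domain

variable [IsDomain A]

theorem finrank_shortExact (S : ShortComplex (ModuleCat.{u} A)) (hS : S.ShortExact)
    [Module.Finite A S.X₂] :
    Module.finrank A S.X₂ = Module.finrank A S.X₁ + Module.finrank A S.X₃ := by
  have hinj := hS.moduleCat_injective_f
  have hsurj := hS.moduleCat_surjective_g
  have hex := hS.exact.moduleCat_range_eq_ker
  have h1 := Submodule.finrank_quotient_add_finrank (LinearMap.ker S.g.hom)
  have h2 : Module.finrank A (S.X₂ ⧸ LinearMap.ker S.g.hom) = Module.finrank A S.X₃ :=
    (S.g.hom.quotKerEquivOfSurjective hsurj).finrank_eq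
  have h3 : Module.finrank A (LinearMap.ker S.g.hom) = Module.finrank A S.X₁ := by
    rw [← hex]
    exact LinearMap.finrank_range_of_inj hinj
  omega

/-- the rank homomorphism -/
noncomputable def rk : KZero.K0sub (Pfin A) →+ ℤ :=
  lift (Pfin A) (fun M => (Module.finrank A M.1 : ℤ)) (by
    intro S h₁ h₂ h₃ hS
    have : Module.Finite A S.X₂ := h₂
    have := finrank_shortExact S hS
    push_cast [this]
    rfl)

theorem rk_clSub (M : ModuleCat.{u} A) (h : Module.Finite A M) :
    rk (KZero.clSub (Pfin A) M) = (Module.finrank A M : ℤ) :=
  lift_clSub (Pfin A) _ _ M h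

theorem clSub_quot_span_singleton (a : A) :
    KZero.clSub (Pfin A) (ModuleCat.of A (A ⧸ Ideal.span {a})) ∈
      AddSubgroup.zmultiples (KZero.clSub (Pfin A) (ModuleCat.of A A)) := by
  by_cases ha : a = 0
  · subst ha
    have hbot : Ideal.span {(0 : A)} = ⊥ := by simp
    rw [clSub_equiv (Submodule.quotEquivOfEqBot (Ideal.span {(0 : A)}) hbot)]
    exact AddSubgroup.mem_zmultiples _
  · have hinj : Function.Injective (LinearMap.toSpanSingleton A A a) := by
      intro x y hxy
      simp only [LinearMap.toSpanSingleton_apply, smul_eq_mul] at hxy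
      exact mul_right_cancel₀ ha hxy
    have hex : Function.Exact (LinearMap.toSpanSingleton A A a) (Ideal.span {a}).mkQ := by
      rw [LinearMap.exact_iff, Submodule.ker_mkQ]
      exact LinearMap.span_singleton_eq_range A A a
    have := clSub_exact (LinearMap.toSpanSingleton A A a) (Ideal.span {a}).mkQ hex hinj
      (Submodule.mkQ_surjective _)
    have h0 : KZero.clSub (Pfin A) (ModuleCat.of A (A ⧸ Ideal.span {a})) = 0 := by
      have h' : KZero.clSub (Pfin A) (ModuleCat.of A A) + 0 =
          KZero.clSub (Pfin A) (ModuleCat.of A A) +
            KZero.clSub (Pfin A) (ModuleCat.of A (A ⧸ Ideal.span {a})) := by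
        rw [add_zero]; exact this
      exact (add_left_cancel h').symm
    rw [h0]
    exact zero_mem _

variable [IsPrincipalIdealRing A]

theorem clSub_quot_ideal (I : Ideal A) :
    KZero.clSub (Pfin A) (ModuleCat.of A (A ⧸ I)) ∈
      AddSubgroup.zmultiples (KZero.clSub (Pfin A) (ModuleCat.of A A)) := by
  obtain ⟨a, rfl⟩ : ∃ a, I = Ideal.span {a} := (IsPrincipalIdealRing.principal I).principal
  exact clSub_quot_span_singleton a

theorem clSub_mem_of_card (n : ℕ) : ∀ (M : Type u) [AddCommGroup M] [Module A M] (s : Finset M),
    s.card ≤ n → Submodule.span A (s : Set M) = ⊤ →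
    KZero.clSub (Pfin A) (ModuleCat.of A M) ∈
      AddSubgroup.zmultiples (KZero.clSub (Pfin A) (ModuleCat.of A A)) := by
  classical
  induction n with
  | zero =>
    intro M _ _ s hs hspan
    have : s = ∅ := Finset.card_eq_zero.mp (Nat.le_zero.mp hs)
    subst this
    have hsub : Subsingleton M := by
      rw [← Submodule.subsingleton_iff A, ← subsingleton_iff_bot_eq_top]
      simpa using hspan
    rw [clSub_subsingleton M]
    exact zero_mem _
  | succ n ih =>
    intro M _ _ s hs hspan
    by_cases hse : s = ∅
    · subst hse
      have hsub : Subsingleton M := by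
        rw [← Submodule.subsingleton_iff A, ← subsingleton_iff_bot_eq_top]
        simpa using hspan
      rw [clSub_subsingleton M]
      exact zero_mem _
    · obtain ⟨x, hx⟩ := Finset.nonempty_iff_ne_empty.mpr hse
      have : Module.Finite A M := ⟨⟨s, hspan⟩⟩
      let N : Submodule A M := Submodule.span A {x}
      have hSES := clSub_exact N.subtype N.mkQ
        (by rw [LinearMap.exact_iff, Submodule.ker_mkQ, Submodule.range_subtype])
        N.injective_subtype (Submodule.mkQ_surjective _)
      rw [hSES]
      refine add_mem ?_ ?_
      · -- the cyclic part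
        have e : (A ⧸ LinearMap.ker (LinearMap.toSpanSingleton A M x)) ≃ₗ[A] N :=
          (LinearMap.quotKerEquivRange (LinearMap.toSpanSingleton A M x)).trans
            (LinearEquiv.ofEq _ _ (LinearMap.span_singleton_eq_range A M x).symm)
        rw [← clSub_equiv e]
        exact clSub_quot_ideal _
      · -- the quotient
        refine ih (M ⧸ N) ((s.erase x).image N.mkQ) ?_ ?_
        · refine (Finset.card_image_le).trans ?_
          rw [Finset.card_erase_of_mem hx]
          omega
        · rw [Finset.coe_image, ← Submodule.map_span]
          have h2 : N ⊔ Submodule.span A ((s.erase x : Finset M) : Set M) = ⊤ := by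
            rw [← Submodule.span_union, ← hspan]
            congr 1
            rw [Finset.coe_erase]
            ext y
            simp only [Set.singleton_union, Set.mem_insert_iff, Set.mem_diff, Finset.mem_coe,
              Set.mem_singleton_iff]
            constructor
            · rintro (rfl | ⟨h, _⟩)
              · exact hx
              · exact h
            · intro h
              by_cases hy : y = x
              · exact Or.inl hy
              · exact Or.inr ⟨h, hy⟩
          exact (Submodule.map_mkQ_eq_top _ _).mpr h2

theorem clSub_mem (M : ModuleCat.{u} A) (h : Module.Finite A M) :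
    KZero.clSub (Pfin A) M ∈
      AddSubgroup.zmultiples (KZero.clSub (Pfin A) (ModuleCat.of A A)) := by
  obtain ⟨s, hs⟩ := h.fg_top
  exact clSub_mem_of_card s.card M s le_rfl hs

theorem bijective_zsmul_clSub :
    Function.Bijective (fun k : ℤ => k • KZero.clSub (Pfin A) (ModuleCat.of A A)) := by
  constructor
  · intro k l hkl
    have := congrArg rk hkl
    simp only [map_zsmul] at this
    rw [rk_clSub _ (inferInstanceAs (Module.Finite A A))] at this
    simpa [Module.finrank_self] using this
  · intro x
    have : x ∈ AddSubgroup.zmultiples (KZero.clSub (Pfin A) (ModuleCat.of A A)) := by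
      induction x using induction_on with
      | zero => exact zero_mem _
      | of X hX => exact clSub_mem X hX
      | neg x hx => exact neg_mem hx
      | add x y hx hy => exact add_mem hx hy
    obtain ⟨k, hk⟩ := AddSubgroup.mem_zmultiples_iff.mp this
    exact ⟨k, hk⟩

end Domain

end Groth.Agent.Helper5.KZ
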