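import Mathlib

set_option linter.style.haveILetI false
set_option autoImplicit false

universe u v

open TensorProduct

namespace Groth.Agent.Helper5.KerSemicont

variable {A : Type u} [CommRing A]

/-- (universe-polymorphic copy of a lemma of helper4) -/
theorem span_tmul_eq_top_of_subsingleton {C : Type v} [AddCommGroup C] [Module A C]
    (K : Type*) [Field K] [Algebra A K] {ι : Type*} (c : ι → C)
    (h : Subsingleton (K ⊗[A] (C ⧸ Submodule.span A (Set.range c)))) :
    Submodule.span K (Set.range fun i => (1 : K) ⊗ₜ[A] c i) = ⊤ := by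
  set S := Submodule.span A (Set.range c)
  have hex := lTensor_exact K (LinearMap.exact_subtype_mkQ S) (Submodule.mkQ_surjective S)
  have h1 : S.baseChange K = ⊤ := by
    rw [eq_top_iff]
    intro v _
    have hv : (S.mkQ.lTensor K) v = 0 := Subsingleton.elim _ _
    obtain ⟨w, hw⟩ := (hex v).mp hv
    exact ⟨w, hw⟩
  rw [← h1, Submodule.baseChange_span, ← Set.range_comp]
  rfl

theorem exists_nhd_fibDim_le (C : Type v) [AddCommGroup C] [Module A C] [Module.Finite A C]
    (x : PrimeSpectrum A) :
    ∃ U : Set (PrimeSpectrum A), IsOpen U ∧ x ∈ U ∧ ∀ y ∈ U,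
      Module.finrank y.asIdeal.ResidueField (y.asIdeal.ResidueField ⊗[A] C) ≤
        Module.finrank x.asIdeal.ResidueField (x.asIdeal.ResidueField ⊗[A] C) := by
  set κ := x.asIdeal.ResidueField
  set s : Set (κ ⊗[A] C) := Set.range (TensorProduct.mk A κ C 1) with hs_def
  have hs : Submodule.span κ s = ⊤ := by
    rw [hs_def, ← Set.image_univ, ← Submodule.baseChange_span, Submodule.span_univ,
      Submodule.baseChange_top]
  obtain ⟨f, hfs, hfspan, -⟩ := Submodule.exists_fun_fin_finrank_span_eq κ s
  replace hfspan : Submodule.span κ (Set.range f) = ⊤ := hfspan.trans hs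
  have hn : Module.finrank κ (Submodule.span κ s) = Module.finrank κ (κ ⊗[A] C) := by
    rw [hs, finrank_top]
  choose c hc using hfs
  have hc' : ∀ i, (1 : κ) ⊗ₜ[A] c i = f i := hc
  set S := Submodule.span A (Set.range c) with hS
  have hsub : Subsingleton (κ ⊗[A] (C ⧸ S)) := by
    have hsurj : Function.Surjective (S.mkQ.baseChange κ) :=
      LinearMap.lTensor_surjective κ (Submodule.mkQ_surjective S)
    have hker : LinearMap.ker (S.mkQ.baseChange κ) = ⊤ := by
      rw [eq_top_iff, ← hfspan, Submodule.span_le]
      rintro _ ⟨i, rfl⟩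
      rw [SetLike.mem_coe, LinearMap.mem_ker, ← hc', LinearMap.baseChange_tmul]
      have : S.mkQ (c i) = 0 :=
        (Submodule.Quotient.mk_eq_zero S).mpr (Submodule.subset_span ⟨i, rfl⟩)
      rw [this, tmul_zero]
    refine ⟨fun a b => ?_⟩
    obtain ⟨a', rfl⟩ := hsurj a
    obtain ⟨b', rfl⟩ := hsurj b
    have ha : a' ∈ LinearMap.ker (S.mkQ.baseChange κ) := hker ▸ Submodule.mem_top
    have hb : b' ∈ LinearMap.ker (S.mkQ.baseChange κ) := hker ▸ Submodule.mem_top
    rw [LinearMap.mem_ker.mp ha, LinearMap.mem_ker.mp hb]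
  refine ⟨(Module.support A (C ⧸ S))ᶜ, ?_, ?_, ?_⟩
  · rw [isOpen_compl_iff, Module.support_eq_zeroLocus]
    exact PrimeSpectrum.isClosed_zeroLocus _
  · rw [Set.mem_compl_iff, Module.mem_support_iff_nontrivial_residueField_tensorProduct,
      not_nontrivial_iff_subsingleton]
    exact hsub
  · intro y hy
    rw [Set.mem_compl_iff, Module.mem_support_iff_nontrivial_residueField_tensorProduct,
      not_nontrivial_iff_subsingleton] at hy
    have := span_tmul_eq_top_of_subsingleton y.asIdeal.ResidueField c hy
    have h2 := finrank_le_of_span_eq_top this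
    rw [Fintype.card_fin, hn] at h2
    exact h2

/-- dimension count for the kernel of `δ ⊗ K`. -/
theorem finrank_ker_add (M : Type v) (F : Type v) [AddCommGroup M] [Module A M]
    [Module.Finite A M] [AddCommGroup F] [Module A F] [Module.Finite A F] [Module.Free A F]
    (δ : M →ₗ[A] F) (K : Type*) [Field K] [Algebra A K] :
    Module.finrank K (LinearMap.ker (δ.baseChange K)) + Module.finrank A F =
      Module.finrank K (K ⊗[A] M) + Module.finrank K (K ⊗[A] (F ⧸ LinearMap.range δ)) := by
  haveI : Nontrivial A := (algebraMap A K).domain_nontrivial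
  have h1 := LinearMap.finrank_range_add_finrank_ker (δ.baseChange K)
  have h2 := Submodule.finrank_quotient_add_finrank (LinearMap.range (δ.baseChange K))
  have h3 : Module.finrank K (K ⊗[A] F) = Module.finrank A F := Module.finrank_baseChange
  have hex := lTensor_exact K (LinearMap.exact_map_mkQ_range δ)
    (Submodule.mkQ_surjective (LinearMap.range δ))
  have hsurj : Function.Surjective ((LinearMap.range δ).mkQ.baseChange K) :=
    LinearMap.lTensor_surjective K (Submodule.mkQ_surjective _)
  have hker : LinearMap.ker ((LinearMap.range δ).mkQ.baseChange K) =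
      LinearMap.range (δ.baseChange K) := by
    ext v
    rw [LinearMap.mem_ker, LinearMap.mem_range]
    exact hex v
  have h4 := (LinearMap.quotKerEquivOfSurjective _ hsurj).finrank_eq
  rw [hker] at h4
  omega

end Groth.Agent.Helper5.KerSemicont
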