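import Groth.Agent.Lib.Helper5.LDer1
import Groth.Agent.Lib.Helper5.LDer2
import Groth.Agent.Lib.Helper5.LDer3
import Groth.Agent.Lib.Helper5.KRes7

/-!
# Left derived functors on complexes of modules over a scheme, via K-flat resolutions
-/

set_option autoImplicit false
set_option linter.unusedSectionVars false
set_option linter.unusedVariables false
set_option linter.style.haveILetI false

universe v' u' u

open CategoryTheory CategoryTheory.Limits AlgebraicGeometry

attribute [local instance] HasDerivedCategory.standard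

namespace Groth.Agent.Helper5.LDer

variable {Y : Scheme.{u}} {H : Type u'} [Category.{v'} H]

/-- the functorial K-flat resolution functor -/
noncomputable def KP (Y : Scheme.{u}) : CochainComplex Y.Modules ℤ ⥤ CochainComplex Y.Modules ℤ :=
  (KRes.exists_functorial_kFlat_resolution Y).choose

/-- the functorial K-flat resolution map -/
noncomputable def Kψ (Y : Scheme.{u}) : KP Y ⟶ 𝟭 (CochainComplex Y.Modules ℤ) :=
  (KRes.exists_functorial_kFlat_resolution Y).choose_spec.choose

lemma KP_isKFlat (C : CochainComplex Y.Modules ℤ) : DCoh.IsKFlat ((KP Y).obj C) :=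
  ((KRes.exists_functorial_kFlat_resolution Y).choose_spec.choose_spec C).1

lemma Kψ_quasiIso (C : CochainComplex Y.Modules ℤ) : QuasiIso ((Kψ Y).app C) :=
  ((KRes.exists_functorial_kFlat_resolution Y).choose_spec.choose_spec C).2

lemma KP_map_quasiIso {K L : CochainComplex Y.Modules ℤ} (g : K ⟶ L) (hg : QuasiIso g) :
    QuasiIso ((KP Y).map g) := by
  have nat := (Kψ Y).naturality g
  simp only [Functor.id_obj, Functor.id_map] at nat
  haveI := Kψ_quasiIso K
  haveI := Kψ_quasiIso L
  have h : QuasiIso ((KP Y).map g ≫ (Kψ Y).app L) := by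
    rw [nat]
    exact quasiIso_comp _ _
  exact (quasiIso_iff_comp_right _ ((Kψ Y).app L)).mp h

/-- the functor `F` inverts quasi-isomorphisms between K-flat complexes -/
def InvertsKFlatQis (F : CochainComplex Y.Modules ℤ ⥤ H) : Prop :=
  ∀ ⦃K L : CochainComplex Y.Modules ℤ⦄ (g : K ⟶ L), QuasiIso g → DCoh.IsKFlat K →
    DCoh.IsKFlat L → IsIso (F.map g)

section Cx

variable (F : CochainComplex Y.Modules ℤ ⥤ H) (hF : InvertsKFlatQis F)

include hF in
lemma hPF_cx : (HomologicalComplex.quasiIso Y.Modules (ComplexShape.up ℤ)).IsInvertedBy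
    (KP Y ⋙ F) := by
  intro K L g hg
  exact hF _ (KP_map_quasiIso g hg) (KP_isKFlat K) (KP_isKFlat L)

include hF in
lemma hF'_cx (C : CochainComplex Y.Modules ℤ) : IsIso (F.map ((Kψ Y).app ((KP Y).obj C))) :=
  hF _ (Kψ_quasiIso _) (KP_isKFlat _) (KP_isKFlat _)

lemma hψ_cx (C : CochainComplex Y.Modules ℤ) :
    HomologicalComplex.quasiIso Y.Modules (ComplexShape.up ℤ) ((Kψ Y).app C) :=
  Kψ_quasiIso C

include hF in
/-- Cx-level existence of left derived functors -/
theorem hasLeftDerivedFunctor_cx :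
    F.HasLeftDerivedFunctor (HomologicalComplex.quasiIso Y.Modules (ComplexShape.up ℤ)) :=
  hasLeftDerivedFunctor DerivedCategory.Q _ F (KP Y) (Kψ Y) hψ_cx (hPF_cx F hF) (hF'_cx F hF)

include hF in
/-- the counit of a Cx-level left derived functor is an isomorphism on K-flat complexes -/
theorem isIso_counit_cx (LF' : DerivedCategory Y.Modules ⥤ H) (α' : DerivedCategory.Q ⋙ LF' ⟶ F)
    [LF'.IsLeftDerivedFunctor α' (HomologicalComplex.quasiIso Y.Modules (ComplexShape.up ℤ))]
    (K : CochainComplex Y.Modules ℤ) (hK : DCoh.IsKFlat K) : IsIso (α'.app K) :=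
  isIso_counit_app DerivedCategory.Q _ F (KP Y) (Kψ Y) hψ_cx (hPF_cx F hF) (hF'_cx F hF) LF' α' K
    (hF _ (Kψ_quasiIso K) (KP_isKFlat K) hK)

include hF in
/-- recognition of Cx-level left derived functors -/
theorem isLeftDerivedFunctor_cx_of_isIso (G : DerivedCategory Y.Modules ⥤ H)
    (β : DerivedCategory.Q ⋙ G ⟶ F)
    (hβ : ∀ K : CochainComplex Y.Modules ℤ, DCoh.IsKFlat K → IsIso (β.app K)) :
    G.IsLeftDerivedFunctor β (HomologicalComplex.quasiIso Y.Modules (ComplexShape.up ℤ)) :=
  isLeftDerivedFunctor_of_isIso DerivedCategory.Q _ F (KP Y) (Kψ Y) hψ_cx (hPF_cx F hF)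
    (hF'_cx F hF) G β (fun X => hβ _ (KP_isKFlat X))

end Cx

section K

instance instQcQhLoc (C : Type*) [Category* C] [Abelian C] [HasDerivedCategory C] :
    (HomotopyCategory.quotient C (ComplexShape.up ℤ) ⋙ DerivedCategory.Qh).IsLocalization
      (HomologicalComplex.quasiIso C (ComplexShape.up ℤ)) :=
  Functor.IsLocalization.of_iso _ (DerivedCategory.quotientCompQhIso C).symm

variable (F : HomotopyCategory Y.Modules (ComplexShape.up ℤ) ⥤ H)
  (hF : InvertsKFlatQis (HomotopyCategory.quotient Y.Modules (ComplexShape.up ℤ) ⋙ F))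

/-- the K-level derived functor -/
noncomputable def LFK : DerivedCategory Y.Modules ⥤ H :=
  LF (HomotopyCategory.quotient Y.Modules (ComplexShape.up ℤ) ⋙ DerivedCategory.Qh)
    (HomologicalComplex.quasiIso Y.Modules (ComplexShape.up ℤ))
    (HomotopyCategory.quotient Y.Modules (ComplexShape.up ℤ) ⋙ F) (KP Y) (hPF_cx _ hF)

/-- the Cx-level counit for the K-level derived functor -/
noncomputable def αKC : (HomotopyCategory.quotient Y.Modules (ComplexShape.up ℤ) ⋙
    DerivedCategory.Qh) ⋙ LFK F hF ⟶ HomotopyCategory.quotient Y.Modules (ComplexShape.up ℤ) ⋙ F :=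
  α _ _ _ (KP Y) (Kψ Y) (hPF_cx _ hF)

/-- the K-level counit -/
noncomputable def αK : DerivedCategory.Qh ⋙ LFK F hF ⟶ F :=
  descα (HomotopyCategory.quotient Y.Modules (ComplexShape.up ℤ))
    (HomologicalComplex.homotopyEquivalences _ _) DerivedCategory.Qh F (LFK F hF) (αKC F hF)

lemma αK_app (K : CochainComplex Y.Modules ℤ) :
    (αK F hF).app ((HomotopyCategory.quotient Y.Modules (ComplexShape.up ℤ)).obj K) =
      (αKC F hF).app K :=
  descα_app _ _ _ _ _ _ K

instance isLeftDerivedFunctor_αKC : (LFK F hF).IsLeftDerivedFunctor (αKC F hF)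
    (HomologicalComplex.quasiIso Y.Modules (ComplexShape.up ℤ)) :=
  isLeftDerivedFunctor _ _ _ (KP Y) (Kψ Y) hψ_cx (hPF_cx _ hF) (hF'_cx _ hF)

instance isLeftDerivedFunctor_αK : (LFK F hF).IsLeftDerivedFunctor (αK F hF)
    (HomotopyCategory.quasiIso Y.Modules (ComplexShape.up ℤ)) := by
  constructor
  haveI : (LFK F hF).IsRightKanExtension (αKC F hF) :=
    (isLeftDerivedFunctor_αKC F hF).isRightKanExtension
  exact isRightKanExtension_descα _ _ _ _ _ (αKC F hF)

include hF in
/-- K-level existence of left derived functors -/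
theorem hasLeftDerivedFunctor_K :
    F.HasLeftDerivedFunctor (HomotopyCategory.quasiIso Y.Modules (ComplexShape.up ℤ)) :=
  Functor.HasLeftDerivedFunctor.mk' (LFK F hF) (αK F hF)

lemma isIso_αK_app (K : CochainComplex Y.Modules ℤ) (hK : DCoh.IsKFlat K) :
    IsIso ((αK F hF).app ((HomotopyCategory.quotient Y.Modules (ComplexShape.up ℤ)).obj K)) := by
  rw [αK_app]
  exact isIso_counit_app (HomotopyCategory.quotient Y.Modules (ComplexShape.up ℤ) ⋙
    DerivedCategory.Qh) _ _ (KP Y) (Kψ Y) hψ_cx (hPF_cx _ hF) (hF'_cx _ hF) (LFK F hF) (αKC F hF) K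
    (hF _ (Kψ_quasiIso K) (KP_isKFlat K) hK)

include hF in
/-- the counit of a K-level left derived functor is an isomorphism on K-flat complexes -/
theorem isIso_counit_K (LF' : DerivedCategory Y.Modules ⥤ H) (α' : DerivedCategory.Qh ⋙ LF' ⟶ F)
    [LF'.IsLeftDerivedFunctor α' (HomotopyCategory.quasiIso Y.Modules (ComplexShape.up ℤ))]
    (K : CochainComplex Y.Modules ℤ) (hK : DCoh.IsKFlat K) :
    IsIso (α'.app ((HomotopyCategory.quotient Y.Modules (ComplexShape.up ℤ)).obj K)) := by
  let e := Functor.leftDerivedNatIso LF' (LFK F hF) α' (αK F hF)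
    (HomotopyCategory.quasiIso Y.Modules (ComplexShape.up ℤ)) (Iso.refl F)
  have h : e.hom.app (DerivedCategory.Qh.obj ((HomotopyCategory.quotient Y.Modules
      (ComplexShape.up ℤ)).obj K)) ≫ (αK F hF).app ((HomotopyCategory.quotient Y.Modules
      (ComplexShape.up ℤ)).obj K) = α'.app ((HomotopyCategory.quotient Y.Modules
      (ComplexShape.up ℤ)).obj K) := by
    have h0 := Functor.leftDerivedNatTrans_app LF' (LFK F hF) α' (αK F hF)
      (HomotopyCategory.quasiIso Y.Modules (ComplexShape.up ℤ)) (𝟙 F)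
      ((HomotopyCategory.quotient Y.Modules (ComplexShape.up ℤ)).obj K)
    rw [NatTrans.id_app, Category.comp_id] at h0
    exact h0
  rw [← h]
  haveI := isIso_αK_app F hF K hK
  infer_instance

end K

end Groth.Agent.Helper5.LDer
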