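import Groth.Agent.Lib.Helper11.LocalPerf6

/-!
# Complexes of finite projective modules over a local ring whose fibre has cohomology in one degree

`R` a local ring, `φ : R → K'` a ring homomorphism killing the maximal ideal, towards a nonzero ring
(for instance a local homomorphism to a field).  If `C` is a bounded above complex of finite
projective `R`-modules such that `K' ⊗ C` has cohomology only in degree `i`, then `C` has
cohomology only in degree `i`, and `H^i(C)` is projective.
-/

set_option autoImplicit false
set_option linter.unusedSectionVars false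
set_option linter.unusedVariables false
set_option linter.style.haveILetI false

open CategoryTheory Category Limits DerivedCategory

attribute [local instance] HasDerivedCategory.standard

universe u

namespace Groth.Agent.Helper5.LFD

open Groth.Agent.Helper11.DC Groth.Agent.Helper11.TA Groth.Agent.Helper11.LocalPerf
  Groth.Agent.Helper11.LDer Groth.Agent.Helper11.SubCx

section Ring

variable {R : Type u} [CommRing R] [IsLocalRing R] {K' : Type u} [CommRing K'] [Nontrivial K']
  (φ : R →+* K') (hφ : ∀ a ∈ IsLocalRing.maximalIdeal R, φ a = 0)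

local notation "κ" => IsLocalRing.ResidueField R

/-- the induced map from the residue field -/
noncomputable def resLift : κ →+* K' :=
  Ideal.Quotient.lift (IsLocalRing.maximalIdeal R) φ hφ

lemma resLift_comp : (resLift φ hφ).comp (IsLocalRing.residue R) = φ :=
  Ideal.Quotient.lift_comp_mk _ _ _

lemma resLift_flat : (resLift φ hφ).Flat := by
  letI := (resLift φ hφ).toAlgebra
  show Module.Flat κ K'
  infer_instance

lemma resLift_faithfullyFlat : (resLift φ hφ).FaithfullyFlat := by
  letI := (resLift φ hφ).toAlgebra
  show Module.FaithfullyFlat κ K'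
  infer_instance

include hφ in
/-- vanishing of the cohomology of `K' ⊗ C` gives the vanishing of the cohomology of `κ ⊗ C` -/
theorem isZero_homology_residue (C : DRing.Cx R) (j : ℤ)
    (h : IsZero (((esC φ).obj C).homology j)) :
    IsZero ((homologyFunctor (ModuleCat.{u} κ) j).obj
      (Q.obj ((esC (IsLocalRing.residue R)).obj C))) := by
  rw [isZero_homology_Q_iff_exactAt, HomologicalComplex.exactAt_iff_isZero_homology]
  have e : (esC φ).obj C ≅ (esC (resLift φ hφ)).obj ((esC (IsLocalRing.residue R)).obj C) :=
    eqToIso (by rw [resLift_comp]) ≪≫ esCCompIso (IsLocalRing.residue R) (resLift φ hφ) C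
  have h1 : IsZero (((esC (resLift φ hφ)).obj ((esC (IsLocalRing.residue R)).obj C)).homology j) :=
    h.of_iso ((HomologicalComplex.homologyFunctor _ _ j).mapIso e.symm)
  have h2 := h1.of_iso (esHomologyIso (resLift φ hφ) (resLift_flat φ hφ) _ j).symm
  exact isZero_of_es_isZero (resLift φ hφ) (resLift_faithfullyFlat φ hφ) _ h2

/-- a bounded above complex of finite projective modules over a local ring whose fibre has
cohomology only in degree `i`: the cohomology modules are projective, and vanish outside `i` -/
theorem homology_of_fibre (C : DRing.Cx R) (b₀ : ℤ) (hCb : DRing.VanishesAbove C b₀)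
    (hproj : ∀ j, Module.Projective R (C.X j)) (hfin : ∀ j, Module.Finite R (C.X j)) (i : ℤ)
    (hH : ∀ j : ℤ, j ≠ i → IsZero ((homologyFunctor (ModuleCat.{u} κ) j).obj
      (Q.obj ((esC (IsLocalRing.residue R)).obj C)))) :
    (∀ j, Projective (C.homology j)) ∧ ∀ j : ℤ, j ≠ i → IsZero (C.homology j) := by
  obtain ⟨n, hn⟩ : ∃ n : ℕ, b₀ ≤ i + n := ⟨(b₀ - i).toNat, by omega⟩
  obtain ⟨E', π, hπ, hz⟩ := trim_fibre n C i b₀ hn hCb hproj hfin
    (fun j hj => hH j (by omega))
  have hEb' : DRing.VanishesAbove E' b₀ := fun j hj => hπ.isZero j (hCb j hj)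
  have hproj' : ∀ j, Module.Projective R (E'.X j) := fun j => hπ.projective j (hproj j)
  have hfin' : ∀ j, Module.Finite R (E'.X j) := fun j => hπ.finite j (hfin j)
  have hff' : DRing.TermwiseFiniteFree E' := fun j => by
    haveI := hproj' j
    haveI := hfin' j
    exact ⟨inferInstance, Module.free_of_flat_of_isLocalRing⟩
  haveI := hπ.iso
  haveI : IsIso (Q.map ((esC (IsLocalRing.residue R)).map π)) :=
    isIso_Q_map_esC_of_flat (IsLocalRing.residue R) C E' b₀ b₀ hCb hEb'
      (fun j => by haveI := hproj j; infer_instance)
      (fun j => by haveI := hproj' j; infer_instance) π hπ.iso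
  have hH' : ∀ j : ℤ, j ≠ i → IsZero ((homologyFunctor (ModuleCat.{u} κ) j).obj
      (Q.obj ((esC (IsLocalRing.residue R)).obj E'))) := fun j hj =>
    (hH j hj).of_iso ((homologyFunctor (ModuleCat.{u} κ) j).mapIso
      (asIso (Q.map ((esC (IsLocalRing.residue R)).map π))).symm)
  -- the cohomology of `E'`
  have hex : ∀ k : ℤ, k ≠ i → E'.ExactAt k := by
    intro k hk
    rcases lt_or_gt_of_ne hk with hlt | hgt
    · exact exactAt_of_ker_le_range E' (k - 1) k (k + 1) (by omega) rfl
        (ker_le_range_of_isZero E' hff' (k - 1) k (k + 1) (by omega) rfl (hH' k hk))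
    · exact HomologicalComplex.ExactAt.of_isZero (hz k hgt)
  have hC : Module.Projective R (E'.X i ⧸ LinearMap.range (E'.d (i - 1) i).hom) :=
    projective_coker_of_isZero E' hff' (i - 1 - 1) (i - 1) i (by omega) (by omega)
      (hH' (i - 1) (by omega))
  have hPi : Projective (E'.homology i) := by
    set S := E'.sc' (i - 1) i (i + 1) with hS
    have hg : S.g = 0 := (hz (i + 1) (by omega)).eq_of_tgt _ _
    haveI : IsIso S.homologyι := ShortComplex.isIso_homologyι S hg
    have e : E'.homology i ≅ ModuleCat.of R (E'.X i ⧸ LinearMap.range (E'.d (i - 1) i).hom) :=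
      E'.homologyIsoSc' (i - 1) i (i + 1) (by simp) (by simp) ≪≫ asIso S.homologyι ≪≫
        S.moduleCatOpcyclesIso
    have h1 : Projective (ModuleCat.of R (E'.X i ⧸ LinearMap.range (E'.d (i - 1) i).hom)) :=
      (IsProjective.iff_projective _).mp hC
    exact Projective.of_iso e.symm h1
  -- transfer to `C`
  haveI : QuasiIso π := (isIso_Q_map_iff_quasiIso _ π).mp hπ.iso
  have eH : ∀ j, C.homology j ≅ E'.homology j := fun j =>
    asIso (HomologicalComplex.homologyMap π j)
  refine ⟨fun j => ?_, fun j hj => ?_⟩
  · by_cases hj : j = i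
    · subst hj
      exact Projective.of_iso (eH j).symm hPi
    · have h0 : IsZero (C.homology j) :=
        ((hex j hj).isZero_homology).of_iso (eH j)
      exact h0.projective
  · exact ((hex j hj).isZero_homology).of_iso (eH j)

include hφ in
/-- variant of `homology_of_fibre` for the fibre over a ring `K'` on which the maximal ideal
vanishes -/
theorem homology_of_fibre' (C : DRing.Cx R) (b₀ : ℤ) (hCb : DRing.VanishesAbove C b₀)
    (hproj : ∀ j, Module.Projective R (C.X j)) (hfin : ∀ j, Module.Finite R (C.X j)) (i : ℤ)
    (hH : ∀ j : ℤ, j ≠ i → IsZero (((esC φ).obj C).homology j)) :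
    (∀ j, Projective (C.homology j)) ∧ ∀ j : ℤ, j ≠ i → IsZero (C.homology j) :=
  homology_of_fibre C b₀ hCb hproj hfin i
    (fun j hj => isZero_homology_residue φ hφ C j (hH j hj))

end Ring

end Groth.Agent.Helper5.LFD
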