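import Mathlib

/-!
# A complex with cohomology in one degree

A cochain complex which is exact outside degree `i` is isomorphic, in the derived category, to its
cohomology object in degree `i`, placed in degree `i`.
-/

set_option autoImplicit false
set_option linter.unusedSectionVars false
set_option linter.unusedVariables false
set_option linter.style.haveILetI false

open CategoryTheory Category Limits DerivedCategory

universe w v u

namespace Groth.Agent.Helper5.LFD

variable {A : Type u} [Category.{v} A] [Abelian A] [HasDerivedCategory.{w} A]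

/-- a complex exact outside degree `i` is isomorphic to its `i`-th cohomology, placed in
degree `i` -/
theorem nonempty_iso_single_of_exactAt (K : CochainComplex A ℤ) (i : ℤ)
    (h : ∀ j : ℤ, j ≠ i → K.ExactAt j) :
    Nonempty (Q.obj K ≅ (DerivedCategory.singleFunctor A i).obj (K.homology i)) := by
  haveI : K.IsGE i := (CochainComplex.isGE_iff K i).mpr (fun j hj => h j (by omega))
  haveI : K.IsLE i := (CochainComplex.isLE_iff K i).mpr (fun j hj => h j (by omega))
  haveI : (Q.obj K).IsGE i := (isGE_Q_obj_iff K i).mpr inferInstance
  haveI : (Q.obj K).IsLE i := (isLE_Q_obj_iff K i).mpr inferInstance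
  obtain ⟨Y, ⟨e⟩⟩ := exists_iso_singleFunctor_obj_of_isGE_of_isLE (Q.obj K) i
  have e1 : K.homology i ≅ Y :=
    ((homologyFunctorFactors A i).app K).symm ≪≫ (homologyFunctor A i).mapIso e ≪≫
      (singleFunctorCompHomologyFunctorIso A i).app Y
  exact ⟨e ≪≫ (DerivedCategory.singleFunctor A i).mapIso e1.symm⟩

/-- the same, with a chain level single complex -/
theorem nonempty_iso_Q_single_of_exactAt (K : CochainComplex A ℤ) (i : ℤ)
    (h : ∀ j : ℤ, j ≠ i → K.ExactAt j) {M : A} (eM : K.homology i ≅ M) :
    Nonempty (Q.obj K ≅ Q.obj ((CochainComplex.singleFunctor A i).obj M)) := by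
  obtain ⟨e⟩ := nonempty_iso_single_of_exactAt K i h
  exact ⟨e ≪≫ (DerivedCategory.singleFunctor A i).mapIso eM ≪≫
    (singleFunctorIsoCompQ A i).app M⟩

/-- the shift of an object placed in degree `0` -/
noncomputable def singleShiftIso (M : A) (i : ℤ) :
    ((DerivedCategory.singleFunctor A 0).obj M)⟦-i⟧ ≅ (DerivedCategory.singleFunctor A i).obj M :=
  ((DerivedCategory.singleFunctors A).shiftIso (-i) i 0 (by omega)).app M

/-- the shift of an object placed in degree `0`, in terms of a chain level single complex -/
noncomputable def singleShiftQIso (M : A) (i : ℤ) :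
    ((DerivedCategory.singleFunctor A 0).obj M)⟦-i⟧ ≅
      Q.obj ((CochainComplex.singleFunctor A i).obj M) :=
  singleShiftIso M i ≪≫ (singleFunctorIsoCompQ A i).app M

end Groth.Agent.Helper5.LFD
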