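import Groth.Agent.Lib.Helper5.RT1

/-!
# Restriction toolkit: free modules, shrinking, transfer to the open range
-/

set_option autoImplicit false
set_option linter.unusedSectionVars false
set_option linter.unusedVariables false
set_option linter.style.haveILetI false

universe u

open CategoryTheory CategoryTheory.Limits AlgebraicGeometry HomologicalComplex ZeroObject

attribute [local instance] HasDerivedCategory.standard

namespace Groth.Agent.Helper5.RT

open Groth.Agent.Helper5.LDer

variable {X : Scheme.{u}}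

lemma isZero_freeMod_zero (X : Scheme.{u}) : IsZero (FlatMod.freeMod X 0) := by
  rw [IsZero.iff_id_eq_zero]
  apply Sigma.hom_ext
  intro i
  exact i.elim0

/-- the restriction of a free module is free -/
noncomputable def restrictFreeModIso {U : Scheme.{u}} (j : U ⟶ X) [IsOpenImmersion j] (n : ℕ) :
    (Scheme.Modules.restrictFunctor j).obj (FlatMod.freeMod X n) ≅ FlatMod.freeMod U n :=
  (Scheme.Modules.restrictFunctorIsoPullback j).app _ ≪≫ pullbackFreeModIso j n

/-- being free on an open passes to smaller opens -/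
lemma free_of_le (M : X.Modules) {W W' : X.Opens} (h : W ≤ W') (n : ℕ)
    (e : (Scheme.Modules.restrictFunctor W'.ι).obj M ≅ FlatMod.freeMod (W' : Scheme.{u}) n) :
    Nonempty ((Scheme.Modules.restrictFunctor W.ι).obj M ≅ FlatMod.freeMod (W : Scheme.{u}) n) := by
  have e1 : Scheme.Modules.restrictFunctor W.ι ≅
      Scheme.Modules.restrictFunctor W'.ι ⋙ Scheme.Modules.restrictFunctor (X.homOfLE h) :=
    Scheme.Modules.restrictFunctorCongr (X.homOfLE_ι h).symm ≪≫
      Scheme.Modules.restrictFunctorComp (X.homOfLE h) W'.ι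
  exact ⟨e1.app M ≪≫ (Scheme.Modules.restrictFunctor (X.homOfLE h)).mapIso e ≪≫
    restrictFreeModIso (X.homOfLE h) n⟩

/-- finitely many finite locally free modules are simultaneously free near a point -/
theorem exists_open_free_of_finset (M : ℤ → X.Modules) (hM : ∀ i, FlatMod.IsFinLocFree (M i))
    (x : X) (S : Finset ℤ) :
    ∃ W : X.Opens, x ∈ W ∧ ∀ i ∈ S, ∃ n : ℕ,
      Nonempty ((Scheme.Modules.restrictFunctor W.ι).obj (M i) ≅ FlatMod.freeMod (W : Scheme.{u}) n) := by
  classical
  induction S using Finset.induction_on with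
  | empty => exact ⟨⊤, trivial, fun i hi => absurd hi (Finset.notMem_empty i)⟩
  | insert k S hk ih =>
    obtain ⟨W', hxW', hW'⟩ := ih
    obtain ⟨U, n, hxU, ⟨e⟩⟩ := hM k x
    refine ⟨W' ⊓ U, ⟨hxW', hxU⟩, fun i hi => ?_⟩
    rcases Finset.mem_insert.mp hi with rfl | hi
    · exact ⟨n, free_of_le _ inf_le_right n e⟩
    · obtain ⟨n', ⟨e'⟩⟩ := hW' i hi
      exact ⟨n', free_of_le _ inf_le_left n' e'⟩

/-- a strictly perfect complex has free terms near a point -/
theorem exists_open_free_of_isStrictlyPerfect (E : CochainComplex X.Modules ℤ)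
    (hE : DCoh.IsStrictlyPerfect E) (x : X) :
    ∃ W : X.Opens, x ∈ W ∧ ∀ i : ℤ, ∃ n : ℕ,
      Nonempty ((Scheme.Modules.restrictFunctor W.ι).obj (E.X i) ≅
        FlatMod.freeMod (W : Scheme.{u}) n) := by
  obtain ⟨⟨a, b, hv⟩, hfl⟩ := hE
  obtain ⟨W, hxW, hW⟩ := exists_open_free_of_finset (fun i => E.X i) hfl x (Finset.Icc a b)
  refine ⟨W, hxW, fun i => ?_⟩
  by_cases hi : i ∈ Finset.Icc a b
  · exact hW i hi
  · refine ⟨0, ⟨IsZero.iso ((Scheme.Modules.restrictFunctor W.ι).map_isZero (hv i ?_))
      (isZero_freeMod_zero _)⟩⟩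
    rw [Finset.mem_Icc] at hi
    omega

section Transfer

variable {U : Scheme.{u}} (j : U ⟶ X) [IsOpenImmersion j]

/-- restriction to the open range, through the isomorphism with the source -/
noncomputable def restrictOpensRangeIso :
    Scheme.Modules.restrictFunctor j ⋙ Scheme.Modules.restrictFunctor j.isoOpensRange.inv ≅
      Scheme.Modules.restrictFunctor j.opensRange.ι :=
  (Scheme.Modules.restrictFunctorComp j.isoOpensRange.inv j).symm ≪≫
    Scheme.Modules.restrictFunctorCongr (Scheme.Hom.isoOpensRange_inv_comp j)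

/-- transfer of a local model from the source of an open immersion to its open range -/
noncomputable def transferIso {F : CochainComplex X.Modules ℤ} {P : CochainComplex U.Modules ℤ}
    (e : DerivedCategory.Q.obj ((rCx j).obj F) ≅ DerivedCategory.Q.obj P) :
    DerivedCategory.Q.obj ((DCoh.restrictCx j.opensRange).obj F) ≅
      DerivedCategory.Q.obj ((rCx j.isoOpensRange.inv).obj P) :=
  DerivedCategory.Q.mapIso ((NatIso.mapHomologicalComplex (restrictOpensRangeIso j)
    (ComplexShape.up ℤ)).app F).symm ≪≫ restrictQIso j.isoOpensRange.inv e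

end Transfer

end Groth.Agent.Helper5.RT
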