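import Groth.Agent.Lib.Helper5.US4
import Groth.Agent.Lib.Helper5.RT2

/-!
# Upper semicontinuity of the Betti numbers of a pseudo-coherent object
-/

set_option autoImplicit false
set_option linter.unusedSectionVars false
set_option linter.unusedVariables false
set_option linter.style.haveILetI false

universe u

open CategoryTheory CategoryTheory.Limits AlgebraicGeometry HomologicalComplex Opposite
  TopologicalSpace

attribute [local instance] HasDerivedCategory.standard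

namespace Groth.Agent.Helper5.US

open Groth.Agent.Helper13.QCoh Groth.Agent.Helper13.FinType Groth.Agent.Helper13.LocFree
  Groth.Agent.Helper5.LDer Groth.Agent.Helper5.EC Groth.Agent.Helper5.PC Groth.Agent.Helper5.RT

variable {X : Scheme.{u}}

section PtOf

variable {U₀ : Scheme.{u}} (j : U₀ ⟶ X) [IsOpenImmersion j] (y : X)

lemma range_subset_of_mem (hy : y ∈ Set.range j) : Set.range (X.fromSpecResidueField y) ⊆ Set.range j := by
  rw [Scheme.range_fromSpecResidueField]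
  simpa using hy

/-- the test point of an open subscheme attached to a point of its image -/
noncomputable def ptOf (hy : y ∈ Set.range j) : Pt U₀ where
  S := Spec (X.residueField y)
  f := IsOpenImmersion.lift j (X.fromSpecResidueField y) (range_subset_of_mem j y hy)
  s := default
  hS := fun a b => Subsingleton.elim a b
  field := MulEquiv.isField (Field.toIsField (X.residueField y))
    (Scheme.ΓSpecIso (X.residueField y)).commRingCatIsoToRingEquiv.toMulEquiv
  surj := by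
    haveI : IsPreimmersion (IsOpenImmersion.lift j (X.fromSpecResidueField y)
        (range_subset_of_mem j y hy) ≫ j) := by
      rw [IsOpenImmersion.lift_fac]
      infer_instance
    haveI := IsPreimmersion.of_comp (IsOpenImmersion.lift j (X.fromSpecResidueField y)
        (range_subset_of_mem j y hy)) j
    exact Scheme.Hom.stalkMap_surjective _ _

lemma ptOf_fac (hy : y ∈ Set.range j) : (ptOf j y hy).f ≫ j = X.fromSpecResidueField y :=
  IsOpenImmersion.lift_fac _ _ _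

lemma ptOf_S (hy : y ∈ Set.range j) : (ptOf j y hy).S = Spec (X.residueField y) := rfl

lemma map_ptOf_pt (hy : y ∈ Set.range j) : j.base (ptOf j y hy).pt = y := by
  have h1 : (X.fromSpecResidueField y).base (ptOf j y hy).s ∈
      Set.range (X.fromSpecResidueField y) := ⟨_, rfl⟩
  rw [Scheme.range_fromSpecResidueField] at h1
  have h2 : ((ptOf j y hy).f ≫ j).base (ptOf j y hy).s = y := by
    rw [ptOf_fac]
    exact h1
  exact h2

end PtOf

lemma epi_inv_comp_cokernel_π {W : Scheme.{u}} {A B M : W.Modules} (e : B ≅ M) (d : A ⟶ B) :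
    Epi (e.inv ≫ cokernel.π d) := epi_comp _ _

/-- the Betti number at a point of the image of `W`, in terms of fibre dimensions of cokernels -/
theorem betti_formula [∀ x : X, DCoh.HasLpull (X.fromSpecResidueField x)] (E : DCoh.D X) (p : ℤ)
    (F : CochainComplex X.Modules ℤ) (hF : DCoh.IsKFlat F) (eF : DerivedCategory.Q.obj F ≅ E)
    (V : X.Opens) (P : CochainComplex (V : Scheme.{u}).Modules ℤ) (hP : DCoh.IsStrictlyPerfect P)
    (α : DerivedCategory.Q.obj P ⟶ DerivedCategory.Q.obj ((DCoh.restrictCx V).obj F))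
    (hα : IsConn (p - 1) α) (W : (V : Scheme.{u}).Opens) (n : ℤ → ℕ)
    (hn : ∀ i, Nonempty (((rCx W.ι).obj P).X i ≅ FlatMod.freeMod (W : Scheme.{u}) (n i)))
    (y : X) (hy : y ∈ Set.range (W.ι ≫ V.ι)) :
    PerfD.betti E y p + n (p + 1) =
      fdim (ptOf (W.ι ≫ V.ι) y hy) (cokernel (((rCx W.ι).obj P).d (p - 1) p)) +
      fdim (ptOf (W.ι ≫ V.ι) y hy) (cokernel (((rCx W.ι).obj P).d p (p + 1))) := by
  set t := ptOf (W.ι ≫ V.ι) y hy with ht
  have hl : (t.f ≫ W.ι) ≫ V.ι = X.fromSpecResidueField y := by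
    rw [Category.assoc]
    exact ptOf_fac (W.ι ≫ V.ι) y hy
  have hPK := isKFlat_of_isStrictlyPerfect P hP
  obtain ⟨ψ⟩ := nonempty_HD_Lpull_iso_of_conn (X.fromSpecResidueField y) V (t.f ≫ W.ι) hl E F hF eF
    P hPK p α hα
  have r := (NatIso.mapHomologicalComplex (pullbackLiftIso (t.f ≫ W.ι) W t.f rfl)
    (ComplexShape.up ℤ)).app P
  have ψ' : DCoh.HD ((DCoh.Lpull (X.fromSpecResidueField y)).obj E) p ≅
      (((Scheme.Modules.pullback t.f).mapHomologicalComplex (ComplexShape.up ℤ)).obj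
        ((rCx W.ι).obj P)).homology p :=
    ψ ≪≫ (HomologicalComplex.homologyFunctor _ _ p).mapIso r
  have hb0 := LinearEquiv.finrank_eq ((Γfun t.S).mapIso ψ').toLinearEquiv
  have hb : PerfD.betti E y p = Module.finrank (Coh.Γtop t.S) ((Γfun t.S).obj
      ((((Scheme.Modules.pullback t.f).mapHomologicalComplex (ComplexShape.up ℤ)).obj
        ((rCx W.ι).obj P)).homology p)) := hb0
  rw [hb]
  exact finrank_homology_fibre t ((rCx W.ι).obj P) n hn p

/-- upper semicontinuity of the Betti numbers of a pseudo-coherent object -/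
theorem isOpen_betti_lt (X : Scheme.{u}) [∀ x : X, DCoh.HasLpull (X.fromSpecResidueField x)]
    (E : DCoh.D X) (p : ℤ) (hE : DCoh.IsPseudoCoherentD (p - 1) E) (N : ℕ) :
    IsOpen {x : X | PerfD.betti E x p < N} := by
  rw [isOpen_iff_forall_mem_open]
  intro x₀ hx₀
  obtain ⟨F, hF, ⟨eF⟩⟩ := exists_kflat_repr E
  obtain ⟨V, hxV, hV⟩ := hE x₀
  obtain ⟨P, α, hP, hiso, hepi⟩ := hV F ⟨eF⟩
  obtain ⟨W, hxW, hW⟩ := exists_open_free_of_isStrictlyPerfect P hP ⟨x₀, hxV⟩
  choose n hn using hW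
  have hα : IsConn (p - 1) α := ⟨hiso, hepi⟩
  have formula := betti_formula E p F hF eF V P hP α hα W n hn
  have hx₀r : x₀ ∈ Set.range (W.ι ≫ V.ι) := ⟨⟨⟨x₀, hxV⟩, hxW⟩, rfl⟩
  let p₁ : FlatMod.freeMod (W : Scheme.{u}) (n p) ⟶ cokernel (((rCx W.ι).obj P).d (p - 1) p) :=
    (hn p).some.inv ≫ cokernel.π _
  let p₂ : FlatMod.freeMod (W : Scheme.{u}) (n (p + 1)) ⟶
      cokernel (((rCx W.ι).obj P).d p (p + 1)) := (hn (p + 1)).some.inv ≫ cokernel.π _
  haveI : Epi p₁ := epi_inv_comp_cokernel_π _ _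
  haveI : Epi p₂ := epi_inv_comp_cokernel_π _ _
  obtain ⟨U₁, hU₁, h₁⟩ := usc _ _ p₁ (ptOf (W.ι ≫ V.ι) x₀ hx₀r)
  obtain ⟨U₂, hU₂, h₂⟩ := usc _ _ p₂ (ptOf (W.ι ≫ V.ι) x₀ hx₀r)
  have hinj : Function.Injective (W.ι ≫ V.ι).base := (W.ι ≫ V.ι).isOpenEmbedding.injective
  refine ⟨(W.ι ≫ V.ι) ''ᵁ (U₁ ⊓ U₂), ?_, ((W.ι ≫ V.ι) ''ᵁ (U₁ ⊓ U₂)).2, ?_⟩
  · rintro y ⟨u, ⟨hu1, hu2⟩, huy⟩
    have hyr : y ∈ Set.range (W.ι ≫ V.ι) := ⟨u, huy⟩
    have hpt : (ptOf (W.ι ≫ V.ι) y hyr).pt = u :=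
      hinj ((map_ptOf_pt (W.ι ≫ V.ι) y hyr).trans huy.symm)
    have e1 := formula y hyr
    have e0 := formula x₀ hx₀r
    have i1 := h₁ (ptOf (W.ι ≫ V.ι) y hyr) (by rw [hpt]; exact hu1)
    have i2 := h₂ (ptOf (W.ι ≫ V.ι) y hyr) (by rw [hpt]; exact hu2)
    have hlt : PerfD.betti E x₀ p < N := hx₀
    show PerfD.betti E y p < N
    omega
  · exact ⟨(ptOf (W.ι ≫ V.ι) x₀ hx₀r).pt, ⟨hU₁, hU₂⟩, map_ptOf_pt (W.ι ≫ V.ι) x₀ hx₀r⟩

end Groth.Agent.Helper5.US
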