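import Groth.Agent.Lib.Helper5.LFD1
import Groth.Agent.Lib.Helper5.LFD2
import Groth.Agent.Lib.Helper5.FLF4
import Groth.Agent.Lib.Helper5.FD1
import Groth.Agent.Lib.Helper5.US5
import Groth.Agent.Lib.Helper5.FBR3

/-!
# Complexes of finite locally free modules whose fibre at a point has cohomology in one degree

The stalk of a one point scheme whose ring of functions is a field has vanishing maximal ideal;
consequences for the stalk of a bounded complex of finite locally free modules whose pullback to
such a one point scheme has cohomology only in degree `i`.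
-/

set_option autoImplicit false
set_option linter.unusedSectionVars false
set_option linter.unusedVariables false
set_option linter.style.haveILetI false

universe u

open CategoryTheory CategoryTheory.Limits AlgebraicGeometry

attribute [local instance] HasDerivedCategory.standard

namespace Groth.Agent.Helper5.LFD

open Groth.Agent.Helper5.StalkCx Groth.Agent.Helper5.Sky Groth.Agent.Helper5.EC
  Groth.Agent.Helper5.FLF Groth.Agent.Helper5.FPC Groth.Agent.Helper13.LocFree

section OnePoint

variable {S : Scheme.{u}} (hS : ∀ y z : S, y = z) (field : IsField Γ(S, ⊤)) (s : S)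

include hS field in
/-- the maximal ideal of the stalk of a one point scheme whose ring of functions is a field
vanishes -/
theorem eq_zero_of_mem_maximalIdeal (a : S.presheaf.stalk s)
    (ha : a ∈ IsLocalRing.maximalIdeal (S.presheaf.stalk s)) : a = 0 := by
  obtain ⟨U, hsU, b, rfl⟩ := TopCat.Presheaf.exists_germ_eq S.presheaf a
  obtain rfl := opens_eq_top_of_mem hS U s hsU
  by_cases hb : b = 0
  · rw [hb, map_zero]
  · exfalso
    letI := field.toField
    have hu : IsUnit b := Ne.isUnit hb
    have hu' : IsUnit ((S.presheaf.germ ⊤ s hsU).hom b) := hu.map _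
    exact (IsLocalRing.mem_maximalIdeal _).mp ha hu'

include hS field in
/-- the stalk map of a morphism from such a one point scheme kills the maximal ideal -/
theorem φst_eq_zero_of_mem_maximalIdeal {W : Scheme.{u}} (l : S ⟶ W)
    (a : W.presheaf.stalk (l.base s))
    (ha : a ∈ IsLocalRing.maximalIdeal (W.presheaf.stalk (l.base s))) : φst l s a = 0 := by
  apply eq_zero_of_mem_maximalIdeal hS field s
  rw [IsLocalRing.mem_maximalIdeal] at ha ⊢
  intro hu
  exact ha (isUnit_of_map_unit (l.stalkMap s).hom a hu)

end OnePoint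

section StalkBasis

open Groth.Agent.Helper13.QCohLoc Groth.Agent.Helper13.QCoh

variable {W : Scheme.{u}} (M : W.Modules) [M.IsQuasicoherent]

/-- a basis of the sections over an affine open induces a basis of the stalks -/
theorem nonempty_basis_stalk' {U : W.Opens} (hU : IsAffineOpen U) {n : ℕ}
    (b : Module.Basis (Fin n) Γ(W, U) Γ(M, U)) (x : U) :
    Nonempty (Module.Basis (Fin n) (W.presheaf.stalk (x : W)) (M.presheaf.stalk (x : W))) := by
  letI := modStalk M x
  haveI := isScalarTower_stalk M x
  haveI := isLocalizedModule_germ M hU x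
  haveI : IsLocalization (hU.primeIdealOf x).asIdeal.primeCompl (W.presheaf.stalk (x : W)) :=
    hU.isLocalization_stalk x
  exact ⟨b.ofIsLocalizedModule (W.presheaf.stalk (x : W))
    (hU.primeIdealOf x).asIdeal.primeCompl (germLin M x)⟩

/-- a basis of the sections over an affine open induces a basis of the stalks -/
theorem nonempty_basis_stalk {U : W.Opens} (hU : IsAffineOpen U) {n : ℕ}
    (b : Module.Basis (Fin n) Γ(W, U) Γ(M, U)) (z : W) (hz : z ∈ U) :
    Nonempty (Module.Basis (Fin n) (W.presheaf.stalk z) (M.presheaf.stalk z)) :=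
  nonempty_basis_stalk' M hU b ⟨z, hz⟩

/-- a module finite locally free over `O` whose stalk at a point of `O` vanishes, vanishes
near this point -/
theorem exists_open_subsingleton_stalk_of_flfOn {O : W.Opens} (h : FLFOn M O) (x : W) (hx : x ∈ O)
    (h0 : Subsingleton (M.presheaf.stalk x)) :
    ∃ U : W.Opens, x ∈ U ∧ U ≤ O ∧ ∀ z ∈ U, Subsingleton (M.presheaf.stalk z) := by
  obtain ⟨U, n, hU, hxU, hUO, ⟨b⟩⟩ := h x hx
  refine ⟨U, hxU, hUO, fun z hz => ?_⟩
  obtain ⟨bx⟩ := nonempty_basis_stalk M hU b x hxU
  obtain ⟨bz⟩ := nonempty_basis_stalk M hU b z hz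
  have hn : n = 0 := by
    by_contra hn
    haveI : NeZero n := ⟨hn⟩
    exact bx.ne_zero 0 (Subsingleton.elim _ _)
  subst hn
  exact bz.repr.toEquiv.subsingleton

end StalkBasis

section Local

open Groth.Agent.Helper5.FBR Groth.Agent.Helper5.RT Groth.Agent.Helper11.TA

variable {W : Scheme.{u}} (P : CochainComplex W.Modules ℤ) (aP bP : ℤ)
  (hvP : DCoh.VanishesOutside P aP bP) (hfP : ∀ j, FlatMod.IsFinLocFree (P.X j))
  {S : Scheme.{u}} (hS : ∀ y z : S, y = z) (field : IsField Γ(S, ⊤)) (s : S) (l : S ⟶ W) (i : ℤ)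
  (hH : ∀ j : ℤ, j ≠ i → IsZero (((FD.pullC l).obj P).homology j))

include hvP hfP hS field hH in
/-- the stalks of the cohomology sheaves at the image point are projective, and vanish outside
degree `i` -/
theorem projective_stalk_homology :
    (∀ j, Projective ((DerSch.stalkFunctor W (l.base s)).obj (P.homology j))) ∧
      ∀ j : ℤ, j ≠ i → StalkZ P j (l.base s) := by
  set x := l.base s with hx
  set C := stalkCx x P with hC
  have hCb : DRing.VanishesAbove C bP := fun j hj =>
    (DerSch.stalkFunctor W x).map_isZero (hvP j (Or.inr hj))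
  have hq : ∀ j, (P.X j).IsQuasicoherent := fun j => isQuasicoherent_of_isFinLocFree _ (hfP j)
  have hproj : ∀ j, Module.Projective (W.presheaf.stalk x) (C.X j) := fun j => by
    haveI := hq j
    haveI : Module.Free (W.presheaf.stalk x) ((P.X j).presheaf.stalk x) :=
      free_stalk_of_isFinLocFree (P.X j) (hfP j) x
    exact (inferInstance : Module.Projective (W.presheaf.stalk x) ((P.X j).presheaf.stalk x))
  have hfin : ∀ j, Module.Finite (W.presheaf.stalk x) (C.X j) := fun j => by
    haveI := hq j
    exact ((flfOn_of_isFinLocFree _ (hfP j) ⊤).free_finite_stalk x trivial).2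
  have hH' : ∀ j : ℤ, j ≠ i → IsZero (((esC (φst l s)).obj C).homology j) := by
    intro j hj
    have h1 := isZero_homology_stalk _ j (hH j hj) s
    have e : (esC (φst l s)).obj C ≅ stalkCx s ((FD.pullC l).obj P) :=
      ((NatIso.mapHomologicalComplex (pullbackStalkIso l s) (ComplexShape.up ℤ)).app P).symm
    exact IsZero.of_iso h1 ((HomologicalComplex.homologyFunctor _ _ j).mapIso e)
  obtain ⟨h1, h2⟩ := homology_of_fibre' (φst l s)
    (φst_eq_zero_of_mem_maximalIdeal hS field s l) C bP hCb hproj hfin i hH'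
  exact ⟨fun j => Projective.of_iso (stalkHomologyIso P x j) (h1 j),
    fun j hj => (h2 j hj).of_iso (stalkHomologyIso P x j).symm⟩

include hvP hfP hS field hH in
/-- near the image point, the complex is exact outside degree `i`, and its cohomology in degree
`i` is free of finite rank -/
theorem exists_affine_free_model :
    ∃ (U : W.Opens) (n : ℕ), IsAffineOpen U ∧ l.base s ∈ U ∧
      (∀ j : ℤ, j ≠ i → ((rCx U.ι).obj P).ExactAt j) ∧
      Nonempty (((rCx U.ι).obj P).homology i ≅ FlatMod.freeMod (U : Scheme.{u}) n) := by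
  set x := l.base s with hx
  obtain ⟨hproj, hz⟩ := projective_stalk_homology P aP bP hvP hfP hS field s l i hH
  have hq : ∀ j : ℤ, (P.X j).IsQuasicoherent := fun j => isQuasicoherent_of_isFinLocFree _ (hfP j)
  have hqH := isQuasicoherent_homology P hq
  obtain ⟨O, hxO, hO⟩ := exists_flfOn_homology P bP (fun j hj => hvP j (Or.inr hj)) hfP x hproj aP
    (fun j hj => hvP j (Or.inl hj))
  -- the vanishing loci
  have key : ∀ j : ℤ, ∃ Oj : W.Opens, x ∈ Oj ∧ (j ≠ i → ∀ z ∈ Oj, StalkZ P j z) := by
    intro j
    by_cases hj : j = i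
    · exact ⟨⊤, trivial, fun h => absurd hj h⟩
    · haveI := hqH j
      obtain ⟨U, hxU, -, hU⟩ := exists_open_subsingleton_stalk_of_flfOn (P.homology j) (hO j) x hxO
        (ModuleCat.subsingleton_of_isZero (hz j hj))
      refine ⟨U, hxU, fun _ z hzU => ?_⟩
      haveI : Subsingleton ((DerSch.stalkFunctor W z).obj (P.homology j)) := hU z hzU
      exact ModuleCat.isZero_of_subsingleton _
  choose Oj hxOj hOj using key
  set O₂ : W.Opens := O ⊓ (Finset.Icc aP bP).inf Oj with hO₂
  have hxO₂ : x ∈ O₂ := by
    refine ⟨hxO, ?_⟩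
    show x ∈ (((Finset.Icc aP bP).inf Oj : W.Opens) : Set W)
    rw [TopologicalSpace.Opens.coe_finset_inf, Finset.inf_set_eq_iInter]
    exact Set.mem_iInter₂.mpr (fun j _ => hxOj j)
  have hzO₂ : ∀ j : ℤ, j ≠ i → ∀ z ∈ O₂, StalkZ P j z := by
    intro j hj z hzO
    by_cases hjr : j ∈ Finset.Icc aP bP
    · exact hOj j hj z ((Finset.inf_le hjr : _ ≤ Oj j) hzO.2)
    · rw [Finset.mem_Icc, not_and_or, not_le, not_le] at hjr
      exact (DerSch.stalkFunctor W z).map_isZero
        ((HomologicalComplex.ExactAt.of_isZero (hvP j hjr)).isZero_homology)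
  haveI := hqH i
  obtain ⟨U, n, hU, hxU, hUO₂, ⟨b⟩⟩ := ((hO i).mono (inf_le_left : O₂ ≤ O)) x hxO₂
  obtain ⟨e⟩ := restrict_iso_freeMod_of_basis (P.homology i) hU b
  refine ⟨U, n, hU, hxU, fun j hj => ?_, ⟨?_⟩⟩
  · rw [HomologicalComplex.exactAt_iff_isZero_homology]
    apply isZero_of_stalks
    intro y
    exact (stalkZ_restrict_iff U.ι P j y).mpr (hzO₂ j hj _ (hUO₂ y.2))
  · exact (P.sc i).mapHomologyIso (Scheme.Modules.restrictFunctor U.ι) ≪≫ e

end Local

end Groth.Agent.Helper5.LFD
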