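import Groth.Agent.Lib.Helper5.LFD4
import Groth.Agent.Lib.Helper5.FPC5

/-!
# The local structure of a perfect object whose derived fibre at a point is concentrated in one degree
-/

set_option autoImplicit false
set_option linter.unusedSectionVars false
set_option linter.unusedVariables false
set_option linter.style.haveILetI false

universe u

open CategoryTheory CategoryTheory.Limits AlgebraicGeometry

attribute [local instance] HasDerivedCategory.standard

namespace Groth.Agent.Helper5.LFD

open Groth.Agent.Helper5.LDer Groth.Agent.Helper5.EC Groth.Agent.Helper5.KRes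
  Groth.Agent.Helper5.RT Groth.Agent.Helper5.FPC

section General

variable {A : Type*} [Category A] [Abelian A] [HasDerivedCategory A]

/-- an isomorphism in the derived category induces isomorphisms on cohomology -/
noncomputable def homologyIsoOfQIso {K L : CochainComplex A ℤ}
    (e : DerivedCategory.Q.obj K ≅ DerivedCategory.Q.obj L) (j : ℤ) :
    K.homology j ≅ L.homology j :=
  ((DerivedCategory.homologyFunctorFactors A j).app K).symm ≪≫
    (DerivedCategory.homologyFunctor A j).mapIso e ≪≫
    (DerivedCategory.homologyFunctorFactors A j).app L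

/-- a complex isomorphic in the derived category to an object placed in degree `i` is exact
outside degree `i` -/
lemma exactAt_of_iso_single {K : CochainComplex A ℤ} {M : A} {i : ℤ}
    (e : DerivedCategory.Q.obj K ≅
      DerivedCategory.Q.obj ((CochainComplex.singleFunctor A i).obj M)) (j : ℤ) (hj : j ≠ i) :
    K.ExactAt j := by
  rw [HomologicalComplex.exactAt_iff_isZero_homology]
  refine IsZero.of_iso ?_ (homologyIsoOfQIso e j)
  exact (HomologicalComplex.exactAt_single_obj (ComplexShape.up ℤ) i M j hj).isZero_homology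

/-- the cohomology in degree `i` of a complex isomorphic in the derived category to an object
placed in degree `i` -/
noncomputable def homologyIsoOfIsoSingle {K : CochainComplex A ℤ} {M : A} {i : ℤ}
    (e : DerivedCategory.Q.obj K ≅
      DerivedCategory.Q.obj ((CochainComplex.singleFunctor A i).obj M)) : K.homology i ≅ M :=
  homologyIsoOfQIso e i ≪≫ HomologicalComplex.singleObjHomologySelfIso (ComplexShape.up ℤ) i M

end General

variable {X : Scheme.{u}}

/-- the restriction of a free module to an open subscheme -/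
noncomputable def restrictFreeModIso {U : Scheme.{u}} (j : U ⟶ X) [IsOpenImmersion j] (n : ℕ) :
    (Scheme.Modules.restrictFunctor j).obj (FlatMod.freeMod X n) ≅ FlatMod.freeMod U n :=
  (Scheme.Modules.restrictFunctorIsoPullback j).app _ ≪≫ pullbackFreeModIso j n

/-- the restriction of a free module placed in one degree -/
noncomputable def restrictSingleFreeIso {U : Scheme.{u}} (j : U ⟶ X) [IsOpenImmersion j] (n : ℕ)
    (i : ℤ) :
    (rCx j).obj ((CochainComplex.singleFunctor X.Modules i).obj (FlatMod.freeMod X n)) ≅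
      (CochainComplex.singleFunctor U.Modules i).obj (FlatMod.freeMod U n) :=
  (HomologicalComplex.singleMapHomologicalComplex (Scheme.Modules.restrictFunctor j)
    (ComplexShape.up ℤ) i).app _ ≪≫
    (CochainComplex.singleFunctor U.Modules i).mapIso (restrictFreeModIso j n)

section Main

variable (E : DCoh.D X) (hE : DCoh.IsPerfect E) (F : CochainComplex X.Modules ℤ)
  (hF : DCoh.IsKFlat F) (eF : DerivedCategory.Q.obj F ≅ E)
  {S : Scheme.{u}} (hS : ∀ y z : S, y = z) (field : IsField Γ(S, ⊤)) (s : S)
  (g : S ⟶ X) [DCoh.HasLpull g] (i : ℤ)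

include hE hF eF hS field in
/-- if the derived pullback of a perfect object to a one point scheme (whose ring of functions is
a field) is concentrated in degree `i`, then near the image point the object is a free module of
finite rank placed in degree `i` -/
theorem exists_open_single_free (M' : S.Modules)
    (eg : (DCoh.Lpull g).obj E ≅
      DerivedCategory.Q.obj ((CochainComplex.singleFunctor S.Modules i).obj M')) :
    ∃ (W : X.Opens) (n : ℕ), g.base s ∈ W ∧
      Nonempty (DerivedCategory.Q.obj ((DCoh.restrictCx W).obj F) ≅ DerivedCategory.Q.obj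
        ((CochainComplex.singleFunctor (W : Scheme.{u}).Modules i).obj
          (FlatMod.freeMod (W : Scheme.{u}) n))) := by
  obtain ⟨V₀, hxV₀, hV₀⟩ := hE (g.base s)
  obtain ⟨P, hP, ⟨e₀⟩⟩ := hV₀ F ⟨eF⟩
  obtain ⟨⟨aP, bP, hvP⟩, hfP⟩ := hP
  have hP : DCoh.IsStrictlyPerfect P := ⟨⟨aP, bP, hvP⟩, hfP⟩
  have hr : Set.range g.base ⊆ Set.range V₀.ι.base := by
    rintro _ ⟨s', rfl⟩
    rw [hS s' s, Scheme.Opens.range_ι]
    exact hxV₀
  set l := IsOpenImmersion.lift V₀.ι g hr with hl_def
  have hl : l ≫ V₀.ι = g := IsOpenImmersion.lift_fac _ _ _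
  obtain ⟨a1⟩ := nonempty_Lpull_iso_of_model g V₀ l hl E F hF eF P
    (isKFlat_of_isStrictlyPerfect P hP) e₀
  have hH : ∀ j : ℤ, j ≠ i → IsZero (((FD.pullC l).obj P).homology j) := fun j hj =>
    (exactAt_of_iso_single (a1.symm ≪≫ eg) j hj).isZero_homology
  obtain ⟨U, n, hU, hxU, hex, ⟨eM⟩⟩ :=
    exists_affine_free_model P aP bP hvP hfP hS field s l i hH
  obtain ⟨e1⟩ := nonempty_iso_Q_single_of_exactAt ((rCx U.ι).obj P) i hex eM
  -- the model over the open immersion `U ⟶ X`
  have e2 : DerivedCategory.Q.obj ((rCx (U.ι ≫ V₀.ι)).obj F) ≅ DerivedCategory.Q.obj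
      ((CochainComplex.singleFunctor (U : Scheme.{u}).Modules i).obj
        (FlatMod.freeMod (U : Scheme.{u}) n)) :=
    DerivedCategory.Q.mapIso ((NatIso.mapHomologicalComplex
      (Scheme.Modules.restrictFunctorComp U.ι V₀.ι) (ComplexShape.up ℤ)).app F) ≪≫
      restrictQIso U.ι e₀ ≪≫ e1
  refine ⟨(U.ι ≫ V₀.ι).opensRange, n, ?_, ⟨transferIso (U.ι ≫ V₀.ι) e2 ≪≫
    DerivedCategory.Q.mapIso (restrictSingleFreeIso _ n i)⟩⟩
  refine ⟨⟨l.base s, hxU⟩, ?_⟩
  have h1 : (l ≫ V₀.ι).base s = g.base s := by rw [hl]
  exact h1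

/-- a free module placed in one degree is K-flat -/
lemma isKFlat_single_freeMod {Y : Scheme.{u}} (n : ℕ) (i : ℤ) :
    DCoh.IsKFlat ((CochainComplex.singleFunctor Y.Modules i).obj (FlatMod.freeMod Y n)) :=
  isKFlat_single _ (isFlat_of_isFinLocFree _
    (Groth.Agent.Helper13.LocFree.isFinLocFree_freeMod n)) i

include hF eF hS field in
/-- the rank of a local model is determined by the derived fibre at a point -/
theorem rank_eq_of_models (W : X.Opens) (hW : g.base s ∈ W) (n r : ℕ)
    (eW : DerivedCategory.Q.obj ((DCoh.restrictCx W).obj F) ≅ DerivedCategory.Q.obj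
      ((CochainComplex.singleFunctor (W : Scheme.{u}).Modules i).obj
        (FlatMod.freeMod (W : Scheme.{u}) n)))
    (eg : (DCoh.Lpull g).obj E ≅ DerivedCategory.Q.obj
      ((CochainComplex.singleFunctor S.Modules i).obj (FlatMod.freeMod S r))) : n = r := by
  have hr : Set.range g.base ⊆ Set.range W.ι.base := by
    rintro _ ⟨s', rfl⟩
    rw [hS s' s, Scheme.Opens.range_ι]
    exact hW
  set l := IsOpenImmersion.lift W.ι g hr with hl_def
  have hl : l ≫ W.ι = g := IsOpenImmersion.lift_fac _ _ _
  obtain ⟨a1⟩ := nonempty_Lpull_iso_of_model g W l hl E F hF eF _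
    (isKFlat_single_freeMod n i) eW
  have e' : DerivedCategory.Q.obj ((CochainComplex.singleFunctor S.Modules i).obj
      (FlatMod.freeMod S n)) ≅ DerivedCategory.Q.obj
      ((CochainComplex.singleFunctor S.Modules i).obj (FlatMod.freeMod S r)) :=
    DerivedCategory.Q.mapIso ((pullSingleIso l _ i ≪≫
      (CochainComplex.singleFunctor S.Modules i).mapIso (pullbackFreeModIso l n)).symm) ≪≫
      a1.symm ≪≫ eg
  have e'' : FlatMod.freeMod S n ≅ FlatMod.freeMod S r :=
    (HomologicalComplex.singleObjHomologySelfIso (ComplexShape.up ℤ) i _).symm ≪≫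
      homologyIsoOfIsoSingle e'
  haveI : Nontrivial Γ(S, ⊤) := field.nontrivial
  rw [← finrank_Γfun_freeMod (S := S) n, ← finrank_Γfun_freeMod (S := S) r]
  exact LinearEquiv.finrank_eq ((Γfun S).mapIso e'').toLinearEquiv

end Main

end Groth.Agent.Helper5.LFD
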