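import Groth.Agent.Lib.Helper5.LFD5

/-!
# The open locus where a perfect object is a locally free module of rank `r` placed in degree `i`
-/

set_option autoImplicit false
set_option linter.unusedSectionVars false
set_option linter.unusedVariables false
set_option linter.style.haveILetI false

universe u

open CategoryTheory CategoryTheory.Limits AlgebraicGeometry

attribute [local instance] HasDerivedCategory.standard

namespace Groth.Agent.Helper5.LFD

open Groth.Agent.Helper5.LDer Groth.Agent.Helper5.EC Groth.Agent.Helper5.KRes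
  Groth.Agent.Helper5.RT Groth.Agent.Helper5.FPC Groth.Agent.Helper5.FBR
  Groth.Agent.Helper5.StalkCx

variable {X : Scheme.{u}}

/-- the points near which the complex `F` is a free module of rank `r` placed in degree `i` -/
def freeLocus (F : CochainComplex X.Modules ℤ) (i : ℤ) (r : ℕ) : Set X :=
  {x | ∃ W : X.Opens, x ∈ W ∧
    Nonempty (DerivedCategory.Q.obj ((DCoh.restrictCx W).obj F) ≅ DerivedCategory.Q.obj
      ((CochainComplex.singleFunctor (W : Scheme.{u}).Modules i).obj
        (FlatMod.freeMod (W : Scheme.{u}) r)))}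

lemma isOpen_freeLocus (F : CochainComplex X.Modules ℤ) (i : ℤ) (r : ℕ) :
    IsOpen (freeLocus F i r) := by
  rw [isOpen_iff_forall_mem_open]
  rintro x ⟨W, hxW, hW⟩
  exact ⟨W, fun z hz => ⟨W, hz, hW⟩, W.2, hxW⟩

section PointOfY

variable {Y : Scheme.{u}} (y : Y)

/-- the pullback of a module, locally free of rank `r`, to the spectrum of a residue field -/
theorem nonempty_pullback_residue_iso_freeMod (V : Y.Modules) (r : ℕ)
    (hV : FlatMod.IsFinLocFreeOfRank r V) :
    Nonempty ((Scheme.Modules.pullback (Y.fromSpecResidueField y)).obj V ≅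
      FlatMod.freeMod (Spec (Y.residueField y)) r) := by
  obtain ⟨U', hyU', ⟨e⟩⟩ := hV y
  have hr : Set.range (Y.fromSpecResidueField y).base ⊆ Set.range U'.ι.base := by
    rw [Scheme.range_fromSpecResidueField, Scheme.Opens.range_ι]
    simpa using hyU'
  set l := IsOpenImmersion.lift U'.ι (Y.fromSpecResidueField y) hr with hl_def
  have hl : l ≫ U'.ι = Y.fromSpecResidueField y := IsOpenImmersion.lift_fac _ _ _
  exact ⟨(pullbackLiftIso (Y.fromSpecResidueField y) U' l hl).app V ≪≫
    (Scheme.Modules.pullback l).mapIso e ≪≫ pullbackFreeModIso l r⟩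

lemma fromSpecResidueField_default :
    (Y.fromSpecResidueField y).base default = y := by
  have h1 : (Y.fromSpecResidueField y).base default ∈ Set.range (Y.fromSpecResidueField y).base :=
    ⟨_, rfl⟩
  rw [Scheme.range_fromSpecResidueField] at h1
  exact h1

end PointOfY

section Main

variable (E : DCoh.D X) (hE : DCoh.IsPerfect E) (F : CochainComplex X.Modules ℤ)
  (hF : DCoh.IsKFlat F) (eF : DerivedCategory.Q.obj F ≅ E) (i : ℤ) (r : ℕ)
  {Y : Scheme.{u}} (f : Y ⟶ X) [DCoh.HasLpull f]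

include hE hF eF in
/-- if `Lf^* E` is a locally free module of rank `r` placed in degree `i`, then `f` factors
through the free locus -/
theorem range_subset_freeLocus (V : Y.Modules) (hV : FlatMod.IsFinLocFreeOfRank r V)
    (e : (DCoh.Lpull f).obj E ≅ (DCoh.inD Y V)⟦-i⟧) :
    Set.range f.base ⊆ freeLocus F i r := by
  rintro _ ⟨y, rfl⟩
  set S := Spec (Y.residueField y) with hS_def
  set g₀ := Y.fromSpecResidueField y with hg₀
  have hS : ∀ a b : S, a = b := fun a b => Subsingleton.elim a b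
  have field : IsField Γ(S, ⊤) := MulEquiv.isField (Field.toIsField (Y.residueField y))
    (Scheme.ΓSpecIso (Y.residueField y)).commRingCatIsoToRingEquiv.toMulEquiv
  haveI := hasLpull g₀
  haveI := hasLpull (g₀ ≫ f)
  have hVfl : FlatMod.IsFlat V :=
    isFlat_of_isFinLocFree V (fun x => by
      obtain ⟨U, hxU, h⟩ := hV x
      exact ⟨U, r, hxU, h⟩)
  obtain ⟨a⟩ := nonempty_Lpull_comp_iso_single f E V hVfl i e g₀
  obtain ⟨W, n, hxW, ⟨eW⟩⟩ := exists_open_single_free E hE F hF eF hS field default (g₀ ≫ f) i _ a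
  obtain ⟨eV⟩ := nonempty_pullback_residue_iso_freeMod y V r hV
  have hn : n = r := rank_eq_of_models E F hF eF hS field default (g₀ ≫ f) i W hxW n r eW
    (a ≪≫ DerivedCategory.Q.mapIso ((CochainComplex.singleFunctor S.Modules i).mapIso eV))
  subst hn
  have hpt : (g₀ ≫ f).base default = f.base y := by
    have := fromSpecResidueField_default y
    simp only [Scheme.Hom.comp_base, TopCat.hom_comp, ContinuousMap.comp_apply]
    rw [this]
  rw [hpt] at hxW
  exact ⟨W, hxW, ⟨eW⟩⟩

include hF eF in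
/-- if `f` factors through the free locus, then `Lf^* E` is a locally free module of rank `r`
placed in degree `i` -/
theorem exists_iso_of_range_subset_freeLocus (h : Set.range f.base ⊆ freeLocus F i r) :
    ∃ V : Y.Modules, FlatMod.IsFinLocFreeOfRank r V ∧
      Nonempty ((DCoh.Lpull f).obj E ≅ (DCoh.inD Y V)⟦-i⟧) := by
  obtain ⟨G, hG, ⟨eG⟩⟩ := exists_kflat_repr ((DCoh.Lpull f).obj E)
  have key : ∀ y : Y, ∃ Y' : Y.Opens, y ∈ Y' ∧
      (∀ j : ℤ, j ≠ i → ((rCx Y'.ι).obj G).ExactAt j) ∧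
      Nonempty (((rCx Y'.ι).obj G).homology i ≅ FlatMod.freeMod (Y' : Scheme.{u}) r) := by
    intro y
    obtain ⟨W, hW, ⟨eW⟩⟩ := h ⟨y, rfl⟩
    set Y' := f ⁻¹ᵁ W with hY'
    set l := f ∣_ W with hl_def
    have hl : l ≫ W.ι = Y'.ι ≫ f := morphismRestrict_ι f W
    haveI := hasLpull (Y'.ι ≫ f)
    haveI := hasLpull Y'.ι
    obtain ⟨b1⟩ := nonempty_Lpull_iso_of_model (Y'.ι ≫ f) W l hl E F hF eF _
      (isKFlat_single_freeMod r i) eW
    obtain ⟨c⟩ := Lpull_comp_iso Y'.ι f
    have b3 : (DCoh.Lpull Y'.ι).obj ((DCoh.Lpull f).obj E) ≅ DerivedCategory.Q.obj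
        (((Scheme.Modules.pullback Y'.ι).mapHomologicalComplex (ComplexShape.up ℤ)).obj G) :=
      (DCoh.Lpull Y'.ι).mapIso eG.symm ≪≫ LpullObjIso Y'.ι G hG
    have b4 : ((Scheme.Modules.pullback Y'.ι).mapHomologicalComplex (ComplexShape.up ℤ)).obj G ≅
        (rCx Y'.ι).obj G :=
      (NatIso.mapHomologicalComplex (Scheme.Modules.restrictFunctorIsoPullback Y'.ι).symm
        (ComplexShape.up ℤ)).app G
    have eY : DerivedCategory.Q.obj ((rCx Y'.ι).obj G) ≅ DerivedCategory.Q.obj
        ((CochainComplex.singleFunctor (Y' : Scheme.{u}).Modules i).obj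
          (FlatMod.freeMod (Y' : Scheme.{u}) r)) :=
      DerivedCategory.Q.mapIso b4.symm ≪≫ b3.symm ≪≫ c.app E ≪≫ b1 ≪≫
        DerivedCategory.Q.mapIso (pullSingleIso l _ i ≪≫
          (CochainComplex.singleFunctor (Y' : Scheme.{u}).Modules i).mapIso
            (pullbackFreeModIso l r))
    exact ⟨Y', hW, fun j hj => exactAt_of_iso_single eY j hj, ⟨homologyIsoOfIsoSingle eY⟩⟩
  have hex : ∀ j : ℤ, j ≠ i → G.ExactAt j := by
    intro j hj
    rw [HomologicalComplex.exactAt_iff_isZero_homology]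
    apply isZero_of_stalks
    intro y
    obtain ⟨Y', hyY', hY', -⟩ := key y
    have h1 : StalkZ ((rCx Y'.ι).obj G) j ⟨y, hyY'⟩ :=
      (DerSch.stalkFunctor _ _).map_isZero (hY' j hj).isZero_homology
    exact (stalkZ_restrict_iff Y'.ι G j ⟨y, hyY'⟩).mp h1
  refine ⟨G.homology i, fun y => ?_, ?_⟩
  · obtain ⟨Y', hyY', -, ⟨e⟩⟩ := key y
    exact ⟨Y', hyY', ⟨((G.sc i).mapHomologyIso (Scheme.Modules.restrictFunctor Y'.ι)).symm ≪≫ e⟩⟩
  · obtain ⟨e⟩ := nonempty_iso_single_of_exactAt G i hex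
    exact ⟨eG.symm ≪≫ e ≪≫ (singleShiftIso (G.homology i) i).symm⟩

include hE hF eF in
/-- the free locus has the required universal property -/
theorem range_subset_freeLocus_iff :
    Set.range f.base ⊆ freeLocus F i r ↔
      ∃ V : Y.Modules, FlatMod.IsFinLocFreeOfRank r V ∧
        Nonempty ((DCoh.Lpull f).obj E ≅ (DCoh.inD Y V)⟦-i⟧) :=
  ⟨exists_iso_of_range_subset_freeLocus E F hF eF i r f, fun ⟨V, hV, ⟨e⟩⟩ =>
    range_subset_freeLocus E hE F hF eF i r f V hV e⟩

end Main

/-- the open locus where a perfect object is a locally free module of rank `r` placed in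
degree `i` -/
theorem main (X : Scheme.{u}) (E : DCoh.D X) (hE : DCoh.IsPerfect E) (i : ℤ) (r : ℕ) :
    ∃ U : X.Opens, ∀ (Y : Scheme.{u}) (f : Y ⟶ X) [DCoh.HasLpull f],
      Set.range f.base ⊆ (U : Set X) ↔
        ∃ V : Y.Modules, FlatMod.IsFinLocFreeOfRank r V ∧
          Nonempty ((DCoh.Lpull f).obj E ≅ (DCoh.inD Y V)⟦-i⟧) := by
  obtain ⟨F, hF, ⟨eF⟩⟩ := exists_kflat_repr E
  refine ⟨⟨freeLocus F i r, isOpen_freeLocus F i r⟩, fun Y f _ => ?_⟩
  exact range_subset_freeLocus_iff E hE F hF eF i r f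

end Groth.Agent.Helper5.LFD
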