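import Groth.Agent.Lib.Helper5.LTen2

/-!
# Tor amplitude from flat representatives; derived pullback
-/

set_option autoImplicit false
set_option linter.unusedSectionVars false
set_option linter.unusedVariables false
set_option linter.style.haveILetI false

universe u

open CategoryTheory CategoryTheory.Limits AlgebraicGeometry MonoidalCategory

attribute [local instance] HasDerivedCategory.standard

namespace Groth.Agent.Helper5.LDer

variable {X Y : Scheme.{u}}

/-- the cohomology of `Q C` -/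
noncomputable def HDQIso (C : CochainComplex X.Modules ℤ) (i : ℤ) :
    DCoh.HD (DerivedCategory.Q.obj C) i ≅ C.homology i :=
  (DerivedCategory.homologyFunctorFactors X.Modules i).app C

lemma isZero_HD_Q_of_isZero_X (C : CochainComplex X.Modules ℤ) (i : ℤ) (h : IsZero (C.X i)) :
    IsZero (DCoh.HD (DerivedCategory.Q.obj C) i) :=
  IsZero.of_iso ((HomologicalComplex.ExactAt.of_isZero h).isZero_homology) (HDQIso C i)

lemma hasTorAmplitudeIn_of_iso {a b : ℤ} {K K' : DCoh.D X} (e : K ≅ K')
    (h : DCoh.HasTorAmplitudeIn a b K) : DCoh.HasTorAmplitudeIn a b K' := by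
  intro F _ i hi
  exact IsZero.of_iso (h F i hi)
    ((DerivedCategory.homologyFunctor X.Modules i).mapIso ((DCoh.LTensorMod F).mapIso e.symm))

/-- a complex of flat modules vanishing outside `[a, b]` has tor amplitude in `[a, b]` -/
theorem hasTorAmplitudeIn_Q_of_flat (G : CochainComplex X.Modules ℤ) (a b : ℤ)
    (hv : DCoh.VanishesOutside G a b) (hfl : ∀ i : ℤ, FlatMod.IsFlat (G.X i)) :
    DCoh.HasTorAmplitudeIn a b (DerivedCategory.Q.obj G) := by
  intro F _ i hi
  have hK := isKFlat_of_flat_bddAbove G b (fun i hi => hv i (Or.inr hi)) hfl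
  exact IsZero.of_iso
    (isZero_HD_Q_of_isZero_X _ i ((DCoh.tensorRightMod F).map_isZero (hv i hi)))
    ((DerivedCategory.homologyFunctor X.Modules i).mapIso (LTensorModObjIso F G hK))

/-- flat amplitude implies tor amplitude -/
theorem hasTorAmplitudeIn_of_hasFlatAmplitudeIn (a b : ℤ) (K : DCoh.D X)
    (h : DCoh.HasFlatAmplitudeIn a b K) : DCoh.HasTorAmplitudeIn a b K := by
  obtain ⟨E, hv, hfl, ⟨e⟩⟩ := h
  exact hasTorAmplitudeIn_of_iso e (hasTorAmplitudeIn_Q_of_flat E a b hv hfl)

/-- flat amplitude is preserved by derived pullback -/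
theorem hasFlatAmplitudeIn_Lpull (f : X ⟶ Y) [DCoh.HasLpull f] (E : DCoh.D Y) (a b : ℤ)
    (hE : DCoh.HasFlatAmplitudeIn a b E) :
    DCoh.HasFlatAmplitudeIn a b ((DCoh.Lpull f).obj E) := by
  obtain ⟨E', hv, hfl, ⟨e⟩⟩ := hE
  have hK := isKFlat_of_flat_bddAbove E' b (fun i hi => hv i (Or.inr hi)) hfl
  refine ⟨((Scheme.Modules.pullback f).mapHomologicalComplex (ComplexShape.up ℤ)).obj E',
    fun i hi => (Scheme.Modules.pullback f).map_isZero (hv i hi),
    fun i => isFlat_pullback f _ (hfl i), ⟨?_⟩⟩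
  exact (LpullObjIso f E' hK).symm ≪≫ (DCoh.Lpull f).mapIso e

theorem hasTorAmplitudeIn_Lpull (f : X ⟶ Y) [DCoh.HasLpull f] (E : DCoh.D Y) (a b : ℤ)
    (hE : DCoh.HasFlatAmplitudeIn a b E) :
    DCoh.HasTorAmplitudeIn a b ((DCoh.Lpull f).obj E) :=
  hasTorAmplitudeIn_of_hasFlatAmplitudeIn a b _ (hasFlatAmplitudeIn_Lpull f E a b hE)

/-- tor amplitude passes to direct summands -/
theorem hasTorAmplitudeIn_of_retract {a b : ℤ} {K M : DCoh.D X} (i : K ⟶ M) (r : M ⟶ K)
    (hir : i ≫ r = 𝟙 K) (h : DCoh.HasTorAmplitudeIn a b M) : DCoh.HasTorAmplitudeIn a b K := by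
  intro F _ n hn
  have hz := h F n hn
  rw [IsZero.iff_id_eq_zero]
  have h1 : (DerivedCategory.homologyFunctor X.Modules n).map ((DCoh.LTensorMod F).map i) ≫
      (DerivedCategory.homologyFunctor X.Modules n).map ((DCoh.LTensorMod F).map r) = 𝟙 _ := by
    rw [← Functor.map_comp, ← Functor.map_comp, hir, CategoryTheory.Functor.map_id,
      CategoryTheory.Functor.map_id]
  rw [← h1, hz.eq_of_tgt ((DerivedCategory.homologyFunctor X.Modules n).map
    ((DCoh.LTensorMod F).map i)) 0, zero_comp]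

end Groth.Agent.Helper5.LDer
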