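import Groth.Agent.Lib.Helper5.LTen4

/-!
# Flatness of the cokernel of the differential at the lower end of the tor amplitude
-/

set_option autoImplicit false
set_option linter.unusedSectionVars false
set_option linter.unusedVariables false
set_option linter.style.haveILetI false

universe u

open CategoryTheory CategoryTheory.Limits AlgebraicGeometry MonoidalCategory

attribute [local instance] HasDerivedCategory.standard

namespace Groth.Agent.Helper5.LDer

open Groth.Agent.Helper5.StalkCx

variable {X : Scheme.{u}}

/-- flatness of a cokernel, tested on stalks -/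
lemma isFlat_cokernel_of_stalks {A B : X.Modules} (f : A ⟶ B)
    (h : ∀ x : X, Module.Flat (X.presheaf.stalk x)
      (((DerSch.stalkFunctor X x).obj B) ⧸ LinearMap.range ((DerSch.stalkFunctor X x).map f).hom)) :
    FlatMod.IsFlat (cokernel f) := by
  intro x
  haveI := h x
  let e : (DerSch.stalkFunctor X x).obj (cokernel f) ≅
      ModuleCat.of _ (((DerSch.stalkFunctor X x).obj B) ⧸
        LinearMap.range ((DerSch.stalkFunctor X x).map f).hom) :=
    PreservesCokernel.iso (DerSch.stalkFunctor X x) f ≪≫ ModuleCat.cokernelIsoRangeQuotient _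
  exact Module.Flat.of_linearEquiv e.toLinearEquiv

/-- the cokernel of `E^{a-1} ⟶ E^a` is flat if `E` is a K-flat complex, `E^a` is flat, and the
Tor's against all skyscraper modules vanish in degree `a - 1` -/
theorem isFlat_cokernel_d (E : CochainComplex X.Modules ℤ) (hK : DCoh.IsKFlat E) (a : ℤ)
    (hfl : FlatMod.IsFlat (E.X a))
    (hE : ∀ (x : X) (N : ModuleCat.{u} (X.presheaf.stalk x)) [DCoh.HasLTensorMod (Sky.sky x N)],
      IsZero (DCoh.HD ((DCoh.LTensorMod (Sky.sky x N)).obj (DerivedCategory.Q.obj E)) (a - 1))) :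
    FlatMod.IsFlat (cokernel (E.d (a - 1) a)) := by
  apply isFlat_cokernel_of_stalks
  intro x
  haveI : Module.Flat (X.presheaf.stalk x) ((stalkCx x E).X a) := hfl x
  refine Groth.Agent.Helper11.TA.flat_coker_of_exact ((stalkCx x E).d (a - 1 - 1) (a - 1)).hom
    ((stalkCx x E).d (a - 1) a).hom ?_ ?_
  · ext z
    exact congr($((stalkCx x E).d_comp_d (a - 1 - 1) (a - 1) a) z)
  · intro N _ _
    haveI := hasLTensorMod (Sky.sky x (ModuleCat.of (X.presheaf.stalk x) N))
    exact ker_le_range_of_isZero_HD x (ModuleCat.of (X.presheaf.stalk x) N) E hK (a - 1 - 1) (a - 1) a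
      (by omega) (by omega) (hE x _)

end Groth.Agent.Helper5.LDer
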