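import Groth.Agent.Lib.Helper11.TorAmp1
import Mathlib

/-!
# Flatness of cycles at the upper end of the tor amplitude (ring level)
-/

set_option autoImplicit false
set_option linter.unusedSectionVars false
set_option linter.unusedVariables false
set_option linter.style.haveILetI false

universe u

open CategoryTheory CategoryTheory.Limits TensorProduct Function

namespace Groth.Agent.Helper5.KF

open Groth.Agent.Helper11.TA

variable {R : Type u} [CommRing R] (C : CochainComplex (ModuleCat.{u} R) ℤ) (b : ℤ)
  (hflat : ∀ i : ℤ, Module.Flat R (C.X i))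
  (hex : ∀ i : ℤ, b < i → C.ExactAt i)
  (hten : ∀ (N : Type u) [AddCommGroup N] [Module R N] (i j k : ℤ), i + 1 = j → j + 1 = k → b < j →
    LinearMap.ker ((C.d j k).hom.rTensor N) ≤ LinearMap.range ((C.d i j).hom.rTensor N))

include hflat hex hten in
/-- far enough to the right, the cycles are flat -/
lemma flat_ker_far (j k : ℤ) (hjk : j + 1 = k) (hj : b + 3 ≤ j) :
    Module.Flat R (LinearMap.ker (C.d j k).hom) := by
  -- `Z^j = B^j ≅ C^{j-1} / Z^{j-1} = C^{j-1} / B^{j-1}` which is flat
  haveI := hflat (j - 1)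
  have h1 : Module.Flat R (C.X (j - 1) ⧸ LinearMap.range (C.d (j - 1 - 1) (j - 1)).hom) := by
    refine flat_coker_of_exact (C.d (j - 1 - 1 - 1) (j - 1 - 1)).hom (C.d (j - 1 - 1) (j - 1)).hom
      ?_ ?_
    · ext z
      exact congr($(C.d_comp_d (j - 1 - 1 - 1) (j - 1 - 1) (j - 1)) z)
    · intro N _ _
      exact hten N (j - 1 - 1 - 1) (j - 1 - 1) (j - 1) (by omega) (by omega) (by omega)
  have e1 : LinearMap.range (C.d (j - 1 - 1) (j - 1)).hom = LinearMap.ker (C.d (j - 1) j).hom :=
    range_eq_ker_of_exactAt C _ _ _ (by omega) (by omega) (hex (j - 1) (by omega))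
  have e2 : LinearMap.range (C.d (j - 1) j).hom = LinearMap.ker (C.d j k).hom :=
    range_eq_ker_of_exactAt C _ _ _ (by omega) hjk (hex j (by omega))
  have e : (C.X (j - 1) ⧸ LinearMap.range (C.d (j - 1 - 1) (j - 1)).hom) ≃ₗ[R]
      LinearMap.ker (C.d j k).hom :=
    (Submodule.quotEquivOfEq _ _ e1).trans
      ((C.d (j - 1) j).hom.quotKerEquivRange.trans (LinearEquiv.ofEq _ _ e2))
  exact Module.Flat.of_linearEquiv e.symm

include hflat hex hten in
lemma flat_ker_aux (n : ℕ) : ∀ (j k : ℤ), j + 1 = k → b + 3 - n ≤ j → b ≤ j →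
    Module.Flat R (LinearMap.ker (C.d j k).hom) := by
  induction n with
  | zero =>
    intro j k hjk hj _
    exact flat_ker_far C b hflat hex hten j k hjk (by omega)
  | succ n ih =>
    intro j k hjk hj hbj
    obtain ⟨p, hp, hex', -⟩ := exists_ses C j k (k + 1) hjk rfl (hex k (by omega))
    haveI := hflat j
    haveI := ih k (k + 1) rfl (by omega) (by omega)
    exact flat_of_exact (LinearMap.ker (C.d j k).hom).subtype p
      (Submodule.injective_subtype _) hp hex'

include hflat hex hten in
/-- the cycles at the upper end are flat -/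
theorem flat_ker_of_tor_vanishing (k : ℤ) (hk : b + 1 = k) :
    Module.Flat R (LinearMap.ker (C.d b k).hom) :=
  flat_ker_aux C b hflat hex hten 3 b k hk (by omega) le_rfl

end Groth.Agent.Helper5.KF
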