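import Groth.Agent.Lib.Helper5.LTen5
import Groth.Agent.Lib.Helper5.LTen6

/-!
# Tor amplitude gives a flat representative
-/

set_option autoImplicit false
set_option linter.unusedSectionVars false
set_option linter.unusedVariables false
set_option linter.style.haveILetI false

universe u

open CategoryTheory CategoryTheory.Limits AlgebraicGeometry MonoidalCategory

attribute [local instance] HasDerivedCategory.standard

namespace Groth.Agent.Helper5.LDer

open Groth.Agent.Helper5.StalkCx

variable {X : Scheme.{u}}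

/-- Tor vanishing against the skyscraper of the unit module gives exactness of the stalk complex -/
theorem exactAt_stalk_of_isZero_HD (x : X) (K : CochainComplex X.Modules ℤ) (hK : DCoh.IsKFlat K)
    [DCoh.HasLTensorMod (Sky.sky x (𝟙_ (ModuleCat.{u} (X.presheaf.stalk x))))] (j : ℤ)
    (h : IsZero (DCoh.HD ((DCoh.LTensorMod (Sky.sky x (𝟙_ (ModuleCat.{u} (X.presheaf.stalk x))))).obj
      (DerivedCategory.Q.obj K)) j)) : (stalkCx x K).ExactAt j := by
  have h1 : IsZero ((((DCoh.tensorRightMod (Sky.sky x (𝟙_ (ModuleCat.{u}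
      (X.presheaf.stalk x))))).mapHomologicalComplex (ComplexShape.up ℤ)).obj K).homology j) :=
    IsZero.of_iso (IsZero.of_iso h ((DerivedCategory.homologyFunctor X.Modules j).mapIso
      (LTensorModObjIso _ K hK)).symm) (HDQIso _ j).symm
  have h2 := isZero_homology_stalk _ j h1 x
  have h3 : IsZero ((((tensorRight (𝟙_ (ModuleCat.{u} (X.presheaf.stalk x)))).mapHomologicalComplex
      (ComplexShape.up ℤ)).obj (stalkCx x K)).homology j) :=
    IsZero.of_iso h2 ((HomologicalComplex.homologyFunctor _ _ j).mapIso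
      (stalkTensorSkyIso x _ K)).symm
  have h4 := (HomologicalComplex.exactAt_iff_isZero_homology _ _).mpr h3
  exact h4.of_iso ((NatIso.mapHomologicalComplex (rightUnitorNatIso _) (ComplexShape.up ℤ)).app _ ≪≫
    (Functor.mapHomologicalComplexIdIso _ _).app _)

/-- the stalk of the cycles -/
noncomputable def stalkCyclesIso (x : X) (K : CochainComplex X.Modules ℤ) (i j k : ℤ)
    (hij : i + 1 = j) (hjk : j + 1 = k) :
    (DerSch.stalkFunctor X x).obj (K.cycles j) ≅
      ModuleCat.of (X.presheaf.stalk x) (LinearMap.ker ((stalkCx x K).d j k).hom) :=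
  (DerSch.stalkFunctor X x).mapIso (K.cyclesIsoSc' i j k (by simp; omega) (by simp; omega)) ≪≫
    ((K.sc' i j k).mapCyclesIso (DerSch.stalkFunctor X x)).symm ≪≫
    ((stalkCx x K).sc' i j k).moduleCatCyclesIso

/-- flatness of the cycles, tested on stalks -/
lemma isFlat_cycles_of_stalks (K : CochainComplex X.Modules ℤ) (j k : ℤ) (hjk : j + 1 = k)
    (h : ∀ x : X, Module.Flat (X.presheaf.stalk x) (LinearMap.ker ((stalkCx x K).d j k).hom)) :
    FlatMod.IsFlat (K.cycles j) := by
  intro x
  haveI := h x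
  exact Module.Flat.of_linearEquiv (stalkCyclesIso x K (j - 1) j k (by omega) hjk).toLinearEquiv

/-- the cycles at the upper end of the tor amplitude are flat -/
theorem isFlat_cycles (K : CochainComplex X.Modules ℤ) (hK : DCoh.IsKFlat K)
    (hfl : ∀ i : ℤ, FlatMod.IsFlat (K.X i)) (b : ℤ)
    (hE : ∀ (x : X) (N : ModuleCat.{u} (X.presheaf.stalk x)) [DCoh.HasLTensorMod (Sky.sky x N)]
      (j : ℤ), b < j →
      IsZero (DCoh.HD ((DCoh.LTensorMod (Sky.sky x N)).obj (DerivedCategory.Q.obj K)) j)) :
    FlatMod.IsFlat (K.cycles b) := by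
  apply isFlat_cycles_of_stalks K b (b + 1) rfl
  intro x
  refine KF.flat_ker_of_tor_vanishing (stalkCx x K) b (fun i => hfl i x) ?_ ?_ (b + 1) rfl
  · intro i hi
    haveI := hasLTensorMod (Sky.sky x (𝟙_ (ModuleCat.{u} (X.presheaf.stalk x))))
    exact exactAt_stalk_of_isZero_HD x K hK i (hE x _ i hi)
  · intro N _ _ i j k hij hjk hj
    haveI := hasLTensorMod (Sky.sky x (ModuleCat.of (X.presheaf.stalk x) N))
    exact ker_le_range_of_isZero_HD x (ModuleCat.of (X.presheaf.stalk x) N) K hK i j k hij hjk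
      (hE x _ j hj)

/-- exactness from Tor vanishing -/
theorem exactAt_of_isZero_HD (K : CochainComplex X.Modules ℤ) (hK : DCoh.IsKFlat K) (j : ℤ)
    (hE : ∀ (x : X) (N : ModuleCat.{u} (X.presheaf.stalk x)) [DCoh.HasLTensorMod (Sky.sky x N)],
      IsZero (DCoh.HD ((DCoh.LTensorMod (Sky.sky x N)).obj (DerivedCategory.Q.obj K)) j)) :
    K.ExactAt j := by
  rw [HomologicalComplex.exactAt_iff_isZero_homology]
  apply isZero_homology_of_stalks
  intro x
  rw [← HomologicalComplex.exactAt_iff_isZero_homology]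
  haveI := hasLTensorMod (Sky.sky x (𝟙_ (ModuleCat.{u} (X.presheaf.stalk x))))
  exact exactAt_stalk_of_isZero_HD x K hK j (hE x _)

end Groth.Agent.Helper5.LDer
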