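import Groth.Prelude.Def_LambdaRing
import Mathlib.RingTheory.PowerSeries.Substitution
import Mathlib.RingTheory.PowerSeries.WellKnown

set_option autoImplicit false
universe u

namespace Groth.Agent.Helper5.Lam

open PowerSeries LambdaRing Finset

variable {K : Type u} [CommRing K] [LambdaOps K]

theorem lamSeries_add (x y : K) : lamSeries (x + y) = lamSeries x * lamSeries y := by
  ext k
  rw [PowerSeries.coeff_mul, Finset.Nat.sum_antidiagonal_eq_sum_range_succ_mk]
  simp only [lamSeries, PowerSeries.coeff_mk]
  exact LambdaOps.lam_add k x y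

theorem constantCoeff_lamSeries (x : K) : PowerSeries.constantCoeff (lamSeries x) = 1 := by
  rw [← PowerSeries.coeff_zero_eq_constantCoeff_apply]
  simp [lamSeries, LambdaOps.lam_zero]

/-- the series `t/(1-t)` -/
noncomputable def sSer (K : Type u) [CommRing K] : PowerSeries K := PowerSeries.X * PowerSeries.mk 1

omit [LambdaOps K] in
theorem hasSubst_sSer : PowerSeries.HasSubst (sSer K) := by
  apply PowerSeries.HasSubst.of_constantCoeff_zero'
  simp [sSer]

omit [LambdaOps K] in
theorem coeff_sSer_pow (k j : ℕ) :
    PowerSeries.coeff k (sSer K ^ j) =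
      if j = 0 then (if k = 0 then 1 else 0) else if j ≤ k then ((Nat.choose (k - 1) (j - 1) : ℕ) : K) else 0 := by
  by_cases hj : j = 0
  · subst hj
    simp [PowerSeries.coeff_one]
  · rw [if_neg hj]
    obtain ⟨d, rfl⟩ := Nat.exists_eq_succ_of_ne_zero hj
    rw [sSer, mul_pow, PowerSeries.mk_one_pow_eq_mk_choose_add, PowerSeries.coeff_X_pow_mul']
    split_ifs with h
    · rw [PowerSeries.coeff_mk]
      congr 2
      omega
    · rfl

/-- the generating series of the gamma operations -/
noncomputable def gamSeries (x : K) : PowerSeries K := PowerSeries.subst (sSer K) (lamSeries x)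

theorem coeff_gamSeries (k : ℕ) (x : K) : PowerSeries.coeff k (gamSeries x) = gamma k x := by
  rw [gamSeries, PowerSeries.coeff_subst' hasSubst_sSer]
  rw [finsum_eq_sum_of_support_subset (s := Finset.range (k + 1))]
  · unfold gamma
    by_cases hk : k = 0
    · subst hk
      simp [coeff_sSer_pow, lamSeries, LambdaOps.lam_zero]
    · rw [if_neg hk]
      apply Finset.sum_congr rfl
      intro j hj
      rw [Finset.mem_range] at hj
      rw [coeff_sSer_pow]
      by_cases hj0 : j = 0
      · subst hj0
        simp [hk]
      · rw [if_neg hj0, if_neg hj0, if_pos (by omega)]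
        simp [lamSeries, mul_comm]
  · intro j hj
    rw [Function.mem_support] at hj
    rw [Finset.coe_range, Set.mem_Iio]
    by_contra hlt
    apply hj
    rw [coeff_sSer_pow, if_neg (by omega), if_neg (by omega), smul_zero]

theorem gamSeries_add (x y : K) : gamSeries (x + y) = gamSeries x * gamSeries y := by
  rw [gamSeries, lamSeries_add, PowerSeries.subst_mul hasSubst_sSer]
  rfl

theorem gamma_add (k : ℕ) (x y : K) :
    gamma k (x + y) = ∑ i ∈ range (k + 1), gamma i x * gamma (k - i) y := by
  rw [← coeff_gamSeries, gamSeries_add, PowerSeries.coeff_mul,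
    Finset.Nat.sum_antidiagonal_eq_sum_range_succ_mk]
  simp only [coeff_gamSeries]

end Groth.Agent.Helper5.Lam
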