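import Groth.Agent.Lib.Helper5.Lambda
import Mathlib.Algebra.Polynomial.Reverse

set_option autoImplicit false
universe u

namespace Groth.Agent.Helper5.Lam

open PowerSeries LambdaRing Finset

variable {K : Type u} [CommRing K] [LambdaOps K]

theorem lamSeries_zero : lamSeries (0 : K) = 1 := by
  have h := lamSeries_add (0 : K) 0
  rw [add_zero] at h
  have hu : IsUnit (lamSeries (0 : K)) := by
    rw [PowerSeries.isUnit_iff_constantCoeff, constantCoeff_lamSeries]
    exact isUnit_one
  obtain ⟨v, hv⟩ := hu
  rw [← hv] at h ⊢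
  have : (v : PowerSeries K) * 1 = v * v := by rw [mul_one]; exact h
  exact (v.mul_right_inj.mp this).symm

theorem lamSeries_one (P : PosStructure K) : lamSeries (1 : K) = 1 + PowerSeries.X := by
  have hpos : (1 : K) ∈ P.pos := by
    have := P.natCast_mem 1 Nat.one_pos
    simpa using this
  ext i
  simp only [lamSeries, PowerSeries.coeff_mk, map_add, PowerSeries.coeff_one]
  rcases i with _ | _ | i
  · simp [LambdaOps.lam_zero]
  · simp [LambdaOps.lam_one]
  · have : LambdaOps.lam (i + 2) (1 : K) = 0 :=
      P.lam_eq_zero 1 hpos (i + 2) (by rw [map_one]; omega)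
    simp [this, PowerSeries.coeff_X]

theorem lamSeries_natCast (P : PosStructure K) (n : ℕ) :
    lamSeries ((n : ℕ) : K) = (1 + PowerSeries.X) ^ n := by
  induction n with
  | zero => simp [lamSeries_zero]
  | succ n ih => rw [Nat.cast_succ, lamSeries_add, ih, lamSeries_one P, pow_succ]

omit [LambdaOps K] in
theorem one_add_sSer : (1 : PowerSeries K) + sSer K = PowerSeries.mk 1 := by
  have h := PowerSeries.mk_one_mul_one_sub_eq_one K
  rw [sSer]
  linear_combination (-1 : PowerSeries K) * h

theorem gamSeries_natCast (P : PosStructure K) (n : ℕ) :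
    gamSeries ((n : ℕ) : K) = (PowerSeries.mk 1) ^ n := by
  rw [gamSeries, lamSeries_natCast P, PowerSeries.subst_pow hasSubst_sSer,
    PowerSeries.subst_add hasSubst_sSer, PowerSeries.subst_X hasSubst_sSer, ← one_add_sSer]
  congr 2
  rw [← map_one (PowerSeries.C (R := K)), PowerSeries.subst_C]
  rfl

theorem gamSeries_sub_natCast (P : PosStructure K) (e : K) (n : ℕ) :
    gamSeries (e - (n : K)) = gamSeries e * (1 - PowerSeries.X) ^ n := by
  have h1 : gamSeries e = gamSeries (e - (n : K)) * (PowerSeries.mk 1) ^ n := by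
    rw [← gamSeries_natCast P, ← gamSeries_add, sub_add_cancel]
  rw [h1, mul_assoc, ← mul_pow, PowerSeries.mk_one_mul_one_sub_eq_one, one_pow, mul_one]

omit [LambdaOps K] in
theorem natDegree_one_sub_X_pow_le (n : ℕ) : ((1 - Polynomial.X : Polynomial K) ^ n).natDegree ≤ n := by
  refine (Polynomial.natDegree_pow_le).trans ?_
  have : (1 - Polynomial.X : Polynomial K).natDegree ≤ 1 := by
    refine (Polynomial.natDegree_sub_le _ _).trans ?_
    simp [Polynomial.natDegree_X_le]
  calc n * (1 - Polynomial.X : Polynomial K).natDegree ≤ n * 1 := Nat.mul_le_mul_left n this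
    _ = n := mul_one n

omit [LambdaOps K] in
theorem reflect_one_sub_X_pow (n : ℕ) :
    Polynomial.reflect n ((1 - Polynomial.X : Polynomial K) ^ n) = (Polynomial.X - 1) ^ n := by
  induction n with
  | zero => simp [Polynomial.reflect_one]
  | succ n ih =>
    rw [pow_succ, Polynomial.reflect_mul _ _ (natDegree_one_sub_X_pow_le n)
      (show (1 - Polynomial.X : Polynomial K).natDegree ≤ 1 by
        refine (Polynomial.natDegree_sub_le _ _).trans ?_
        simp [Polynomial.natDegree_X_le]), ih, Polynomial.reflect_sub, Polynomial.reflect_one, Polynomial.reflect_one_X, pow_one,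
      pow_succ]

/-- the polynomial whose coefficients are the lambda operations of a positive element -/
noncomputable def lamPoly (e : K) (m : ℕ) : Polynomial K :=
  ∑ j ∈ range (m + 1), Polynomial.C (LambdaOps.lam j e) * Polynomial.X ^ j

theorem lamSeries_eq_coe (P : PosStructure K) (e : K) (he : e ∈ P.pos) (m : ℕ) (hm : P.aug e = m) :
    lamSeries e = ((lamPoly e m : Polynomial K) : PowerSeries K) := by
  ext k
  rw [Polynomial.coeff_coe, lamPoly, Polynomial.finsetSum_coeff]
  simp only [Polynomial.coeff_C_mul, Polynomial.coeff_X_pow, mul_ite, mul_one, mul_zero]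
  rw [Finset.sum_ite_eq (range (m + 1)) k]
  simp only [lamSeries, PowerSeries.coeff_mk, Finset.mem_range]
  split_ifs with h
  · rfl
  · exact P.lam_eq_zero e he k (by rw [hm]; exact_mod_cast (by omega : m < k))

/-- the polynomial giving the gamma operations of `e - m` -/
noncomputable def gamPoly (e : K) (m : ℕ) : Polynomial K :=
  ∑ j ∈ range (m + 1), Polynomial.C (LambdaOps.lam j e) *
    (Polynomial.X ^ j * (1 - Polynomial.X) ^ (m - j))

theorem gamSeries_sub_eq_coe (P : PosStructure K) (e : K) (he : e ∈ P.pos) (m : ℕ) (hm : P.aug e = m) :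
    gamSeries (e - (m : K)) = ((gamPoly e m : Polynomial K) : PowerSeries K) := by
  rw [gamSeries_sub_natCast P, gamSeries, lamSeries_eq_coe P e he m hm,
    PowerSeries.subst_coe hasSubst_sSer, lamPoly, gamPoly, map_sum, Finset.sum_mul]
  have hcoe : ∀ (s : Finset ℕ) (f : ℕ → Polynomial K),
      ((∑ j ∈ s, f j : Polynomial K) : PowerSeries K) = ∑ j ∈ s, ((f j : Polynomial K) : PowerSeries K) :=
    fun s f => map_sum (Polynomial.coeToPowerSeries.ringHom (R := K)) f s
  rw [hcoe]
  apply Finset.sum_congr rfl
  intro j hj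
  rw [Finset.mem_range] at hj
  have hmj : m = j + (m - j) := by omega
  have key : sSer K ^ j * (1 - PowerSeries.X) ^ m = PowerSeries.X ^ j * (1 - PowerSeries.X) ^ (m - j) := by
    conv_lhs => rw [hmj, pow_add, ← mul_assoc, ← mul_pow]
    rw [sSer, mul_assoc, PowerSeries.mk_one_mul_one_sub_eq_one, mul_one]
  simp only [map_mul, map_pow, Polynomial.aeval_C, Polynomial.aeval_X, Polynomial.coe_mul,
    Polynomial.coe_C, Polynomial.coe_pow, Polynomial.coe_X, Polynomial.coe_sub, Polynomial.coe_one]
  rw [mul_assoc, key]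
  rfl

theorem natDegree_gamPoly_le (e : K) (m : ℕ) : (gamPoly e m).natDegree ≤ m := by
  unfold gamPoly
  refine Polynomial.natDegree_sum_le_of_forall_le _ _ ?_
  intro j hj
  rw [Finset.mem_range] at hj
  refine (Polynomial.natDegree_C_mul_le _ _).trans ?_
  refine (Polynomial.natDegree_mul_le).trans ?_
  have h1 : (Polynomial.X ^ j : Polynomial K).natDegree ≤ j := Polynomial.natDegree_X_pow_le j
  have h2 := natDegree_one_sub_X_pow_le (K := K) (m - j)
  omega

theorem reflect_gamPoly (e : K) (m : ℕ) :
    Polynomial.reflect m (gamPoly e m) =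
      ∑ j ∈ range (m + 1), Polynomial.C (LambdaOps.lam j e) * (Polynomial.X - 1) ^ (m - j) := by
  unfold gamPoly
  have hadd : ∀ (s : Finset ℕ) (f : ℕ → Polynomial K),
      Polynomial.reflect m (∑ j ∈ s, f j) = ∑ j ∈ s, Polynomial.reflect m (f j) := by
    intro s f
    induction s using Finset.induction_on with
    | empty => simp
    | insert a s ha ih => rw [Finset.sum_insert ha, Finset.sum_insert ha, Polynomial.reflect_add, ih]
  rw [hadd]
  apply Finset.sum_congr rfl
  intro j hj
  rw [Finset.mem_range] at hj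
  rw [Polynomial.reflect_C_mul]
  congr 1
  obtain ⟨d, rfl⟩ : ∃ d, m = j + d := ⟨m - j, by omega⟩
  rw [Nat.add_sub_cancel_left]
  rw [Polynomial.reflect_mul _ _ (Polynomial.natDegree_X_pow_le j) (natDegree_one_sub_X_pow_le d),
    reflect_one_sub_X_pow, Polynomial.reflect_monomial]
  simp

theorem gamma_poly_identity (P : PosStructure K) (e : K) (he : e ∈ P.pos) (m : ℕ) (hm : P.aug e = m) :
    (∑ i ∈ range (m + 1), Polynomial.C (gamma i (e - (m : K))) * Polynomial.X ^ (m - i)) =
      ∑ i ∈ range (m + 1), Polynomial.C (LambdaOps.lam i e) * (Polynomial.X - 1) ^ (m - i) := by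
  rw [← reflect_gamPoly]
  have hcoef : ∀ i, gamma i (e - (m : K)) = (gamPoly e m).coeff i := by
    intro i
    rw [← coeff_gamSeries, gamSeries_sub_eq_coe P e he m hm, Polynomial.coeff_coe]
  ext k
  rw [Polynomial.coeff_reflect, Polynomial.finsetSum_coeff]
  simp only [Polynomial.coeff_C_mul, Polynomial.coeff_X_pow, mul_ite, mul_one, mul_zero, hcoef]
  by_cases hk : k ≤ m
  · rw [Polynomial.revAt_le hk]
    rw [Finset.sum_eq_single (m - k)]
    · rw [if_pos (by omega)]
    · intro b hb hbne
      rw [Finset.mem_range] at hb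
      rw [if_neg (by omega)]
    · intro h
      exfalso
      apply h
      rw [Finset.mem_range]; omega
  · rw [Polynomial.revAt_eq_self_of_lt (by omega)]
    rw [Polynomial.coeff_eq_zero_of_natDegree_lt (lt_of_le_of_lt (natDegree_gamPoly_le e m) (by omega))]
    apply Finset.sum_eq_zero
    intro b hb
    rw [if_neg (by omega)]

end Groth.Agent.Helper5.Lam
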