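import Groth.Agent.Lib.Helper5.Lambda2

set_option autoImplicit false
universe u

namespace Groth.Agent.Helper5.Lam

open PowerSeries LambdaRing Finset

variable {K : Type u} [CommRing K] [LambdaOps K]

/-- `λ_{-t}(x)` -/
noncomputable def negLam (x : K) : PowerSeries K := PowerSeries.rescale (-1 : K) (lamSeries x)

theorem negLam_add (x y : K) : negLam (x + y) = negLam x * negLam y := by
  rw [negLam, lamSeries_add, map_mul]; rfl

theorem constantCoeff_negLam (x : K) : PowerSeries.constantCoeff (negLam x) = ((1 : Kˣ) : K) := by
  rw [negLam, ← PowerSeries.coeff_zero_eq_constantCoeff_apply, PowerSeries.coeff_rescale]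
  simp [lamSeries, LambdaOps.lam_zero]

/-- the inverse of `λ_{-t}(x)` -/
noncomputable def negLamInv (x : K) : PowerSeries K := (negLam x).invOfUnit 1

theorem negLam_mul_inv (x : K) : negLam x * negLamInv x = 1 :=
  PowerSeries.mul_invOfUnit _ 1 (constantCoeff_negLam x)

theorem negLamInv_add (x y : K) : negLamInv (x + y) = negLamInv x * negLamInv y := by
  have h1 := negLam_mul_inv (x + y)
  have h2 := negLam_mul_inv x
  have h3 := negLam_mul_inv y
  rw [negLam_add] at h1
  calc negLamInv (x + y) = negLamInv (x + y) * ((negLam x * negLamInv x) * (negLam y * negLamInv y)) := by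
        rw [h2, h3, mul_one, mul_one]
    _ = (negLam x * negLam y * negLamInv (x + y)) * (negLamInv x * negLamInv y) := by ring
    _ = negLamInv x * negLamInv y := by rw [h1, one_mul]

theorem adamsSeries_eq (P : PosStructure K) (x : K) :
    adamsSeries P x = PowerSeries.C (P.aug x : K) -
      PowerSeries.X * (PowerSeries.derivative K (negLam x)) * negLamInv x := rfl

theorem adamsSeries_add (P : PosStructure K) (x y : K) :
    adamsSeries P (x + y) = adamsSeries P x + adamsSeries P y := by
  rw [adamsSeries_eq, adamsSeries_eq, adamsSeries_eq, negLam_add, negLamInv_add, Derivation.leibniz,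
    map_add, Int.cast_add, map_add]
  have h2 := negLam_mul_inv x
  have h3 := negLam_mul_inv y
  simp only [smul_eq_mul]
  linear_combination (-(PowerSeries.X * (PowerSeries.derivative K (negLam y)) * negLamInv y)) * h2
    - (PowerSeries.X * (PowerSeries.derivative K (negLam x)) * negLamInv x) * h3

theorem adams_add (P : PosStructure K) (j : ℕ) (x y : K) :
    adams P j (x + y) = adams P j x + adams P j y := by
  unfold adams
  rw [adamsSeries_add, map_add]

/-- Adams operation as an additive map -/
noncomputable def adamsHom (P : PosStructure K) (j : ℕ) : K →+ K :=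
  AddMonoidHom.mk' (adams P j) (adams_add P j)

theorem adamsHom_apply (P : PosStructure K) (j : ℕ) (x : K) : adamsHom P j x = adams P j x := rfl

theorem adams_zero (P : PosStructure K) (j : ℕ) : adams P j (0 : K) = 0 := (adamsHom P j).map_zero

theorem adams_sub (P : PosStructure K) (j : ℕ) (x y : K) :
    adams P j (x - y) = adams P j x - adams P j y := (adamsHom P j).map_sub x y

theorem adams_multiset_sum (P : PosStructure K) (j : ℕ) (s : Multiset K) :
    adams P j s.sum = (s.map (adams P j)).sum := by
  have := map_multiset_sum (adamsHom P j) s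
  exact this

theorem isLine_one (P : PosStructure K) : P.IsLine (1 : K) := by
  refine ⟨?_, map_one _⟩
  have := P.natCast_mem 1 Nat.one_pos
  simpa using this

theorem isLine_mul (P : PosStructure K) {u v : K} (hu : P.IsLine u) (hv : P.IsLine v) :
    P.IsLine (u * v) :=
  ⟨P.mul_mem u v hu.1 hv.1, by rw [map_mul, hu.2, hv.2, mul_one]⟩

theorem isLine_pow (P : PosStructure K) {u : K} (hu : P.IsLine u) (n : ℕ) : P.IsLine (u ^ n) := by
  induction n with
  | zero => rw [pow_zero]; exact isLine_one P
  | succ n ih => rw [pow_succ]; exact isLine_mul P ih hu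

theorem lamSeries_line (P : PosStructure K) {u : K} (hu : P.IsLine u) :
    lamSeries u = 1 + PowerSeries.C u * PowerSeries.X := by
  obtain ⟨hpos, haug⟩ := hu
  ext i
  simp only [lamSeries, PowerSeries.coeff_mk, map_add, PowerSeries.coeff_one]
  rcases i with _ | _ | i
  · simp [LambdaOps.lam_zero]
  · simp [LambdaOps.lam_one]
  · have : LambdaOps.lam (i + 2) u = 0 :=
      P.lam_eq_zero u hpos (i + 2) (by rw [haug]; omega)
    simp [this, PowerSeries.coeff_succ_mul_X]

theorem adams_line (P : PosStructure K) {u : K} (hu : P.IsLine u) (j : ℕ) :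
    adams P j u = u ^ j := by
  have hlam := lamSeries_line P hu
  obtain ⟨hpos, haug⟩ := hu
  set G : PowerSeries K := PowerSeries.mk fun n => u ^ n with hG
  have hresc : negLam u = 1 - PowerSeries.C u * PowerSeries.X := by
    rw [negLam, hlam, map_add, map_one, map_mul, PowerSeries.rescale_X]
    have : PowerSeries.rescale (-1 : K) (PowerSeries.C u) = PowerSeries.C u := by
      ext n
      rw [PowerSeries.coeff_rescale, PowerSeries.coeff_C]
      split_ifs with h
      · rw [h, pow_zero, one_mul]
      · rw [mul_zero]
    rw [this, map_neg, map_one]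
    ring
  have hGmul : (1 - PowerSeries.C u * PowerSeries.X) * G = 1 := by
    ext n
    rw [sub_mul, one_mul, map_sub, mul_assoc, PowerSeries.coeff_C_mul]
    rcases n with _ | n
    · simp [hG]
    · rw [mul_comm PowerSeries.X G, PowerSeries.coeff_succ_mul_X]
      simp [hG, pow_succ']
  have hinv : negLamInv u = G := by
    have h2 := negLam_mul_inv u
    rw [hresc] at h2
    calc negLamInv u = negLamInv u * ((1 - PowerSeries.C u * PowerSeries.X) * G) := by
          rw [hGmul, mul_one]
      _ = ((1 - PowerSeries.C u * PowerSeries.X) * negLamInv u) * G := by ring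
      _ = G := by rw [h2, one_mul]
  have hder : PowerSeries.derivative K (1 - PowerSeries.C u * PowerSeries.X) = - PowerSeries.C u := by
    rw [map_sub, Derivation.leibniz]
    simp
  have hA : adamsSeries P u = G := by
    rw [adamsSeries_eq, hinv, hresc, hder, haug]
    have h3 : PowerSeries.C u * PowerSeries.X * G = G - 1 := by
      rw [← hGmul]; ring
    calc PowerSeries.C ((1 : ℤ) : K) - PowerSeries.X * -PowerSeries.C u * G
        = 1 + PowerSeries.C u * PowerSeries.X * G := by
          rw [Int.cast_one, map_one]; ring
      _ = G := by rw [h3]; ring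
  unfold adams
  rw [hA, hG, PowerSeries.coeff_mk]

end Groth.Agent.Helper5.Lam
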