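import Groth.Agent.Lib.Helper5.Lambda3

set_option autoImplicit false
universe u

namespace Groth.Agent.Helper5.Lam

open PowerSeries LambdaRing Finset

variable {K : Type u} [CommRing K] [LambdaOps K]
variable {K' : Type u} [CommRing K'] [LambdaOps K']

theorem map_lamSeries {f : K →+* K'} (hf : IsLambdaHom f) (x : K) :
    PowerSeries.map f (lamSeries x) = lamSeries (f x) := by
  ext n
  simp only [PowerSeries.coeff_map, lamSeries, PowerSeries.coeff_mk]
  exact hf n x

theorem map_negLam {f : K →+* K'} (hf : IsLambdaHom f) (x : K) :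
    PowerSeries.map f (negLam x) = negLam (f x) := by
  rw [negLam, negLam, ← map_lamSeries hf, ← PowerSeries.rescale_map]
  simp

theorem map_negLamInv {f : K →+* K'} (hf : IsLambdaHom f) (x : K) :
    PowerSeries.map f (negLamInv x) = negLamInv (f x) := by
  have h1 : PowerSeries.map f (negLam x) * PowerSeries.map f (negLamInv x) = 1 := by
    rw [← map_mul, negLam_mul_inv, map_one]
  rw [map_negLam hf] at h1
  have h2 := negLam_mul_inv (f x)
  calc PowerSeries.map f (negLamInv x)
      = (negLam (f x) * negLamInv (f x)) * PowerSeries.map f (negLamInv x) := by rw [h2, one_mul]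
    _ = (negLam (f x) * PowerSeries.map f (negLamInv x)) * negLamInv (f x) := by ring
    _ = negLamInv (f x) := by rw [h1, one_mul]

omit [LambdaOps K] [LambdaOps K'] in
theorem map_derivative (f : K →+* K') (φ : PowerSeries K) :
    PowerSeries.map f (PowerSeries.derivative K φ) = PowerSeries.derivative K' (PowerSeries.map f φ) := by
  ext n
  simp [PowerSeries.coeff_derivative]

theorem map_adamsSeries {P : PosStructure K} {P' : PosStructure K'} {f : K →+* K'}
    (hf : IsExtension P P' f) (x : K) :
    PowerSeries.map f (adamsSeries P x) = adamsSeries P' (f x) := by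
  rw [adamsSeries_eq, adamsSeries_eq, map_sub, map_mul, map_mul, map_negLamInv hf.isLambdaHom,
    map_derivative, map_negLam hf.isLambdaHom, PowerSeries.map_X, PowerSeries.map_C, map_intCast,
    hf.aug_comp]

theorem map_adams {P : PosStructure K} {P' : PosStructure K'} {f : K →+* K'}
    (hf : IsExtension P P' f) (j : ℕ) (x : K) :
    f (adams P j x) = adams P' j (f x) := by
  unfold adams
  rw [← map_adamsSeries hf, PowerSeries.coeff_map]

theorem isLine_map {P : PosStructure K} {P' : PosStructure K'} {f : K →+* K'}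
    (hf : IsExtension P P' f) {u : K} (hu : P.IsLine u) : P'.IsLine (f u) :=
  ⟨hf.pos_subset u hu.1, by rw [hf.aug_comp, hu.2]⟩

theorem IsExtension.comp' {K'' : Type u} [CommRing K''] [LambdaOps K'']
    {P : PosStructure K} {P' : PosStructure K'} {P'' : PosStructure K''}
    {f : K →+* K'} {g : K' →+* K''} (hf : IsExtension P P' f) (hg : IsExtension P' P'' g) :
    IsExtension P P'' (g.comp f) where
  isLambdaHom := fun i x => by
    rw [RingHom.comp_apply, hf.isLambdaHom, hg.isLambdaHom]; rfl
  injective := hg.injective.comp hf.injective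
  aug_comp := fun x => by rw [RingHom.comp_apply, hg.aug_comp, hf.aug_comp]
  pos_subset := fun e he => hg.pos_subset _ (hf.pos_subset e he)

/-- the closure property of a class of lambda rings in which positive elements split -/
def SplitClass (C : Set PosLambdaRing.{u}) : Prop :=
  ∀ L ∈ C, ∀ e ∈ L.posStr.pos, ∃ L' ∈ C, ∃ f : L.carrier →+* L'.carrier,
      IsExtension L.posStr L'.posStr f ∧
      ∃ s : Multiset L'.carrier, (∀ u ∈ s, L'.posStr.IsLine u) ∧ s.sum = f e

theorem split_two {C : Set PosLambdaRing.{u}} (hC : SplitClass C) (L : PosLambdaRing.{u}) (hL : L ∈ C)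
    (e e' : L.carrier) (he : e ∈ L.posStr.pos) (he' : e' ∈ L.posStr.pos) :
    ∃ L' ∈ C, ∃ f : L.carrier →+* L'.carrier, IsExtension L.posStr L'.posStr f ∧
      ∃ s s' : Multiset L'.carrier, (∀ u ∈ s, L'.posStr.IsLine u) ∧ (∀ u ∈ s', L'.posStr.IsLine u) ∧
        s.sum = f e ∧ s'.sum = f e' := by
  obtain ⟨L₁, hL₁, f₁, hf₁, s₁, hs₁, hsum₁⟩ := hC L hL e he
  obtain ⟨L₂, hL₂, f₂, hf₂, s₂, hs₂, hsum₂⟩ := hC L₁ hL₁ (f₁ e') (hf₁.pos_subset e' he')
  refine ⟨L₂, hL₂, f₂.comp f₁, IsExtension.comp' hf₁ hf₂, s₁.map f₂, s₂, ?_, hs₂, ?_, ?_⟩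
  · intro u hu
    obtain ⟨v, hv, rfl⟩ := Multiset.mem_map.mp hu
    exact isLine_map hf₂ (hs₁ v hv)
  · rw [RingHom.comp_apply, ← hsum₁, map_multiset_sum]
  · rw [RingHom.comp_apply, hsum₂]

end Groth.Agent.Helper5.Lam
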