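import Groth.Agent.Lib.Helper5.Lambda4

set_option autoImplicit false
universe u

namespace Groth.Agent.Helper5.Lam

open PowerSeries LambdaRing Finset

variable {K : Type u} [CommRing K] [LambdaOps K]

theorem adams_line_mul_lines (P : PosStructure K) (j : ℕ) {u : K} (hu : P.IsLine u) (s : Multiset K)
    (hs : ∀ v ∈ s, P.IsLine v) :
    adams P j (u * s.sum) = adams P j u * adams P j s.sum := by
  induction s using Multiset.induction_on with
  | empty => simp [adams_zero]
  | cons v t ih =>
    have hv : P.IsLine v := hs v (Multiset.mem_cons_self v t)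
    have ht : ∀ w ∈ t, P.IsLine w := fun w hw => hs w (Multiset.mem_cons_of_mem hw)
    rw [Multiset.sum_cons, mul_add, adams_add, adams_add, ih ht, adams_line P (isLine_mul P hu hv),
      adams_line P hu, adams_line P hv]
    ring

theorem adams_lines_mul_lines (P : PosStructure K) (j : ℕ) (s s' : Multiset K)
    (hs : ∀ v ∈ s, P.IsLine v) (hs' : ∀ v ∈ s', P.IsLine v) :
    adams P j (s.sum * s'.sum) = adams P j s.sum * adams P j s'.sum := by
  induction s using Multiset.induction_on with
  | empty => simp [adams_zero]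
  | cons v t ih =>
    have hv : P.IsLine v := hs v (Multiset.mem_cons_self v t)
    have ht : ∀ w ∈ t, P.IsLine w := fun w hw => hs w (Multiset.mem_cons_of_mem hw)
    rw [Multiset.sum_cons, add_mul, adams_add, adams_add, ih ht, adams_line_mul_lines P j hv s' hs']
    ring

theorem adams_mul_pos {C : Set PosLambdaRing.{u}} (hC : SplitClass C) (L : PosLambdaRing.{u}) (hL : L ∈ C)
    (j : ℕ) (e e' : L.carrier) (he : e ∈ L.posStr.pos) (he' : e' ∈ L.posStr.pos) :
    adams L.posStr j (e * e') = adams L.posStr j e * adams L.posStr j e' := by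
  obtain ⟨L', _, f, hf, s, s', hs, hs', hsum, hsum'⟩ := split_two hC L hL e e' he he'
  apply hf.injective
  rw [map_adams hf, map_mul, map_mul, map_adams hf, map_adams hf, ← hsum, ← hsum']
  exact adams_lines_mul_lines L'.posStr j s s' hs hs'

theorem adams_mul {C : Set PosLambdaRing.{u}} (hC : SplitClass C) (L : PosLambdaRing.{u}) (hL : L ∈ C)
    (j : ℕ) (x y : L.carrier) :
    adams L.posStr j (x * y) = adams L.posStr j x * adams L.posStr j y := by
  obtain ⟨e₁, e₂, he₁, he₂, rfl⟩ := L.posStr.exists_sub x
  obtain ⟨e₁', e₂', he₁', he₂', rfl⟩ := L.posStr.exists_sub y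
  have : (e₁ - e₂) * (e₁' - e₂') = e₁ * e₁' - e₁ * e₂' - e₂ * e₁' + e₂ * e₂' := by ring
  rw [this, adams_add, adams_sub, adams_sub, adams_sub, adams_sub,
    adams_mul_pos hC L hL j _ _ he₁ he₁', adams_mul_pos hC L hL j _ _ he₁ he₂',
    adams_mul_pos hC L hL j _ _ he₂ he₁', adams_mul_pos hC L hL j _ _ he₂ he₂']
  ring

theorem adams_one (P : PosStructure K) (j : ℕ) : adams P j (1 : K) = 1 := by
  rw [adams_line P (isLine_one P), one_pow]

theorem adams_adams_lines (P : PosStructure K) (i j : ℕ) (s : Multiset K) (hs : ∀ v ∈ s, P.IsLine v) :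
    adams P i (adams P j s.sum) = adams P (i * j) s.sum := by
  induction s using Multiset.induction_on with
  | empty => simp [adams_zero]
  | cons v t ih =>
    have hv : P.IsLine v := hs v (Multiset.mem_cons_self v t)
    have ht : ∀ w ∈ t, P.IsLine w := fun w hw => hs w (Multiset.mem_cons_of_mem hw)
    rw [Multiset.sum_cons, adams_add, adams_add, adams_add, ih ht, adams_line P hv,
      adams_line P (isLine_pow P hv j), adams_line P hv, ← pow_mul, mul_comm j i]

theorem adams_adams_pos {C : Set PosLambdaRing.{u}} (hC : SplitClass C) (L : PosLambdaRing.{u}) (hL : L ∈ C)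
    (i j : ℕ) (e : L.carrier) (he : e ∈ L.posStr.pos) :
    adams L.posStr i (adams L.posStr j e) = adams L.posStr (i * j) e := by
  obtain ⟨L', _, f, hf, s, hs, hsum⟩ := hC L hL e he
  apply hf.injective
  rw [map_adams hf, map_adams hf, map_adams hf, ← hsum]
  exact adams_adams_lines L'.posStr i j s hs

theorem adams_adams {C : Set PosLambdaRing.{u}} (hC : SplitClass C) (L : PosLambdaRing.{u}) (hL : L ∈ C)
    (i j : ℕ) (x : L.carrier) :
    adams L.posStr i (adams L.posStr j x) = adams L.posStr (i * j) x := by
  obtain ⟨e₁, e₂, he₁, he₂, rfl⟩ := L.posStr.exists_sub x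
  rw [adams_sub, adams_sub, adams_sub, adams_adams_pos hC L hL i j e₁ he₁,
    adams_adams_pos hC L hL i j e₂ he₂]

/-- lambda series of a sum of line elements -/
theorem lamSeries_lines (P : PosStructure K) (s : Multiset K) (hs : ∀ v ∈ s, P.IsLine v) :
    lamSeries s.sum = (s.map fun v => 1 + PowerSeries.C v * PowerSeries.X).prod := by
  induction s using Multiset.induction_on with
  | empty => simp [lamSeries_zero]
  | cons v t ih =>
    have hv : P.IsLine v := hs v (Multiset.mem_cons_self v t)
    have ht : ∀ w ∈ t, P.IsLine w := fun w hw => hs w (Multiset.mem_cons_of_mem hw)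
    rw [Multiset.sum_cons, lamSeries_add, ih ht, lamSeries_line P hv, Multiset.map_cons,
      Multiset.prod_cons]

theorem aug_lam_lines (P : PosStructure K) (s : Multiset K) (hs : ∀ v ∈ s, P.IsLine v) (i : ℕ) :
    P.aug (LambdaOps.lam i s.sum) = ((Multiset.card s).choose i : ℤ) := by
  have h1 : P.aug (LambdaOps.lam i s.sum) =
      PowerSeries.coeff i (PowerSeries.map P.aug (lamSeries s.sum)) := by
    rw [PowerSeries.coeff_map]
    simp [lamSeries]
  have h2 : PowerSeries.map P.aug (lamSeries s.sum) = (1 + PowerSeries.X) ^ (Multiset.card s) := by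
    rw [lamSeries_lines P s hs, map_multiset_prod, Multiset.map_map]
    have : ∀ v ∈ s, ((PowerSeries.map P.aug) ∘ fun v => 1 + PowerSeries.C v * PowerSeries.X) v =
        (1 + PowerSeries.X : PowerSeries ℤ) := by
      intro v hv
      simp only [Function.comp_apply, map_add, map_one, map_mul, PowerSeries.map_C, PowerSeries.map_X,
        (hs v hv).2]
      simp
    rw [Multiset.map_congr rfl this, Multiset.map_const', Multiset.prod_replicate]
  rw [h1, h2, add_comm]
  have h3 : ((PowerSeries.X + 1 : PowerSeries ℤ)) ^ (Multiset.card s) =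
      (((Polynomial.X + 1 : Polynomial ℤ) ^ (Multiset.card s) : Polynomial ℤ) : PowerSeries ℤ) := by
    simp
  rw [h3, Polynomial.coeff_coe, Polynomial.coeff_X_add_one_pow]
  
end Groth.Agent.Helper5.Lam
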