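import Mathlib.LinearAlgebra.FreeModule.PID
import Mathlib.LinearAlgebra.BilinearForm.Orthogonal
import Mathlib.LinearAlgebra.Matrix.ToLinearEquiv
import Mathlib.LinearAlgebra.Matrix.Adjugate
import Mathlib.LinearAlgebra.Dual.Defs

set_option autoImplicit false

namespace Groth.Agent.Helper5.Lattice

open Module

/-- a saturated sublattice is a direct summand: functionals extend -/
theorem exists_extension {L : Type} [AddCommGroup L] [Module.Finite ℤ L] [Module.Free ℤ L]
    (W : Submodule ℤ L) (hW : ∀ (c : ℤ) (x : L), c ≠ 0 → c • x ∈ W → x ∈ W)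
    (ψ : Module.Dual ℤ ↥W) : ∃ φ : Module.Dual ℤ L, φ ∘ₗ W.subtype = ψ := by
  have : Module.IsTorsionFree ℤ (L ⧸ W) := by
    constructor
    intro r hr x y hxy
    have hr0 : r ≠ 0 := hr.ne_zero
    induction x using Submodule.Quotient.induction_on with
    | H x =>
    induction y using Submodule.Quotient.induction_on with
    | H y =>
    simp only at hxy
    rw [← Submodule.Quotient.mk_smul, ← Submodule.Quotient.mk_smul, Submodule.Quotient.eq,
      ← smul_sub] at hxy
    rw [Submodule.Quotient.eq]
    exact hW r _ hr0 hxy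
  have : Module.Free ℤ (L ⧸ W) := Module.free_of_finite_type_torsion_free'
  obtain ⟨s, hs⟩ := Module.projective_lifting_property (Submodule.mkQ W)
    (LinearMap.id : (L ⧸ W) →ₗ[ℤ] (L ⧸ W)) (Submodule.mkQ_surjective W)
  have hmem : ∀ x : L, x - s (Submodule.mkQ W x) ∈ W := by
    intro x
    rw [← Submodule.Quotient.mk_eq_zero, Submodule.Quotient.mk_sub]
    have := congrArg (fun f => f (Submodule.mkQ W x)) hs
    simp only [LinearMap.comp_apply, LinearMap.id_apply] at this
    rw [← Submodule.mkQ_apply, ← Submodule.mkQ_apply, this, sub_self]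
  let r : L →ₗ[ℤ] ↥W :=
    { toFun := fun x => ⟨x - s (Submodule.mkQ W x), hmem x⟩
      map_add' := fun x y => by
        ext
        simp only [map_add, Submodule.coe_add]
        abel
      map_smul' := fun c x => by
        ext
        simp only [map_smul, RingHom.id_apply, Submodule.coe_smul, smul_sub] }
  refine ⟨ψ ∘ₗ r, ?_⟩
  ext w
  simp only [LinearMap.comp_apply, Submodule.subtype_apply]
  congr 1
  ext
  simp only [r, LinearMap.coe_mk, AddHom.coe_mk]
  have : Submodule.mkQ W (w : L) = 0 := by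
    rw [Submodule.mkQ_apply, Submodule.Quotient.mk_eq_zero]
    exact w.2
  rw [this, map_zero, sub_zero]

theorem exists_smul_eq_form {L : Type} [AddCommGroup L] [Module.Finite ℤ L] [Module.Free ℤ L]
    (B : LinearMap.BilinForm ℤ L) (hpos : ∀ x, x ≠ 0 → 0 < B x x)
    (A : Submodule ℤ L) (ψ : Module.Dual ℤ ↥A) :
    ∃ c : ℤ, c ≠ 0 ∧ ∃ a ∈ A, ∀ n : ↥A, B (n : L) a = c * ψ n := by
  classical
  have : IsNoetherian ℤ L := isNoetherian_of_isNoetherianRing_of_finite ℤ L
  have : Module.Finite ℤ ↥A := Module.IsNoetherian.finite ℤ ↥A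
  have : Module.Free ℤ ↥A := Module.free_of_finite_type_torsion_free'
  let b := Module.Free.chooseBasis ℤ ↥A
  let G : Matrix (Module.Free.ChooseBasisIndex ℤ ↥A) (Module.Free.ChooseBasisIndex ℤ ↥A) ℤ :=
    fun i j => B (b i : L) (b j : L)
  have hdet : G.det ≠ 0 := by
    intro h
    obtain ⟨v, hv, hGv⟩ := Matrix.exists_mulVec_eq_zero_iff.mpr h
    let a : ↥A := ∑ j, v j • b j
    have ha : a ≠ 0 := by
      intro ha0
      apply hv
      have := (Fintype.linearIndependent_iff.mp b.linearIndependent) v ha0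
      ext i
      exact this i
    have hBa : ∀ i, B (b i : L) (a : L) = 0 := by
      intro i
      have : (a : L) = ∑ j, v j • (b j : L) := by simp [a]
      rw [this, map_sum]
      have h2 := congrFun hGv i
      simp only [Matrix.mulVec, dotProduct, Pi.zero_apply] at h2
      rw [← h2]
      apply Finset.sum_congr rfl
      intro j _
      rw [map_smul, smul_eq_mul, mul_comm]
    have hBaa : B (a : L) (a : L) = 0 := by
      have : (a : L) = ∑ j, v j • (b j : L) := by simp [a]
      have e : B (a : L) = ∑ j, v j • B (b j : L) := by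
        rw [this, map_sum]
        simp only [map_smul]
      rw [e, LinearMap.sum_apply]
      apply Finset.sum_eq_zero
      intro j _
      rw [LinearMap.smul_apply, hBa, smul_zero]
    have ha' : (a : L) ≠ 0 := fun h0 => ha (Subtype.ext h0)
    have := hpos (a : L) ha'
    rw [hBaa] at this
    exact lt_irrefl _ this
  let w : Module.Free.ChooseBasisIndex ℤ ↥A → ℤ := fun i => ψ (b i)
  let u := G.adjugate.mulVec w
  let a : ↥A := ∑ j, u j • b j
  refine ⟨G.det, hdet, (a : L), a.2, ?_⟩
  have hkey : ∀ i, B (b i : L) (a : L) = G.det * ψ (b i) := by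
    intro i
    have ha : (a : L) = ∑ j, u j • (b j : L) := by simp [a]
    rw [ha, map_sum]
    have h1 : G.mulVec u = G.det • w := by
      simp only [u]
      rw [Matrix.mulVec_mulVec, Matrix.mul_adjugate, Matrix.smul_mulVec, Matrix.one_mulVec]
    have h2 := congrFun h1 i
    simp only [Matrix.mulVec, dotProduct, Pi.smul_apply] at h2
    rw [smul_eq_mul] at h2
    rw [← h2]
    apply Finset.sum_congr rfl
    intro j _
    rw [map_smul, smul_eq_mul, mul_comm]
  intro n
  have hn' : n = ∑ i, b.repr n i • b i := (b.sum_repr n).symm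
  have hn'' : (n : L) = ∑ i, b.repr n i • (b i : L) := by
    have h3 := congrArg (A.subtype) hn'
    rw [map_sum] at h3
    simp only [map_smul, Submodule.subtype_apply] at h3
    exact h3
  have hψ : ψ n = ∑ i, b.repr n i • ψ (b i) := by
    conv_lhs => rw [hn']
    rw [map_sum]
    simp only [map_smul]
  rw [hn'', map_sum, LinearMap.sum_apply, hψ, Finset.mul_sum]
  apply Finset.sum_congr rfl
  intro i _
  rw [map_smul, LinearMap.smul_apply, hkey, smul_eq_mul, smul_eq_mul]
  ring

theorem exists_smul_sub_mem_orthogonal {L : Type} [AddCommGroup L] [Module.Finite ℤ L] [Module.Free ℤ L]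
    (B : LinearMap.BilinForm ℤ L) (hpos : ∀ x, x ≠ 0 → 0 < B x x)
    (A : Submodule ℤ L) (x : L) : ∃ c : ℤ, c ≠ 0 ∧ ∃ a ∈ A, c • x - a ∈ B.orthogonal A := by
  obtain ⟨c, hc, a, ha, h⟩ := exists_smul_eq_form B hpos A ((B.flip x) ∘ₗ A.subtype)
  refine ⟨c, hc, a, ha, ?_⟩
  rw [LinearMap.BilinForm.mem_orthogonal_iff]
  intro n hn
  change B n (c • x - a) = 0
  have := h ⟨n, hn⟩
  have h2 : (B.flip x ∘ₗ A.subtype) ⟨n, hn⟩ = B n x := rfl
  rw [h2] at this
  rw [map_sub, map_smul, this, smul_eq_mul, sub_self]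

end Groth.Agent.Helper5.Lattice
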