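import Mathlib
import Groth.Agent.Lib.Helper5.MorseA
import Groth.Agent.Lib.Helper5.MorseB

/-! Formal Morse lemma, part 1: the quadratic part, linear forms and the linear solution operator. -/

set_option autoImplicit false
universe u
open MvPowerSeries Finsupp

namespace Groth.Agent.Helper5.Morse

variable {k : Type u} [Field k] {n : ℕ}

/-- The quadratic part of a power series, as a polynomial. -/
noncomputable def quadPart (f : MvPowerSeries (Fin n) k) : MvPolynomial (Fin n) k :=
  MvPolynomial.homogeneousComponent 2 (MvPowerSeries.truncTotal 3 f)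

theorem coeff_quadPart (f : MvPowerSeries (Fin n) k) (m : Fin n →₀ ℕ) :
    MvPolynomial.coeff m (quadPart f) = if m.degree = 2 then coeff m f else 0 := by
  unfold quadPart
  rw [MvPolynomial.coeff_homogeneousComponent, coeff_truncTotal_eq_ite]
  by_cases h : m.degree = 2
  · rw [if_pos h, if_pos h, if_pos (by omega)]
  · rw [if_neg h, if_neg h]

theorem quadPart_isHomogeneous (f : MvPowerSeries (Fin n) k) : (quadPart f).IsHomogeneous 2 :=
  MvPolynomial.homogeneousComponent_isHomogeneous 2 _

theorem three_le_order_sub (f : MvPowerSeries (Fin n) k) (hf0 : constantCoeff f = 0)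
    (hf1 : ∀ i, coeff (single i 1) f = 0) :
    (3 : ℕ∞) ≤ (f - (quadPart f : MvPowerSeries (Fin n) k)).order := by
  have : ((3 : ℕ) : ℕ∞) ≤ (f - (quadPart f : MvPowerSeries (Fin n) k)).order := by
    apply nat_le_order
    intro m hm
    rw [map_sub, MvPolynomial.coeff_coe, coeff_quadPart]
    by_cases h2 : m.degree = 2
    · rw [if_pos h2, sub_self]
    · rw [if_neg h2, sub_zero]
      have h01 : m.degree = 0 ∨ m.degree = 1 := by omega
      rcases h01 with h0 | h1
      · rw [Finsupp.degree_eq_zero_iff] at h0
        subst h0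
        exact hf0
      · obtain ⟨i, m', rfl, hm'⟩ := exists_add_single_of_degree_succ m 0 h1
        rw [Finsupp.degree_eq_zero_iff] at hm'
        subst hm'
        rw [zero_add]
        exact hf1 i
  exact_mod_cast this

theorem coeff_single_eq_zero_of_pderiv_mem (f : MvPowerSeries (Fin n) k) (i : Fin n)
    (h : MvPowerSeries.pderiv k i f ∈ IsLocalRing.maximalIdeal (MvPowerSeries (Fin n) k)) :
    coeff (single i 1) f = 0 := by
  rw [IsLocalRing.mem_maximalIdeal, mem_nonunits_iff, MvPowerSeries.isUnit_iff_constantCoeff] at h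
  have h0 : constantCoeff (MvPowerSeries.pderiv k i f) = 0 := by
    by_contra hne
    exact h (isUnit_iff_ne_zero.mpr hne)
  rw [← coeff_zero_eq_constantCoeff_apply, coeff_pderiv] at h0
  simpa using h0

/-- The derivative lowers the order by at most one. -/
theorem le_order_pderiv (g : MvPowerSeries (Fin n) k) (i : Fin n) (d : ℕ)
    (hg : ((d + 1 : ℕ) : ℕ∞) ≤ g.order) : (d : ℕ∞) ≤ (MvPowerSeries.pderiv k i g).order := by
  apply nat_le_order
  intro m hm
  rw [coeff_pderiv, coeff_eq_zero_of_le_order hg, zero_mul]
  rw [map_add, degree_single]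
  omega

/-- The linear forms `∂_i q`. -/
noncomputable def L (f : MvPowerSeries (Fin n) k) (i : Fin n) : MvPowerSeries (Fin n) k :=
  ((MvPolynomial.pderiv i (quadPart f) : MvPolynomial (Fin n) k) : MvPowerSeries (Fin n) k)

theorem coeff_L_eq_zero (f : MvPowerSeries (Fin n) k) (i : Fin n) (m : Fin n →₀ ℕ)
    (hm : m.degree ≠ 1) : coeff m (L f i) = 0 := by
  unfold L
  rw [MvPolynomial.coeff_coe, MvPolynomial.coeff_pderiv, coeff_quadPart, if_neg, zero_mul]
  rw [map_add, degree_single]
  omega

theorem one_le_order_L (f : MvPowerSeries (Fin n) k) (i : Fin n) : (1 : ℕ∞) ≤ (L f i).order := by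
  have : ((1 : ℕ) : ℕ∞) ≤ (L f i).order := by
    apply nat_le_order
    intro m hm
    exact coeff_L_eq_zero f i m (by omega)
  exact_mod_cast this

theorem pderiv_sub_L (f : MvPowerSeries (Fin n) k) (i : Fin n) :
    MvPowerSeries.pderiv k i f - L f i =
      MvPowerSeries.pderiv k i (f - (quadPart f : MvPowerSeries (Fin n) k)) := by
  unfold L
  rw [map_sub, pderiv_coe]

/-- The coefficient matrix expressing the variables through the linear forms. -/
theorem exists_coeffs (f : MvPowerSeries (Fin n) k) (hf0 : constantCoeff f = 0)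
    (hJ : Ideal.span (Set.range fun i : Fin n => MvPowerSeries.pderiv k i f) =
      IsLocalRing.maximalIdeal (MvPowerSeries (Fin n) k)) :
    ∃ c : Fin n → Fin n → k, ∀ j, (X j : MvPowerSeries (Fin n) k) = ∑ i, C (c j i) * L f i := by
  classical
  have hf1 : ∀ i, coeff (single i 1) f = 0 := fun i =>
    coeff_single_eq_zero_of_pderiv_mem f i (by
      rw [← hJ]; exact Ideal.subset_span ⟨i, rfl⟩)
  have h3 := three_le_order_sub f hf0 hf1
  have hr : ∀ i, (2 : ℕ∞) ≤ (MvPowerSeries.pderiv k i f - L f i).order := by
    intro i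
    rw [pderiv_sub_L]
    have := le_order_pderiv (f - (quadPart f : MvPowerSeries (Fin n) k)) i 2
      (by exact_mod_cast h3)
    exact_mod_cast this
  have hX : ∀ j, ∃ a : Fin n → MvPowerSeries (Fin n) k,
      ∑ i, a i * MvPowerSeries.pderiv k i f = X j := by
    intro j
    have hmem : (X j : MvPowerSeries (Fin n) k) ∈
        Ideal.span (Set.range fun i : Fin n => MvPowerSeries.pderiv k i f) := by
      rw [hJ, IsLocalRing.mem_maximalIdeal, mem_nonunits_iff,
        MvPowerSeries.isUnit_iff_constantCoeff]
      rw [show constantCoeff (X j : MvPowerSeries (Fin n) k) = 0 from coeff_zero_X j]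
      exact not_isUnit_zero
    exact Ideal.mem_span_range_iff_exists_fun.mp hmem
  choose a ha using hX
  refine ⟨fun j i => constantCoeff (a j i), fun j => ?_⟩
  rw [← sub_eq_zero]
  set W := (X j : MvPowerSeries (Fin n) k) - ∑ i, C (constantCoeff (a j i)) * L f i with hW
  have hWeq : W = ∑ i, ((a j i - C (constantCoeff (a j i))) * L f i +
      a j i * (MvPowerSeries.pderiv k i f - L f i)) := by
    rw [hW, ← ha j, ← Finset.sum_sub_distrib]
    apply Finset.sum_congr rfl
    intro i _
    ring
  have hW2 : (2 : ℕ∞) ≤ W.order := by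
    rw [hWeq]
    apply le_order_sum'
    intro i _
    apply le_order_add'
    · have h1 : (1 : ℕ∞) ≤ (a j i - C (constantCoeff (a j i))).order := by
        rw [one_le_order_iff_constCoeff_eq_zero]
        simp
      have := le_order_mul' h1 (one_le_order_L f i)
      exact le_trans (by norm_num) this
    · exact le_order_mul_left' (hr i)
  ext m
  rw [map_zero]
  by_cases hm : m.degree = 1
  · exact coeff_eq_zero_of_le_order (d := 2) (by exact_mod_cast hW2) m (by omega)
  · rw [hW, map_sub, map_sum]
    have h1 : coeff m (X j : MvPowerSeries (Fin n) k) = 0 := by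
      rw [coeff_X, if_neg]
      rintro rfl
      exact hm (degree_single j 1)
    have h2 : ∀ i, coeff m (C (constantCoeff (a j i)) * L f i) = 0 := by
      intro i
      rw [coeff_C_mul, coeff_L_eq_zero f i m hm, mul_zero]
    simp [h1, h2]

end Groth.Agent.Helper5.Morse
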