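import Mathlib
import Groth.Agent.Lib.Helper5.MorseC

/-! Formal Morse lemma, part 2: the fixed point iteration. -/

set_option autoImplicit false
universe u
open MvPowerSeries Finsupp

namespace Groth.Agent.Helper5.Morse

variable {k : Type u} [Field k] {n : ℕ}


/-- The linear solution operator: `∑ L_i E_i(g) = g`. -/
noncomputable def E (c : Fin n → Fin n → k) (i : Fin n) : MvPowerSeries (Fin n) k →ₗ[k] MvPowerSeries (Fin n) k :=
  ∑ j, c j i • D j

theorem E_apply (c : Fin n → Fin n → k) (i : Fin n) (g : MvPowerSeries (Fin n) k) :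
    E c i g = ∑ j, C (c j i) * D j g := by
  simp [E, LinearMap.sum_apply, smul_eq_C_mul]

theorem le_order_E (c : Fin n → Fin n → k) (i : Fin n) (g : MvPowerSeries (Fin n) k) (d : ℕ)
    (hg : ((d + 1 : ℕ) : ℕ∞) ≤ g.order) : (d : ℕ∞) ≤ (E c i g).order := by
  rw [E_apply]
  apply le_order_sum'
  intro j _
  exact le_order_mul_left' (le_order_D j g d hg)

theorem sum_L_mul_E (f : MvPowerSeries (Fin n) k) (c : Fin n → Fin n → k)
    (hc : ∀ j, (X j : MvPowerSeries (Fin n) k) = ∑ i, C (c j i) * L f i) (g : MvPowerSeries (Fin n) k) (hg : constantCoeff g = 0) :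
    ∑ i, L f i * E c i g = g := by
  conv_rhs => rw [← sum_X_mul_D g hg]
  simp only [E_apply, Finset.mul_sum]
  rw [Finset.sum_comm]
  apply Finset.sum_congr rfl
  intro j _
  rw [hc j, Finset.sum_mul]
  apply Finset.sum_congr rfl
  intro i _
  ring

section Aeval

variable (q : MvPolynomial (Fin n) k)

theorem le_order_aeval_two (hq : q.IsHomogeneous 2) (ε : Fin n → MvPowerSeries (Fin n) k) (d : ℕ∞)
    (hε : ∀ i, d ≤ (ε i).order) : d + d ≤ (MvPolynomial.aeval ε q).order := by
  rw [← q.support_sum_monomial_coeff, map_sum]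
  apply le_order_sum'
  intro m hm
  have hdeg : m.degree = 2 := by
    have := hq (MvPolynomial.mem_support_iff.mp hm)
    rwa [Finsupp.degree_eq_weight_one]
  obtain ⟨i, j, rfl⟩ := exists_of_degree_two m hdeg
  have hmon : (MvPolynomial.monomial (single i 1 + single j 1) (MvPolynomial.coeff
      (single i 1 + single j 1) q) : MvPolynomial (Fin n) k) =
      MvPolynomial.C (MvPolynomial.coeff (single i 1 + single j 1) q) *
        MvPolynomial.X i * MvPolynomial.X j := by
    rw [MvPolynomial.X, MvPolynomial.X, MvPolynomial.C_mul_monomial, MvPolynomial.monomial_mul,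
      mul_one, mul_one]
  rw [hmon, map_mul, map_mul, MvPolynomial.aeval_X, MvPolynomial.aeval_X, mul_assoc]
  exact le_order_mul_left' (le_order_mul' (hε i) (hε j))

theorem le_order_aeval_one (p : MvPolynomial (Fin n) k) (hp : p.IsHomogeneous 1) (ε : Fin n → MvPowerSeries (Fin n) k)
    (d : ℕ∞) (hε : ∀ i, d ≤ (ε i).order) : d ≤ (MvPolynomial.aeval ε p).order := by
  rw [← p.support_sum_monomial_coeff, map_sum]
  apply le_order_sum'
  intro m hm
  have hdeg : m.degree = 1 := by
    have := hp (MvPolynomial.mem_support_iff.mp hm)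
    rwa [Finsupp.degree_eq_weight_one]
  obtain ⟨i, m', rfl, hm'⟩ := exists_add_single_of_degree_succ m 0 hdeg
  rw [Finsupp.degree_eq_zero_iff] at hm'
  subst hm'
  rw [zero_add]
  have hmon : (MvPolynomial.monomial (single i 1) (MvPolynomial.coeff (single i 1) p) :
      MvPolynomial (Fin n) k) = MvPolynomial.C (MvPolynomial.coeff (single i 1) p) *
        MvPolynomial.X i := by
    rw [MvPolynomial.X, MvPolynomial.C_mul_monomial, mul_one]
  rw [hmon, map_mul, MvPolynomial.aeval_X]
  exact le_order_mul_left' (hε i)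

/-- The difference `q(ε') - q(ε)` has large order when `ε' - ε` does. -/
theorem le_order_aeval_sub (hq : q.IsHomogeneous 2) (ε ε' : Fin n → MvPowerSeries (Fin n) k)
    (hε : ∀ i, (2 : ℕ∞) ≤ (ε i).order) (d : ℕ) (hd : 2 ≤ d)
    (hδ : ∀ i, (d : ℕ∞) ≤ (ε' i - ε i).order) :
    ((d + 2 : ℕ) : ℕ∞) ≤ (MvPolynomial.aeval ε' q - MvPolynomial.aeval ε q).order := by
  have hε' : ε' = ε + (ε' - ε) := by abel
  rw [hε', aeval_add_of_isHomogeneous_two ε (ε' - ε) q hq]
  have : MvPolynomial.aeval ε q + ∑ l, MvPolynomial.aeval ε (MvPolynomial.pderiv l q) *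
      (ε' - ε) l + MvPolynomial.aeval (ε' - ε) q - MvPolynomial.aeval ε q =
      ∑ l, MvPolynomial.aeval ε (MvPolynomial.pderiv l q) * (ε' - ε) l +
        MvPolynomial.aeval (ε' - ε) q := by ring
  rw [this]
  apply le_order_add'
  · apply le_order_sum'
    intro l _
    have h1 := le_order_aeval_one (MvPolynomial.pderiv l q) hq.pderiv ε 2 hε
    have h2 := le_order_mul' h1 (hδ l)
    refine le_trans ?_ h2
    push_cast
    rw [add_comm]
  · have h1 := le_order_aeval_two q hq (ε' - ε) d hδ
    refine le_trans ?_ h1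
    have : d + 2 ≤ d + d := by omega
    exact_mod_cast this

end Aeval

section Iter

variable (f : MvPowerSeries (Fin n) k) (c : Fin n → Fin n → k)

/-- The contraction. -/
noncomputable def T (ε : Fin n → MvPowerSeries (Fin n) k) : Fin n → MvPowerSeries (Fin n) k := fun i =>
  E c i ((f - (quadPart f : MvPowerSeries (Fin n) k)) - MvPolynomial.aeval ε (quadPart f))

theorem T_sub (ε ε' : Fin n → MvPowerSeries (Fin n) k) (i : Fin n) :
    T f c ε' i - T f c ε i =
      - E c i (MvPolynomial.aeval ε' (quadPart f) - MvPolynomial.aeval ε (quadPart f)) := by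
  unfold T
  rw [← map_sub, ← map_neg]
  congr 1
  ring


theorem two_le_order_T (h3 : (3 : ℕ∞) ≤ (f - (quadPart f : MvPowerSeries (Fin n) k)).order) (ε : Fin n → MvPowerSeries (Fin n) k) (hε : ∀ i, (2 : ℕ∞) ≤ (ε i).order) (i : Fin n) :
    (2 : ℕ∞) ≤ (T f c ε i).order := by
  unfold T
  have h4 := le_order_aeval_two (quadPart f) (quadPart_isHomogeneous f) ε 2 hε
  have : ((2 + 1 : ℕ) : ℕ∞) ≤
      ((f - (quadPart f : MvPowerSeries (Fin n) k)) - MvPolynomial.aeval ε (quadPart f)).order := by
    apply le_order_sub'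
    · exact_mod_cast h3
    · refine le_trans ?_ h4
      norm_num
  exact_mod_cast le_order_E c i _ 2 this

theorem le_order_T_sub (ε ε' : Fin n → MvPowerSeries (Fin n) k) (hε : ∀ i, (2 : ℕ∞) ≤ (ε i).order) (d : ℕ)
    (hd : 2 ≤ d) (hδ : ∀ i, (d : ℕ∞) ≤ (ε' i - ε i).order) (i : Fin n) :
    ((d + 1 : ℕ) : ℕ∞) ≤ (T f c ε' i - T f c ε i).order := by
  rw [T_sub, order_neg]
  exact le_order_E c i _ (d + 1)
    (le_order_aeval_sub (quadPart f) (quadPart_isHomogeneous f) ε ε' hε d hd hδ)

/-- The iterates. -/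
noncomputable def iter : ℕ → Fin n → MvPowerSeries (Fin n) k
  | 0 => fun _ => 0
  | t + 1 => T f c (iter t)

theorem iter_succ (t : ℕ) : iter f c (t + 1) = T f c (iter f c t) := rfl

theorem two_le_order_iter (h3 : (3 : ℕ∞) ≤ (f - (quadPart f : MvPowerSeries (Fin n) k)).order) (t : ℕ) (i : Fin n) : (2 : ℕ∞) ≤ (iter f c t i).order := by
  induction t generalizing i with
  | zero => simp [iter]
  | succ t ih => exact two_le_order_T f c h3 _ ih i

theorem le_order_iter_succ_sub (h3 : (3 : ℕ∞) ≤ (f - (quadPart f : MvPowerSeries (Fin n) k)).order) (t : ℕ) (i : Fin n) :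
    ((t + 2 : ℕ) : ℕ∞) ≤ (iter f c (t + 1) i - iter f c t i).order := by
  induction t generalizing i with
  | zero =>
    have : iter f c (0 + 1) i - iter f c 0 i = T f c (iter f c 0) i := by
      simp [iter]
    rw [this]
    exact_mod_cast two_le_order_T f c h3 _ (two_le_order_iter f c h3 0) i
  | succ t ih =>
    rw [iter_succ f c (t + 1), iter_succ f c t]
    have := le_order_T_sub f c (iter f c t) (iter f c (t + 1)) (two_le_order_iter f c h3 t)
      (t + 2) (by omega) ih i
    exact_mod_cast this

theorem le_order_iter_sub (h3 : (3 : ℕ∞) ≤ (f - (quadPart f : MvPowerSeries (Fin n) k)).order) (r s : ℕ) (hrs : r ≤ s) (i : Fin n) :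
    ((r + 2 : ℕ) : ℕ∞) ≤ (iter f c s i - iter f c r i).order := by
  induction s, hrs using Nat.le_induction with
  | base => simp
  | succ s hrs ih =>
    have : iter f c (s + 1) i - iter f c r i =
        (iter f c (s + 1) i - iter f c s i) + (iter f c s i - iter f c r i) := by ring
    rw [this]
    apply le_order_add' _ ih
    refine le_trans ?_ (le_order_iter_succ_sub f c h3 s i)
    have : r + 2 ≤ s + 2 := by omega
    exact_mod_cast this

/-- The limit. -/
noncomputable def lim : Fin n → MvPowerSeries (Fin n) k := fun i m => coeff m (iter f c m.degree i)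

theorem coeff_lim (i : Fin n) (m : Fin n →₀ ℕ) :
    coeff m (lim f c i) = coeff m (iter f c m.degree i) := rfl

theorem le_order_lim_sub (h3 : (3 : ℕ∞) ≤ (f - (quadPart f : MvPowerSeries (Fin n) k)).order) (t : ℕ) (i : Fin n) :
    ((t + 2 : ℕ) : ℕ∞) ≤ (lim f c i - iter f c t i).order := by
  apply nat_le_order
  intro m hm
  rw [map_sub, coeff_lim, ← map_sub]
  rcases le_or_gt m.degree t with hle | hgt
  · have := le_order_iter_sub f c h3 m.degree t hle i
    have h0 := coeff_eq_zero_of_le_order this m (by omega)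
    rw [map_sub] at h0 ⊢
    rw [← neg_sub, h0, neg_zero]
  · have := le_order_iter_sub f c h3 t m.degree hgt.le i
    exact coeff_eq_zero_of_le_order this m hm

theorem two_le_order_lim (h3 : (3 : ℕ∞) ≤ (f - (quadPart f : MvPowerSeries (Fin n) k)).order) (i : Fin n) : (2 : ℕ∞) ≤ (lim f c i).order := by
  have h1 := le_order_lim_sub f c h3 0 i
  have h2 := two_le_order_iter f c h3 0 i
  have : lim f c i = (lim f c i - iter f c 0 i) + iter f c 0 i := by ring
  rw [this]
  exact le_order_add' (by exact_mod_cast h1) h2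

theorem T_lim (h3 : (3 : ℕ∞) ≤ (f - (quadPart f : MvPowerSeries (Fin n) k)).order) : T f c (lim f c) = lim f c := by
  funext i
  rw [← sub_eq_zero]
  apply eq_zero_of_forall_le_order
  intro d
  have hsplit : T f c (lim f c) i - lim f c i =
      (T f c (lim f c) i - T f c (iter f c d) i) - (lim f c i - iter f c (d + 1) i) := by
    rw [iter_succ]; ring
  rw [hsplit]
  apply le_order_sub'
  · have := le_order_T_sub f c (iter f c d) (lim f c) (two_le_order_iter f c h3 d) (d + 2)
      (by omega) (fun i => le_order_lim_sub f c h3 d i) i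
    refine le_trans ?_ this
    have : d ≤ d + 2 + 1 := by omega
    exact_mod_cast this
  · refine le_trans ?_ (le_order_lim_sub f c h3 (d + 1) i)
    have : d ≤ d + 1 + 2 := by omega
    exact_mod_cast this

end Iter

/-- The formal Morse lemma. -/
theorem morse (f : MvPowerSeries (Fin n) k) (hf0 : constantCoeff f = 0)
    (hJ : Ideal.span (Set.range fun i : Fin n => MvPowerSeries.pderiv k i f) =
      IsLocalRing.maximalIdeal (MvPowerSeries (Fin n) k)) :
    ∃ (ε : Fin n → MvPowerSeries (Fin n) k), (∀ i, (2 : ℕ∞) ≤ (ε i).order) ∧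
      f = MvPolynomial.aeval (fun i : Fin n => (X i : MvPowerSeries (Fin n) k) + ε i) (quadPart f) := by
  classical
  have hf1 : ∀ i, coeff (single i 1) f = 0 := fun i =>
    coeff_single_eq_zero_of_pderiv_mem f i (by
      rw [← hJ]; exact Ideal.subset_span ⟨i, rfl⟩)
  have h3 := three_le_order_sub f hf0 hf1
  obtain ⟨c, hc⟩ := exists_coeffs f hf0 hJ
  refine ⟨lim f c, two_le_order_lim f c h3, ?_⟩
  have hfix := T_lim f c h3
  have h2 := two_le_order_lim f c h3
  -- `∑ L_i ε_i = h - q(ε)`
  set g := (f - (quadPart f : MvPowerSeries (Fin n) k)) - MvPolynomial.aeval (lim f c) (quadPart f) with hg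
  have hg0 : constantCoeff g = 0 := by
    rw [← one_le_order_iff_constCoeff_eq_zero]
    apply le_order_sub'
    · exact le_trans (by norm_num) h3
    · have h4 := le_order_aeval_two (quadPart f) (quadPart_isHomogeneous f) (lim f c) 2 h2
      exact le_trans (by norm_num) h4
  have hsum : ∑ i, L f i * lim f c i = g := by
    have := sum_L_mul_E f c hc g hg0
    have hE : ∀ i, E c i g = lim f c i := fun i => congrFun hfix i
    simpa only [hE] using this
  have hX : ∀ p : MvPolynomial (Fin n) k,
      MvPolynomial.aeval (fun i : Fin n => (X i : MvPowerSeries (Fin n) k)) p = (p : MvPowerSeries (Fin n) k) := by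
    intro p
    have : MvPolynomial.aeval (fun i : Fin n => (X i : MvPowerSeries (Fin n) k)) =
        MvPolynomial.coeToMvPowerSeries.algHom (R := k) k := by
      apply MvPolynomial.algHom_ext
      intro i
      simp
    rw [this]
    simp
  have htaylor := aeval_add_of_isHomogeneous_two (fun i : Fin n => (X i : MvPowerSeries (Fin n) k)) (lim f c)
    (quadPart f) (quadPart_isHomogeneous f)
  have hfun : (fun i : Fin n => (X i : MvPowerSeries (Fin n) k) + lim f c i) = (fun i : Fin n => (X i : MvPowerSeries (Fin n) k)) + lim f c :=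
    rfl
  rw [hfun, htaylor, hX]
  have hL : ∀ l, MvPolynomial.aeval (fun i : Fin n => (X i : MvPowerSeries (Fin n) k))
      (MvPolynomial.pderiv l (quadPart f)) = L f l := fun l => hX _
  simp only [hL, hsum, hg]
  ring

end Groth.Agent.Helper5.Morse
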