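import Mathlib

/-! Hensel's lemma for not necessarily monic polynomials over adically complete rings
(the proof is Mathlib's proof of `IsAdicComplete.henselianRing`, which never uses monicity),
and perturbation of simple roots in one-dimensional complete local domains. -/

set_option autoImplicit false
set_option linter.style.haveILetI false

namespace Groth.Agent.Helper5.NewtonRoot

open Polynomial IsLocalRing Function List
open scoped Ring

theorem exists_root_of_isAdicComplete (R : Type*) [CommRing R] (I : Ideal R)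
    [IsAdicComplete I R] (f : R[X]) (a₀ : R) (h₁ : f.eval a₀ ∈ I)
    (h₂ : IsUnit (Ideal.Quotient.mk I (f.derivative.eval a₀))) :
    ∃ a : R, f.IsRoot a ∧ a - a₀ ∈ I := by
  classical
    let f' := derivative f
    -- we define a sequence `c n` by starting at `a₀` and then continually
    -- applying the function sending `b` to `b - f(b)/f'(b)` (Newton's method).
    -- Note that `f'.eval b` is a unit, because `b` has the same residue as `a₀` modulo `I`.
    let c : ℕ → R := fun n => Nat.recOn n a₀ fun _ b => b - f.eval b * (f'.eval b)⁻¹ʳ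
    have hc : ∀ n, c (n + 1) = c n - f.eval (c n) * (f'.eval (c n))⁻¹ʳ := by
      intro n
      simp only [c]
    -- we now spend some time determining properties of the sequence `c : ℕ → R`
    -- `hc_mod`: for every `n`, we have `c n ≡ a₀ [SMOD I]`
    -- `hf'c`  : for every `n`, `f'.eval (c n)` is a unit
    -- `hfcI`  : for every `n`, `f.eval (c n)` is contained in `I ^ (n+1)`
    have hc_mod : ∀ n, c n ≡ a₀ [SMOD I] := by
      intro n
      induction n with
      | zero => rfl
      | succ n ih => ?_
      rw [hc, sub_eq_add_neg, ← add_zero a₀]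
      refine ih.add ?_
      rw [SModEq.zero, Ideal.neg_mem_iff]
      refine I.mul_mem_right _ ?_
      rw [← SModEq.zero] at h₁ ⊢
      exact (ih.eval f).trans h₁
    have hf'c : ∀ n, IsUnit (f'.eval (c n)) := by
      intro n
      have := isLocalHom_of_le_jacobson_bot I (IsAdicComplete.le_jacobson_bot I)
      apply IsUnit.of_map (Ideal.Quotient.mk I)
      convert! h₂ using 1
      exact SModEq.def.mp ((hc_mod n).eval _)
    have hfcI : ∀ n, f.eval (c n) ∈ I ^ (n + 1) := by
      intro n
      induction n with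
      | zero => simpa only [Nat.rec_zero, zero_add, pow_one] using! h₁
      | succ n ih => ?_
      rw [← taylor_eval_sub (c n), hc, sub_eq_add_neg, sub_eq_add_neg,
        add_neg_cancel_comm]
      rw [eval_eq_sum, sum_over_range' _ _ _ (lt_add_of_pos_right _ zero_lt_two), ←
        Finset.sum_range_add_sum_Ico _ (Nat.le_add_left _ _)]
      swap
      · intro i
        rw [zero_mul]
      refine Ideal.add_mem _ ?_ ?_
      · rw [← one_add_one_eq_two, Finset.sum_range_succ, Finset.range_one, Finset.sum_singleton,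
          taylor_coeff_zero, taylor_coeff_one, pow_zero, pow_one, mul_one, mul_neg,
          mul_left_comm, Ring.mul_inverse_cancel _ (hf'c n), mul_one, add_neg_cancel]
        exact Ideal.zero_mem _
      · refine Submodule.sum_mem _ ?_
        simp only [Finset.mem_Ico]
        rintro i ⟨h2i, _⟩
        have aux : n + 2 ≤ i * (n + 1) := by trans 2 * (n + 1) <;> nlinarith only [h2i]
        refine Ideal.mul_mem_left _ _ (Ideal.pow_le_pow_right aux ?_)
        rw [pow_mul']
        exact Ideal.pow_mem_pow ((Ideal.neg_mem_iff _).2 <| Ideal.mul_mem_right _ _ ih) _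
    -- we are now in the position to show that `c : ℕ → R` is a Cauchy sequence
    have aux : ∀ m n, m ≤ n → c m ≡ c n [SMOD (I ^ m • ⊤ : Ideal R)] := by
      intro m n hmn
      rw [← Ideal.one_eq_top, Ideal.smul_eq_mul, mul_one]
      obtain ⟨k, rfl⟩ := Nat.exists_eq_add_of_le hmn
      clear hmn
      induction k with
      | zero => rw [add_zero]
      | succ k ih => ?_
      rw [← add_assoc, hc, ← add_zero (c m), sub_eq_add_neg]
      refine ih.add ?_
      symm
      rw [SModEq.zero, Ideal.neg_mem_iff]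
      refine Ideal.mul_mem_right _ _ (Ideal.pow_le_pow_right ?_ (hfcI _))
      rw [add_assoc]
      exact le_self_add
    -- hence the sequence converges to some limit point `a`, which is the `a` we are looking for
    obtain ⟨a, ha⟩ := IsPrecomplete.prec' c (aux _ _)
    refine ⟨a, ?_, ?_⟩
    · show f.IsRoot a
      suffices ∀ n, f.eval a ≡ 0 [SMOD (I ^ n • ⊤ : Ideal R)] by exact IsHausdorff.haus' _ this
      intro n
      specialize ha n
      rw [← Ideal.one_eq_top, Ideal.smul_eq_mul, mul_one] at ha ⊢
      refine (ha.symm.eval f).trans ?_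
      rw [SModEq.zero]
      exact Ideal.pow_le_pow_right le_self_add (hfcI _)
    · show a - a₀ ∈ I
      specialize ha (0 + 1)
      rw [hc, pow_one, ← Ideal.one_eq_top, Ideal.smul_eq_mul, mul_one, sub_eq_add_neg] at ha
      rw [← SModEq.sub_mem, ← add_zero a₀]
      refine ha.symm.trans (SModEq.rfl.add ?_)
      rw [SModEq.zero, Ideal.neg_mem_iff]
      exact Ideal.mul_mem_right _ _ h₁


lemma isUnit_one_add {A : Type*} [CommRing A] [IsLocalRing A] {z : A} (hz : z ∈ maximalIdeal A) :
    IsUnit (1 + z) := by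
  by_contra h
  have h1 : 1 + z ∈ maximalIdeal A := (mem_maximalIdeal _).mpr h
  have h2 : (1 : A) ∈ maximalIdeal A := by
    have := Ideal.sub_mem _ h1 hz
    rwa [add_sub_cancel_right] at this
  exact (Ideal.ne_top_iff_one _).mp (IsLocalRing.maximalIdeal.isMaximal A).ne_top h2

theorem exists_pow_le_span_singleton (A : Type*) [CommRing A] [IsDomain A] [IsLocalRing A]
    [IsNoetherianRing A] (hdim : ringKrullDim A = 1) (d : A) (hd : d ≠ 0) :
    ∃ N, maximalIdeal A ^ N ≤ Ideal.span {d} := by
  haveI : Ring.KrullDimLE 1 A := Ring.krullDimLE_iff.mpr (le_of_eq hdim)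
  apply Ideal.exists_pow_le_of_le_radical_of_fg _ (IsNoetherian.noetherian _)
  rw [Ideal.radical_eq_sInf]
  apply le_sInf
  rintro p ⟨hdp, hp⟩
  have hpne : p ≠ ⊥ := by
    rintro rfl
    exact hd (by simpa using hdp (Ideal.subset_span rfl))
  have := hp.isMaximal_of_ne_bot hpne
  rw [IsLocalRing.eq_maximalIdeal this]

theorem exists_root_perturb (A : Type*) [CommRing A] [IsDomain A] [IsLocalRing A]
    [IsNoetherianRing A] [IsAdicComplete (maximalIdeal A) A] (hdim : ringKrullDim A = 1)
    (P : A[X]) (α : A) (hα : P.eval α = 0) (hα' : (derivative P).eval α ≠ 0) (c : ℕ) :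
    ∃ n : ℕ, ∀ Q : A[X], (∀ i, Q.coeff i ∈ maximalIdeal A ^ n) →
      ∃ β : A, (P + Q).eval β = 0 ∧ β - α ∈ maximalIdeal A ^ c := by
  set d := (derivative P).eval α with hd
  obtain ⟨N, hN⟩ := exists_pow_le_span_singleton A hdim d hα'
  refine ⟨2 * N + c + 1, fun Q hQ => ?_⟩
  set m := maximalIdeal A with hm
  have hev : ∀ (R : A[X]), (∀ i, R.coeff i ∈ m ^ (2 * N + c + 1)) →
      R.eval α ∈ m ^ (2 * N + c + 1) := by
    intro R hR
    rw [Polynomial.eval_eq_sum_range]
    exact Ideal.sum_mem _ (fun i _ => Ideal.mul_mem_right _ _ (hR i))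
  have hQα := hev Q hQ
  have hQ'α : (derivative Q).eval α ∈ m ^ (2 * N + c + 1) := hev _ (fun i => by
    rw [Polynomial.coeff_derivative]
    exact Ideal.mul_mem_right _ _ (hQ (i + 1)))
  have h1 : m ^ (2 * N + c + 1) ≤ Ideal.span {d} * m := by
    calc m ^ (2 * N + c + 1) = m ^ N * m ^ (N + c) * m := by
          rw [← pow_add, ← pow_succ]; congr 1; ring
      _ ≤ Ideal.span {d} * ⊤ * m := Ideal.mul_mono (Ideal.mul_mono hN le_top) le_rfl
      _ = Ideal.span {d} * m := by rw [Ideal.mul_top]
  obtain ⟨μ, hμ, hμe⟩ := Ideal.mem_span_singleton_mul.mp (h1 hQ'α)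
  have h2 : m ^ (2 * N + c + 1) ≤ Ideal.span {d} * (Ideal.span {d} * m ^ (c + 1)) := by
    calc m ^ (2 * N + c + 1) = m ^ N * (m ^ N * m ^ (c + 1)) := by
          rw [← pow_add, ← pow_add]; congr 1; ring
      _ ≤ _ := Ideal.mul_mono hN (Ideal.mul_mono hN le_rfl)
  obtain ⟨e1, he1, he1e⟩ := Ideal.mem_span_singleton_mul.mp (h2 hQα)
  obtain ⟨e0, he0, he0e⟩ := Ideal.mem_span_singleton_mul.mp he1
  obtain ⟨u, hu⟩ := isUnit_one_add hμ
  set F := P + Q with hF
  set d' := d * (1 + μ) with hd'
  have hF' : (derivative F).eval α = d' := by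
    rw [hF, derivative_add, eval_add, ← hd, ← hμe, hd']; ring
  set e := e0 * ((↑u⁻¹ : A)) ^ 2 with he
  have hFα : F.eval α = d' ^ 2 * e := by
    rw [hF, eval_add, hα, zero_add, ← he1e, ← he0e, hd', he, ← hu]
    have : (u : A) * (↑u⁻¹ : A) = 1 := Units.mul_inv u
    linear_combination (-(d * d * e0 * (1 + (u : A) * (↑u⁻¹ : A)))) * this
  have hem : e ∈ m ^ (c + 1) := Ideal.mul_mem_right _ _ he0
  set T := taylor α F with hT
  set M := T.natDegree with hM
  let G : A[X] := ∑ k ∈ Finset.range (M + 1), monomial k (T.coeff (k + 2) * d' ^ k)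
  let H : A[X] := C e + X + X ^ 2 * G
  have key : ∀ y, F.eval (α + d' * y) = d' ^ 2 * H.eval y := by
    intro y
    have h0 : F.eval (α + d' * y) = T.eval (d' * y) := by rw [hT, Polynomial.taylor_eval, add_comm]
    rw [h0, Polynomial.eval_eq_sum_range' (n := M + 1 + 2) (by omega), Finset.sum_range_succ',
      Finset.sum_range_succ']
    simp only [H, G, eval_add, eval_mul, eval_C, eval_X, eval_pow, eval_finsetSum, eval_monomial]
    have hc0 : T.coeff 0 = d' ^ 2 * e := by rw [hT, taylor_coeff_zero, hFα]
    have hc1 : T.coeff 1 = d' := by rw [hT, taylor_coeff_one, hF']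
    have hsum : ∑ k ∈ Finset.range (M + 1), T.coeff (k + 1 + 1) * (d' * y) ^ (k + 1 + 1) =
        d' ^ 2 * (y ^ 2 * ∑ k ∈ Finset.range (M + 1), T.coeff (k + 2) * d' ^ k * y ^ k) := by
      rw [Finset.mul_sum, Finset.mul_sum]
      apply Finset.sum_congr rfl
      intro k _
      ring
    rw [hsum, zero_add, hc0, hc1]
    ring
  have hH0 : H.eval 0 = e := by simp [H]
  have hH'0 : (derivative H).eval 0 = 1 := by simp [H]
  obtain ⟨y, hy, hym⟩ := exists_root_of_isAdicComplete A m H 0
    (by rw [hH0]; exact Ideal.pow_le_self (by omega) hem) (by rw [hH'0, map_one]; exact isUnit_one)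
  rw [sub_zero] at hym
  refine ⟨α + d' * y, ?_, ?_⟩
  · rw [key, hy.eq_zero, mul_zero]
  · have hyy : y * (1 + y * G.eval y) = - e := by
      have := hy.eq_zero
      simp only [H, eval_add, eval_mul, eval_C, eval_X, eval_pow] at this
      linear_combination this
    obtain ⟨v, hv⟩ := isUnit_one_add (Ideal.mul_mem_right (G.eval y) _ hym)
    have hy' : y = - e * (↑v⁻¹ : A) := by
      rw [← hyy, ← hv, mul_assoc, Units.mul_inv, mul_one]
    have : y ∈ m ^ c := by
      rw [hy']
      exact Ideal.mul_mem_right _ _ (neg_mem (Ideal.pow_le_pow_right (Nat.le_succ c) hem))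
    rw [add_sub_cancel_left]
    exact Ideal.mul_mem_left _ _ this

end Groth.Agent.Helper5.NewtonRoot
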