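import Mathlib

/-! Freeness over a ring with nilpotent ideal detected on a jointly injective family. -/

set_option autoImplicit false
set_option linter.style.haveILetI false

namespace Groth.Agent.Helper5.NilFree

open TensorProduct

universe u

section Nak

variable {A : Type*} [CommRing A] {M : Type*} [AddCommGroup M] [Module A M]

lemma eq_top_of_sup_smul_eq_top (J : Ideal A) (hJ : IsNilpotent J) (N : Submodule A M)
    (h : N ⊔ J • (⊤ : Submodule A M) = ⊤) : N = ⊤ := by
  obtain ⟨n, hn⟩ := hJ
  have key : ∀ k : ℕ, N ⊔ J ^ k • (⊤ : Submodule A M) = ⊤ := by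
    intro k
    induction k with
    | zero => simp
    | succ k ih =>
      rw [eq_top_iff]
      calc (⊤ : Submodule A M) = N ⊔ J • (⊤ : Submodule A M) := h.symm
        _ = N ⊔ J • (N ⊔ J ^ k • (⊤ : Submodule A M)) := by rw [ih]
        _ = N ⊔ (J • N ⊔ J • J ^ k • (⊤ : Submodule A M)) := by rw [Submodule.smul_sup]
        _ ≤ N ⊔ J ^ (k + 1) • (⊤ : Submodule A M) := by
          rw [← Submodule.mul_smul, ← pow_succ']
          exact sup_le le_sup_left (sup_le (le_trans Submodule.smul_le_right le_sup_left)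
            le_sup_right)
  have := key n
  rwa [hn, Submodule.zero_eq_bot, Submodule.bot_smul, sup_bot_eq] at this

lemma eq_bot_of_le_smul (J : Ideal A) (hJ : IsNilpotent J) (K : Submodule A M)
    (h : K ≤ J • K) : K = ⊥ := by
  obtain ⟨n, hn⟩ := hJ
  have key : ∀ k : ℕ, K ≤ J ^ k • K := by
    intro k
    induction k with
    | zero => simp
    | succ k ih =>
      calc K ≤ J • K := h
        _ ≤ J • (J ^ k • K) := Submodule.smul_mono le_rfl ih
        _ = J ^ (k + 1) • K := by rw [← Submodule.mul_smul, ← pow_succ']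
  have := key n
  rw [hn, Submodule.zero_eq_bot, Submodule.bot_smul] at this
  exact le_bot_iff.mp this

end Nak

lemma ker_subtype_lTensor_injective {B : Type*} [CommRing B] {F P : Type*} [AddCommGroup F]
    [Module B F] [AddCommGroup P] [Module B P] [Module.Flat B P] (Ψ : F →ₗ[B] P)
    (hsurj : Function.Surjective Ψ) (Q : Type*) [AddCommGroup Q] [Module B Q] :
    Function.Injective ((LinearMap.ker Ψ).subtype.lTensor Q) :=
  LinearMap.lTensor_injective_of_exact_of_flat Ψ hsurj (LinearMap.ker Ψ).subtype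
      (Submodule.injective_subtype _) (LinearMap.exact_subtype_ker_map Ψ) Q

variable {A : Type u} [CommRing A] (J : Ideal A) (hJ : IsNilpotent J)
  (M : Type u) [AddCommGroup M] [Module A M]

omit hJ in
theorem surjective_linearCombination_baseChange {I : Type*} (b : I → M)
    (hspan : Submodule.span A (Set.range b) = ⊤) (B : Type u) [CommRing B] [Algebra A B] :
    Function.Surjective (Finsupp.linearCombination B (fun j => (1 : B) ⊗ₜ[A] b j)) := by
  classical
  set Ψ : (I →₀ B) →ₗ[B] B ⊗[A] M := Finsupp.linearCombination B (fun j => (1 : B) ⊗ₜ[A] b j)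
    with hΨ
  rw [← LinearMap.range_eq_top, eq_top_iff]
  rintro z -
  induction z using TensorProduct.induction_on with
  | zero => exact zero_mem _
  | add x y hx hy => exact add_mem hx hy
  | tmul β m =>
    have hm : m ∈ Submodule.span A (Set.range b) := hspan ▸ Submodule.mem_top
    induction hm using Submodule.span_induction with
    | mem x hx =>
      obtain ⟨j, rfl⟩ := hx
      refine ⟨Finsupp.single j β, ?_⟩
      rw [hΨ, Finsupp.linearCombination_single, TensorProduct.smul_tmul', smul_eq_mul, mul_one]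
    | zero => rw [TensorProduct.tmul_zero]; exact zero_mem _
    | add x y _ _ hx hy => rw [TensorProduct.tmul_add]; exact add_mem hx hy
    | smul a x _ hx =>
      rw [TensorProduct.tmul_smul]
      exact Submodule.smul_of_tower_mem _ a hx

/-- the key step: injectivity after base change to `B`. -/
theorem injective_linearCombination_baseChange
    (hJ : IsNilpotent J) {I : Type*} (bas : Module.Basis I (A ⧸ J) ((A ⧸ J) ⊗[A] M))
    (b : I → M) (hb : ∀ j, (1 : A ⧸ J) ⊗ₜ[A] b j = bas j)
    (hspan : Submodule.span A (Set.range b) = ⊤)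
    (B : Type u) [CommRing B] [Algebra A B] [Module.Flat B (B ⊗[A] M)] :
    Function.Injective (Finsupp.linearCombination B (fun j => (1 : B) ⊗ₜ[A] b j)) := by
  classical
  set Ψ : (I →₀ B) →ₗ[B] B ⊗[A] M := Finsupp.linearCombination B (fun j => (1 : B) ⊗ₜ[A] b j)
    with hΨ
  set JB : Ideal B := J.map (algebraMap A B) with hJB
  have hJBnil : IsNilpotent JB := by
    obtain ⟨n, hn⟩ := hJ
    exact ⟨n, by rw [hJB, ← Ideal.map_pow, hn]; simp⟩
  have hsurj : Function.Surjective Ψ := surjective_linearCombination_baseChange M b hspan B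
  -- the reduction map θ
  let ρ : M →ₗ[A] (I →₀ A ⧸ J) :=
    (bas.repr.toLinearMap.restrictScalars A) ∘ₗ (TensorProduct.mk A (A ⧸ J) M 1)
  have hρ : ∀ j, ρ (b j) = Finsupp.single j 1 := by
    intro j
    simp only [ρ, LinearMap.comp_apply, TensorProduct.mk_apply, LinearMap.restrictScalars_apply,
      LinearEquiv.coe_coe, hb, Module.Basis.repr_self]
  let q : (A ⧸ J) →ₗ[A] (B ⧸ JB) :=
    (Ideal.quotientMapₐ JB (Algebra.ofId A B) (by
      rw [hJB]; exact Ideal.le_comap_map)).toLinearMap
  have hq1 : q 1 = 1 := map_one (Ideal.quotientMapₐ JB (Algebra.ofId A B) Ideal.le_comap_map)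
  let ρ' : M →ₗ[A] (I →₀ B ⧸ JB) := (Finsupp.mapRange.linearMap q) ∘ₗ ρ
  have hρ' : ∀ j, ρ' (b j) = Finsupp.single j 1 := by
    intro j
    simp only [ρ', LinearMap.comp_apply, hρ, Finsupp.mapRange.linearMap_apply,
      Finsupp.mapRange_single, hq1]
  let θ : B ⊗[A] M →ₗ[B] (I →₀ B ⧸ JB) := LinearMap.liftBaseChange B ρ'
  have hθΨ : ∀ w : I →₀ B, θ (Ψ w) = Finsupp.mapRange (Ideal.Quotient.mk JB) (map_zero _) w := by
    intro w
    induction w using Finsupp.induction_linear with
    | zero => simp
    | add x y hx hy => rw [map_add, map_add, hx, hy, Finsupp.mapRange_add (by simp)]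
    | single j β =>
      rw [hΨ, Finsupp.linearCombination_single, map_smul, LinearMap.liftBaseChange_tmul, one_smul,
        hρ', Finsupp.mapRange_single, Finsupp.smul_single, Algebra.smul_def, mul_one]
      rfl
  -- kernel
  set K := LinearMap.ker Ψ with hK
  have hKle : K ≤ JB • K := by
    intro w hw
    have hw0 : Ψ w = 0 := hw
    have h1 : Finsupp.mapRange (Ideal.Quotient.mk JB) (map_zero _) w = 0 := by
      rw [← hθΨ, hw0, map_zero]
    have h2 : ∀ j, w j ∈ JB := by
      intro j
      have := DFunLike.congr_fun h1 j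
      rw [Finsupp.mapRange_apply, Finsupp.zero_apply] at this
      exact Ideal.Quotient.eq_zero_iff_mem.mp this
    have h3 : w ∈ JB • (⊤ : Submodule B (I →₀ B)) := by
      rw [← Finsupp.sum_single w]
      apply Submodule.sum_mem
      intro j _
      have : Finsupp.single j (w j) = (w j) • (Finsupp.single j 1 : I →₀ B) := by
        rw [Finsupp.smul_single, smul_eq_mul, mul_one]
      rw [this]
      exact Submodule.smul_mem_smul (h2 j) Submodule.mem_top
    have hinjQ := ker_subtype_lTensor_injective Ψ hsurj (B ⧸ JB)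
    have h4 : (K.subtype.lTensor (B ⧸ JB)) ((1 : B ⧸ JB) ⊗ₜ[B] (⟨w, hw⟩ : K)) = 0 := by
      rw [LinearMap.lTensor_tmul, Submodule.subtype_apply]
      apply (TensorProduct.quotTensorEquivQuotSMul (I →₀ B) JB).injective
      rw [TensorProduct.quotTensorEquivQuotSMul_mk_one_tmul, map_zero,
        Submodule.Quotient.mk_eq_zero]
      exact h3
    have h5 : (1 : B ⧸ JB) ⊗ₜ[B] (⟨w, hw⟩ : K) = 0 := hinjQ (h4.trans (map_zero _).symm)
    have h6 := congrArg (TensorProduct.quotTensorEquivQuotSMul K JB) h5
    rw [TensorProduct.quotTensorEquivQuotSMul_mk_one_tmul, map_zero,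
      Submodule.Quotient.mk_eq_zero] at h6
    have h7 : K.subtype ⟨w, hw⟩ ∈ Submodule.map K.subtype (JB • (⊤ : Submodule B K)) :=
      Submodule.mem_map_of_mem h6
    rw [Submodule.map_smul'', Submodule.map_top, Submodule.range_subtype] at h7
    exact h7
  have hK0 : K = ⊥ := eq_bot_of_le_smul JB hJBnil K hKle
  exact LinearMap.ker_eq_bot.mp hK0

omit hJ in
lemma exists_one_tmul (z : (A ⧸ J) ⊗[A] M) : ∃ m : M, (1 : A ⧸ J) ⊗ₜ[A] m = z := by
  induction z using TensorProduct.induction_on with
  | zero => exact ⟨0, by simp⟩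
  | tmul a m =>
    obtain ⟨a, rfl⟩ := Ideal.Quotient.mk_surjective a
    refine ⟨a • m, ?_⟩
    rw [TensorProduct.tmul_smul, TensorProduct.smul_tmul']
    congr 1
    rw [Algebra.smul_def, mul_one]
    rfl
  | add x y hx hy =>
    obtain ⟨m, rfl⟩ := hx
    obtain ⟨m', rfl⟩ := hy
    exact ⟨m + m', TensorProduct.tmul_add _ _ _⟩

theorem span_eq_top_of_lift (hJ : IsNilpotent J) {I : Type*}
    (bas : Module.Basis I (A ⧸ J) ((A ⧸ J) ⊗[A] M))
    (b : I → M) (hb : ∀ j, (1 : A ⧸ J) ⊗ₜ[A] b j = bas j) :
    Submodule.span A (Set.range b) = ⊤ := by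
  classical
  apply eq_top_of_sup_smul_eq_top J hJ
  rw [eq_top_iff]
  rintro m -
  set cb := bas.repr ((1 : A ⧸ J) ⊗ₜ[A] m) with hcb
  let m' : M := cb.sum fun j c => (Quotient.out c : A) • b j
  have hm' : m' ∈ Submodule.span A (Set.range b) := by
    apply Submodule.sum_mem
    intro j _
    exact Submodule.smul_mem _ _ (Submodule.subset_span ⟨j, rfl⟩)
  have h1 : (1 : A ⧸ J) ⊗ₜ[A] m' = (1 : A ⧸ J) ⊗ₜ[A] m := by
    have h2 : (1 : A ⧸ J) ⊗ₜ[A] m' = cb.sum fun j c => c • bas j := by
      simp only [m', Finsupp.sum, TensorProduct.tmul_sum]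
      refine Finset.sum_congr rfl fun j _ => ?_
      rw [TensorProduct.tmul_smul, hb, ← algebraMap_smul (A ⧸ J) (Quotient.out (cb j)) (bas j)]
      congr 1
      exact Ideal.Quotient.mk_out _
    rw [h2]
    exact bas.linearCombination_repr _
  have h3 : m - m' ∈ J • (⊤ : Submodule A M) := by
    have h4 : (1 : A ⧸ J) ⊗ₜ[A] (m - m') = 0 := by
      rw [TensorProduct.tmul_sub, h1, sub_self]
    have h5 := congrArg (TensorProduct.quotTensorEquivQuotSMul M J) h4
    rw [map_zero] at h5
    rw [TensorProduct.quotTensorEquivQuotSMul_mk_one_tmul, Submodule.Quotient.mk_eq_zero] at h5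
    exact h5
  have : m = m' + (m - m') := by abel
  rw [this]
  exact Submodule.add_mem_sup hm' h3

theorem free_of_family (hJ : IsNilpotent J) {ι : Type u} (B : ι → Type u) [∀ i, CommRing (B i)]
    [∀ i, Algebra A (B i)]
    (hB : ∀ a : A, (∀ i, algebraMap A (B i) a = 0) → a = 0)
    (hfree : ∀ i, Module.Free (B i) (B i ⊗[A] M))
    (hfreeJ : Module.Free (A ⧸ J) ((A ⧸ J) ⊗[A] M)) :
    Module.Free A M := by
  classical
  let bas := Module.Free.chooseBasis (A ⧸ J) ((A ⧸ J) ⊗[A] M)
  choose b hb using fun j => exists_one_tmul J M (bas j)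
  have hspan : Submodule.span A (Set.range b) = ⊤ := span_eq_top_of_lift J M hJ bas b hb
  let Φ := Finsupp.linearCombination A b
  have hsurj : Function.Surjective Φ := by
    rw [← LinearMap.range_eq_top, Finsupp.range_linearCombination, hspan]
  have hinj : Function.Injective Φ := by
    rw [injective_iff_map_eq_zero]
    intro z hz
    ext j
    rw [Finsupp.zero_apply]
    apply hB
    intro i
    haveI := hfree i
    have hΨ := injective_linearCombination_baseChange J M hJ bas b hb hspan (B i)
    let w := Finsupp.mapRange (algebraMap A (B i)) (map_zero _) z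
    have hw : Finsupp.linearCombination (B i) (fun j => (1 : B i) ⊗ₜ[A] b j) w = 0 := by
      have h1 : Finsupp.linearCombination (B i) (fun j => (1 : B i) ⊗ₜ[A] b j) w =
          (1 : B i) ⊗ₜ[A] (Φ z) := by
        simp only [w, Φ, Finsupp.linearCombination_apply]
        rw [Finsupp.sum_mapRange_index (by simp), Finsupp.sum, Finsupp.sum, TensorProduct.tmul_sum]
        refine Finset.sum_congr rfl fun j _ => ?_
        rw [algebraMap_smul, TensorProduct.tmul_smul]
      rw [h1, hz, TensorProduct.tmul_zero]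
    have hw0 : w = 0 := hΨ (hw.trans (map_zero _).symm)
    have := DFunLike.congr_fun hw0 j
    simpa [w] using this
  exact Module.Free.of_equiv (LinearEquiv.ofBijective Φ ⟨hinj, hsurj⟩)

end Groth.Agent.Helper5.NilFree
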