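import Mathlib
import Groth.Agent.Lib.Helper5.NilFree

/-! The least ideal modulo which a module (free mod a nilpotent ideal) becomes free/flat. -/

set_option autoImplicit false
set_option linter.style.haveILetI false

namespace Groth.Agent.Helper5.NilFree

open TensorProduct

universe u

variable {A : Type u} [CommRing A] (J : Ideal A) (M : Type u) [AddCommGroup M] [Module A M]

lemma ker_lTensor_exact {R : Type*} [CommRing R] {F P : Type*} [AddCommGroup F] [Module R F]
    [AddCommGroup P] [Module R P] (Φ : F →ₗ[R] P) (hsurj : Function.Surjective Φ)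
    (Q : Type*) [AddCommGroup Q] [Module R Q] :
    Function.Exact ((LinearMap.ker Φ).subtype.lTensor Q) (Φ.lTensor Q) :=
  lTensor_exact Q (LinearMap.exact_subtype_ker_map Φ) hsurj

/-- the ideal of coordinates of relations -/
def relIdeal {I : Type*} (b : I → M) : Ideal A :=
  Ideal.span {a | ∃ z ∈ LinearMap.ker (Finsupp.linearCombination A b), ∃ j, z j = a}

variable {M}

lemma linearCombination_mapRange {I : Type*} (b : I → M) (B : Type u) [CommRing B] [Algebra A B]
    (z : I →₀ A) :
    Finsupp.linearCombination B (fun j => (1 : B) ⊗ₜ[A] b j)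
      (Finsupp.mapRange (algebraMap A B) (map_zero _) z) =
      (1 : B) ⊗ₜ[A] (Finsupp.linearCombination A b z) := by
  simp only [Finsupp.linearCombination_apply]
  rw [Finsupp.sum_mapRange_index (by simp), Finsupp.sum, Finsupp.sum, TensorProduct.tmul_sum]
  refine Finset.sum_congr rfl fun j _ => ?_
  rw [algebraMap_smul, TensorProduct.tmul_smul]

variable (M)

theorem flat_iff_free_iff (hJ : IsNilpotent J) {I : Type u}
    (bas : Module.Basis I (A ⧸ J) ((A ⧸ J) ⊗[A] M))
    (b : I → M) (hb : ∀ j, (1 : A ⧸ J) ⊗ₜ[A] b j = bas j)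
    (B : Type u) [CommRing B] [Algebra A B] :
    (Module.Flat B (B ⊗[A] M) → Ideal.map (algebraMap A B) (relIdeal M b) = ⊥) ∧
    (Ideal.map (algebraMap A B) (relIdeal M b) = ⊥ → Module.Free B (B ⊗[A] M)) := by
  classical
  have hspan := span_eq_top_of_lift J M hJ bas b hb
  set Φ := Finsupp.linearCombination A b with hΦ
  set Ψ := Finsupp.linearCombination B (fun j => (1 : B) ⊗ₜ[A] b j) with hΨ
  have hΨsurj : Function.Surjective Ψ := surjective_linearCombination_baseChange M b hspan B
  constructor
  · intro hflat
    have hinj := injective_linearCombination_baseChange J M hJ bas b hb hspan B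
    rw [Ideal.map_eq_bot_iff_le_ker, relIdeal, Ideal.span_le]
    rintro _ ⟨z, hz, j, rfl⟩
    have hz0 : Φ z = 0 := hz
    have h1 : Ψ (Finsupp.mapRange (algebraMap A B) (map_zero _) z) = 0 := by
      rw [hΨ, linearCombination_mapRange, ← hΦ, hz0, TensorProduct.tmul_zero]
    have h2 := hinj (h1.trans (map_zero _).symm)
    have h3 := DFunLike.congr_fun h2 j
    simpa using h3
  · intro hmap
    have hkill : ∀ z ∈ LinearMap.ker Φ, ∀ j, algebraMap A B (z j) = 0 := by
      intro z hz j
      have : z j ∈ relIdeal M b := Ideal.subset_span ⟨z, hz, j, rfl⟩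
      have h1 := Ideal.mem_map_of_mem (algebraMap A B) this
      rwa [hmap, Ideal.mem_bot] at h1
    have hΦsurj : Function.Surjective Φ := by
      rw [← LinearMap.range_eq_top, hΦ, Finsupp.range_linearCombination, hspan]
    let e := TensorProduct.finsuppScalarRight A B B I
    have hΨe : ∀ t : B ⊗[A] (I →₀ A), Ψ (e t) = (Φ.lTensor B) t := by
      intro t
      induction t using TensorProduct.induction_on with
      | zero => simp
      | add x y hx hy => rw [map_add, map_add, map_add, hx, hy]
      | tmul β z =>
        rw [LinearMap.lTensor_tmul]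
        induction z using Finsupp.induction_linear with
        | zero => simp
        | add x y hx hy => rw [TensorProduct.tmul_add, map_add, map_add, hx, hy, map_add,
            TensorProduct.tmul_add]
        | single j a =>
          rw [TensorProduct.finsuppScalarRight_apply_tmul, Finsupp.sum_single_index (by simp),
            hΨ, Finsupp.linearCombination_single, hΦ, Finsupp.linearCombination_single,
            TensorProduct.tmul_smul, smul_assoc, TensorProduct.smul_tmul', smul_eq_mul, mul_one]
    have hex := ker_lTensor_exact Φ hΦsurj B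
    have hΨinj : Function.Injective Ψ := by
      rw [injective_iff_map_eq_zero]
      intro w hw
      obtain ⟨t, rfl⟩ := e.surjective w
      rw [hΨe] at hw
      obtain ⟨t', rfl⟩ := (hex t).mp hw
      -- every element of the image has zero coordinates
      have : ∀ t' : B ⊗[A] (LinearMap.ker Φ),
          e ((LinearMap.ker Φ).subtype.lTensor B t') = 0 := by
        intro t'
        induction t' using TensorProduct.induction_on with
        | zero => simp
        | add x y hx hy => rw [map_add, map_add, hx, hy, add_zero]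
        | tmul β z =>
          rw [LinearMap.lTensor_tmul, Submodule.subtype_apply]
          ext j
          rw [TensorProduct.finsuppScalarRight_apply_tmul_apply, Finsupp.zero_apply,
            Algebra.smul_def, hkill z.1 z.2 j, zero_mul]
      exact this t'
    exact Module.Free.of_equiv (LinearEquiv.ofBijective Ψ ⟨hΨinj, hΨsurj⟩)

theorem exists_least_ideal (hJ : IsNilpotent J)
    (hfree : Module.Free (A ⧸ J) ((A ⧸ J) ⊗[A] M)) :
    ∃ R₀ : Ideal A,
      IsLeast {R : Ideal A | Module.Free (A ⧸ R) ((A ⧸ R) ⊗[A] M)} R₀ ∧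
      IsLeast {R : Ideal A | Module.Flat (A ⧸ R) ((A ⧸ R) ⊗[A] M)} R₀ ∧
      ∀ (A' : Type u) [CommRing A'] [Algebra A A'],
        (Module.Free A' (A' ⊗[A] M) ↔ Ideal.map (algebraMap A A') R₀ = ⊥) ∧
        (Module.Flat A' (A' ⊗[A] M) ↔ Ideal.map (algebraMap A A') R₀ = ⊥) := by
  let bas := Module.Free.chooseBasis (A ⧸ J) ((A ⧸ J) ⊗[A] M)
  choose b hb using fun j => exists_one_tmul J M (bas j)
  have key := fun (B : Type u) [CommRing B] [Algebra A B] =>
    flat_iff_free_iff J M hJ bas b hb B
  have hfreeiff : ∀ (A' : Type u) [CommRing A'] [Algebra A A'],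
      (Module.Free A' (A' ⊗[A] M) ↔ Ideal.map (algebraMap A A') (relIdeal M b) = ⊥) := by
    intro A' _ _
    exact ⟨fun h => (key A').1 inferInstance, (key A').2⟩
  have hflatiff : ∀ (A' : Type u) [CommRing A'] [Algebra A A'],
      (Module.Flat A' (A' ⊗[A] M) ↔ Ideal.map (algebraMap A A') (relIdeal M b) = ⊥) := by
    intro A' _ _
    exact ⟨(key A').1, fun h => by haveI := (key A').2 h; infer_instance⟩
  have hquot : ∀ R : Ideal A, Ideal.map (algebraMap A (A ⧸ R)) (relIdeal M b) = ⊥ ↔
      relIdeal M b ≤ R := by
    intro R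
    rw [Ideal.map_eq_bot_iff_le_ker, Ideal.Quotient.algebraMap_eq, Ideal.mk_ker]
  refine ⟨relIdeal M b, ⟨?_, ?_⟩, ⟨?_, ?_⟩, fun A' _ _ => ⟨hfreeiff A', hflatiff A'⟩⟩
  · exact (hfreeiff _).mpr ((hquot _).mpr le_rfl)
  · intro R hR
    exact (hquot R).mp ((hfreeiff _).mp hR)
  · exact (hflatiff _).mpr ((hquot _).mpr le_rfl)
  · intro R hR
    exact (hquot R).mp ((hflatiff _).mp hR)

end Groth.Agent.Helper5.NilFree
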