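import Mathlib

/-! The ideal generated by values of derivations; invariance; derivations on quotients. -/

set_option autoImplicit false
set_option linter.style.haveILetI false

namespace Groth.Agent.Helper5.NodeDer

variable (A : Type*) [CommRing A]

/-- the ideal generated by all values of `A`-derivations `B → B`. -/
def dIdeal (B : Type*) [CommRing B] [Algebra A B] : Ideal B :=
  Ideal.span {z | ∃ (D : Derivation A B B) (b : B), z = D b}

variable {A}

/-- transport of a derivation along an algebra isomorphism -/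
noncomputable def conjDer {B B' : Type*} [CommRing B] [Algebra A B] [CommRing B'] [Algebra A B']
    (φ : B ≃ₐ[A] B') (D : Derivation A B B) : Derivation A B' B' :=
  Derivation.mk' (φ.toLinearMap ∘ₗ D.toLinearMap ∘ₗ φ.symm.toLinearMap) (by
    intro a b
    simp only [LinearMap.comp_apply, AlgEquiv.toLinearMap_apply, Derivation.coeFn_coe, map_mul,
      Derivation.leibniz, map_add, smul_eq_mul, AlgEquiv.apply_symm_apply])

lemma conjDer_apply {B B' : Type*} [CommRing B] [Algebra A B] [CommRing B'] [Algebra A B']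
    (φ : B ≃ₐ[A] B') (D : Derivation A B B) (b : B) :
    conjDer φ D (φ b) = φ (D b) := by
  simp [conjDer, Derivation.mk']

lemma map_dIdeal_le {B B' : Type*} [CommRing B] [Algebra A B] [CommRing B'] [Algebra A B']
    (φ : B ≃ₐ[A] B') : (dIdeal A B).map (φ : B →+* B') ≤ dIdeal A B' := by
  rw [dIdeal, Ideal.map_span, Ideal.span_le]
  rintro _ ⟨_, ⟨D, b, rfl⟩, rfl⟩
  apply Ideal.subset_span
  exact ⟨conjDer φ D, φ b, (conjDer_apply φ D b).symm⟩

theorem comap_dIdeal_eq {B B' : Type*} [CommRing B] [Algebra A B] [CommRing B'] [Algebra A B']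
    (φ : B ≃ₐ[A] B') :
    (dIdeal A B).comap (algebraMap A B) = (dIdeal A B').comap (algebraMap A B') := by
  ext a
  simp only [Ideal.mem_comap]
  constructor
  · intro h
    have := map_dIdeal_le φ (Ideal.mem_map_of_mem (φ : B →+* B') h)
    simpa using this
  · intro h
    have := map_dIdeal_le φ.symm (Ideal.mem_map_of_mem (φ.symm : B' →+* B) h)
    simpa using this

/-- the linear map underlying the quotient derivation -/
noncomputable def quotLin {S : Type*} [CommRing S] [Algebra A S] (D : Derivation A S S)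
    (I : Ideal S) (h : ∀ s ∈ I, D s ∈ I) : (S ⧸ I) →ₗ[A] (S ⧸ I) :=
  ((I.restrictScalars A).liftQ ((Ideal.Quotient.mkₐ A I).toLinearMap ∘ₗ D.toLinearMap) (by
        intro s hs
        simp only [LinearMap.mem_ker, LinearMap.comp_apply, Derivation.coeFn_coe,
          AlgHom.toLinearMap_apply, Ideal.Quotient.mkₐ_eq_mk]
        exact Ideal.Quotient.eq_zero_iff_mem.mpr (h s hs))) ∘ₗ
      (Submodule.Quotient.restrictScalarsEquiv A I).symm.toLinearMap

lemma quotLin_mk {S : Type*} [CommRing S] [Algebra A S] (D : Derivation A S S)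
    (I : Ideal S) (h : ∀ s ∈ I, D s ∈ I) (s : S) :
    quotLin D I h (Ideal.Quotient.mk I s) = Ideal.Quotient.mk I (D s) := by
  have : (Ideal.Quotient.mk I s) = (Submodule.Quotient.mk s : S ⧸ I) := rfl
  rw [quotLin, LinearMap.comp_apply, LinearEquiv.coe_coe, this,
    Submodule.Quotient.restrictScalarsEquiv_symm_mk, Submodule.liftQ_apply]
  rfl

/-- a derivation preserving an ideal descends to the quotient -/
noncomputable def quotDer {S : Type*} [CommRing S] [Algebra A S] (D : Derivation A S S)
    (I : Ideal S) (h : ∀ s ∈ I, D s ∈ I) : Derivation A (S ⧸ I) (S ⧸ I) :=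
  Derivation.mk' (quotLin D I h) (by
    intro a b
    obtain ⟨a, rfl⟩ := Ideal.Quotient.mk_surjective a
    obtain ⟨b, rfl⟩ := Ideal.Quotient.mk_surjective b
    rw [← map_mul, quotLin_mk, quotLin_mk, quotLin_mk, Derivation.leibniz, map_add]
    simp only [smul_eq_mul, map_mul])

lemma quotDer_mk {S : Type*} [CommRing S] [Algebra A S] (D : Derivation A S S)
    (I : Ideal S) (h : ∀ s ∈ I, D s ∈ I) (s : S) :
    quotDer D I h (Ideal.Quotient.mk I s) = Ideal.Quotient.mk I (D s) := by
  rw [quotDer, Derivation.coe_mk', quotLin_mk]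

end Groth.Agent.Helper5.NodeDer
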