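import Mathlib
import Groth.Agent.Lib.Helper5.NodeDer
import Groth.Agent.Lib.Helper5.InvFun

/-! The ideal `(xy - α)` in `A[[x,y]]` determines `αA`. -/

set_option autoImplicit false
set_option linter.style.haveILetI false

namespace Groth.Agent.Helper5.NodeDer

open MvPowerSeries

variable {A : Type*} [CommRing A]

lemma mem_span_of_eq {i j : Fin 2} (hij : i ≠ j) (α : A) (P Q g : MvPowerSeries (Fin 2) A)
    (h : X j * P + X i * Q = g * (X i * X j - C α)) :
    P ∈ Ideal.span {(X i : MvPowerSeries (Fin 2) A), C α} := by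
  classical
  let H : MvPowerSeries (Fin 2) A := fun m =>
    if m i = 0 then - coeff (m + Finsupp.single j 1) g else 0
  have hH : ∀ m, coeff m H = if m i = 0 then - coeff (m + Finsupp.single j 1) g else 0 :=
    fun m => rfl
  have hdvd : (X i : MvPowerSeries (Fin 2) A) ∣ P - C α * H := by
    rw [X_dvd_iff]
    intro m hm
    have hm' : (m + Finsupp.single j 1 : Fin 2 →₀ ℕ) i = 0 := by
      rw [Finsupp.add_apply, hm, Finsupp.single_eq_of_ne hij, add_zero]
    have h1 := congrArg (coeff (m + Finsupp.single j 1)) h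
    have e1 : coeff (m + Finsupp.single j 1) (X j * P) = coeff m P := by
      rw [add_comm, X_def, coeff_add_monomial_mul, one_mul]
    have e2 : coeff (m + Finsupp.single j 1) (X i * Q) = 0 :=
      (X_dvd_iff.mp ⟨Q, rfl⟩) _ hm'
    have e3 : g * (X i * X j - C α) = X i * (g * X j) - C α * g := by ring
    have e4 : coeff (m + Finsupp.single j 1) (X i * (g * X j)) = 0 :=
      (X_dvd_iff.mp ⟨g * X j, rfl⟩) _ hm'
    rw [map_add, e1, e2, e3, map_sub, e4, coeff_C_mul] at h1
    rw [map_sub, coeff_C_mul, hH, if_pos hm]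
    linear_combination h1
  obtain ⟨w, hw⟩ := hdvd
  rw [Ideal.mem_span_pair]
  refine ⟨w, H, ?_⟩
  linear_combination (-1 : MvPowerSeries (Fin 2) A) * hw

/-- the ring `A[[x,y]]/(xy - α)` -/
noncomputable abbrev nodeIdeal (α : A) : Ideal (MvPowerSeries (Fin 2) A) :=
  Ideal.span {(X 0 * X 1 - C α : MvPowerSeries (Fin 2) A)}

lemma algebraMap_quot (α a : A) :
    algebraMap A (MvPowerSeries (Fin 2) A ⧸ nodeIdeal α) a =
      Ideal.Quotient.mk (nodeIdeal α) (C a) := by
  rw [IsScalarTower.algebraMap_apply A (MvPowerSeries (Fin 2) A) _ a, ← c_eq_algebraMap]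
  rfl

/-- the ideal `(x, y, α)` of `A[[x,y]]/(xy-α)` -/
noncomputable abbrev JJ (α : A) : Ideal (MvPowerSeries (Fin 2) A ⧸ nodeIdeal α) :=
  (Ideal.span {(X 0 : MvPowerSeries (Fin 2) A), X 1, C α}).map (Ideal.Quotient.mk (nodeIdeal α))

lemma der_X_mem (α : A) (D : Derivation A (MvPowerSeries (Fin 2) A ⧸ nodeIdeal α)
      (MvPowerSeries (Fin 2) A ⧸ nodeIdeal α)) :
    D (Ideal.Quotient.mk _ (X 0)) ∈ JJ α ∧ D (Ideal.Quotient.mk _ (X 1)) ∈ JJ α := by
  obtain ⟨P, hP⟩ := Ideal.Quotient.mk_surjective (D (Ideal.Quotient.mk (nodeIdeal α) (X 0)))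
  obtain ⟨Q, hQ⟩ := Ideal.Quotient.mk_surjective (D (Ideal.Quotient.mk (nodeIdeal α) (X 1)))
  have h0 : D (Ideal.Quotient.mk (nodeIdeal α) (X 0 * X 1)) = 0 := by
    have : Ideal.Quotient.mk (nodeIdeal α) (X 0 * X 1) =
        algebraMap A (MvPowerSeries (Fin 2) A ⧸ nodeIdeal α) α := by
      rw [algebraMap_quot, Ideal.Quotient.eq]
      exact Ideal.subset_span rfl
    rw [this, Derivation.map_algebraMap]
  rw [map_mul, Derivation.leibniz, ← hP, ← hQ, smul_eq_mul, smul_eq_mul, ← map_mul, ← map_mul,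
    ← map_add, Ideal.Quotient.eq_zero_iff_mem, Ideal.mem_span_singleton'] at h0
  obtain ⟨g, hg⟩ := h0
  have hP' : P ∈ Ideal.span {(X 0 : MvPowerSeries (Fin 2) A), C α} :=
    mem_span_of_eq (i := 0) (j := 1) (by decide) α P Q g (by linear_combination (-1 : MvPowerSeries (Fin 2) A) * hg)
  have hQ' : Q ∈ Ideal.span {(X 1 : MvPowerSeries (Fin 2) A), C α} :=
    mem_span_of_eq (i := 1) (j := 0) (by decide) α Q P g (by linear_combination (-1 : MvPowerSeries (Fin 2) A) * hg)
  constructor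
  · rw [← hP]
    apply Ideal.mem_map_of_mem
    refine Ideal.span_mono ?_ hP'
    intro z hz
    rcases hz with rfl | rfl
    · simp
    · simp
  · rw [← hQ]
    apply Ideal.mem_map_of_mem
    refine Ideal.span_mono ?_ hQ'
    intro z hz
    rcases hz with rfl | rfl
    · simp
    · simp

lemma dIdeal_le (α : A) : dIdeal A (MvPowerSeries (Fin 2) A ⧸ nodeIdeal α) ≤ JJ α := by
  rw [dIdeal, Ideal.span_le]
  rintro _ ⟨D, b, rfl⟩
  obtain ⟨f, rfl⟩ := Ideal.Quotient.mk_surjective b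
  obtain ⟨h0, h1⟩ := der_X_mem α D
  have hf : f - C (constantCoeff f) ∈ InvFun.XI A 2 :=
    InvFun.mem_XI_of_constantCoeff (by simp)
  obtain ⟨c, hc⟩ := (Ideal.mem_span_range_iff_exists_fun).mp hf
  rw [Fin.sum_univ_two] at hc
  have hf' : f = C (constantCoeff f) + c 0 * X 0 + c 1 * X 1 := by
    linear_combination (-1 : MvPowerSeries (Fin 2) A) * hc
  have hX0 : Ideal.Quotient.mk (nodeIdeal α) (X 0) ∈ JJ α :=
    Ideal.mem_map_of_mem _ (Ideal.subset_span (by simp))
  have hX1 : Ideal.Quotient.mk (nodeIdeal α) (X 1) ∈ JJ α :=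
    Ideal.mem_map_of_mem _ (Ideal.subset_span (by simp))
  have hC : D (Ideal.Quotient.mk (nodeIdeal α) (C (constantCoeff f))) = 0 := by
    have : Ideal.Quotient.mk (nodeIdeal α) (C (constantCoeff f)) =
        algebraMap A (MvPowerSeries (Fin 2) A ⧸ nodeIdeal α) (constantCoeff f) := by
      rw [algebraMap_quot]
    rw [this, Derivation.map_algebraMap]
  have e : D (Ideal.Quotient.mk (nodeIdeal α) f) =
      (Ideal.Quotient.mk (nodeIdeal α) (c 0) * D (Ideal.Quotient.mk (nodeIdeal α) (X 0)) +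
        Ideal.Quotient.mk (nodeIdeal α) (X 0) * D (Ideal.Quotient.mk (nodeIdeal α) (c 0))) +
      (Ideal.Quotient.mk (nodeIdeal α) (c 1) * D (Ideal.Quotient.mk (nodeIdeal α) (X 1)) +
        Ideal.Quotient.mk (nodeIdeal α) (X 1) * D (Ideal.Quotient.mk (nodeIdeal α) (c 1))) := by
    conv_lhs => rw [hf']
    rw [map_add (Ideal.Quotient.mk (nodeIdeal α)), map_add (Ideal.Quotient.mk (nodeIdeal α)),
      map_mul (Ideal.Quotient.mk (nodeIdeal α)), map_mul (Ideal.Quotient.mk (nodeIdeal α)),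
      map_add D, map_add D, hC, zero_add, Derivation.leibniz, Derivation.leibniz]
    simp only [smul_eq_mul]
  rw [SetLike.mem_coe, e]
  refine Ideal.add_mem _ (Ideal.add_mem _ (Ideal.mul_mem_left _ _ h0) (Ideal.mul_mem_right _ _ hX0))
    (Ideal.add_mem _ (Ideal.mul_mem_left _ _ h1) (Ideal.mul_mem_right _ _ hX1))

lemma comap_JJ_le (α : A) :
    (JJ α).comap (algebraMap A (MvPowerSeries (Fin 2) A ⧸ nodeIdeal α)) ≤ Ideal.span {α} := by
  intro a ha
  rw [Ideal.mem_comap, algebraMap_quot, Ideal.mem_quotient_iff_mem_sup] at ha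
  have hle : Ideal.span {(X 0 : MvPowerSeries (Fin 2) A), X 1, C α} ⊔ nodeIdeal α ≤
      (Ideal.span {α}).comap (constantCoeff (σ := Fin 2) (R := A)) := by
    rw [sup_le_iff, Ideal.span_le, nodeIdeal, Ideal.span_le]
    constructor
    · intro z hz
      rcases hz with rfl | rfl | rfl
      · simp
      · simp
      · simp
    · intro z hz
      rw [Set.mem_singleton_iff] at hz
      subst hz
      simp only [SetLike.mem_coe, Ideal.mem_comap, map_sub, map_mul, constantCoeff_X, mul_zero,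
        constantCoeff_C, zero_sub]
      exact neg_mem (Ideal.subset_span (Set.mem_singleton α))
  have := hle ha
  simpa using this

lemma mem_comap_dIdeal (α : A) :
    α ∈ (dIdeal A (MvPowerSeries (Fin 2) A ⧸ nodeIdeal α)).comap
      (algebraMap A (MvPowerSeries (Fin 2) A ⧸ nodeIdeal α)) := by
  let D0 : Derivation A (MvPowerSeries (Fin 2) A) (MvPowerSeries (Fin 2) A) :=
    (C α : MvPowerSeries (Fin 2) A) • pderiv A (0 : Fin 2) -
      (X 1 ^ 2 : MvPowerSeries (Fin 2) A) • pderiv A (1 : Fin 2)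
  have hD0X0 : D0 (X 0) = C α := by
    simp [D0, pderiv_X_of_ne]
  have hD0X1 : D0 (X 1) = - X 1 ^ 2 := by
    simp [D0, pderiv_X_of_ne]
  have hD0f : D0 (X 0 * X 1 - C α) = - X 1 * (X 0 * X 1 - C α) := by
    have hC : D0 (C α) = 0 := by
      rw [c_eq_algebraMap, Derivation.map_algebraMap]
    rw [map_sub, Derivation.leibniz, hD0X0, hD0X1, hC]
    simp only [smul_eq_mul]
    ring
  have hpres : ∀ s ∈ nodeIdeal α, D0 s ∈ nodeIdeal α := by
    intro s hs
    obtain ⟨g, rfl⟩ := Ideal.mem_span_singleton'.mp hs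
    rw [Derivation.leibniz, hD0f]
    simp only [smul_eq_mul]
    refine Ideal.add_mem _ (Ideal.mul_mem_left _ _ (Ideal.mul_mem_left _ _ (Ideal.subset_span rfl)))
      (Ideal.mul_mem_right _ _ (Ideal.subset_span rfl))
  rw [Ideal.mem_comap]
  apply Ideal.subset_span
  refine ⟨quotDer D0 (nodeIdeal α) hpres, Ideal.Quotient.mk _ (X 0), ?_⟩
  rw [quotDer_mk, hD0X0, algebraMap_quot]

theorem comap_dIdeal_node (α : A) :
    (dIdeal A (MvPowerSeries (Fin 2) A ⧸ nodeIdeal α)).comap
      (algebraMap A (MvPowerSeries (Fin 2) A ⧸ nodeIdeal α)) = Ideal.span {α} := by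
  apply le_antisymm
  · exact (Ideal.comap_mono (dIdeal_le α)).trans (comap_JJ_le α)
  · rw [Ideal.span_le, Set.singleton_subset_iff]
    exact mem_comap_dIdeal α

end Groth.Agent.Helper5.NodeDer
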