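import Mathlib

set_option linter.style.haveILetI false

namespace Groth.Agent.Helper5.NormalFiber

open Polynomial

theorem mem_range_of_isIntegral {A B : Type*} [CommRing A] [CommRing B] [IsDomain B] [Algebra A B]
    (hinj : Function.Injective (algebraMap A B)) (t : A) (ht : algebraMap A B t ≠ 0)
    (hloc : ∀ b : B, ∃ n : ℕ, ∃ a : A, algebraMap A B t ^ n * b = algebraMap A B a)
    (hred : IsReduced (A ⧸ Ideal.span {t})) (b : B) (hb : IsIntegral A b) :
    ∃ a : A, algebraMap A B a = b := by
  classical
  have hex := hloc b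
  obtain ⟨a, ha⟩ := Nat.find_spec hex
  rcases hn : Nat.find hex with _ | k
  · rw [hn] at ha; exact ⟨a, by simpa using ha.symm⟩
  · exfalso
    rw [hn] at ha
    obtain ⟨p, hp, hpb⟩ := hb
    have h1 : aeval (algebraMap A B (t ^ (k + 1)) * b) (scaleRoots p (t ^ (k + 1))) = 0 :=
      scaleRoots_aeval_eq_zero hpb
    rw [map_pow, ha] at h1
    have h2 : eval a (scaleRoots p (t ^ (k + 1))) = 0 := by
      apply hinj
      rw [map_zero, ← aeval_algebraMap_apply_eq_algebraMap_eval]
      exact h1
    have h3 : (Ideal.Quotient.mk (Ideal.span {t}) a) ^ p.natDegree = 0 := by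
      rcases subsingleton_or_nontrivial (A ⧸ Ideal.span {t}) with hs | hnt
      · exact Subsingleton.elim _ _
      · have h4 := congrArg (Ideal.Quotient.mk (Ideal.span {t})) h2
        rw [map_zero, ← eval₂_at_apply, ← eval_map, map_scaleRoots _ _ _
          (by rw [hp.leadingCoeff, map_one]; exact one_ne_zero)] at h4
        have h5 : Ideal.Quotient.mk (Ideal.span {t}) (t ^ (k + 1)) = 0 := by
          rw [Ideal.Quotient.eq_zero_iff_mem, pow_succ]
          exact Ideal.mul_mem_left _ _ (Ideal.mem_span_singleton_self t)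
        rw [h5, scaleRoots_zero, (hp.map _).leadingCoeff, one_smul, hp.natDegree_map, eval_pow,
          eval_X] at h4
        exact h4
    have h6 : Ideal.Quotient.mk (Ideal.span {t}) a = 0 :=
      IsNilpotent.eq_zero ⟨_, h3⟩
    rw [Ideal.Quotient.eq_zero_iff_mem, Ideal.mem_span_singleton'] at h6
    obtain ⟨a', rfl⟩ := h6
    have h7 : algebraMap A B t ^ k * b = algebraMap A B a' := by
      apply mul_left_cancel₀ ht
      rw [← map_mul, mul_comm t a', ← ha, pow_succ]; ring
    have := Nat.find_min' hex ⟨a', h7⟩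
    omega

theorem isIntegrallyClosed_of_away {A B : Type*} [CommRing A] [CommRing B] [IsDomain B]
    [Algebra A B]
    (hinj : Function.Injective (algebraMap A B)) (t : A) (ht : algebraMap A B t ≠ 0)
    (hloc : ∀ b : B, ∃ n : ℕ, ∃ a : A, algebraMap A B t ^ n * b = algebraMap A B a)
    (hred : IsReduced (A ⧸ Ideal.span {t})) [IsIntegrallyClosed B] :
    IsDomain A ∧ IsIntegrallyClosed A := by
  have hdom : IsDomain A := hinj.isDomain (algebraMap A B)
  refine ⟨hdom, ?_⟩
  let K := FractionRing B
  haveI : FaithfulSMul A K := (faithfulSMul_iff_algebraMap_injective A K).mpr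
    ((IsFractionRing.injective B K).comp hinj)
  have hT : algebraMap B K (algebraMap A B t) ≠ 0 := by
    rw [Ne, map_eq_zero_iff _ (IsFractionRing.injective B K)]; exact ht
  haveI : IsFractionRing A K := by
    apply IsFractionRing.of_field
    intro z
    obtain ⟨b, b', hb', rfl⟩ := IsFractionRing.div_surjective (A := B) z
    obtain ⟨n, a, ha⟩ := hloc b
    obtain ⟨m, a', ha'⟩ := hloc b'
    refine ⟨a * t ^ m, a' * t ^ n, ?_⟩
    have e1 : algebraMap A K (a * t ^ m) =
        algebraMap B K (algebraMap A B t) ^ n * algebraMap B K b *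
          algebraMap B K (algebraMap A B t) ^ m := by
      rw [map_mul, IsScalarTower.algebraMap_apply A B K a, ← ha, map_pow,
        IsScalarTower.algebraMap_apply A B K t]
      simp only [map_mul, map_pow]
    have e2 : algebraMap A K (a' * t ^ n) =
        algebraMap B K (algebraMap A B t) ^ m * algebraMap B K b' *
          algebraMap B K (algebraMap A B t) ^ n := by
      rw [map_mul, IsScalarTower.algebraMap_apply A B K a', ← ha', map_pow,
        IsScalarTower.algebraMap_apply A B K t]
      simp only [map_mul, map_pow]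
    rw [e1, e2]
    have hb'0 : algebraMap B K b' ≠ 0 := by
      rw [Ne, map_eq_zero_iff _ (IsFractionRing.injective B K)]
      exact nonZeroDivisors.ne_zero hb'
    have hT' : ∀ j, algebraMap B K (algebraMap A B t) ^ j ≠ 0 := fun j => pow_ne_zero j hT
    rw [div_eq_div_iff hb'0 (mul_ne_zero (mul_ne_zero (hT' m) hb'0) (hT' n))]
    ring
  rw [isIntegrallyClosed_iff K]
  intro x hx
  obtain ⟨b, rfl⟩ := (isIntegrallyClosed_iff K).mp ‹IsIntegrallyClosed B› (hx.tower_top)
  have hb : IsIntegral A b := (isIntegral_algebraMap_iff (IsFractionRing.injective B K)).mp hx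
  obtain ⟨a, rfl⟩ := mem_range_of_isIntegral hinj t ht hloc hred b hb
  exact ⟨a, rfl⟩

end Groth.Agent.Helper5.NormalFiber
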