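import Groth.Agent.Lib.Helper5.CHP1
import Groth.Agent.Lib.Helper29.OpenRes

/-!
# Open base change for direct images of modules, part 1: a commutative square whose horizontal
maps are open immersions and which is cartesian on points
-/

set_option autoImplicit false
set_option linter.unusedSectionVars false
set_option linter.unusedVariables false
set_option linter.style.haveILetI false

universe u

open CategoryTheory CategoryTheory.Limits AlgebraicGeometry TopologicalSpace

namespace Groth.Agent.Helper5.OBC

open Groth.Agent.Helper5.CHP Groth.Agent.Helper5.RT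

variable {Z Y W Z' : Scheme.{u}} (i : Z ⟶ Y) (j : W ⟶ Y) [IsOpenImmersion j] (i' : Z' ⟶ W)
  (j' : Z' ⟶ Z) [IsOpenImmersion j'] (sq : j' ≫ i = i' ≫ j)
  (hr : j'.opensRange = i ⁻¹ᵁ j.opensRange)

/-- the source of the upper open immersion is the preimage of the range of the lower one -/
noncomputable def eZ : Z' ≅ ↑(i ⁻¹ᵁ j.opensRange) :=
  IsOpenImmersion.isoOfRangeEq j' (i ⁻¹ᵁ j.opensRange).ι (by
    have h1 := congrArg (fun (O : Z.Opens) => (O : Set Z)) hr
    simp only [Scheme.Hom.coe_opensRange] at h1
    rw [h1, Scheme.Opens.range_ι])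

lemma eZ_hom_ι : (eZ i j j' hr).hom ≫ (i ⁻¹ᵁ j.opensRange).ι = j' :=
  IsOpenImmersion.isoOfRangeEq_hom_fac _ _ _

lemma eZ_inv_comp : (eZ i j j' hr).inv ≫ j' = (i ⁻¹ᵁ j.opensRange).ι :=
  IsOpenImmersion.isoOfRangeEq_inv_fac _ _ _

include sq in
lemma sq' : (i ∣_ j.opensRange) ≫ j.isoOpensRange.inv = (eZ i j j' hr).inv ≫ i' := by
  rw [← cancel_mono j, Category.assoc, Category.assoc, Scheme.Hom.isoOpensRange_inv_comp,
    morphismRestrict_ι, ← sq, ← Category.assoc, eZ_inv_comp]

/-- open base change -/
noncomputable def openBC :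
    Scheme.Modules.pushforward i ⋙ Scheme.Modules.restrictFunctor j ≅
      Scheme.Modules.restrictFunctor j' ⋙ Scheme.Modules.pushforward i' :=
  Functor.isoWhiskerLeft _
      (Scheme.Modules.restrictFunctorCongr (Scheme.Hom.isoOpensRange_hom_ι j).symm ≪≫
        Scheme.Modules.restrictFunctorComp _ _) ≪≫
    (Functor.associator _ _ _).symm ≪≫
    Functor.isoWhiskerRight (Groth.Agent.Helper29.OpenRes.γ i j.opensRange) _ ≪≫
    Functor.associator _ _ _ ≪≫
    Functor.isoWhiskerLeft _
      (Functor.isoWhiskerLeft _ (pushIsoRestrict j.isoOpensRange.symm).symm ≪≫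
        Scheme.Modules.pushforwardComp _ _ ≪≫
        Scheme.Modules.pushforwardCongr (sq' i j i' j' sq hr) ≪≫
        (Scheme.Modules.pushforwardComp _ _).symm ≪≫
        Functor.isoWhiskerRight (pushIsoRestrict (eZ i j j' hr).symm) _) ≪≫
    (Functor.associator _ _ _).symm ≪≫
    Functor.isoWhiskerRight
      ((Scheme.Modules.restrictFunctorComp _ _).symm ≪≫
        Scheme.Modules.restrictFunctorCongr (eZ_hom_ι i j j' hr)) _

/-- open base change, on complexes -/
noncomputable def openBCCx (G : CochainComplex Z.Modules ℤ) :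
    (rCx j).obj ((DerSch.pushCx i).obj G) ≅ (DerSch.pushCx i').obj ((rCx j').obj G) := by
  haveI i1 : (Scheme.Modules.pushforward i ⋙
      Scheme.Modules.restrictFunctor j).PreservesZeroMorphisms := inferInstance
  haveI i2 : (Scheme.Modules.restrictFunctor j' ⋙
      Scheme.Modules.pushforward i').PreservesZeroMorphisms := inferInstance
  exact (@NatIso.mapHomologicalComplex _ _ _ _ _ _ _ _ _ i1 i2
    (openBC i j i' j' sq hr) (ComplexShape.up ℤ)).app G

end Groth.Agent.Helper5.OBC
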