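import Groth.Agent.Lib.Helper5.OBC9

/-!
# Relative pseudo-coherence on charts for arbitrary objects, part 10: transport of charts along an
open immersion into the source
-/

set_option autoImplicit false
set_option linter.unusedSectionVars false
set_option linter.unusedVariables false
set_option linter.style.haveILetI false

universe u

open CategoryTheory CategoryTheory.Limits AlgebraicGeometry Pretriangulated DerivedCategory
  TopologicalSpace Opposite

attribute [local instance] HasDerivedCategory.standard

namespace Groth.Agent.Helper5.OBC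

open Groth.Agent.Helper5.PCT Groth.Agent.Helper5.TB Groth.Agent.Helper5.RT
  Groth.Agent.Helper5.PCZ Groth.Agent.Helper11.MPC Groth.Agent.Helper5.CHP
  Groth.Agent.Helper5.XCH Groth.Agent.Helper5.CI

section Spec

variable {P A A' : Type u} [CommRing P] [CommRing A] [CommRing A']

/-- direct image along `Spec (θ ∘ φ)` of the restriction along `Spec θ`, for a bijective `θ` -/
noncomputable def pushBijIso (φ : P →+* A) (θ : A →+* A') (hθ : Function.Bijective θ)
    [IsOpenImmersion (Spec.map (CommRingCat.ofHom θ))]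
    (H : CochainComplex (Spec (CommRingCat.of A)).Modules ℤ) :
    (DerSch.pushCx (Spec.map (CommRingCat.ofHom (θ.comp φ)))).obj
        ((rCx (Spec.map (CommRingCat.ofHom θ))).obj H) ≅
      (DerSch.pushCx (Spec.map (CommRingCat.ofHom φ))).obj H := by
  letI alg : Algebra A A' := θ.toAlgebra
  haveI h1 : IsLocalization.Away (1 : P) P :=
    IsLocalization.away_of_isUnit_of_bijective P isUnit_one Function.bijective_id
  haveI h2 : IsLocalization.Away (φ 1) A' :=
    IsLocalization.away_of_isUnit_of_bijective A' (by rw [map_one]; exact isUnit_one) hθ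
  have hid : Spec.map (CommRingCat.ofHom (algebraMap P P)) = 𝟙 _ := by
    rw [Algebra.algebraMap_self]
    exact Spec.map_id _
  haveI : IsOpenImmersion (Spec.map (CommRingCat.ofHom (algebraMap P P))) := by
    rw [hid]
    infer_instance
  haveI : IsOpenImmersion (Spec.map (CommRingCat.ofHom (algebraMap A A'))) :=
    inferInstanceAs (IsOpenImmersion (Spec.map (CommRingCat.ofHom θ)))
  have hsq : (θ.comp φ).comp (algebraMap P P) = (algebraMap A A').comp φ := by
    rw [Algebra.algebraMap_self, RingHom.comp_id]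
    rfl
  exact (specBC φ 1 (θ.comp φ) hsq H).symm ≪≫ rCxCongrIso hid _ ≪≫ rCxIdIso _

end Spec

variable {X' X S : Scheme.{u}} (j : X' ⟶ X) [IsOpenImmersion j] (f : X ⟶ S)

section

variable {W : X'.Opens} (hW : IsAffineOpen W)

/-- the ring isomorphism `Γ(X, j(W)) ≅ Γ(X', W)` -/
noncomputable abbrev θj : Γ(X, j ''ᵁ W) →+* Γ(X', W) := (j.appIso W).hom.hom

lemma θj_bijective : Function.Bijective (θj j (W := W)) :=
  (ConcreteCategory.isIso_iff_bijective (j.appIso W).hom).mp inferInstance

instance : IsOpenImmersion (Spec.map (CommRingCat.ofHom (θj j (W := W)))) := by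
  haveI : IsIso (CommRingCat.ofHom (θj j (W := W))) :=
    inferInstanceAs (IsIso (j.appIso W).hom)
  infer_instance

include hW in
lemma specMap_θj_fromSpec :
    Spec.map (CommRingCat.ofHom (θj j (W := W))) ≫ (hW.image_of_isOpenImmersion j).fromSpec =
      hW.fromSpec ≫ j := by
  have h1 := IsAffineOpen.SpecMap_appLE_fromSpec j (hW.image_of_isOpenImmersion j) hW
    (j.preimage_image_eq W).ge
  rw [← j.appIso_hom' W] at h1
  exact h1

/-- the complex on `Spec Γ(X', W)` attached to the restriction along `j` -/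
noncomputable def specResImageIso (E : CochainComplex X.Modules ℤ) :
    specRes hW ((rCx j).obj E) ≅
      (rCx (Spec.map (CommRingCat.ofHom (θj j (W := W))))).obj
        (specRes (hW.image_of_isOpenImmersion j) E) :=
  specResIso hW _ ≪≫ rCxCompIso hW.fromSpec j E ≪≫
    rCxCongrIso (specMap_θj_fromSpec j hW).symm E ≪≫
    (rCxCompIso _ (hW.image_of_isOpenImmersion j).fromSpec E).symm ≪≫
    (rCx (Spec.map (CommRingCat.ofHom (θj j (W := W))))).mapIso
      (specResIso (hW.image_of_isOpenImmersion j) E).symm

/-- the two chart complexes -/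
noncomputable def chartImageIso (E : CochainComplex X.Modules ℤ) {P : Type u} [CommRing P]
    (φ : P →+* Γ(X, j ''ᵁ W)) :
    (DerSch.pushCx (Spec.map (CommRingCat.ofHom ((θj j (W := W)).comp φ)))).obj
        (specRes hW ((rCx j).obj E)) ≅
      (DerSch.pushCx (Spec.map (CommRingCat.ofHom φ))).obj
        (specRes (hW.image_of_isOpenImmersion j) E) :=
  (DerSch.pushCx _).mapIso (specResImageIso j hW E) ≪≫
    pushBijIso φ (θj j (W := W)) (θj_bijective j) _

variable (V : S.Opens) (h : W ≤ (j ≫ f) ⁻¹ᵁ V)

include h in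
lemma image_le_of_le : j ''ᵁ W ≤ f ⁻¹ᵁ V := by
  rintro _ ⟨x, hx, rfl⟩
  exact h hx

lemma θj_comp_appLE :
    (θj j (W := W)).comp (f.appLE V (j ''ᵁ W) (image_le_of_le j f V h)).hom =
      ((j ≫ f).appLE V W h).hom := by
  have h1 := Scheme.Hom.appLE_comp_appLE j f V (j ''ᵁ W) W (image_le_of_le j f V h)
    (j.preimage_image_eq W).ge
  rw [← j.appIso_hom' W] at h1
  exact congrArg CommRingCat.Hom.hom h1

include hW in
/-- charts on `W` for `j ≫ f` and on `j(W)` for `f` -/
theorem hasChartPC_image_iff (m : ℤ) (E : CochainComplex X.Modules ℤ) :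
    HasChartPC (j ≫ f) m (DCoh.toD X' ((rCx j).obj E)) W V h ↔
      HasChartPC f m (DCoh.toD X E) (j ''ᵁ W) V (image_le_of_le j f V h) := by
  have hW' := hW.image_of_isOpenImmersion j
  constructor
  · rintro ⟨n, φ', hφ', hpc⟩
    let θinv : Γ(X', W) →+* Γ(X, j ''ᵁ W) := (j.appIso W).inv.hom
    have hθθ : (θj j (W := W)).comp θinv = RingHom.id _ := by
      have := (j.appIso W).inv_hom_id
      exact congrArg CommRingCat.Hom.hom this
    have hθθ' : θinv.comp (θj j (W := W)) = RingHom.id _ := by
      have := (j.appIso W).hom_inv_id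
      exact congrArg CommRingCat.Hom.hom this
    have hφeq : (θj j (W := W)).comp (θinv.comp φ') = φ' := by
      rw [← RingHom.comp_assoc, hθθ, RingHom.id_comp]
    have hθinv_surj : Function.Surjective θinv := fun y =>
      ⟨θj j (W := W) y, congrArg (fun g => g y) hθθ'⟩
    refine ⟨n, θinv.comp φ', ⟨hθinv_surj.comp hφ'.1, ?_⟩, ?_⟩
    · rw [RingHom.comp_assoc, hφ'.2, ← θj_comp_appLE j f V h, ← RingHom.comp_assoc, hθθ',
        RingHom.id_comp]
    · haveI : IsClosedImmersion (Spec.map (CommRingCat.ofHom φ')) :=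
        IsClosedImmersion.spec_of_surjective _ hφ'.1
      haveI : IsClosedImmersion (Spec.map (CommRingCat.ofHom (θinv.comp φ'))) :=
        IsClosedImmersion.spec_of_surjective _ (hθinv_surj.comp hφ'.1)
      rw [chartPC_iff_D hW V φ'] at hpc
      rw [chartPC_iff_D hW' V (θinv.comp φ')]
      have h1 := isPseudoCoherentD_of_iso (chartDQIso hW V φ' _) hpc
      have h2 : DCoh.IsPseudoCoherentD m (Q.obj ((DerSch.pushCx (Spec.map (CommRingCat.ofHom
          ((θj j (W := W)).comp (θinv.comp φ'))))).obj (specRes hW ((rCx j).obj E)))) := by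
        rw [hφeq]
        exact h1
      have h3 := isPseudoCoherentD_of_iso (Q.mapIso (chartImageIso j hW E (θinv.comp φ'))) h2
      exact isPseudoCoherentD_of_iso (chartDQIso hW' V (θinv.comp φ') E).symm h3
  · rintro ⟨n, φ, hφ, hpc⟩
    have hsurj : Function.Surjective ((θj j (W := W)).comp φ) :=
      (θj_bijective j).2.comp hφ.1
    refine ⟨n, (θj j (W := W)).comp φ, ⟨hsurj, ?_⟩, ?_⟩
    · rw [RingHom.comp_assoc, hφ.2, θj_comp_appLE j f V h]
    · haveI : IsClosedImmersion (Spec.map (CommRingCat.ofHom φ)) :=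
        IsClosedImmersion.spec_of_surjective _ hφ.1
      haveI : IsClosedImmersion (Spec.map (CommRingCat.ofHom ((θj j (W := W)).comp φ))) :=
        IsClosedImmersion.spec_of_surjective _ hsurj
      rw [chartPC_iff_D hW' V φ] at hpc
      rw [chartPC_iff_D hW V ((θj j (W := W)).comp φ)]
      have h1 := isPseudoCoherentD_of_iso (chartDQIso hW' V φ E) hpc
      have h3 := isPseudoCoherentD_of_iso (Q.mapIso (chartImageIso j hW E φ).symm) h1
      exact isPseudoCoherentD_of_iso (chartDQIso hW V ((θj j (W := W)).comp φ) _).symm h3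

end

end Groth.Agent.Helper5.OBC
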