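import Groth.Agent.Lib.Helper5.OBC10

/-!
# Relative pseudo-coherence on charts for arbitrary objects, part 11: restriction to opens of the
source and gluing along an open covering of the source
-/

set_option autoImplicit false
set_option linter.unusedSectionVars false
set_option linter.unusedVariables false
set_option linter.style.haveILetI false

universe u

open CategoryTheory CategoryTheory.Limits AlgebraicGeometry Pretriangulated DerivedCategory
  TopologicalSpace Opposite

attribute [local instance] HasDerivedCategory.standard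

namespace Groth.Agent.Helper5.OBC

open Groth.Agent.Helper5.PCT Groth.Agent.Helper5.TB Groth.Agent.Helper5.RT
  Groth.Agent.Helper5.PCZ Groth.Agent.Helper11.MPC Groth.Agent.Helper5.CHP
  Groth.Agent.Helper5.XCH Groth.Agent.Helper5.CI

variable {X Y : Scheme.{u}} (f : X ⟶ Y)

/-- restriction along an open immersion into the source -/
theorem rel_restrict_of_openImmersion {X' : Scheme.{u}} (j : X' ⟶ X) [IsOpenImmersion j]
    (n : ℤ) (E : CochainComplex X.Modules ℤ)
    (hE : DerSch.IsPseudoCoherentRel f n (DCoh.toD X E)) :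
    DerSch.IsPseudoCoherentRel (j ≫ f) n (DCoh.toD X' ((rCx j).obj E)) := by
  haveI : LocallyOfFiniteType f := hE.1
  rw [rel_iff_hasChartPC]
  intro W V h
  exact (hasChartPC_image_iff j f W.2 V.1 h n E).mpr
    ((rel_iff_hasChartPC f n _).mp hE ⟨j ''ᵁ W.1, W.2.image_of_isOpenImmersion j⟩ V _)

/-- S6202 -/
theorem main_S6202 (n : ℤ) (E : CochainComplex X.Modules ℤ)
    (hE : DerSch.IsPseudoCoherentRel f n (DCoh.toD X E)) (U : X.Opens) :
    DerSch.IsPseudoCoherentRel (U.ι ≫ f) n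
      (DCoh.toD (U : Scheme.{u}) ((DCoh.restrictCx U).obj E)) :=
  rel_restrict_of_openImmersion f U.ι n E hE

/-- S6203 -/
theorem main_S6203 [LocallyOfFiniteType f] (n : ℤ)
    (E : CochainComplex X.Modules ℤ) {ι : Type u} (U : ι → X.Opens) (hU : ⨆ i, U i = ⊤)
    (h : ∀ i : ι, DerSch.IsPseudoCoherentRel ((U i).ι ≫ f) n
      (DCoh.toD (U i : Scheme.{u}) ((DCoh.restrictCx (U i)).obj E))) :
    DerSch.IsPseudoCoherentRel f n (DCoh.toD X E) := by
  refine ⟨inferInstance, Set.univ, ?_, fun V _ =>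
    ⟨{T : X.affineOpens | T.1 ≤ f ⁻¹ᵁ V.1 ∧ ∃ i, T.1 ≤ U i}, ?_, ?_⟩⟩
  · simpa using iSup_affineOpens_eq_top Y
  · apply le_antisymm
    · exact iSup₂_le (fun T hT => hT.1)
    · intro x hx
      have hx' : x ∈ (⨆ i, U i) := by rw [hU]; trivial
      obtain ⟨i, hxi⟩ := TopologicalSpace.Opens.mem_iSup.mp hx'
      have hx'' : x ∈ (f ⁻¹ᵁ V.1) ⊓ U i := ⟨hx, hxi⟩
      obtain ⟨W, hW, hxW, hWi⟩ :=
        (TopologicalSpace.Opens.isBasis_iff_nbhd.mp X.isBasis_affineOpens) hx''
      simp only [TopologicalSpace.Opens.mem_iSup]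
      exact ⟨⟨W, hW⟩, ⟨hWi.trans inf_le_left, i, hWi.trans inf_le_right⟩, hxW⟩
  · rintro T ⟨hT1, i, hTi⟩ h'
    have hle : T.1 ≤ (U i).ι.opensRange := by
      rw [Scheme.Opens.opensRange_ι]
      exact hTi
    have hWaff : IsAffineOpen ((U i).ι ⁻¹ᵁ T.1) :=
      T.2.preimage_of_isOpenImmersion (U i).ι hle
    have himg : (U i).ι ''ᵁ ((U i).ι ⁻¹ᵁ T.1) = T.1 := by
      rw [Scheme.Hom.image_preimage_eq_opensRange_inf]
      exact inf_eq_right.mpr hle
    haveI : LocallyOfFiniteType ((U i).ι ≫ f) := inferInstance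
    have hW : (U i).ι ⁻¹ᵁ T.1 ≤ ((U i).ι ≫ f) ⁻¹ᵁ V.1 := by
      intro x hx
      exact h' hx
    have h1 := (rel_iff_hasChartPC ((U i).ι ≫ f) n _).mp (h i) ⟨_, hWaff⟩ V hW
    have h2 := (hasChartPC_image_iff (U i).ι f hWaff V.1 hW n E).mp h1
    exact hasChartPC_congr f _ h' himg rfl n _ h2

end Groth.Agent.Helper5.OBC
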