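import Groth.Agent.Lib.Helper5.PDZ1

/-!
# Perfect dimension `0`, part 2: relative pseudo-coherence of the structure sheaf and
pseudo-coherent morphisms
-/

set_option autoImplicit false
set_option linter.unusedSectionVars false
set_option linter.unusedVariables false
set_option linter.style.haveILetI false

universe u

open CategoryTheory CategoryTheory.Limits AlgebraicGeometry TopologicalSpace

attribute [local instance] HasDerivedCategory.standard

namespace Groth.Agent.Helper5.PDZ

open Groth.Agent.Helper5.TB Groth.Agent.Helper5.RPR Groth.Agent.Helper11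
  Groth.Agent.Helper5.TBA Groth.Agent.Helper5.RT Groth.Agent.Helper5.PCT Groth.Agent.Helper5.TT
  Groth.Agent.Helper5.KF Groth.Agent.Helper9.RelPC Groth.Agent.Helper11.TA
  Groth.Agent.Helper5.LDer Groth.Agent.Helper5.CHP Groth.Agent.Helper11.MPC
  Groth.Agent.Helper11.PcHom Groth.Agent.Helper5.FBX

variable {X S : Scheme.{u}} (f : X ⟶ S)

/-- ring-level form of the relative pseudo-coherence of the structure sheaf on an affine pair -/
theorem relPC_unit_iff (m : ℤ) {U : X.Opens} (hU : IsAffineOpen U) {V : S.Opens}
    (hV : IsAffineOpen V) (hUV : U ≤ f ⁻¹ᵁ V) :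
    RelPC f (DCoh.toD X (DerSch.unitCx X)) m hU hV hUV ↔
      @DerCA.IsRelPseudoCoherent Γ(S, V) Γ(X, U) _ _ (f.appLE V U hUV).hom.toAlgebra m
        (Dual.inD Γ(X, U) Γ(X, U)) := by
  constructor
  · intro H
    exact H _ ⟨chartUnitIso hU⟩
  · intro H M ⟨e⟩
    obtain ⟨e'⟩ := repr_unique _ hU _ _ (chartUnitIso hU) e
    exact rel_of_iso' f m hUV e' H

/-- the structure sheaf is pseudo-coherent relative to `f` (chart form) iff `f` is a
pseudo-coherent morphism -/
theorem pcRelAll_unit_iff [LocallyOfFiniteType f] :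
    DerSch.IsPseudoCoherentRelAll f (DCoh.toD X (DerSch.unitCx X)) ↔
      MoreMor.IsPseudoCoherentMor f := by
  constructor
  · intro H U V hU hV hUV
    letI := (f.appLE V U hUV).hom.toAlgebra
    refine hom_of_rel (fun m => ?_)
    exact (relPC_unit_iff f m hU hV hUV).mp
      ((rel_iff_relPC f _ m (isQCohD_unit X)).mp (H m) U hU V hV hUV)
  · intro H m
    rw [rel_iff_relPC f _ m (isQCohD_unit X)]
    intro U hU V hV hUV
    letI := (f.appLE V U hUV).hom.toAlgebra
    exact (relPC_unit_iff f m hU hV hUV).mpr (rel_of_hom (H U V hU hV hUV) m)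

/-- a flat morphism locally of finite presentation is pseudo-coherent -/
theorem pcMor_of_flat_lfp [Flat f] [LocallyOfFinitePresentation f] :
    MoreMor.IsPseudoCoherentMor f := by
  intro U V hU hV hUV
  letI := (f.appLE V U hUV).hom.toAlgebra
  haveI : Module.Flat Γ(S, V) Γ(X, U) := by
    have h := Flat.flat_appLE f hV hU hUV
    exact h
  haveI : Algebra.FinitePresentation Γ(S, V) Γ(X, U) := by
    have h := LocallyOfFinitePresentation.finitePresentation_appLE f hV hU hUV
    exact h
  exact Groth.Agent.Helper11.FlatPc.pcHom_of_flat_fp Γ(S, V) Γ(X, U)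

end Groth.Agent.Helper5.PDZ
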