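import Groth.Agent.Lib.Helper5.OBC11
import Groth.Agent.Lib.Helper5.PDZ2
import Groth.Agent.Lib.Helper11.RelFin5
import Groth.Agent.Lib.Helper11.PerfMor4

/-!
# Relative pseudo-coherence on charts for arbitrary objects, part 12: composition with a
pseudo-coherent morphism of the base
-/

set_option autoImplicit false
set_option linter.unusedSectionVars false
set_option linter.unusedVariables false
set_option linter.style.haveILetI false

universe u

open CategoryTheory CategoryTheory.Limits AlgebraicGeometry Pretriangulated DerivedCategory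
  TopologicalSpace Opposite

attribute [local instance] HasDerivedCategory.standard

namespace Groth.Agent.Helper5.OBC

open Groth.Agent.Helper5.PCT Groth.Agent.Helper5.TB Groth.Agent.Helper5.RT
  Groth.Agent.Helper5.PCZ Groth.Agent.Helper11.MPC Groth.Agent.Helper5.CHP
  Groth.Agent.Helper5.XCH Groth.Agent.Helper5.CI Groth.Agent.Helper5.PDZ

section Spec

variable {R B A : Type u} [CommRing R] [CommRing B] [CommRing A]
  [Algebra R B] [Algebra B A] [Algebra R A] [IsScalarTower R B A]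

/-- a chart over `B` and a pseudo-coherent presentation of `B` over `R` give a chart over `R`
with the same test -/
theorem pc_push_trans {l : ℕ} (π : MvPolynomial (Fin l) R →ₐ[R] B) (hπ : Function.Surjective π)
    (hb : BaseIsPc (π : MvPolynomial (Fin l) R →+* B))
    {n : ℕ} (φ : MvPolynomial (Fin n) B →ₐ[B] A) (hφ : Function.Surjective φ) :
    ∃ δ : MvPolynomial (Fin (n + l)) R →ₐ[R] A, Function.Surjective δ ∧
      ∀ (H : CochainComplex (Spec (CommRingCat.of A)).Modules ℤ) (m : ℤ),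
        DCoh.IsPseudoCoherentD m (Q.obj ((DerSch.pushCx (Spec.map (CommRingCat.ofHom
          (φ : MvPolynomial (Fin n) B →+* A)))).obj H)) ↔
        DCoh.IsPseudoCoherentD m (Q.obj ((DerSch.pushCx (Spec.map (CommRingCat.ofHom
          (δ : MvPolynomial (Fin (n + l)) R →+* A)))).obj H)) := by
  obtain ⟨δ, e, hδ, hδe⟩ := exists_delta π hπ φ hφ
  refine ⟨δ, hδ, fun H m => ?_⟩
  rw [hδe]
  have h1 := pc_push_comp_iff (MvPolynomial.map (π : MvPolynomial (Fin l) R →+* B) :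
      MvPolynomial (Fin n) (MvPolynomial (Fin l) R) →+* MvPolynomial (Fin n) B)
    (MvPolynomial.map_surjective _ hπ)
    (baseIsPc_map (π : MvPolynomial (Fin l) R →+* B) n hb)
    (φ : MvPolynomial (Fin n) B →+* A) H m
  have h2 := pc_push_comp_iff (e : MvPolynomial (Fin (n + l)) R →+* _) e.surjective
    (baseIsPc_of_bijective _ e.bijective)
    ((φ : MvPolynomial (Fin n) B →+* A).comp
      (MvPolynomial.map (π : MvPolynomial (Fin l) R →+* B))) H m
  exact h1.trans h2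

end Spec

variable {X T S : Scheme.{u}} (a : X ⟶ T) (b : T ⟶ S)

/-- charts over an affine open of the middle scheme and over an affine open of the base -/
theorem hasChartPC_comp_iff [LocallyOfFiniteType a] {U : X.Opens} (hU : IsAffineOpen U)
    {W : T.Opens} (hW : IsAffineOpen W) {V : S.Opens} (hV : IsAffineOpen V)
    (hUW : U ≤ a ⁻¹ᵁ W) (hWV : W ≤ b ⁻¹ᵁ V) (hUV : U ≤ (a ≫ b) ⁻¹ᵁ V)
    (hft : (b.appLE V W hWV).hom.FiniteType)
    (hb : @MoreMor.IsPseudoCoherentHom Γ(S, V) Γ(T, W) _ _ (b.appLE V W hWV).hom.toAlgebra)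
    (m : ℤ) (E : DCoh.D X) :
    HasChartPC a m E U W hUW ↔ HasChartPC (a ≫ b) m E U V hUV := by
  letI algRB : Algebra Γ(S, V) Γ(T, W) := (b.appLE V W hWV).hom.toAlgebra
  letI algBA : Algebra Γ(T, W) Γ(X, U) := (a.appLE W U hUW).hom.toAlgebra
  letI algRA : Algebra Γ(S, V) Γ(X, U) := ((a ≫ b).appLE V U hUV).hom.toAlgebra
  haveI : IsScalarTower Γ(S, V) Γ(T, W) Γ(X, U) := IsScalarTower.of_algebraMap_eq (fun r => by
    have h1 := Scheme.Hom.appLE_comp_appLE a b V W U hWV hUW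
    exact (congrArg (fun g => g.hom r) h1).symm)
  haveI : Algebra.FiniteType Γ(S, V) Γ(T, W) := hft
  obtain ⟨l, π, hπ⟩ := exists_presentation (R := Γ(S, V)) (A := Γ(T, W))
  have hbπ : BaseIsPc (π : MvPolynomial (Fin l) Γ(S, V) →+* Γ(T, W)) :=
    Groth.Agent.Helper11.PerfMor.baseIsPc_of_hom hb π hπ
  have key : ∀ (n : ℕ) (φ : MvPolynomial (Fin n) Γ(T, W) →+* Γ(X, U)),
      DerSch.IsChart a U W hUW φ →
      ∃ (ψ : MvPolynomial (Fin (n + l)) Γ(S, V) →+* Γ(X, U)),
        DerSch.IsChart (a ≫ b) U V hUV ψ ∧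
          (DerSch.ChartPC m E U W φ ↔ DerSch.ChartPC m E U V ψ) := by
    intro n φ hφ
    let α : MvPolynomial (Fin n) Γ(T, W) →ₐ[Γ(T, W)] Γ(X, U) :=
      { toRingHom := φ
        commutes' := fun r => by
          have := congrArg (fun g => g r) hφ.2
          exact this }
    obtain ⟨δ, hδ, hiff⟩ := pc_push_trans π hπ hbπ α hφ.1
    refine ⟨(δ : MvPolynomial (Fin (n + l)) Γ(S, V) →+* Γ(X, U)), ⟨hδ, ?_⟩, ?_⟩
    · ext r
      exact δ.commutes r
    · rw [chartPC_iff_specRes hU W m E φ, chartPC_iff_specRes hU V m E _]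
      exact forall_congr' (fun G => forall_congr' (fun hG => hiff _ m))
  constructor
  · rintro ⟨n, φ, hφ, hpc⟩
    obtain ⟨ψ, hψ, hiff⟩ := key n φ hφ
    exact ⟨n + l, ψ, hψ, hiff.mp hpc⟩
  · rintro ⟨k, ψ', hψ', hpc⟩
    obtain ⟨n, φ, hφ⟩ := exists_chart a hU hW hUW
    obtain ⟨ψ, hψ, hiff⟩ := key n φ hφ
    exact ⟨n, φ, hφ, hiff.mpr (chartPC_indep (a ≫ b) U hU V hUV m E ψ' hψ' hpc ψ hψ)⟩

/-- composition with a pseudo-coherent morphism of the base -/
theorem rel_comp_iff_of_pcMor [LocallyOfFiniteType a] [LocallyOfFiniteType b]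
    (hb : MoreMor.IsPseudoCoherentMor b) (m : ℤ) (E : DCoh.D X) :
    DerSch.IsPseudoCoherentRel (a ≫ b) m E ↔ DerSch.IsPseudoCoherentRel a m E := by
  constructor
  · intro H
    have H' := (rel_iff_hasChartPC (a ≫ b) m E).mp H
    refine ⟨inferInstance, {W : T.affineOpens | ∃ V : S.affineOpens, W.1 ≤ b ⁻¹ᵁ V.1}, ?_,
      fun W hW => ⟨{U : X.affineOpens | U.1 ≤ a ⁻¹ᵁ W.1}, ?_, ?_⟩⟩
    · apply le_antisymm le_top
      intro t _
      obtain ⟨V, hV, htV, -⟩ :=
        (TopologicalSpace.Opens.isBasis_iff_nbhd.mp S.isBasis_affineOpens)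
          (show b t ∈ (⊤ : S.Opens) from trivial)
      obtain ⟨W, hW, htW, hWV⟩ :=
        (TopologicalSpace.Opens.isBasis_iff_nbhd.mp T.isBasis_affineOpens)
          (show t ∈ b ⁻¹ᵁ V from htV)
      simp only [TopologicalSpace.Opens.mem_iSup]
      exact ⟨⟨W, hW⟩, ⟨⟨V, hV⟩, hWV⟩, htW⟩
    · apply le_antisymm
      · exact iSup₂_le (fun U hU => hU)
      · intro x hx
        obtain ⟨U, hU, hxU, hUi⟩ :=
          (TopologicalSpace.Opens.isBasis_iff_nbhd.mp X.isBasis_affineOpens) hx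
        simp only [TopologicalSpace.Opens.mem_iSup]
        exact ⟨⟨U, hU⟩, hUi, hxU⟩
    · intro U _ hUW
      obtain ⟨V, hWV⟩ := hW
      have hUV : U.1 ≤ (a ≫ b) ⁻¹ᵁ V.1 := fun x hx => hWV (hUW hx)
      exact (hasChartPC_comp_iff a b U.2 W.2 V.2 hUW hWV hUV (b.finiteType_appLE V.2 W.2 hWV)
        (hb W.1 V.1 W.2 V.2 hWV) m E).mpr (H' U V hUV)
  · intro H
    have H' := (rel_iff_hasChartPC a m E).mp H
    refine ⟨inferInstance, Set.univ, ?_, fun V _ =>
      ⟨{U : X.affineOpens | U.1 ≤ (a ≫ b) ⁻¹ᵁ V.1 ∧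
        ∃ W : T.affineOpens, U.1 ≤ a ⁻¹ᵁ W.1 ∧ W.1 ≤ b ⁻¹ᵁ V.1}, ?_, ?_⟩⟩
    · simpa using iSup_affineOpens_eq_top S
    · apply le_antisymm
      · exact iSup₂_le (fun U hU => hU.1)
      · intro x hx
        obtain ⟨W, hW, hxW, hWV⟩ :=
          (TopologicalSpace.Opens.isBasis_iff_nbhd.mp T.isBasis_affineOpens)
            (show a x ∈ b ⁻¹ᵁ V.1 from hx)
        obtain ⟨U, hU, hxU, hUW⟩ :=
          (TopologicalSpace.Opens.isBasis_iff_nbhd.mp X.isBasis_affineOpens)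
            (show x ∈ a ⁻¹ᵁ W from hxW)
        simp only [TopologicalSpace.Opens.mem_iSup]
        exact ⟨⟨U, hU⟩, ⟨fun y hy => hWV (hUW hy), ⟨W, hW⟩, hUW, hWV⟩, hxU⟩
    · rintro U ⟨hUV, W, hUW, hWV⟩ h
      exact (hasChartPC_comp_iff a b U.2 W.2 V.2 hUW hWV h (b.finiteType_appLE V.2 W.2 hWV)
        (hb W.1 V.1 W.2 V.2 hWV) m E).mp (H' U W hUW)

/-- S7226 -/
theorem main_S7226 [LocallyOfFiniteType a] [Flat b] [LocallyOfFinitePresentation b]
    (m : ℤ) (E : DCoh.D X) :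
    DerSch.IsPseudoCoherentRel (a ≫ b) m E ↔ DerSch.IsPseudoCoherentRel a m E :=
  rel_comp_iff_of_pcMor a b (pcMor_of_flat_lfp b) m E

end Groth.Agent.Helper5.OBC
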