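import Groth.Agent.Lib.Helper5.CHP2
import Groth.Agent.Lib.Helper29.OpenRes
import Groth.Agent.Lib.Helper24.TildePush2

/-!
# Direct image along a closed immersion on affine charts, part 1

For `f : X ⟶ Y`, an affine open `W` of `Y` with affine preimage `U = f⁻¹W`: the chart of `f_* G` on
`W` is the direct image, along `Spec Γ(X, U) ⟶ Spec Γ(Y, W)`, of the chart of `G` on `U`.  For a closed
immersion this computes the chart of `f_* F` in terms of a complex of modules representing `F` on `U`.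
-/

set_option autoImplicit false
set_option linter.unusedSectionVars false
set_option linter.unusedVariables false
set_option linter.style.haveILetI false

universe u

open CategoryTheory CategoryTheory.Limits AlgebraicGeometry TopologicalSpace

attribute [local instance] HasDerivedCategory.standard

namespace Groth.Agent.Helper5.PCI

open Groth.Agent.Helper5.TB Groth.Agent.Helper5.RPR Groth.Agent.Helper11
  Groth.Agent.Helper5.TBA Groth.Agent.Helper5.RT Groth.Agent.Helper5.PCT Groth.Agent.Helper5.TT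
  Groth.Agent.Helper5.KF Groth.Agent.Helper9.RelPC Groth.Agent.Helper5.CHP

variable {X Y : Scheme.{u}} (f : X ⟶ Y) {W : Y.Opens} (hW : IsAffineOpen W)
  (hU : IsAffineOpen (f ⁻¹ᵁ W))

lemma sq : (f ∣_ W) ≫ hW.isoSpec.hom = hU.isoSpec.hom ≫ Spec.map (f.app W) := by
  rw [hW.isoSpec_hom, hU.isoSpec_hom, Scheme.Opens.toSpecΓ_naturality]

/-- the chart of a direct image, as a natural isomorphism of functors on modules -/
noncomputable def pushChartNatIso :
    Scheme.Modules.pushforward f ⋙ Scheme.Modules.restrictFunctor W.ι ⋙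
      Scheme.Modules.restrictFunctor hW.isoSpec.inv ≅
    Scheme.Modules.restrictFunctor (f ⁻¹ᵁ W).ι ⋙ Scheme.Modules.restrictFunctor hU.isoSpec.inv ⋙
      Scheme.Modules.pushforward (Spec.map (f.app W)) :=
  (Functor.associator _ _ _).symm ≪≫
    Functor.isoWhiskerRight (Groth.Agent.Helper29.OpenRes.γ f W) _ ≪≫
    Functor.associator _ _ _ ≪≫
    Functor.isoWhiskerLeft (Scheme.Modules.restrictFunctor (f ⁻¹ᵁ W).ι)
      (Functor.isoWhiskerLeft (Scheme.Modules.pushforward (f ∣_ W))
          (pushIsoRestrict hW.isoSpec).symm ≪≫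
        Scheme.Modules.pushforwardComp _ _ ≪≫ Scheme.Modules.pushforwardCongr (sq f hW hU) ≪≫
        (Scheme.Modules.pushforwardComp _ _).symm ≪≫
        Functor.isoWhiskerRight (pushIsoRestrict hU.isoSpec) _)

/-- the chart of a direct image, on complexes -/
noncomputable def pushChartCxIso (G : CochainComplex X.Modules ℤ) :
    (rCx hW.isoSpec.inv).obj ((rCx W.ι).obj ((DerSch.pushCx f).obj G)) ≅
      (DerSch.pushCx (Spec.map (f.app W))).obj
        ((rCx hU.isoSpec.inv).obj ((rCx (f ⁻¹ᵁ W).ι).obj G)) := by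
  haveI i1 : (Scheme.Modules.pushforward f ⋙ Scheme.Modules.restrictFunctor W.ι ⋙
      Scheme.Modules.restrictFunctor hW.isoSpec.inv).PreservesZeroMorphisms := inferInstance
  haveI i2 : (Scheme.Modules.restrictFunctor (f ⁻¹ᵁ W).ι ⋙
      Scheme.Modules.restrictFunctor hU.isoSpec.inv ⋙
      Scheme.Modules.pushforward (Spec.map (f.app W))).PreservesZeroMorphisms := inferInstance
  exact (@NatIso.mapHomologicalComplex _ _ _ _ _ _ _ _ _ i1 i2
    (pushChartNatIso f hW hU) (ComplexShape.up ℤ)).app G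

/-- the chart of a representing complex -/
noncomputable def chartQIso (G : CochainComplex X.Modules ℤ) {U : X.Opens} (hU : IsAffineOpen U) :
    chart (DCoh.toD X G) hU ≅
      DerivedCategory.Q.obj ((rCx hU.isoSpec.inv).obj ((rCx U.ι).obj G)) :=
  (DCoh.restrictD hU.isoSpec.inv).mapIso
      ((Scheme.Modules.restrictFunctor U.ι).mapDerivedCategoryFactors.app G) ≪≫
    (Scheme.Modules.restrictFunctor hU.isoSpec.inv).mapDerivedCategoryFactors.app _

/-- the chart of the direct image of `F` along a closed immersion, in terms of a complex of modules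
representing `F` on the preimage -/
noncomputable def pushChartIso [IsClosedImmersion f] (F : CochainComplex X.Modules ℤ)
    (M : Dual.D Γ(X, f ⁻¹ᵁ W))
    (e : chart (DCoh.toD X F) hU ≅ (DCoh.tildeD Γ(X, f ⁻¹ᵁ W)).obj M) :
    chart (DCoh.toD Y ((DerSch.pushCx f).obj F)) hW ≅
      (DCoh.tildeD Γ(Y, W)).obj ((DRing.restrictD (f.app W).hom).obj M) := by
  let K₀ := (DerivedCategory.Q (C := ModuleCat.{u} Γ(X, f ⁻¹ᵁ W))).objPreimage M
  let e₀ : DerivedCategory.Q.obj K₀ ≅ M :=
    (DerivedCategory.Q (C := ModuleCat.{u} Γ(X, f ⁻¹ᵁ W))).objObjPreimageIso M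
  let GA : CochainComplex (Spec Γ(X, f ⁻¹ᵁ W)).Modules ℤ :=
    (rCx hU.isoSpec.inv).obj ((rCx (f ⁻¹ᵁ W).ι).obj F)
  let e' : DerivedCategory.Q.obj ((tildeC Γ(X, f ⁻¹ᵁ W)).obj K₀) ≅ DerivedCategory.Q.obj GA :=
    QtildeIso Γ(X, f ⁻¹ᵁ W) K₀ ≪≫ (DCoh.tildeD Γ(X, f ⁻¹ᵁ W)).mapIso e₀ ≪≫ e.symm ≪≫
      chartQIso F hU
  haveI : IsClosedImmersion (Spec.map (f.app W)) :=
    IsClosedImmersion.spec_of_surjective _ (f.app_surjective W hW)
  let p1 := pushQIso (Spec.map (f.app W)) e'
  exact chartQIso ((DerSch.pushCx f).obj F) hW ≪≫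
    DerivedCategory.Q.mapIso (pushChartCxIso f hW hU F) ≪≫ p1.symm ≪≫
    DerivedCategory.Q.mapIso ((Groth.Agent.Helper24.TildePush.cxIso (f.app W)).app K₀) ≪≫
    QtildeIso Γ(Y, W) ((rsC (f.app W).hom).obj K₀) ≪≫
    (DCoh.tildeD Γ(Y, W)).mapIso
      (((ModuleCat.restrictScalars.{u} (f.app W).hom).mapDerivedCategoryFactors.app K₀).symm ≪≫
        (DRing.restrictD (f.app W).hom).mapIso e₀)

end Groth.Agent.Helper5.PCI
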