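import Groth.Agent.Lib.Helper5.XCH2
import Groth.Agent.Lib.Helper5.PDZ2
import Groth.Agent.Lib.Helper11.PerfMor4

/-!
# Relative versus absolute pseudo-coherence for a pseudo-coherent morphism, part 1
-/

set_option autoImplicit false
set_option linter.unusedSectionVars false
set_option linter.unusedVariables false
set_option linter.style.haveILetI false

universe u

open CategoryTheory CategoryTheory.Limits AlgebraicGeometry Pretriangulated DerivedCategory
  TopologicalSpace

attribute [local instance] HasDerivedCategory.standard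

namespace Groth.Agent.Helper5.RAB

open Groth.Agent.Helper5.PCT Groth.Agent.Helper5.TB Groth.Agent.Helper5.RT
  Groth.Agent.Helper5.PCZ Groth.Agent.Helper11.MPC Groth.Agent.Helper5.CHP
  Groth.Agent.Helper5.XCH Groth.Agent.Helper5.PDZ

variable {X S : Scheme.{u}} (f : X ⟶ S)

/-- for a pseudo-coherent morphism, the coordinate ring of an affine open of the source is a
pseudo-coherent module over the polynomial ring of any chart -/
theorem baseIsPc_of_chart [LocallyOfFiniteType f]
    (hf : DerSch.IsPseudoCoherentRelAll f (DCoh.toD X (DerSch.unitCx X)))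
    {U : X.Opens} (hU : IsAffineOpen U) {V : S.Opens} (hV : IsAffineOpen V) (h : U ≤ f ⁻¹ᵁ V)
    {n : ℕ} (φ : MvPolynomial (Fin n) Γ(S, V) →+* Γ(X, U)) (hφ : DerSch.IsChart f U V h φ) :
    BaseIsPc φ := by
  have H := (pcRelAll_unit_iff f).mp hf U V hU hV h
  letI alg : Algebra Γ(S, V) Γ(X, U) := (f.appLE V U h).hom.toAlgebra
  let α : MvPolynomial (Fin n) Γ(S, V) →ₐ[Γ(S, V)] Γ(X, U) :=
    { toRingHom := φ
      commutes' := fun r => by
        have := congrArg (fun g => g r) hφ.2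
        exact this }
  exact Groth.Agent.Helper11.PerfMor.baseIsPc_of_hom H α hφ.1

/-- when the coordinate ring is pseudo-coherent over the polynomial ring of the chart, the chart
test is the absolute pseudo-coherence of the restriction to `U` -/
theorem chartPC_iff_of_baseIsPc {U : X.Opens} (hU : IsAffineOpen U) (V : S.Opens) (m : ℤ)
    (E : DCoh.D X) {n : ℕ} (φ : MvPolynomial (Fin n) Γ(S, V) →+* Γ(X, U))
    (hφ : Function.Surjective φ) (hB : BaseIsPc φ) :
    DerSch.ChartPC m E U V φ ↔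
      ∀ G : CochainComplex X.Modules ℤ, Nonempty (DCoh.toD X G ≅ E) →
        DCoh.IsPseudoCoherentD m (Q.obj ((rCx U.ι).obj G)) := by
  haveI : IsClosedImmersion (Spec.map (CommRingCat.ofHom φ)) :=
    IsClosedImmersion.spec_of_surjective _ hφ
  rw [chartPC_iff_spec hU V m E φ]
  refine forall_congr' (fun G => forall_congr' (fun hG => ?_))
  rw [← PCZ.main (Spec.map (CommRingCat.ofHom φ)) (hO_spec φ hB)
    ((rCx hU.isoSpec.inv).obj ((DCoh.restrictCx U).obj G)) m]
  constructor
  · intro h y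
    have h1 := pcAt_of_pc_rCx hU.isoSpec.inv ((rCx U.ι).obj G) m (hU.isoSpec.hom.base y) h
    have e : hU.isoSpec.inv.base (hU.isoSpec.hom.base y) = y := by
      rw [← Scheme.Hom.comp_apply, Iso.hom_inv_id]
      rfl
    rw [e] at h1
    exact h1
  · intro h
    exact pc_rCx hU.isoSpec.inv ((rCx U.ι).obj G) m h

/-- S6207 -/
theorem main [LocallyOfFiniteType f]
    (hf : DerSch.IsPseudoCoherentRelAll f (DCoh.toD X (DerSch.unitCx X))) (m : ℤ)
    (E : DCoh.D X) :
    DCoh.IsPseudoCoherentD m E ↔ DerSch.IsPseudoCoherentRel f m E := by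
  constructor
  · intro hE
    refine ⟨inferInstance, Set.univ, ?_, fun V _ => ⟨{U : X.affineOpens | U.1 ≤ f ⁻¹ᵁ V.1}, ?_, ?_⟩⟩
    · simpa using iSup_affineOpens_eq_top S
    · apply le_antisymm
      · exact iSup₂_le (fun U hU => hU)
      · intro x hx
        obtain ⟨W, hW, hxW, hWi⟩ :=
          (TopologicalSpace.Opens.isBasis_iff_nbhd.mp X.isBasis_affineOpens) hx
        simp only [TopologicalSpace.Opens.mem_iSup]
        exact ⟨⟨W, hW⟩, hWi, hxW⟩
    · intro U _ h
      letI alg : Algebra Γ(S, V.1) Γ(X, U.1) := (f.appLE V.1 U.1 h).hom.toAlgebra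
      haveI : Algebra.FiniteType Γ(S, V.1) Γ(X, U.1) := by
        have h1 := LocallyOfFiniteType.finiteType_appLE f V.2 U.2 h
        exact h1
      obtain ⟨n, α, hα⟩ := exists_presentation (R := Γ(S, V.1)) (A := Γ(X, U.1))
      have hchart : DerSch.IsChart f U.1 V.1 h (α : MvPolynomial (Fin n) Γ(S, V.1) →+* Γ(X, U.1)) := by
        refine ⟨hα, ?_⟩
        ext r
        exact α.commutes r
      refine ⟨n, (α : MvPolynomial (Fin n) Γ(S, V.1) →+* Γ(X, U.1)), hchart, ?_⟩
      refine (chartPC_iff_of_baseIsPc U.2 V.1 m E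
        (α : MvPolynomial (Fin n) Γ(S, V.1) →+* Γ(X, U.1)) hα
        (baseIsPc_of_chart f hf U.2 V.2 h _ hchart)).mpr ?_
      intro G ⟨e⟩
      exact pc_rCx U.1.ι G m (isPseudoCoherentD_of_iso e.symm hE)
  · rintro ⟨_, 𝒱, h𝒱, H⟩
    let G := (Q (C := X.Modules)).objPreimage E
    let e : Q.obj G ≅ E := (Q (C := X.Modules)).objObjPreimageIso E
    refine isPseudoCoherentD_of_iso e ?_
    intro x
    have hfx : f x ∈ (⨆ W ∈ 𝒱, (W : S.Opens)) := by rw [h𝒱]; trivial
    simp only [TopologicalSpace.Opens.mem_iSup] at hfx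
    obtain ⟨W, hW, hfxW⟩ := hfx
    obtain ⟨𝒰, h𝒰, HW⟩ := H W hW
    have hx' : x ∈ (⨆ T ∈ 𝒰, (T : X.Opens)) := by rw [h𝒰]; exact hfxW
    simp only [TopologicalSpace.Opens.mem_iSup] at hx'
    obtain ⟨T, hT, hxT⟩ := hx'
    have hTW : (T : X.Opens) ≤ f ⁻¹ᵁ (W : S.Opens) := by
      rw [← h𝒰]
      exact le_iSup₂ (f := fun (T : X.affineOpens) (_ : T ∈ 𝒰) => (T : X.Opens)) T hT
    obtain ⟨n, φ, hφ, hpc⟩ := HW T hT hTW
    rw [chartPC_iff_of_baseIsPc T.2 W.1 m E φ hφ.1
      (baseIsPc_of_chart f hf T.2 W.2 hTW φ hφ)] at hpc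
    exact pcAt_of_pc_rCx T.1.ι G m ⟨x, hxT⟩ (hpc G ⟨e⟩)

end Groth.Agent.Helper5.RAB
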