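import Groth.Agent.Lib.Helper5.OBC12
import Groth.Agent.Lib.Helper5.PCI1
import Groth.Agent.Lib.Helper5.RAB1

/-!
# Relative pseudo-coherence on charts for arbitrary objects, part 13: closed immersions, and
closed immersions followed by flat morphisms of finite presentation
-/

set_option autoImplicit false
set_option linter.unusedSectionVars false
set_option linter.unusedVariables false
set_option linter.style.haveILetI false

universe u

open CategoryTheory CategoryTheory.Limits AlgebraicGeometry Pretriangulated DerivedCategory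
  TopologicalSpace Opposite

attribute [local instance] HasDerivedCategory.standard

namespace Groth.Agent.Helper5.OBC

open Groth.Agent.Helper5.PCT Groth.Agent.Helper5.TB Groth.Agent.Helper5.RT
  Groth.Agent.Helper5.PCZ Groth.Agent.Helper11.MPC Groth.Agent.Helper5.CHP
  Groth.Agent.Helper5.XCH Groth.Agent.Helper5.CI Groth.Agent.Helper5.PDZ
  Groth.Agent.Helper5.PCI

section Local

variable {P : Scheme.{u}}

/-- pseudo-coherence may be tested on the affine opens -/
theorem pc_iff_forall_specRes (K : CochainComplex P.Modules ℤ) (m : ℤ) :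
    DCoh.IsPseudoCoherentD m (Q.obj K) ↔
      ∀ (V : P.Opens) (hV : IsAffineOpen V), DCoh.IsPseudoCoherentD m (Q.obj (specRes hV K)) := by
  constructor
  · intro h V hV
    exact pc_rCx hV.isoSpec.inv _ m (pc_rCx V.ι K m h)
  · intro h x
    obtain ⟨V', hV, hxV, -⟩ :=
      (TopologicalSpace.Opens.isBasis_iff_nbhd.mp P.isBasis_affineOpens)
        (show x ∈ (⊤ : P.Opens) from trivial)
    let V : P.Opens := V'
    have h1 : DCoh.IsPseudoCoherentD m (Q.obj ((rCx V.ι).obj K)) := by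
      intro y
      have h2 := pcAt_of_pc_rCx hV.isoSpec.inv ((rCx V.ι).obj K) m (hV.isoSpec.hom.base y)
        (h V hV)
      have e : hV.isoSpec.inv.base (hV.isoSpec.hom.base y) = y := by
        rw [← Scheme.Hom.comp_apply, Iso.hom_inv_id]
        rfl
      rw [e] at h2
      exact h2
    exact pcAt_of_pc_rCx V.ι K m ⟨x, hxV⟩ h1

end Local

section CI

variable {X P : Scheme.{u}} (i : X ⟶ P) [IsClosedImmersion i]

/-- the chart in `0` variables on the preimage of an affine open under a closed immersion -/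
noncomputable def ciChart (V : P.Opens) :
    MvPolynomial (Fin 0) Γ(P, V) →+* Γ(X, i ⁻¹ᵁ V) :=
  (i.app V).hom.comp ((MvPolynomial.isEmptyAlgEquiv Γ(P, V) (Fin 0) :
    MvPolynomial (Fin 0) Γ(P, V) ≃ₐ[Γ(P, V)] Γ(P, V)) : MvPolynomial (Fin 0) Γ(P, V) →+* Γ(P, V))

lemma ciChart_isChart {V : P.Opens} (hV : IsAffineOpen V) :
    DerSch.IsChart i (i ⁻¹ᵁ V) V le_rfl (ciChart i V) := by
  refine ⟨(i.app_surjective V hV).comp (MvPolynomial.isEmptyAlgEquiv Γ(P, V) (Fin 0)).surjective,
    ?_⟩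
  ext r
  simp only [ciChart, RingHom.comp_apply]
  have h1 : ((MvPolynomial.isEmptyAlgEquiv Γ(P, V) (Fin 0) :
      MvPolynomial (Fin 0) Γ(P, V) ≃ₐ[Γ(P, V)] Γ(P, V)) :
        MvPolynomial (Fin 0) Γ(P, V) →+* Γ(P, V)) (MvPolynomial.C r) = r :=
    (MvPolynomial.isEmptyAlgEquiv Γ(P, V) (Fin 0)).commutes r
  rw [h1, Scheme.Hom.app_eq_appLE]

/-- the chart test for `ciChart` -/
lemma ciChart_pc_iff {V : P.Opens} (hV : IsAffineOpen V) (hU : IsAffineOpen (i ⁻¹ᵁ V))
    (G : CochainComplex X.Modules ℤ) (m : ℤ) :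
    DCoh.IsPseudoCoherentD m (Q.obj ((DerSch.pushCx
        (Spec.map (CommRingCat.ofHom (ciChart i V)))).obj (specRes hU G))) ↔
      DCoh.IsPseudoCoherentD m (Q.obj (specRes hV ((DerSch.pushCx i).obj G))) := by
  have h1 := pc_push_comp_iff ((MvPolynomial.isEmptyAlgEquiv Γ(P, V) (Fin 0) :
      MvPolynomial (Fin 0) Γ(P, V) ≃ₐ[Γ(P, V)] Γ(P, V)) :
        MvPolynomial (Fin 0) Γ(P, V) →+* Γ(P, V))
    (MvPolynomial.isEmptyAlgEquiv Γ(P, V) (Fin 0)).surjective
    (baseIsPc_of_bijective _ (MvPolynomial.isEmptyAlgEquiv Γ(P, V) (Fin 0)).bijective)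
    (i.app V).hom (specRes hU G) m
  rw [← show (i.app V).hom.comp ((MvPolynomial.isEmptyAlgEquiv Γ(P, V) (Fin 0) :
      MvPolynomial (Fin 0) Γ(P, V) ≃ₐ[Γ(P, V)] Γ(P, V)) :
        MvPolynomial (Fin 0) Γ(P, V) →+* Γ(P, V)) = ciChart i V from rfl, ← h1]
  exact ⟨isPseudoCoherentD_of_iso (Q.mapIso (pushChartCxIso i hV hU G).symm),
    isPseudoCoherentD_of_iso (Q.mapIso (pushChartCxIso i hV hU G))⟩

/-- relative pseudo-coherence for a closed immersion is pseudo-coherence of the direct image -/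
theorem rel_closedImmersion_iff (G : CochainComplex X.Modules ℤ) (m : ℤ) :
    DerSch.IsPseudoCoherentRel i m (DCoh.toD X G) ↔
      DCoh.IsPseudoCoherentD m (DCoh.toD P ((DerSch.pushCx i).obj G)) := by
  constructor
  · intro H
    rw [rel_iff_forall_chart] at H
    rw [pc_iff_forall_specRes]
    intro V hV
    have hU : IsAffineOpen (i ⁻¹ᵁ V) := hV.preimage i
    have h1 := H ⟨i ⁻¹ᵁ V, hU⟩ ⟨V, hV⟩ le_rfl 0 (ciChart i V) (ciChart_isChart i hV)
    rw [chartPC_iff_specRes hU V m _ (ciChart i V)] at h1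
    exact (ciChart_pc_iff i hV hU G m).mp (h1 G ⟨Iso.refl _⟩)
  · intro H
    rw [pc_iff_forall_specRes] at H
    refine ⟨inferInstance, Set.univ, ?_, fun V _ =>
      ⟨{⟨i ⁻¹ᵁ V.1, V.2.preimage i⟩}, ?_, ?_⟩⟩
    · simpa using iSup_affineOpens_eq_top P
    · simp
      rfl
    · intro U hU h
      have hU' : U = ⟨i ⁻¹ᵁ V.1, V.2.preimage i⟩ := hU
      subst hU'
      refine ⟨0, ciChart i V.1, ciChart_isChart i V.2, ?_⟩
      haveI : IsClosedImmersion (Spec.map (CommRingCat.ofHom (ciChart i V.1))) :=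
        IsClosedImmersion.spec_of_surjective _ (ciChart_isChart i V.2).1
      rw [chartPC_iff_D (V.2.preimage i) V.1 (ciChart i V.1)]
      exact isPseudoCoherentD_of_iso (chartDQIso (V.2.preimage i) V.1 (ciChart i V.1) G).symm
        ((ciChart_pc_iff i V.2 (V.2.preimage i) G m).mpr (H V.1 V.2))

end CI

section Main

variable {X P S : Scheme.{u}} (i : X ⟶ P) [IsClosedImmersion i] (g : P ⟶ S)

/-- S7211 -/
theorem main_S7211 [Flat g] [LocallyOfFinitePresentation g] (m : ℤ)
    (F : CochainComplex X.Modules ℤ) :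
    (DerSch.IsPseudoCoherentRel (i ≫ g) m (DCoh.toD X F) ↔
        DCoh.IsPseudoCoherentD m (DCoh.toD P ((DerSch.pushCx i).obj F))) ∧
      (DerSch.IsPseudoCoherentRel g m (DCoh.toD P ((DerSch.pushCx i).obj F)) ↔
        DCoh.IsPseudoCoherentD m (DCoh.toD P ((DerSch.pushCx i).obj F))) := by
  refine ⟨?_, ?_⟩
  · rw [rel_comp_iff_of_pcMor i g (pcMor_of_flat_lfp g) m _]
    exact rel_closedImmersion_iff i F m
  · exact (Groth.Agent.Helper5.RAB.main g
      ((pcRelAll_unit_iff g).mpr (pcMor_of_flat_lfp g)) m _).symm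

/-- S6201 -/
theorem main_S6201 [Smooth g] (n : ℤ) (E : CochainComplex X.Modules ℤ) :
    DerSch.IsPseudoCoherentRel (i ≫ g) n (DCoh.toD X E) ↔
      DCoh.IsPseudoCoherentD n (DCoh.toD P (((Scheme.Modules.pushforward i).mapHomologicalComplex
        (ComplexShape.up ℤ)).obj E)) :=
  (main_S7211 i g n E).1

end Main

end Groth.Agent.Helper5.OBC
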