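import Groth.Agent.Lib.Helper5.OBC1

/-!
# Open base change for direct images of modules, part 2: affine schemes and localisations
-/

set_option autoImplicit false
set_option linter.unusedSectionVars false
set_option linter.unusedVariables false
set_option linter.style.haveILetI false

universe u

open CategoryTheory CategoryTheory.Limits AlgebraicGeometry TopologicalSpace

namespace Groth.Agent.Helper5.OBC

open Groth.Agent.Helper5.CHP Groth.Agent.Helper5.RT

section

variable {R S : Type u} [CommRing R] [CommRing S] [Algebra R S]

set_option backward.isDefEq.respectTransparency.types false in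
lemma opensRange_spec_away (f : R) [IsLocalization.Away f S]
    [IsOpenImmersion (Spec.map (CommRingCat.ofHom (algebraMap R S)))] :
    (Spec.map (CommRingCat.ofHom (algebraMap R S))).opensRange =
      (PrimeSpectrum.basicOpen f : (Spec (CommRingCat.of R)).Opens) := by
  rw [SetLike.ext'_iff]
  exact PrimeSpectrum.localization_away_comap_range S f

end

variable {P A P' A' : Type u} [CommRing P] [CommRing A] [CommRing P'] [CommRing A']
  (φ : P →+* A) (p : P) [Algebra P P'] [IsLocalization.Away p P'] [Algebra A A']
  [IsLocalization.Away (φ p) A'] (φ' : P' →+* A')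
  (hsq : φ'.comp (algebraMap P P') = (algebraMap A A').comp φ)

set_option backward.isDefEq.respectTransparency.types false in
lemma preimage_basicOpen_spec :
    (Spec.map (CommRingCat.ofHom φ)) ⁻¹ᵁ
        (PrimeSpectrum.basicOpen p : (Spec (CommRingCat.of P)).Opens) =
      (PrimeSpectrum.basicOpen (φ p) : (Spec (CommRingCat.of A)).Opens) := by
  ext x
  rfl

include hsq in
/-- open base change along a principal open of an affine scheme -/
noncomputable def specBC
    [IsOpenImmersion (Spec.map (CommRingCat.ofHom (algebraMap P P')))]
    [IsOpenImmersion (Spec.map (CommRingCat.ofHom (algebraMap A A')))]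
    (H : CochainComplex (Spec (CommRingCat.of A)).Modules ℤ) :
    (rCx (Spec.map (CommRingCat.ofHom (algebraMap P P')))).obj
        ((DerSch.pushCx (Spec.map (CommRingCat.ofHom φ))).obj H) ≅
      (DerSch.pushCx (Spec.map (CommRingCat.ofHom φ'))).obj
        ((rCx (Spec.map (CommRingCat.ofHom (algebraMap A A')))).obj H) := by
  refine openBCCx (Spec.map (CommRingCat.ofHom φ)) (Spec.map (CommRingCat.ofHom (algebraMap P P')))
    (Spec.map (CommRingCat.ofHom φ')) (Spec.map (CommRingCat.ofHom (algebraMap A A'))) ?_ ?_ H
  · rw [← Spec.map_comp, ← Spec.map_comp, ← CommRingCat.ofHom_comp, ← CommRingCat.ofHom_comp, hsq]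
  · rw [opensRange_spec_away (φ p), opensRange_spec_away p, preimage_basicOpen_spec]

end Groth.Agent.Helper5.OBC
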