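import Groth.Agent.Lib.Helper5.XCH1

/-!
# Independence of the chart for relative pseudo-coherence of arbitrary objects, part 2:
the pseudo-coherence test on an affine pair does not depend on the chart
-/

set_option autoImplicit false
set_option linter.unusedSectionVars false
set_option linter.unusedVariables false
set_option linter.style.haveILetI false

universe u

open CategoryTheory CategoryTheory.Limits AlgebraicGeometry Pretriangulated DerivedCategory
  TopologicalSpace

attribute [local instance] HasDerivedCategory.standard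

namespace Groth.Agent.Helper5.XCH

open Groth.Agent.Helper5.PCT Groth.Agent.Helper5.TB Groth.Agent.Helper5.RT
  Groth.Agent.Helper5.PCZ Groth.Agent.Helper11.MPC Groth.Agent.Helper5.CHP

section Ring

variable {S : Type u} [CommRing S]

lemma surjective_aeval {k : ℕ} (f : Fin k → S) :
    Function.Surjective ((MvPolynomial.aeval f : MvPolynomial (Fin k) S →ₐ[S] S) :
      MvPolynomial (Fin k) S →+* S) := by
  intro s
  refine ⟨MvPolynomial.C s, ?_⟩
  change MvPolynomial.aeval f (MvPolynomial.C s) = s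
  rw [MvPolynomial.aeval_C]
  rfl

end Ring

variable {X S : Scheme.{u}} (f : X ⟶ S)

/-- the chart test in terms of the direct image along `Spec φ` -/
lemma chartPC_iff_spec {U : X.Opens} (hU : IsAffineOpen U) (V : S.Opens) (m : ℤ) (E : DCoh.D X)
    {n : ℕ} (φ : MvPolynomial (Fin n) Γ(S, V) →+* Γ(X, U)) :
    DerSch.ChartPC m E U V φ ↔
      ∀ G : CochainComplex X.Modules ℤ, Nonempty (DCoh.toD X G ≅ E) →
        DCoh.IsPseudoCoherentD m (Q.obj ((DerSch.pushCx (Spec.map (CommRingCat.ofHom φ))).obj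
          ((rCx hU.isoSpec.inv).obj ((DCoh.restrictCx U).obj G)))) := by
  constructor
  · intro h G hG
    exact isPseudoCoherentD_of_iso (Q.mapIso (chartPushCxIso hU V φ _).symm) (h G hG)
  · intro h G hG
    exact isPseudoCoherentD_of_iso (Q.mapIso (chartPushCxIso hU V φ _)) (h G hG)

/-- S7207 -/
theorem chartPC_indep (U : X.Opens) (hU : IsAffineOpen U) (V : S.Opens) (h : U ≤ f ⁻¹ᵁ V)
    (m : ℤ) (E : DCoh.D X)
    {n : ℕ} (φ : MvPolynomial (Fin n) Γ(S, V) →+* Γ(X, U)) (hφ : DerSch.IsChart f U V h φ)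
    (hE : DerSch.ChartPC m E U V φ)
    {k : ℕ} (ψ : MvPolynomial (Fin k) Γ(S, V) →+* Γ(X, U)) (hψ : DerSch.IsChart f U V h ψ) :
    DerSch.ChartPC m E U V ψ := by
  rw [chartPC_iff_spec hU V m E] at hE ⊢
  intro G hG
  have h1 := hE G hG
  set H := (rCx hU.isoSpec.inv).obj ((DCoh.restrictCx U).obj G) with hH
  letI alg : Algebra Γ(S, V) Γ(X, U) := (f.appLE V U h).hom.toAlgebra
  let α : MvPolynomial (Fin n) Γ(S, V) →ₐ[Γ(S, V)] Γ(X, U) :=
    { toRingHom := φ
      commutes' := fun r => by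
        have := congrArg (fun g => g r) hφ.2
        exact this }
  let β : MvPolynomial (Fin k) Γ(S, V) →ₐ[Γ(S, V)] Γ(X, U) :=
    { toRingHom := ψ
      commutes' := fun r => by
        have := congrArg (fun g => g r) hψ.2
        exact this }
  choose f' hf' using fun j : Fin k => hφ.1 (ψ (MvPolynomial.X j))
  choose g' hg' using fun i : Fin n => hψ.1 (φ (MvPolynomial.X i))
  let ρ₁ : MvPolynomial (Fin k) (MvPolynomial (Fin n) Γ(S, V)) →+*
      MvPolynomial (Fin n) Γ(S, V) :=
    ((MvPolynomial.aeval f' : MvPolynomial (Fin k) (MvPolynomial (Fin n) Γ(S, V)) →ₐ[_] _) :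
      MvPolynomial (Fin k) (MvPolynomial (Fin n) Γ(S, V)) →+* MvPolynomial (Fin n) Γ(S, V))
  let ρ₂ : MvPolynomial (Fin n) (MvPolynomial (Fin k) Γ(S, V)) →+*
      MvPolynomial (Fin k) Γ(S, V) :=
    ((MvPolynomial.aeval g' : MvPolynomial (Fin n) (MvPolynomial (Fin k) Γ(S, V)) →ₐ[_] _) :
      MvPolynomial (Fin n) (MvPolynomial (Fin k) Γ(S, V)) →+* MvPolynomial (Fin k) Γ(S, V))
  let c : MvPolynomial (Fin k) (MvPolynomial (Fin n) Γ(S, V)) →+*
      MvPolynomial (Fin n) (MvPolynomial (Fin k) Γ(S, V)) :=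
    ((MvPolynomial.commAlgEquiv Γ(S, V) (Fin k) (Fin n) :
      MvPolynomial (Fin k) (MvPolynomial (Fin n) Γ(S, V)) ≃ₐ[Γ(S, V)]
        MvPolynomial (Fin n) (MvPolynomial (Fin k) Γ(S, V))) :
      MvPolynomial (Fin k) (MvPolynomial (Fin n) Γ(S, V)) →+*
        MvPolynomial (Fin n) (MvPolynomial (Fin k) Γ(S, V)))
  have key : φ.comp ρ₁ = (ψ.comp ρ₂).comp c := via_key α β f' (fun j => hf' j) g' (fun i => hg' i)
  have key' : φ.comp ρ₁ = ψ.comp (ρ₂.comp c) := by rw [key, RingHom.comp_assoc]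
  have hc : Function.Bijective c := (MvPolynomial.commAlgEquiv Γ(S, V) (Fin k) (Fin n)).bijective
  have hs₂ : Function.Surjective (ρ₂.comp c) := by
    have h1 : Function.Surjective ρ₂ := surjective_aeval g'
    intro y
    obtain ⟨x, hx⟩ := h1 y
    obtain ⟨w, hw⟩ := hc.2 x
    exact ⟨w, by rw [RingHom.comp_apply, hw, hx]⟩
  have hb₂ : BaseIsPc (ρ₂.comp c) :=
    baseIsPc_comp (baseIsPc_of_bijective c hc)
      (baseIsPc_aeval n (MvPolynomial (Fin k) Γ(S, V)) g')
  have h2 := (pc_push_comp_iff ρ₁ (surjective_aeval f')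
    (baseIsPc_aeval k (MvPolynomial (Fin n) Γ(S, V)) f') φ H m).mp h1
  have h3 : DCoh.IsPseudoCoherentD m (Q.obj ((DerSch.pushCx
      (Spec.map (CommRingCat.ofHom (ψ.comp (ρ₂.comp c))))).obj H)) := by
    rw [← key']
    exact h2
  exact (pc_push_comp_iff (ρ₂.comp c) hs₂ hb₂ ψ H m).mpr h3

end Groth.Agent.Helper5.XCH
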