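import Groth.Agent.Lib.Helper5.OBC2
import Groth.Agent.Lib.Helper5.XCH2
import Groth.Agent.Lib.Helper11.RelLoc1

/-!
# Relative pseudo-coherence on charts for arbitrary objects, part 3: presentations of
localisations and independence of the chart on affine schemes
-/

set_option autoImplicit false
set_option linter.unusedSectionVars false
set_option linter.unusedVariables false
set_option linter.style.haveILetI false

universe u

open CategoryTheory CategoryTheory.Limits AlgebraicGeometry Pretriangulated DerivedCategory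
  TopologicalSpace

attribute [local instance] HasDerivedCategory.standard

namespace Groth.Agent.Helper5.OBC

open Groth.Agent.Helper5.PCT Groth.Agent.Helper5.TB Groth.Agent.Helper5.RT
  Groth.Agent.Helper5.PCZ Groth.Agent.Helper11.MPC Groth.Agent.Helper5.CHP
  Groth.Agent.Helper5.XCH

section Ring

open Polynomial in
/-- a localisation away from an element is a quotient of the polynomial ring in one variable
by a regular element -/
theorem exists_away_pres_poly {P : Type u} [CommRing P] (f : P) (S : Type u) [CommRing S]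
    [Algebra P S] [IsLocalization.Away f S] :
    ∃ ev : P[X] →+* S, Function.Surjective ev ∧ BaseIsPc ev ∧
      ev.comp Polynomial.C = algebraMap P S := by
  haveI := IsLocalization.adjoin_inv f
  let g : P[X] := C f * X - 1
  let e : AdjoinRoot g ≃ₐ[P] S := IsLocalization.algEquiv (Submonoid.powers f) _ _
  let ev : P[X] →+* S := (e : AdjoinRoot g →+* S).comp (AdjoinRoot.mk g)
  have hev : BaseIsPc ev :=
    baseIsPc_comp (baseIsPc_adjoinRoot_mk_of_regular g (isRegular_C_mul_X_sub_one f))
      (baseIsPc_of_bijective _ e.bijective)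
  refine ⟨ev, ?_, hev, ?_⟩
  · intro s
    obtain ⟨q, hq⟩ := e.surjective s
    obtain ⟨p, hp⟩ := AdjoinRoot.mk_surjective q
    exact ⟨p, by simp only [ev, RingHom.comp_apply, hp]; exact hq⟩
  · ext p
    simp only [RingHom.comp_apply, ev]
    rw [AdjoinRoot.mk_C]
    exact e.commutes p

/-- a localisation of a polynomial ring in `n` variables away from an element is a
pseudo-coherent quotient of the polynomial ring in `n + 1` variables -/
theorem exists_away_pres {R : Type u} [CommRing R] {n : ℕ} (f : MvPolynomial (Fin n) R)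
    (S : Type u) [CommRing S] [Algebra (MvPolynomial (Fin n) R) S] [IsLocalization.Away f S] :
    ∃ ψ : MvPolynomial (Fin (n + 1)) R →+* S, Function.Surjective ψ ∧ BaseIsPc ψ ∧
      ψ.comp MvPolynomial.C = (algebraMap (MvPolynomial (Fin n) R) S).comp MvPolynomial.C := by
  obtain ⟨ev, hs, hb, hC⟩ := exists_away_pres_poly f S
  let c : MvPolynomial (Fin (n + 1)) R →+* Polynomial (MvPolynomial (Fin n) R) :=
    ((MvPolynomial.finSuccEquiv R n : MvPolynomial (Fin (n + 1)) R ≃ₐ[R]
      Polynomial (MvPolynomial (Fin n) R)) : MvPolynomial (Fin (n + 1)) R →+* _)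
  have hc : Function.Bijective c := (MvPolynomial.finSuccEquiv R n).bijective
  refine ⟨ev.comp c, ?_, baseIsPc_comp (baseIsPc_of_bijective c hc) hb, ?_⟩
  · intro s
    obtain ⟨x, hx⟩ := hs s
    obtain ⟨w, hw⟩ := hc.2 x
    exact ⟨w, by rw [RingHom.comp_apply, hw, hx]⟩
  · ext r
    simp only [RingHom.comp_apply]
    have h1 : c (MvPolynomial.C r) = Polynomial.C (MvPolynomial.C r) :=
      (MvPolynomial.finSuccEquiv R n).commutes r
    rw [h1]
    exact congrArg (fun g => g (MvPolynomial.C r)) hC

end Ring

section Indep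

variable {R A : Type u} [CommRing R] [CommRing A] (ρ : R →+* A)

/-- independence of the chart, on affine schemes -/
theorem pc_push_indep {n : ℕ} (φ : MvPolynomial (Fin n) R →+* A) (hφ : Function.Surjective φ)
    (hφC : φ.comp MvPolynomial.C = ρ)
    {k : ℕ} (ψ : MvPolynomial (Fin k) R →+* A) (hψ : Function.Surjective ψ)
    (hψC : ψ.comp MvPolynomial.C = ρ)
    (H : CochainComplex (Spec (CommRingCat.of A)).Modules ℤ) (m : ℤ)
    (h1 : DCoh.IsPseudoCoherentD m
      (Q.obj ((DerSch.pushCx (Spec.map (CommRingCat.ofHom φ))).obj H))) :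
    DCoh.IsPseudoCoherentD m
      (Q.obj ((DerSch.pushCx (Spec.map (CommRingCat.ofHom ψ))).obj H)) := by
  letI alg : Algebra R A := ρ.toAlgebra
  let α : MvPolynomial (Fin n) R →ₐ[R] A :=
    { toRingHom := φ
      commutes' := fun r => by
        have := congrArg (fun g => g r) hφC
        exact this }
  let β : MvPolynomial (Fin k) R →ₐ[R] A :=
    { toRingHom := ψ
      commutes' := fun r => by
        have := congrArg (fun g => g r) hψC
        exact this }
  choose f' hf' using fun j : Fin k => hφ (ψ (MvPolynomial.X j))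
  choose g' hg' using fun i : Fin n => hψ (φ (MvPolynomial.X i))
  let ρ₁ : MvPolynomial (Fin k) (MvPolynomial (Fin n) R) →+* MvPolynomial (Fin n) R :=
    ((MvPolynomial.aeval f' : MvPolynomial (Fin k) (MvPolynomial (Fin n) R) →ₐ[_] _) :
      MvPolynomial (Fin k) (MvPolynomial (Fin n) R) →+* MvPolynomial (Fin n) R)
  let ρ₂ : MvPolynomial (Fin n) (MvPolynomial (Fin k) R) →+* MvPolynomial (Fin k) R :=
    ((MvPolynomial.aeval g' : MvPolynomial (Fin n) (MvPolynomial (Fin k) R) →ₐ[_] _) :
      MvPolynomial (Fin n) (MvPolynomial (Fin k) R) →+* MvPolynomial (Fin k) R)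
  let c : MvPolynomial (Fin k) (MvPolynomial (Fin n) R) →+*
      MvPolynomial (Fin n) (MvPolynomial (Fin k) R) :=
    ((MvPolynomial.commAlgEquiv R (Fin k) (Fin n) :
      MvPolynomial (Fin k) (MvPolynomial (Fin n) R) ≃ₐ[R]
        MvPolynomial (Fin n) (MvPolynomial (Fin k) R)) :
      MvPolynomial (Fin k) (MvPolynomial (Fin n) R) →+*
        MvPolynomial (Fin n) (MvPolynomial (Fin k) R))
  have key : φ.comp ρ₁ = (ψ.comp ρ₂).comp c := via_key α β f' (fun j => hf' j) g' (fun i => hg' i)
  have key' : φ.comp ρ₁ = ψ.comp (ρ₂.comp c) := by rw [key, RingHom.comp_assoc]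
  have hc : Function.Bijective c := (MvPolynomial.commAlgEquiv R (Fin k) (Fin n)).bijective
  have hs₂ : Function.Surjective (ρ₂.comp c) := by
    have h1 : Function.Surjective ρ₂ := surjective_aeval g'
    intro y
    obtain ⟨x, hx⟩ := h1 y
    obtain ⟨w, hw⟩ := hc.2 x
    exact ⟨w, by rw [RingHom.comp_apply, hw, hx]⟩
  have hb₂ : BaseIsPc (ρ₂.comp c) :=
    baseIsPc_comp (baseIsPc_of_bijective c hc)
      (baseIsPc_aeval n (MvPolynomial (Fin k) R) g')
  have h2 := (pc_push_comp_iff ρ₁ (surjective_aeval f')
    (baseIsPc_aeval k (MvPolynomial (Fin n) R) f') φ H m).mp h1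
  have h3 : DCoh.IsPseudoCoherentD m (Q.obj ((DerSch.pushCx
      (Spec.map (CommRingCat.ofHom (ψ.comp (ρ₂.comp c))))).obj H)) := by
    rw [← key']
    exact h2
  exact (pc_push_comp_iff (ρ₂.comp c) hs₂ hb₂ ψ H m).mpr h3

end Indep

end Groth.Agent.Helper5.OBC
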