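import Groth.Agent.Lib.Helper5.OBC3
import Mathlib.RingTheory.MvPolynomial.Localization

/-!
# Relative pseudo-coherence on charts for arbitrary objects, part 4: restriction to a principal
open of the source, enlarging and shrinking the base, on affine schemes
-/

set_option autoImplicit false
set_option linter.unusedSectionVars false
set_option linter.unusedVariables false
set_option linter.style.haveILetI false

universe u

open CategoryTheory CategoryTheory.Limits AlgebraicGeometry Pretriangulated DerivedCategory
  TopologicalSpace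

attribute [local instance] HasDerivedCategory.standard

namespace Groth.Agent.Helper5.OBC

open Groth.Agent.Helper5.PCT Groth.Agent.Helper5.TB Groth.Agent.Helper5.RT
  Groth.Agent.Helper5.PCZ Groth.Agent.Helper11.MPC Groth.Agent.Helper5.CHP
  Groth.Agent.Helper5.XCH

section Away

variable {R A : Type u} [CommRing R] [CommRing A]

/-- restriction of a chart to a principal open of the source -/
theorem pc_push_away {n : ℕ} (φ : MvPolynomial (Fin n) R →+* A) (hφ : Function.Surjective φ)
    (a : A) (A' : Type u) [CommRing A'] [Algebra A A'] [IsLocalization.Away a A']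
    [IsOpenImmersion (Spec.map (CommRingCat.ofHom (algebraMap A A')))] :
    ∃ ψ : MvPolynomial (Fin (n + 1)) R →+* A', Function.Surjective ψ ∧
      ψ.comp MvPolynomial.C = (algebraMap A A').comp (φ.comp MvPolynomial.C) ∧
      ∀ (H : CochainComplex (Spec (CommRingCat.of A)).Modules ℤ) (m : ℤ),
        DCoh.IsPseudoCoherentD m
          (Q.obj ((DerSch.pushCx (Spec.map (CommRingCat.ofHom φ))).obj H)) →
        DCoh.IsPseudoCoherentD m
          (Q.obj ((DerSch.pushCx (Spec.map (CommRingCat.ofHom ψ))).obj
            ((rCx (Spec.map (CommRingCat.ofHom (algebraMap A A')))).obj H))) := by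
  obtain ⟨ã, hã⟩ := hφ a
  subst hã
  let P' := Localization.Away ã
  let φ' : P' →+* A' := IsLocalization.Away.map P' A' φ ã
  have hsq : φ'.comp (algebraMap (MvPolynomial (Fin n) R) P') = (algebraMap A A').comp φ :=
    IsLocalization.map_comp _
  have hφ' : Function.Surjective φ' := by
    rw [IsLocalization.Away.map_surjective_iff]
    intro x
    obtain ⟨b, hb⟩ := hφ x
    exact ⟨b, 0, by simp [hb]⟩
  obtain ⟨ψ₀, hs, hb, hC⟩ := exists_away_pres ã P'
  refine ⟨φ'.comp ψ₀, hφ'.comp hs, ?_, ?_⟩
  · rw [RingHom.comp_assoc, hC, ← RingHom.comp_assoc, hsq, RingHom.comp_assoc]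
  · intro H m h
    have h' : DCoh.IsPseudoCoherentD m
        (Q.obj ((DerSch.pushCx (Spec.map (CommRingCat.ofHom φ'))).obj
          ((rCx (Spec.map (CommRingCat.ofHom (algebraMap A A')))).obj H))) :=
      isPseudoCoherentD_of_iso (Q.mapIso (specBC φ ã φ' hsq H)) (pc_rCx _ _ m h)
    exact (pc_push_comp_iff ψ₀ hs hb φ' _ m).mp h'

end Away

section Base

variable {R R' A' : Type u} [CommRing R] [CommRing R'] [CommRing A'] [Algebra R R']

attribute [local instance] MvPolynomial.algebraMvPolynomial

/-- enlarging the base of a chart -/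
theorem pc_push_enlarge (r : R) [IsLocalization.Away r R'] {k : ℕ}
    (ψ' : MvPolynomial (Fin k) R' →+* A') (hψ' : Function.Surjective ψ') :
    ∃ ψ : MvPolynomial (Fin (k + 1)) R →+* A', Function.Surjective ψ ∧
      ψ.comp MvPolynomial.C = (ψ'.comp MvPolynomial.C).comp (algebraMap R R') ∧
      ∀ (H' : CochainComplex (Spec (CommRingCat.of A')).Modules ℤ) (m : ℤ),
        DCoh.IsPseudoCoherentD m
          (Q.obj ((DerSch.pushCx (Spec.map (CommRingCat.ofHom ψ'))).obj H')) →
        DCoh.IsPseudoCoherentD m
          (Q.obj ((DerSch.pushCx (Spec.map (CommRingCat.ofHom ψ))).obj H')) := by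
  haveI : IsLocalization.Away (MvPolynomial.C r : MvPolynomial (Fin k) R)
      (MvPolynomial (Fin k) R') := by
    have h1 := MvPolynomial.isLocalization (σ := Fin k) (Submonoid.powers r) R'
    rw [Submonoid.map_powers] at h1
    exact h1
  obtain ⟨ψ₀, hs, hb, hC⟩ := exists_away_pres (MvPolynomial.C r : MvPolynomial (Fin k) R)
    (MvPolynomial (Fin k) R')
  refine ⟨ψ'.comp ψ₀, hψ'.comp hs, ?_, ?_⟩
  · rw [RingHom.comp_assoc, hC]
    ext x
    simp only [RingHom.comp_apply]
    rw [MvPolynomial.algebraMap_def, MvPolynomial.map_C]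
  · intro H' m h
    exact (pc_push_comp_iff ψ₀ hs hb ψ' _ m).mp h

end Base

end Groth.Agent.Helper5.OBC
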