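import Groth.Agent.Lib.Helper5.OBC4
import Groth.Agent.Lib.Helper5.CHP4

/-!
# Relative pseudo-coherence on charts for arbitrary objects, part 5: the complex on
`Spec Γ(X, U)` attached to a complex on `X` and an affine open `U`
-/

set_option autoImplicit false
set_option linter.unusedSectionVars false
set_option linter.unusedVariables false
set_option linter.style.haveILetI false

universe u

open CategoryTheory CategoryTheory.Limits AlgebraicGeometry Pretriangulated DerivedCategory
  TopologicalSpace

attribute [local instance] HasDerivedCategory.standard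

namespace Groth.Agent.Helper5.OBC

open Groth.Agent.Helper5.PCT Groth.Agent.Helper5.TB Groth.Agent.Helper5.RT
  Groth.Agent.Helper5.PCZ Groth.Agent.Helper11.MPC Groth.Agent.Helper5.CHP
  Groth.Agent.Helper5.XCH

section General

variable {X Y Z : Scheme.{u}}

/-- restriction along a composite, on complexes -/
noncomputable def rCxCompIso (f : X ⟶ Y) (g : Y ⟶ Z) [IsOpenImmersion f] [IsOpenImmersion g]
    (G : CochainComplex Z.Modules ℤ) :
    (rCx f).obj ((rCx g).obj G) ≅ (rCx (f ≫ g)).obj G := by
  haveI i1 : (Scheme.Modules.restrictFunctor g ⋙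
      Scheme.Modules.restrictFunctor f).PreservesZeroMorphisms := inferInstance
  exact (@NatIso.mapHomologicalComplex _ _ _ _ _ _ _ _ _ i1 _
    (Scheme.Modules.restrictFunctorComp f g).symm (ComplexShape.up ℤ)).app G

/-- restriction along equal morphisms, on complexes -/
noncomputable def rCxCongrIso {f g : X ⟶ Y} (h : f = g) [IsOpenImmersion f] [IsOpenImmersion g]
    (G : CochainComplex Y.Modules ℤ) :
    (rCx f).obj G ≅ (rCx g).obj G :=
  (NatIso.mapHomologicalComplex (Scheme.Modules.restrictFunctorCongr h)
    (ComplexShape.up ℤ)).app G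

/-- restriction along the identity, on complexes -/
noncomputable def rCxIdIso (G : CochainComplex X.Modules ℤ) :
    (rCx (𝟙 X)).obj G ≅ G := by
  haveI i2 : (𝟭 X.Modules).PreservesZeroMorphisms := inferInstance
  exact (@NatIso.mapHomologicalComplex _ _ _ _ _ _ _ _ _ _ i2
    (Scheme.Modules.restrictFunctorId (X := X)) (ComplexShape.up ℤ)).app G ≪≫
    (Functor.mapHomologicalComplexIdIso X.Modules (ComplexShape.up ℤ)).app G

end General

variable {X : Scheme.{u}}

/-- the complex on `Spec Γ(X, U)` used by the chart test -/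
noncomputable abbrev specRes {U : X.Opens} (hU : IsAffineOpen U)
    (G : CochainComplex X.Modules ℤ) :
    CochainComplex (Spec (CommRingCat.of Γ(X, U))).Modules ℤ :=
  (rCx hU.isoSpec.inv).obj ((DCoh.restrictCx U).obj G)

noncomputable def specResIso {U : X.Opens} (hU : IsAffineOpen U)
    (G : CochainComplex X.Modules ℤ) :
    specRes hU G ≅ (rCx hU.fromSpec).obj G :=
  rCxCompIso hU.isoSpec.inv U.ι G ≪≫ rCxCongrIso hU.isoSpec_inv_ι G

/-- restriction to a smaller affine open -/
noncomputable def specResLocIso {U U' : X.Opens} (hU : IsAffineOpen U) (hU' : IsAffineOpen U')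
    (h : U' ≤ U) [IsOpenImmersion (Spec.map (CommRingCat.ofHom (resΓ h)))]
    (G : CochainComplex X.Modules ℤ) :
    (rCx (Spec.map (CommRingCat.ofHom (resΓ h)))).obj (specRes hU G) ≅ specRes hU' G :=
  (rCx (Spec.map (CommRingCat.ofHom (resΓ h)))).mapIso (specResIso hU G) ≪≫
    rCxCompIso _ hU.fromSpec G ≪≫ rCxCongrIso (specMap_resΓ_fromSpec hU hU' h) G ≪≫
    (specResIso hU' G).symm

/-- the chart test in terms of `specRes` -/
lemma chartPC_iff_specRes {S : Scheme.{u}} {U : X.Opens} (hU : IsAffineOpen U) (V : S.Opens)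
    (m : ℤ) (E : DCoh.D X) {n : ℕ} (φ : MvPolynomial (Fin n) Γ(S, V) →+* Γ(X, U)) :
    DerSch.ChartPC m E U V φ ↔
      ∀ G : CochainComplex X.Modules ℤ, Nonempty (DCoh.toD X G ≅ E) →
        DCoh.IsPseudoCoherentD m (Q.obj ((DerSch.pushCx (Spec.map (CommRingCat.ofHom φ))).obj
          (specRes hU G))) :=
  chartPC_iff_spec hU V m E φ

end Groth.Agent.Helper5.OBC
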