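import Groth.Agent.Lib.Helper5.OBC5

/-!
# Relative pseudo-coherence on charts for arbitrary objects, part 6: restriction of a chart to a
principal open of the source and enlarging the base (scheme level)
-/

set_option autoImplicit false
set_option linter.unusedSectionVars false
set_option linter.unusedVariables false
set_option linter.style.haveILetI false

universe u

open CategoryTheory CategoryTheory.Limits AlgebraicGeometry Pretriangulated DerivedCategory
  TopologicalSpace Opposite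

attribute [local instance] HasDerivedCategory.standard

namespace Groth.Agent.Helper5.OBC

open Groth.Agent.Helper5.PCT Groth.Agent.Helper5.TB Groth.Agent.Helper5.RT
  Groth.Agent.Helper5.PCZ Groth.Agent.Helper11.MPC Groth.Agent.Helper5.CHP
  Groth.Agent.Helper5.XCH

variable {X S : Scheme.{u}} (f : X ⟶ S)

/-- the existence of a chart passing the test on an affine pair -/
def HasChartPC (m : ℤ) (E : DCoh.D X) (U : X.Opens) (V : S.Opens) (h : U ≤ f ⁻¹ᵁ V) : Prop :=
  ∃ (n : ℕ) (φ : MvPolynomial (Fin n) Γ(S, V) →+* Γ(X, U)),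
    DerSch.IsChart f U V h φ ∧ DerSch.ChartPC m E U V φ

/-- restriction of a chart to a principal open of the source -/
theorem hasChartPC_basicOpen {U : X.Opens} (hU : IsAffineOpen U) {V : S.Opens}
    (h : U ≤ f ⁻¹ᵁ V) (m : ℤ) (E : DCoh.D X) (g : Γ(X, U))
    (H : HasChartPC f m E U V h) :
    HasChartPC f m E (X.basicOpen g) V ((X.basicOpen_le g).trans h) := by
  obtain ⟨n, φ, hφ, hpc⟩ := H
  haveI : IsLocalization.Away g Γ(X, X.basicOpen g) := hU.isLocalization_basicOpen g
  haveI : IsOpenImmersion (Spec.map (CommRingCat.ofHom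
      (algebraMap Γ(X, U) Γ(X, X.basicOpen g)))) :=
    isOpenImmersion_specMap_resΓ (X.basicOpen_le g) hU (hU.basicOpen g)
  obtain ⟨ψ, hψs, hψC, hψ⟩ := pc_push_away φ hφ.1 g Γ(X, X.basicOpen g)
  refine ⟨n + 1, ψ, ⟨hψs, ?_⟩, ?_⟩
  · rw [hψC, hφ.2]
    have h1 := f.appLE_map h (homOfLE (X.basicOpen_le g)).op
    exact congrArg CommRingCat.Hom.hom h1
  · rw [chartPC_iff_specRes hU V m E φ] at hpc
    rw [chartPC_iff_specRes (hU.basicOpen g) V m E ψ]
    intro G hG
    have h2 := hψ _ m (hpc G hG)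
    exact isPseudoCoherentD_of_iso (Q.mapIso ((DerSch.pushCx _).mapIso
      (specResLocIso hU (hU.basicOpen g) (X.basicOpen_le g) G))) h2

/-- enlarging the base of a chart from a principal open -/
theorem hasChartPC_enlarge {U : X.Opens} (hU : IsAffineOpen U) {V : S.Opens}
    (hV : IsAffineOpen V) (r : Γ(S, V)) (h : U ≤ f ⁻¹ᵁ S.basicOpen r) (m : ℤ) (E : DCoh.D X)
    (H : HasChartPC f m E U (S.basicOpen r) h) :
    HasChartPC f m E U V (h.trans (f.preimage_mono (S.basicOpen_le r))) := by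
  obtain ⟨n, φ, hφ, hpc⟩ := H
  haveI : IsLocalization.Away r Γ(S, S.basicOpen r) := hV.isLocalization_basicOpen r
  obtain ⟨ψ, hψs, hψC, hψ⟩ := pc_push_enlarge r φ hφ.1
  refine ⟨n + 1, ψ, ⟨hψs, ?_⟩, ?_⟩
  · rw [hψC, hφ.2]
    have h1 := f.map_appLE h (homOfLE (S.basicOpen_le r)).op
    exact congrArg CommRingCat.Hom.hom h1
  · rw [chartPC_iff_specRes hU _ m E φ] at hpc
    rw [chartPC_iff_specRes hU V m E ψ]
    intro G hG
    exact hψ _ m (hpc G hG)

/-- S7218 -/
theorem main_S7218 (V : S.affineOpens)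
    (r : Γ(S, (V : S.Opens))) (U : X.affineOpens) (hU : (U : X.Opens) ≤ f ⁻¹ᵁ S.basicOpen r)
    (g : Γ(X, (U : X.Opens))) (h' : X.basicOpen g ≤ f ⁻¹ᵁ (V : S.Opens))
    (m : ℤ) (E : DCoh.D X)
    (hE : ∃ (n : ℕ) (φ : MvPolynomial (Fin n) Γ(S, S.basicOpen r) →+* Γ(X, (U : X.Opens))),
      DerSch.IsChart f (U : X.Opens) (S.basicOpen r) hU φ ∧
        DerSch.ChartPC m E (U : X.Opens) (S.basicOpen r) φ) :
    ∃ (k : ℕ) (ψ : MvPolynomial (Fin k) Γ(S, (V : S.Opens)) →+* Γ(X, X.basicOpen g)),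
      DerSch.IsChart f (X.basicOpen g) (V : S.Opens) h' ψ ∧
        DerSch.ChartPC m E (X.basicOpen g) (V : S.Opens) ψ :=
  hasChartPC_basicOpen f U.2 _ m E g (hasChartPC_enlarge f U.2 V.2 r hU m E hE)

end Groth.Agent.Helper5.OBC
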