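import Groth.Agent.Lib.Helper5.OBC6
import Groth.Agent.Lib.Helper11.MPC12

/-!
# Relative pseudo-coherence on charts for arbitrary objects, part 7: gluing along a standard
covering of the source
-/

set_option autoImplicit false
set_option linter.unusedSectionVars false
set_option linter.unusedVariables false
set_option linter.style.haveILetI false

universe u

open CategoryTheory CategoryTheory.Limits AlgebraicGeometry Pretriangulated DerivedCategory
  TopologicalSpace Opposite

attribute [local instance] HasDerivedCategory.standard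

namespace Groth.Agent.Helper5.OBC

open Groth.Agent.Helper5.PCT Groth.Agent.Helper5.TB Groth.Agent.Helper5.RT
  Groth.Agent.Helper5.PCZ Groth.Agent.Helper11.MPC Groth.Agent.Helper5.CHP
  Groth.Agent.Helper5.XCH

section Spec

variable {R A : Type u} [CommRing R] [CommRing A]

/-- pseudo-coherence of the direct image along `Spec φ` near the image of a point of a principal
open on which some chart passes the test -/
theorem pcAt_push_of_away {n : ℕ} (φ : MvPolynomial (Fin n) R →+* A)
    (hφ : Function.Surjective φ) (H : CochainComplex (Spec (CommRingCat.of A)).Modules ℤ) (m : ℤ)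
    (a : A) (A' : Type u) [CommRing A'] [Algebra A A'] [IsLocalization.Away a A']
    [IsOpenImmersion (Spec.map (CommRingCat.ofHom (algebraMap A A')))]
    {k : ℕ} (ψ : MvPolynomial (Fin k) R →+* A') (hψ : Function.Surjective ψ)
    (hψC : ψ.comp MvPolynomial.C = (algebraMap A A').comp (φ.comp MvPolynomial.C))
    (hpc : DCoh.IsPseudoCoherentD m
      (Q.obj ((DerSch.pushCx (Spec.map (CommRingCat.ofHom ψ))).obj
        ((rCx (Spec.map (CommRingCat.ofHom (algebraMap A A')))).obj H))))
    (z : Spec (CommRingCat.of A))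
    (hz : z ∈ (PrimeSpectrum.basicOpen a : (Spec (CommRingCat.of A)).Opens)) :
    PCAt m (Q.obj ((DerSch.pushCx (Spec.map (CommRingCat.ofHom φ))).obj H))
      ((Spec.map (CommRingCat.ofHom φ)).base z) := by
  obtain ⟨ã, hã⟩ := hφ a
  subst hã
  let P' := Localization.Away ã
  let φ' : P' →+* A' := IsLocalization.Away.map P' A' φ ã
  have hsq : φ'.comp (algebraMap (MvPolynomial (Fin n) R) P') = (algebraMap A A').comp φ :=
    IsLocalization.map_comp _
  have hφ' : Function.Surjective φ' := by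
    rw [IsLocalization.Away.map_surjective_iff]
    intro x
    obtain ⟨b, hb⟩ := hφ x
    exact ⟨b, 0, by simp [hb]⟩
  obtain ⟨ψ₀, hs, hb, hC⟩ := exists_away_pres ã P'
  have hC' : (φ'.comp ψ₀).comp MvPolynomial.C =
      (algebraMap A A').comp (φ.comp MvPolynomial.C) := by
    rw [RingHom.comp_assoc, hC, ← RingHom.comp_assoc, hsq, RingHom.comp_assoc]
  have h1 := pc_push_indep ((algebraMap A A').comp (φ.comp MvPolynomial.C)) ψ hψ hψC
    (φ'.comp ψ₀) (hφ'.comp hs) hC' _ m hpc
  have h2 := (pc_push_comp_iff ψ₀ hs hb φ' _ m).mpr h1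
  have h3 := isPseudoCoherentD_of_iso (Q.mapIso (specBC φ ã φ' hsq H).symm) h2
  have hy : (Spec.map (CommRingCat.ofHom φ)).base z ∈
      (Spec.map (CommRingCat.ofHom (algebraMap (MvPolynomial (Fin n) R) P'))).opensRange := by
    rw [opensRange_spec_away ã]
    exact hz
  obtain ⟨y', hy'⟩ := hy
  have h4 := pcAt_of_pc_rCx
    (Spec.map (CommRingCat.ofHom (algebraMap (MvPolynomial (Fin n) R) P'))) _ m y' h3
  rw [hy'] at h4
  exact h4

end Spec

variable {X S : Scheme.{u}} (f : X ⟶ S)

/-- gluing along a standard covering of the source -/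
theorem hasChartPC_glue {U : X.Opens} (hU : IsAffineOpen U) {V : S.Opens}
    (h : U ≤ f ⁻¹ᵁ V) (hft : (f.appLE V U h).hom.FiniteType) (m : ℤ) (E : DCoh.D X)
    {k : ℕ} (g : Fin k → Γ(X, U)) (hg : Ideal.span (Set.range g) = ⊤)
    (H : ∀ j : Fin k, HasChartPC f m E (X.basicOpen (g j)) V ((X.basicOpen_le (g j)).trans h)) :
    HasChartPC f m E U V h := by
  letI alg : Algebra Γ(S, V) Γ(X, U) := (f.appLE V U h).hom.toAlgebra
  haveI : Algebra.FiniteType Γ(S, V) Γ(X, U) := hft
  obtain ⟨n, α, hα⟩ := exists_presentation (R := Γ(S, V)) (A := Γ(X, U))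
  have hchart : DerSch.IsChart f U V h (α : MvPolynomial (Fin n) Γ(S, V) →+* Γ(X, U)) := by
    refine ⟨hα, ?_⟩
    ext r
    exact α.commutes r
  refine ⟨n, (α : MvPolynomial (Fin n) Γ(S, V) →+* Γ(X, U)), hchart, ?_⟩
  rw [chartPC_iff_specRes hU V m E]
  intro G hG y
  haveI : IsClosedImmersion (Spec.map (CommRingCat.ofHom
      (α : MvPolynomial (Fin n) Γ(S, V) →+* Γ(X, U)))) :=
    IsClosedImmersion.spec_of_surjective _ hα
  by_cases hy : y ∈ Set.range (Spec.map (CommRingCat.ofHom
      (α : MvPolynomial (Fin n) Γ(S, V) →+* Γ(X, U)))).base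
  · obtain ⟨z, rfl⟩ := hy
    have hex : ∃ j : Fin k,
        z ∈ (PrimeSpectrum.basicOpen (g j) : (Spec (CommRingCat.of Γ(X, U))).Opens) := by
      by_contra hcon
      push_neg at hcon
      have hle : Ideal.span (Set.range g) ≤ z.asIdeal := by
        rw [Ideal.span_le]
        rintro _ ⟨j, rfl⟩
        have := hcon j
        by_contra h'
        exact this h'
      rw [hg] at hle
      exact z.isPrime.ne_top (top_le_iff.mp hle)
    obtain ⟨j, hj⟩ := hex
    obtain ⟨k', ψ, hψ, hpc⟩ := H j
    haveI : IsLocalization.Away (g j) Γ(X, X.basicOpen (g j)) := hU.isLocalization_basicOpen (g j)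
    haveI : IsOpenImmersion (Spec.map (CommRingCat.ofHom
        (algebraMap Γ(X, U) Γ(X, X.basicOpen (g j))))) :=
      isOpenImmersion_specMap_resΓ (X.basicOpen_le (g j)) hU (hU.basicOpen (g j))
    rw [chartPC_iff_specRes (hU.basicOpen (g j)) V m E ψ] at hpc
    have h2 := isPseudoCoherentD_of_iso (Q.mapIso ((DerSch.pushCx _).mapIso
      (specResLocIso hU (hU.basicOpen (g j)) (X.basicOpen_le (g j)) G).symm)) (hpc G hG)
    refine pcAt_push_of_away (α : MvPolynomial (Fin n) Γ(S, V) →+* Γ(X, U)) hα _ m (g j)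
      Γ(X, X.basicOpen (g j)) ψ hψ.1 ?_ h2 z hj
    rw [hψ.2, hchart.2]
    have h1 := f.appLE_map h (homOfLE (X.basicOpen_le (g j))).op
    exact (congrArg CommRingCat.Hom.hom h1).symm
  · exact pcAt_push_of_not_mem_range _ _ m y hy

/-- S7217 -/
theorem main_S7217 (U : X.affineOpens)
    (V : S.affineOpens) (h : (U : X.Opens) ≤ f ⁻¹ᵁ (V : S.Opens))
    (hft : (f.appLE (V : S.Opens) (U : X.Opens) h).hom.FiniteType) (m : ℤ) (E : DCoh.D X)
    {k : ℕ} (g : Fin k → Γ(X, (U : X.Opens))) (hg : Ideal.span (Set.range g) = ⊤) :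
    (∀ j : Fin k, ∃ (n : ℕ)
        (φ : MvPolynomial (Fin n) Γ(S, (V : S.Opens)) →+* Γ(X, X.basicOpen (g j))),
        DerSch.IsChart f (X.basicOpen (g j)) (V : S.Opens) ((X.basicOpen_le (g j)).trans h) φ ∧
          DerSch.ChartPC m E (X.basicOpen (g j)) (V : S.Opens) φ) ↔
      ∃ (n : ℕ) (φ : MvPolynomial (Fin n) Γ(S, (V : S.Opens)) →+* Γ(X, (U : X.Opens))),
        DerSch.IsChart f (U : X.Opens) (V : S.Opens) h φ ∧
          DerSch.ChartPC m E (U : X.Opens) (V : S.Opens) φ :=
  ⟨fun H => hasChartPC_glue f U.2 h hft m E g hg H,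
    fun H j => hasChartPC_basicOpen f U.2 h m E (g j) H⟩

end Groth.Agent.Helper5.OBC
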