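import Groth.Agent.Lib.Helper5.OBC7
import Groth.Agent.Lib.Helper5.CHP8

/-!
# Relative pseudo-coherence on charts for arbitrary objects, part 8: shrinking the base, and the
chart form of relative pseudo-coherence in terms of all affine pairs
-/

set_option autoImplicit false
set_option linter.unusedSectionVars false
set_option linter.unusedVariables false
set_option linter.style.haveILetI false

universe u

open CategoryTheory CategoryTheory.Limits AlgebraicGeometry Pretriangulated DerivedCategory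
  TopologicalSpace Opposite

attribute [local instance] HasDerivedCategory.standard

namespace Groth.Agent.Helper5.OBC

open Groth.Agent.Helper5.PCT Groth.Agent.Helper5.TB Groth.Agent.Helper5.RT
  Groth.Agent.Helper5.PCZ Groth.Agent.Helper11.MPC Groth.Agent.Helper5.CHP
  Groth.Agent.Helper5.XCH

section Spec

variable {R R' A' : Type u} [CommRing R] [CommRing R'] [CommRing A'] [Algebra R R']

attribute [local instance] MvPolynomial.algebraMvPolynomial

/-- shrinking the base of a chart to a principal open containing the image -/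
theorem pc_push_shrink (r : R) [IsLocalization.Away r R'] {k : ℕ}
    (ψ : MvPolynomial (Fin k) R →+* A') (hψ : Function.Surjective ψ) (ρ' : R' →+* A')
    (hρ' : ρ'.comp (algebraMap R R') = ψ.comp MvPolynomial.C) :
    ∃ ψ' : MvPolynomial (Fin k) R' →+* A', Function.Surjective ψ' ∧
      ψ'.comp MvPolynomial.C = ρ' ∧
      ∀ (H' : CochainComplex (Spec (CommRingCat.of A')).Modules ℤ) (m : ℤ),
        DCoh.IsPseudoCoherentD m
          (Q.obj ((DerSch.pushCx (Spec.map (CommRingCat.ofHom ψ))).obj H')) →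
        DCoh.IsPseudoCoherentD m
          (Q.obj ((DerSch.pushCx (Spec.map (CommRingCat.ofHom ψ'))).obj H')) := by
  haveI : IsLocalization.Away (MvPolynomial.C r : MvPolynomial (Fin k) R)
      (MvPolynomial (Fin k) R') := by
    have h1 := MvPolynomial.isLocalization (σ := Fin k) (Submonoid.powers r) R'
    rw [Submonoid.map_powers] at h1
    exact h1
  let ψ' : MvPolynomial (Fin k) R' →+* A' :=
    MvPolynomial.eval₂Hom ρ' (fun i => ψ (MvPolynomial.X i))
  have hcomp : ψ'.comp (algebraMap (MvPolynomial (Fin k) R) (MvPolynomial (Fin k) R')) = ψ := by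
    rw [MvPolynomial.algebraMap_def]
    apply MvPolynomial.ringHom_ext
    · intro x
      simp only [RingHom.comp_apply, MvPolynomial.map_C, ψ', MvPolynomial.coe_eval₂Hom,
        MvPolynomial.eval₂_C]
      exact congrArg (fun g => g x) hρ'
    · intro i
      simp only [RingHom.comp_apply, MvPolynomial.map_X, ψ', MvPolynomial.coe_eval₂Hom,
        MvPolynomial.eval₂_X]
  have hψ' : Function.Surjective ψ' := by
    intro y
    obtain ⟨x, hx⟩ := hψ y
    exact ⟨algebraMap (MvPolynomial (Fin k) R) (MvPolynomial (Fin k) R') x, by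
      rw [← hx, ← hcomp]; rfl⟩
  have hunit : IsUnit (ψ (MvPolynomial.C r)) := by
    have h1 : ψ (MvPolynomial.C r) = ρ' (algebraMap R R' r) :=
      (congrArg (fun g => g r) hρ').symm
    rw [h1]
    exact (IsLocalization.Away.algebraMap_isUnit r).map ρ'
  haveI : IsLocalization.Away (ψ (MvPolynomial.C r)) A' :=
    IsLocalization.away_of_isUnit_of_bijective A' hunit Function.bijective_id
  have hid : Spec.map (CommRingCat.ofHom (algebraMap A' A')) = 𝟙 _ := by
    rw [Algebra.algebraMap_self]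
    exact Spec.map_id _
  haveI : IsOpenImmersion (Spec.map (CommRingCat.ofHom (algebraMap A' A'))) := by
    rw [hid]
    infer_instance
  haveI : IsOpenImmersion (Spec.map (CommRingCat.ofHom
      (algebraMap (MvPolynomial (Fin k) R) (MvPolynomial (Fin k) R')))) :=
    IsOpenImmersion.of_isLocalization (MvPolynomial.C r : MvPolynomial (Fin k) R)
  have hsq : ψ'.comp (algebraMap (MvPolynomial (Fin k) R) (MvPolynomial (Fin k) R')) =
      (algebraMap A' A').comp ψ := by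
    rw [hcomp, Algebra.algebraMap_self, RingHom.id_comp]
  refine ⟨ψ', hψ', ?_, ?_⟩
  · ext x
    simp only [RingHom.comp_apply, ψ', MvPolynomial.coe_eval₂Hom, MvPolynomial.eval₂_C]
  · intro H' m h
    have h1 := isPseudoCoherentD_of_iso
      (Q.mapIso (specBC ψ (MvPolynomial.C r) ψ' hsq H')) (pc_rCx _ _ m h)
    exact isPseudoCoherentD_of_iso (Q.mapIso ((DerSch.pushCx _).mapIso
      (rCxCongrIso hid H' ≪≫ rCxIdIso H'))) h1

end Spec

variable {X S : Scheme.{u}} (f : X ⟶ S)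

/-- shrinking the base of a chart to a principal open containing the image -/
theorem hasChartPC_shrink {U : X.Opens} (hU : IsAffineOpen U) {V : S.Opens}
    (hV : IsAffineOpen V) (h : U ≤ f ⁻¹ᵁ V) (r : Γ(S, V)) (h' : U ≤ f ⁻¹ᵁ S.basicOpen r)
    (m : ℤ) (E : DCoh.D X) (H : HasChartPC f m E U V h) :
    HasChartPC f m E U (S.basicOpen r) h' := by
  obtain ⟨n, φ, hφ, hpc⟩ := H
  haveI : IsLocalization.Away r Γ(S, S.basicOpen r) := hV.isLocalization_basicOpen r
  obtain ⟨ψ, hψs, hψC, hψ⟩ := pc_push_shrink r φ hφ.1 (f.appLE (S.basicOpen r) U h').hom (by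
    rw [hφ.2]
    have h1 := f.map_appLE h' (homOfLE (S.basicOpen_le r)).op
    exact congrArg CommRingCat.Hom.hom h1)
  refine ⟨n, ψ, ⟨hψs, hψC⟩, ?_⟩
  rw [chartPC_iff_specRes hU _ m E φ] at hpc
  rw [chartPC_iff_specRes hU _ m E ψ]
  intro G hG
  exact hψ _ m (hpc G hG)

lemma hasChartPC_congr {U U' : X.Opens} {V V' : S.Opens} (hUV : U ≤ f ⁻¹ᵁ V)
    (hUV' : U' ≤ f ⁻¹ᵁ V') (e1 : U = U') (e2 : V = V') (m : ℤ) (E : DCoh.D X)
    (h : HasChartPC f m E U V hUV) : HasChartPC f m E U' V' hUV' := by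
  subst e1
  subst e2
  exact h

/-- restriction of a chart to a pair of principal opens -/
theorem hasChartPC_restrict {U : X.Opens} (hU : IsAffineOpen U) {V : S.Opens}
    (hV : IsAffineOpen V) (h : U ≤ f ⁻¹ᵁ V) (a : Γ(X, U)) (r : Γ(S, V))
    (hle : X.basicOpen a ≤ f ⁻¹ᵁ S.basicOpen r) (m : ℤ) (E : DCoh.D X)
    (H : HasChartPC f m E U V h) :
    HasChartPC f m E (X.basicOpen a) (S.basicOpen r) hle :=
  hasChartPC_shrink f (hU.basicOpen a) hV _ r hle m E (hasChartPC_basicOpen f hU h m E a H)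

section

variable [LocallyOfFiniteType f] (m : ℤ) (E : DCoh.D X)

theorem hasChartPC_of_local {U : X.Opens} (hU : IsAffineOpen U) {V : S.Opens}
    (hV : IsAffineOpen V) (hUV : U ≤ f ⁻¹ᵁ V)
    (H : ∀ x ∈ U, ∃ (a : Γ(X, U)) (r : Γ(S, V)) (hle : X.basicOpen a ≤ f ⁻¹ᵁ S.basicOpen r),
      x ∈ X.basicOpen a ∧ HasChartPC f m E (X.basicOpen a) (S.basicOpen r) hle) :
    HasChartPC f m E U V hUV := by
  let s : Set Γ(X, U) := {a | ∃ (r : Γ(S, V)) (hle : X.basicOpen a ≤ f ⁻¹ᵁ S.basicOpen r),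
    HasChartPC f m E (X.basicOpen a) (S.basicOpen r) hle}
  have hs : Ideal.span s = ⊤ := by
    rw [← hU.self_le_iSup_basicOpen_iff]
    intro x hx
    obtain ⟨a, r, hle, hxa, HH⟩ := H x hx
    exact TopologicalSpace.Opens.mem_iSup.mpr ⟨⟨a, ⟨r, hle, HH⟩⟩, hxa⟩
  obtain ⟨s', hs's, hs'⟩ := (Ideal.span_eq_top_iff_finite s).mp hs
  let a : Fin s'.card → Γ(X, U) := fun i => (s'.equivFin.symm i).1
  have hrange : Set.range a = (s' : Set Γ(X, U)) := by
    ext y
    constructor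
    · rintro ⟨i, rfl⟩
      exact (s'.equivFin.symm i).2
    · intro hy
      exact ⟨s'.equivFin ⟨y, hy⟩, by simp [a]⟩
  have hmem : ∀ i, a i ∈ s := fun i => hs's (s'.equivFin.symm i).2
  choose r hle HH using hmem
  refine hasChartPC_glue f hU hUV (f.finiteType_appLE hV hU hUV) m E a (hrange ▸ hs') (fun i => ?_)
  exact hasChartPC_enlarge f (hU.basicOpen (a i)) hV (r i) (hle i) m E (HH i)

theorem hasChartPC_transfer {U₁ U₂ : X.Opens} (hU₁ : IsAffineOpen U₁)
    (hU₂ : IsAffineOpen U₂) {V₁ V₂ : S.Opens} (hV₁ : IsAffineOpen V₁) (hV₂ : IsAffineOpen V₂)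
    (e₁ : U₁ ≤ f ⁻¹ᵁ V₁) (e₂ : U₂ ≤ f ⁻¹ᵁ V₂) (H : HasChartPC f m E U₂ V₂ e₂)
    (x : X) (hx₁ : x ∈ U₁) (hx₂ : x ∈ U₂) :
    ∃ (a : Γ(X, U₁)) (r : Γ(S, V₁)) (hle : X.basicOpen a ≤ f ⁻¹ᵁ S.basicOpen r),
      x ∈ X.basicOpen a ∧ HasChartPC f m E (X.basicOpen a) (S.basicOpen r) hle := by
  obtain ⟨r, r', hBrr', hBfx⟩ := exists_basicOpen_le_affine_inter hV₁ hV₂ (f x)
    ⟨e₁ hx₁, e₂ hx₂⟩
  have ha : IsAffineOpen (X.basicOpen (f.appLE V₂ U₂ e₂ r')) := hU₂.basicOpen _
  have hxa : x ∈ X.basicOpen (f.appLE V₂ U₂ e₂ r') := by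
    simpa [Scheme.Hom.appLE, ← Scheme.preimage_basicOpen] using And.intro hx₂ (hBrr' ▸ hBfx)
  obtain ⟨s, s', hBss', hBx⟩ := exists_basicOpen_le_affine_inter hU₁ ha x ⟨hx₁, hxa⟩
  obtain ⟨s'', hs''⟩ := hU₂.basicOpen_basicOpen_is_basicOpen _ s'
  have hle' : X.basicOpen (f.appLE V₂ U₂ e₂ r') ≤ f ⁻¹ᵁ S.basicOpen r' := by
    simp [Scheme.Hom.appLE]
  have ers : X.basicOpen s ≤ f ⁻¹ᵁ S.basicOpen r := by
    rw [hBss', hBrr']
    exact le_trans (X.basicOpen_le _) hle'
  have ers'' : X.basicOpen s'' ≤ f ⁻¹ᵁ S.basicOpen r' := by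
    rw [hs'']
    exact le_trans (X.basicOpen_le _) hle'
  refine ⟨s, r, ers, hBx, ?_⟩
  have h1 := hasChartPC_restrict f hU₂ hV₂ e₂ s'' r' ers'' m E H
  exact hasChartPC_congr f ers'' ers (hs''.trans hBss'.symm) hBrr'.symm m E h1

/-- S7208 -/
theorem rel_iff_hasChartPC :
    DerSch.IsPseudoCoherentRel f m E ↔
      ∀ (U : X.affineOpens) (V : S.affineOpens) (h : (U : X.Opens) ≤ f ⁻¹ᵁ (V : S.Opens)),
        HasChartPC f m E (U : X.Opens) (V : S.Opens) h := by
  constructor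
  · rintro ⟨_, 𝒱, h𝒱, H⟩ U V hUV
    refine hasChartPC_of_local f m E U.2 V.2 hUV (fun x hx => ?_)
    have hfx : f x ∈ (⨆ W ∈ 𝒱, (W : S.Opens)) := by rw [h𝒱]; trivial
    simp only [TopologicalSpace.Opens.mem_iSup] at hfx
    obtain ⟨W, hW, hfxW⟩ := hfx
    obtain ⟨𝒰, h𝒰, HW⟩ := H W hW
    have hx' : x ∈ (⨆ T ∈ 𝒰, (T : X.Opens)) := by rw [h𝒰]; exact hfxW
    simp only [TopologicalSpace.Opens.mem_iSup] at hx'
    obtain ⟨T, hT, hxT⟩ := hx'
    have hTW : (T : X.Opens) ≤ f ⁻¹ᵁ (W : S.Opens) := by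
      rw [← h𝒰]
      exact le_iSup₂ (f := fun (T : X.affineOpens) (_ : T ∈ 𝒰) => (T : X.Opens)) T hT
    exact hasChartPC_transfer f m E U.2 T.2 V.2 W.2 hUV hTW (HW T hT hTW) x hx hxT
  · intro H
    refine ⟨inferInstance, Set.univ, ?_, fun V _ => ⟨{U : X.affineOpens | U.1 ≤ f ⁻¹ᵁ V.1}, ?_, ?_⟩⟩
    · simpa using iSup_affineOpens_eq_top S
    · apply le_antisymm
      · exact iSup₂_le (fun U hU => hU)
      · intro x hx
        obtain ⟨W, hW, hxW, hWi⟩ :=
          (TopologicalSpace.Opens.isBasis_iff_nbhd.mp X.isBasis_affineOpens) hx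
        simp only [TopologicalSpace.Opens.mem_iSup]
        exact ⟨⟨W, hW⟩, hWi, hxW⟩
    · intro U _ h
      exact H U V h

end

end Groth.Agent.Helper5.OBC
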