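import Groth.Agent.Lib.Helper5.OBC8
import Groth.Agent.Lib.Helper5.PCT5

/-!
# Relative pseudo-coherence on charts for arbitrary objects, part 9: the chart functor on derived
categories, all charts, and distinguished triangles
-/

set_option autoImplicit false
set_option linter.unusedSectionVars false
set_option linter.unusedVariables false
set_option linter.style.haveILetI false

universe u

open CategoryTheory CategoryTheory.Limits AlgebraicGeometry Pretriangulated DerivedCategory
  TopologicalSpace Opposite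

attribute [local instance] HasDerivedCategory.standard

namespace Groth.Agent.Helper5.OBC

open Groth.Agent.Helper5.PCT Groth.Agent.Helper5.TB Groth.Agent.Helper5.RT
  Groth.Agent.Helper5.PCZ Groth.Agent.Helper11.MPC Groth.Agent.Helper5.CHP
  Groth.Agent.Helper5.XCH Groth.Agent.Helper5.CI

variable {X S : Scheme.{u}} (f : X ⟶ S)

section Fun

variable {U : X.Opens} (hU : IsAffineOpen U) (V : S.Opens) {n : ℕ}
  (φ : MvPolynomial (Fin n) Γ(S, V) →+* Γ(X, U))

/-- the chart functor on modules -/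
noncomputable abbrev chartFun :
    X.Modules ⥤ (Spec (CommRingCat.of (MvPolynomial (Fin n) Γ(S, V)))).Modules :=
  Scheme.Modules.restrictFunctor U.ι ⋙ Scheme.Modules.restrictFunctor hU.isoSpec.inv ⋙
    Scheme.Modules.pushforward (Spec.map (CommRingCat.ofHom φ))

variable [IsClosedImmersion (Spec.map (CommRingCat.ofHom φ))]

instance : PreservesFiniteLimits (chartFun hU V φ) := by
  unfold chartFun
  infer_instance

instance : PreservesFiniteColimits (chartFun hU V φ) := by
  unfold chartFun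
  haveI : PreservesFiniteColimits (Scheme.Modules.restrictFunctor hU.isoSpec.inv ⋙
      Scheme.Modules.pushforward (Spec.map (CommRingCat.ofHom φ))) := inferInstance
  infer_instance

/-- the chart functor on derived categories -/
noncomputable abbrev chartD :
    DCoh.D X ⥤ DCoh.D (Spec (CommRingCat.of (MvPolynomial (Fin n) Γ(S, V)))) :=
  (chartFun hU V φ).mapDerivedCategory

noncomputable def chartDQIso (G : CochainComplex X.Modules ℤ) :
    (chartD hU V φ).obj (Q.obj G) ≅
      Q.obj ((DerSch.pushCx (Spec.map (CommRingCat.ofHom φ))).obj (specRes hU G)) :=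
  (chartFun hU V φ).mapDerivedCategoryFactors.app G

lemma chartPC_iff_D (m : ℤ) (E : DCoh.D X) :
    DerSch.ChartPC m E U V φ ↔ DCoh.IsPseudoCoherentD m ((chartD hU V φ).obj E) := by
  rw [chartPC_iff_specRes hU V m E φ]
  constructor
  · intro h
    let G := (Q (C := X.Modules)).objPreimage E
    let e : Q.obj G ≅ E := (Q (C := X.Modules)).objObjPreimageIso E
    exact isPseudoCoherentD_of_iso ((chartDQIso hU V φ G).symm ≪≫ (chartD hU V φ).mapIso e)
      (h G ⟨e⟩)
  · intro h G ⟨e⟩
    exact isPseudoCoherentD_of_iso ((chartD hU V φ).mapIso e.symm ≪≫ chartDQIso hU V φ G) h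

end Fun

section All

variable [LocallyOfFiniteType f] (m : ℤ) (E : DCoh.D X)

/-- existence of a chart on an affine pair -/
lemma exists_chart {U : X.Opens} (hU : IsAffineOpen U) {V : S.Opens} (hV : IsAffineOpen V)
    (h : U ≤ f ⁻¹ᵁ V) :
    ∃ (n : ℕ) (φ : MvPolynomial (Fin n) Γ(S, V) →+* Γ(X, U)), DerSch.IsChart f U V h φ := by
  letI alg : Algebra Γ(S, V) Γ(X, U) := (f.appLE V U h).hom.toAlgebra
  haveI : Algebra.FiniteType Γ(S, V) Γ(X, U) := f.finiteType_appLE hV hU h
  obtain ⟨n, α, hα⟩ := exists_presentation (R := Γ(S, V)) (A := Γ(X, U))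
  refine ⟨n, (α : MvPolynomial (Fin n) Γ(S, V) →+* Γ(X, U)), hα, ?_⟩
  ext r
  exact α.commutes r

/-- relative pseudo-coherence in chart form: every chart on every affine pair passes the test -/
theorem rel_iff_forall_chart :
    DerSch.IsPseudoCoherentRel f m E ↔
      ∀ (U : X.affineOpens) (V : S.affineOpens) (h : (U : X.Opens) ≤ f ⁻¹ᵁ (V : S.Opens))
        (n : ℕ) (φ : MvPolynomial (Fin n) Γ(S, (V : S.Opens)) →+* Γ(X, (U : X.Opens))),
        DerSch.IsChart f (U : X.Opens) (V : S.Opens) h φ →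
          DerSch.ChartPC m E (U : X.Opens) (V : S.Opens) φ := by
  rw [rel_iff_hasChartPC]
  constructor
  · intro H U V h n φ hφ
    obtain ⟨k, ψ, hψ, hpc⟩ := H U V h
    exact chartPC_indep f U.1 U.2 V.1 h m E ψ hψ hpc φ hφ
  · intro H U V h
    obtain ⟨n, φ, hφ⟩ := exists_chart f U.2 V.2 h
    exact ⟨n, φ, hφ, H U V h n φ hφ⟩

/-- S6204 -/
theorem rel_triangle (n : ℤ)
    (T : Triangle (DCoh.D X)) (hT : T ∈ distTriang (DCoh.D X)) :
    (DerSch.IsPseudoCoherentRel f (n + 1) T.obj₁ → DerSch.IsPseudoCoherentRel f n T.obj₂ →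
        DerSch.IsPseudoCoherentRel f n T.obj₃) ∧
      (DerSch.IsPseudoCoherentRel f n T.obj₁ → DerSch.IsPseudoCoherentRel f n T.obj₃ →
        DerSch.IsPseudoCoherentRel f n T.obj₂) ∧
      (DerSch.IsPseudoCoherentRel f n T.obj₂ → DerSch.IsPseudoCoherentRel f (n - 1) T.obj₃ →
        DerSch.IsPseudoCoherentRel f n T.obj₁) := by
  simp only [rel_iff_forall_chart]
  refine ⟨fun h1 h2 U V h k φ hφ => ?_, fun h1 h3 U V h k φ hφ => ?_,
    fun h2 h3 U V h k φ hφ => ?_⟩
  · haveI : IsClosedImmersion (Spec.map (CommRingCat.ofHom φ)) :=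
      IsClosedImmersion.spec_of_surjective _ hφ.1
    have hT' := (chartD U.2 V.1 φ).map_distinguished T hT
    have a1 := (chartPC_iff_D U.2 V.1 φ (n + 1) T.obj₁).mp (h1 U V h k φ hφ)
    have a2 := (chartPC_iff_D U.2 V.1 φ n T.obj₂).mp (h2 U V h k φ hφ)
    exact (chartPC_iff_D U.2 V.1 φ n T.obj₃).mpr
      (isPseudoCoherentD_obj₃ _ hT' n a1 a2)
  · haveI : IsClosedImmersion (Spec.map (CommRingCat.ofHom φ)) :=
      IsClosedImmersion.spec_of_surjective _ hφ.1
    have hT' := (chartD U.2 V.1 φ).map_distinguished T hT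
    have a1 := (chartPC_iff_D U.2 V.1 φ n T.obj₁).mp (h1 U V h k φ hφ)
    have a3 := (chartPC_iff_D U.2 V.1 φ n T.obj₃).mp (h3 U V h k φ hφ)
    exact (chartPC_iff_D U.2 V.1 φ n T.obj₂).mpr
      (isPseudoCoherentD_obj₂ _ hT' n a1 a3)
  · haveI : IsClosedImmersion (Spec.map (CommRingCat.ofHom φ)) :=
      IsClosedImmersion.spec_of_surjective _ hφ.1
    have hT' := (chartD U.2 V.1 φ).map_distinguished T hT
    have a2 := (chartPC_iff_D U.2 V.1 φ n T.obj₂).mp (h2 U V h k φ hφ)
    have a3 := (chartPC_iff_D U.2 V.1 φ (n - 1) T.obj₃).mp (h3 U V h k φ hφ)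
    have a2' : DCoh.IsPseudoCoherentD (n - 1 + 1)
        ((chartD U.2 V.1 φ).mapTriangle.obj T).obj₂ := by
      rw [sub_add_cancel]
      exact a2
    have r := isPseudoCoherentD_obj₁ _ hT' (n - 1) a2' a3
    rw [sub_add_cancel] at r
    exact (chartPC_iff_D U.2 V.1 φ n T.obj₁).mpr r

end All

end Groth.Agent.Helper5.OBC
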