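import Groth.Agent.Lib.Helper5.PBT2
import Groth.Agent.Lib.Helper5.TRS2

/-!
# Derived pullback commutes with the derived tensor product
-/

set_option autoImplicit false
set_option linter.unusedSectionVars false
set_option linter.unusedVariables false
set_option linter.style.haveILetI false

universe u

open CategoryTheory CategoryTheory.Limits AlgebraicGeometry MonoidalCategory

attribute [local instance] HasDerivedCategory.standard

namespace Groth.Agent.Helper5.PBT

open Groth.Agent.Helper5.StalkCx Groth.Agent.Helper5.LDer Groth.Agent.Helper5.TRS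

/-- the tensor product of K-flat complexes of modules over a ring is K-flat -/
theorem isKFlat_tensor_ring {A : Type u} [CommRing A] {K E : DRing.Cx A}
    (hK : DRing.IsKFlat A K) (hE : DRing.IsKFlat A E) : DRing.IsKFlat A (K ⊗ E) := by
  intro L hL i
  have h1 := hK L hL
  have h2 := hE (L ⊗ K) h1 i
  exact IsZero.of_iso h2 ((HomologicalComplex.homologyFunctor _ _ i).mapIso (α_ L K E).symm)

lemma isKFlat_ring_of_iso {A : Type u} [CommRing A] {K E : DRing.Cx A} (e : K ≅ E)
    (hK : DRing.IsKFlat A K) : DRing.IsKFlat A E := by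
  intro L hL i
  exact IsZero.of_iso (hK L hL i)
    ((HomologicalComplex.homologyFunctor _ _ i).mapIso (whiskerLeftIso L e.symm))

variable {X Y : Scheme.{u}}

/-- the tensor product of K-flat complexes of `O_X`-modules is K-flat -/
theorem isKFlat_tensor (G L : CochainComplex X.Modules ℤ) (hG : DCoh.IsKFlat G)
    (hL : DCoh.IsKFlat L) : DCoh.IsKFlat ((DCoh.tensorCx.obj G).obj L) := by
  apply isKFlat_of_stalks
  intro x
  exact isKFlat_ring_of_iso (stalkTensIso x G L)
    (isKFlat_tensor_ring (Sky.isKFlat_stalk x G hG) (Sky.isKFlat_stalk x L hL))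

/-- derived pullback commutes with the derived tensor product with a K-flat complex -/
theorem nonempty_Lpull_LTensorCx_iso (f : X ⟶ Y) [DCoh.HasLpull f]
    (L : CochainComplex Y.Modules ℤ) (hL : DCoh.IsKFlat L) [DCoh.HasLTensorCx L]
    [DCoh.HasLTensorCx (((Scheme.Modules.pullback f).mapHomologicalComplex
      (ComplexShape.up ℤ)).obj L)] (K : DCoh.D Y) :
    Nonempty ((DCoh.Lpull f).obj ((DCoh.LTensorCx L).obj K) ≅
      (DCoh.LTensorCx (((Scheme.Modules.pullback f).mapHomologicalComplex
        (ComplexShape.up ℤ)).obj L)).obj ((DCoh.Lpull f).obj K)) := by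
  obtain ⟨G, hG, ⟨eG⟩⟩ := exists_kflat_repr K
  have hfL := Sky.isKFlat_pullback f L hL
  have e1 : (DCoh.Lpull f).obj ((DCoh.LTensorCx L).obj K) ≅
      DerivedCategory.Q.obj (((Scheme.Modules.pullback f).mapHomologicalComplex
        (ComplexShape.up ℤ)).obj ((DCoh.tensorCx.obj G).obj L)) :=
    (DCoh.Lpull f).mapIso ((DCoh.LTensorCx L).mapIso eG.symm ≪≫ LTensorCxObjIso L hL G) ≪≫
      LpullObjIso f _ (isKFlat_tensor G L hG hL)
  have e2 : (DCoh.LTensorCx (((Scheme.Modules.pullback f).mapHomologicalComplex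
        (ComplexShape.up ℤ)).obj L)).obj ((DCoh.Lpull f).obj K) ≅
      DerivedCategory.Q.obj ((DCoh.tensorCx.obj (((Scheme.Modules.pullback f).mapHomologicalComplex
        (ComplexShape.up ℤ)).obj G)).obj (((Scheme.Modules.pullback f).mapHomologicalComplex
        (ComplexShape.up ℤ)).obj L)) :=
    (DCoh.LTensorCx _).mapIso ((DCoh.Lpull f).mapIso eG.symm ≪≫ LpullObjIso f G hG) ≪≫
      LTensorCxObjIso _ hfL _
  exact ⟨e1 ≪≫ DerivedCategory.Q.mapIso (pullbackTensIso f G L).symm ≪≫ e2.symm⟩

end Groth.Agent.Helper5.PBT
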