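import Groth.Agent.Lib.Helper5.KResB1
import Groth.Agent.Lib.Helper5.LDer2

/-!
# Right t-exactness of the pullback on K-flat complexes
-/

set_option autoImplicit false
set_option linter.unusedSectionVars false
set_option linter.unusedVariables false
set_option linter.style.haveILetI false

universe u

open CategoryTheory CategoryTheory.Limits AlgebraicGeometry HomologicalComplex ZeroObject

namespace Groth.Agent.Helper5.PC

open Groth.Agent.Helper5.KRes Groth.Agent.Helper5.KResB CochainComplex

variable {X Y : Scheme.{u}}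

lemma isZero_homology_of_isZero_X {𝒜 : Type*} [Category 𝒜] [Abelian 𝒜]
    (K : CochainComplex 𝒜 ℤ) (i : ℤ) (h : IsZero (K.X i)) : IsZero (K.homology i) := by
  rw [← HomologicalComplex.exactAt_iff_isZero_homology]
  exact ShortComplex.exact_of_isZero_X₂ _ h

/-- if a K-flat complex is acyclic in degrees `≥ m`, so is its pullback -/
theorem isZero_homology_pullback_of_kflat (f : X ⟶ Y) (C : CochainComplex Y.Modules ℤ)
    (hC : DCoh.IsKFlat C) (m : ℤ) (h : ∀ i, m ≤ i → IsZero (C.homology i)) (i : ℤ) (hi : m ≤ i) :
    IsZero ((((Scheme.Modules.pullback f).mapHomologicalComplex (ComplexShape.up ℤ)).obj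
      C).homology i) := by
  haveI : C.IsLE (m - 1) := by
    rw [CochainComplex.isLE_iff]
    intro j hj
    rw [HomologicalComplex.exactAt_iff_isZero_homology]
    exact h j (by omega)
  obtain ⟨R, q, hR, -, hq, hz⟩ := exists_kFlat_resolution_bddAbove (C.truncLE (m - 1)) (m - 1)
    (fun j hj => (C.truncLE (m - 1)).isZero_of_isStrictlyLE (m - 1) j hj)
  have hqi : QuasiIso (q ≫ C.ιTruncLE (m - 1)) := inferInstance
  have hP := Sky.quasiIso_pullback_of_kflat f _ hqi hR hC
  set Φ := (Scheme.Modules.pullback f).mapHomologicalComplex (ComplexShape.up ℤ) with hΦ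
  have hzR : IsZero ((Φ.obj R).homology i) :=
    isZero_homology_of_isZero_X _ i ((Scheme.Modules.pullback f).map_isZero (hz i (by omega)))
  haveI := hP
  exact IsZero.of_iso hzR (asIso (HomologicalComplex.homologyMap (Φ.map (q ≫ C.ιTruncLE (m - 1))) i)).symm

end Groth.Agent.Helper5.PC
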