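import Groth.Agent.Lib.Helper11.RelFin5
import Groth.Agent.Lib.Helper11.RelLoc2
import Groth.Agent.Lib.Helper11.MPC12

/-!
# Composition of `r`- and `s`-pseudo-coherent ring maps (ring level)

Restriction of scalars along `φ : A → B` with `B` an `s`-pseudo-coherent `A`-module sends an
`m`-pseudo-coherent object of `D^{≤ b}(B)` to an `m`-pseudo-coherent object of `D(A)` as soon as
`s + b ≤ m`.  Consequence: transitivity of relative `n`-pseudo-coherence of finite type algebras
with the bound `max r s`.
-/

set_option autoImplicit false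
set_option linter.unusedSectionVars false
set_option linter.unusedVariables false
set_option linter.style.haveILetI false

open CategoryTheory Category Limits Pretriangulated DerivedCategory ZeroObject

attribute [local instance] HasDerivedCategory.standard

universe u

namespace Groth.Agent.Helper5.PCB

open Groth.Agent.Helper11.DC Groth.Agent.Helper11.GenRes Groth.Agent.Helper11.TA
  Groth.Agent.Helper11.MPC

section General

variable {R : Type u} [CommRing R] {P : Dual.D R → Prop}

theorem ext_biprod (hP : ExtClosed P) {X Y : Dual.D R} (hX : P X) (hY : P Y) : P (X ⊞ Y) :=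
  hP.ext _ (binaryBiproductTriangle_distinguished X Y) hX hY

theorem ext_single_prod (hP : ExtClosed P) (X Y : ModuleCat.{u} R)
    (hX : P ((singleFunctor (ModuleCat.{u} R) 0).obj X))
    (hY : P ((singleFunctor (ModuleCat.{u} R) 0).obj Y)) :
    P ((singleFunctor (ModuleCat.{u} R) 0).obj (ModuleCat.of R (X × Y))) := by
  haveI : PreservesBinaryBiproducts (singleFunctor (ModuleCat.{u} R) 0) :=
    preservesBinaryBiproducts_of_preservesBiproducts _
  exact hP.iso (((singleFunctor (ModuleCat.{u} R) 0).mapBiprod X Y).symm ≪≫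
    (singleFunctor (ModuleCat.{u} R) 0).mapIso (ModuleCat.biprodIsoProd X Y))
    (ext_biprod hP hX hY)

theorem ext_single_pi (hP : ExtClosed P) (X : ModuleCat.{u} R)
    (hX : P ((singleFunctor (ModuleCat.{u} R) 0).obj X)) (k : ℕ) :
    P ((singleFunctor (ModuleCat.{u} R) 0).obj (ModuleCat.of R (Fin k → X))) := by
  induction k with
  | zero =>
    exact hP.zero _ (Functor.map_isZero _ (ModuleCat.isZero_of_subsingleton _))
  | succ k ih =>
    exact hP.iso ((singleFunctor (ModuleCat.{u} R) 0).mapIso
      (Fin.consLinearEquiv R (fun _ : Fin (k + 1) => (X : Type u))).toModuleIso)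
      (ext_single_prod hP X (ModuleCat.of R (Fin k → X)) hX ih)

end General

section Restrict

variable {A B : Type u} [CommRing A] [CommRing B] (φ : A →+* B)

/-- the hypothesis: `B` is an `s`-pseudo-coherent `A`-module -/
abbrev BaseMpc (s : ℤ) : Prop := DRing.IsPseudoCoherent A s
  ((singleFunctor (ModuleCat.{u} A) 0).obj
    ((ModuleCat.restrictScalars.{u} φ).obj (ModuleCat.of B B)))

variable {φ}

theorem mpc_restrict_pi {s : ℤ} (hB : BaseMpc φ s) (k : ℕ) :
    DRing.IsPseudoCoherent A s ((singleFunctor (ModuleCat.{u} A) 0).obj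
      ((ModuleCat.restrictScalars.{u} φ).obj (ModuleCat.of B (Fin k → B)))) := by
  have h := ext_single_pi (mpc_extClosed s) _ hB k
  let X₁ : ModuleCat.{u} A :=
    ModuleCat.of A (Fin k → ((ModuleCat.restrictScalars.{u} φ).obj (ModuleCat.of B B)))
  let X₂ : ModuleCat.{u} A :=
    (ModuleCat.restrictScalars.{u} φ).obj (ModuleCat.of B (Fin k → B))
  refine mpc_of_iso ((singleFunctor (ModuleCat.{u} A) 0).mapIso (X := X₁) (Y := X₂) ?_) h
  exact
    { hom := ModuleCat.ofHom (X := X₁) (Y := X₂)
        { toFun := fun x => x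
          map_add' := fun _ _ => rfl
          map_smul' := fun _ _ => rfl }
      inv := ModuleCat.ofHom (X := X₂) (Y := X₁)
        { toFun := fun x => x
          map_add' := fun _ _ => rfl
          map_smul' := fun _ _ => rfl }
      hom_inv_id := rfl
      inv_hom_id := rfl }

theorem mpc_restrict_sgl {s : ℤ} (hB : BaseMpc φ s) (k : ℕ) (b m : ℤ) (hm : s + b ≤ m) :
    DRing.IsPseudoCoherent A m
      ((DRing.restrictD φ).obj (Q.obj (sgl b (ModuleCat.of B (Fin k → B))))) := by
  let F : ModuleCat.{u} B := ModuleCat.of B (Fin k → B)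
  have e1 : Q.obj (sgl b F) ≅ (singleFunctor (ModuleCat.{u} B) b).obj F :=
    ((singleFunctorIsoCompQ (ModuleCat.{u} B) b).app F).symm
  have e2 := ((ModuleCat.restrictScalars.{u} φ).mapDerivedCategorySingleFunctor b).app F
  refine mpc_of_iso ((DRing.restrictD φ).mapIso e1 ≪≫ e2).symm ?_
  refine mpc_of_le hm ?_
  apply mpc_single_of_module
  have e : s + b - b = s := by ring
  rw [e]
  exact mpc_restrict_pi hB k

theorem mpc_restrict_bdd_aux {s : ℤ} (hB : BaseMpc φ s) (m : ℤ) (n : ℕ) :
    ∀ (K : Dual.D B) (b : ℤ), b < m + n → s + b ≤ m → K.IsLE b →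
      DRing.IsPseudoCoherent B m K →
      DRing.IsPseudoCoherent A m ((DRing.restrictD φ).obj K) := by
  induction n with
  | zero =>
    intro K b hb _ hK _
    have hK' := isLE_restrict φ K b hK
    exact mpc_of_isZero_homology _ (fun i hi => (isLE_iff _ b).mp hK' i (by omega))
  | succ n ih =>
    intro K b hb hsb hK h
    have hK' := isLE_restrict φ K b hK
    by_cases hbm : b < m
    · exact mpc_of_isZero_homology _ (fun i hi => (isLE_iff _ b).mp hK' i (by omega))
    · haveI := hK
      have hfin : Module.Finite B ((Hf B b).obj K) :=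
        finite_top_homology (mpc_of_le (by omega) h)
      obtain ⟨k, ψ, hψ⟩ := exists_top_cover K b hfin
      obtain ⟨C, g, δ, hT⟩ := distinguished_cocone_triangle ψ
      have hC : C.IsLE (b - 1) := cone_isLE ψ g δ hT (fun i hi =>
        isIso_of_isZero' _ (sgl_isZero_homology b _ i (by omega))
          ((isLE_iff K b).mp hK i hi)) hψ
      have hCpc : DRing.IsPseudoCoherent B m C := mpc_third _ hT m (mpc_sgl b _ (m + 1)) h
      have hC' := ih C (b - 1) (by omega) (by omega) hC hCpc
      have hT' := (DRing.restrictD φ).map_distinguished _ hT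
      exact (mpc_two_of_three _ hT' m).2.1 (mpc_restrict_sgl hB k b m hsb) hC'

/-- restriction of scalars along `A → B` with `B` an `s`-pseudo-coherent `A`-module -/
theorem mpc_restrict_bdd {s : ℤ} (hB : BaseMpc φ s) (m b : ℤ) (hsb : s + b ≤ m)
    (K : Dual.D B) (hK : K.IsLE b) (h : DRing.IsPseudoCoherent B m K) :
    DRing.IsPseudoCoherent A m ((DRing.restrictD φ).obj K) :=
  mpc_restrict_bdd_aux hB m (b - m + 1).toNat K b (by omega) hsb hK h

end Restrict

section PolyBC

variable {P A : Type u} [CommRing P] [CommRing A] (α : P →+* A) (k : ℕ)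

/-- `A` `s`-pseudo-coherent over `P` implies `A[y]` `s`-pseudo-coherent over `P[y]`. -/
theorem baseMpc_map {s : ℤ} (hα : BaseMpc α s) :
    BaseMpc (MvPolynomial.map α : MvPolynomial (Fin k) P →+* MvPolynomial (Fin k) A) s := by
  let N : ModuleCat.{u} P := (ModuleCat.restrictScalars.{u} α).obj (ModuleCat.of A A)
  let E : DRing.Cx P := (HomologicalComplex.single (ModuleCat.{u} P) (ComplexShape.up ℤ) 0).obj N
  have e : Q.obj E ≅ (singleFunctor (ModuleCat.{u} P) 0).obj N :=
    ((singleFunctorIsoCompQ (ModuleCat.{u} P) 0).app N).symm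
  have h1 : DRing.IsPseudoCoherent P s (Q.obj E) := mpc_of_iso e.symm hα
  have h2 := mpc_esC (MvPolynomial.C : P →+* MvPolynomial (Fin k) P) (flat_C k) s E h1
  obtain ⟨e'⟩ := flatBC_single_rep (MvPolynomial.C : P →+* MvPolynomial (Fin k) P) (flat_C k) E N e
  have h3 := mpc_of_iso e' h2
  exact mpc_of_iso
    ((singleFunctor (ModuleCat.{u} (MvPolynomial (Fin k) P)) 0).mapIso (asIso (polyBCHom α k))) h3

end PolyBC

end Groth.Agent.Helper5.PCB
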