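import Groth.Agent.Lib.Helper5.PCB1

/-!
# Composition of `r`- and `s`-pseudo-coherent ring maps: transitivity
-/

set_option autoImplicit false
set_option linter.unusedSectionVars false
set_option linter.unusedVariables false
set_option linter.style.haveILetI false

open CategoryTheory Category Limits Pretriangulated DerivedCategory ZeroObject

attribute [local instance] HasDerivedCategory.standard

universe u

namespace Groth.Agent.Helper5.PCB

open Groth.Agent.Helper11.DC Groth.Agent.Helper11.GenRes Groth.Agent.Helper11.TA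
  Groth.Agent.Helper11.MPC

section Comp

variable {A B C : Type u} [CommRing A] [CommRing B] [CommRing C]

theorem mpc_restrict_comp_bdd (μ : A →+* B) (g : B →+* C) {s : ℤ} (hμ : BaseMpc μ s) (m : ℤ)
    (hs : s ≤ m) (N : ModuleCat.{u} C)
    (h : DRing.IsPseudoCoherent B m
      ((DRing.restrictD g).obj ((singleFunctor (ModuleCat.{u} C) 0).obj N))) :
    DRing.IsPseudoCoherent A m
      ((DRing.restrictD (g.comp μ)).obj ((singleFunctor (ModuleCat.{u} C) 0).obj N)) := by
  have hle : ((DRing.restrictD g).obj ((singleFunctor (ModuleCat.{u} C) 0).obj N)).IsLE 0 :=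
    isLE_restrict g _ 0 inferInstance
  have h1 := mpc_restrict_bdd hμ m 0 (by omega) _ hle h
  exact (mpc_restrict_comp μ g m _).mpr h1

end Comp

section Trans

variable {R A B : Type u} [CommRing R] [CommRing A] [CommRing B]
  [Algebra R A] [Algebra A B] [Algebra R B] [IsScalarTower R A B]

theorem baseMpc_of_rel {n : ℕ} (α : MvPolynomial (Fin n) R →ₐ[R] A) (hα : Function.Surjective α)
    (s : ℤ) (hA : DerCA.IsRelPseudoCoherent R A s (Dual.inD A A)) :
    BaseMpc (α : MvPolynomial (Fin n) R →+* A) s := by
  have h1 : DRing.IsPseudoCoherent _ s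
      ((DRing.restrictD (α : MvPolynomial (Fin n) R →+* A)).obj (Dual.inD A A)) :=
    (rel_iff_via α hα s _).1 hA
  exact mpc_of_iso
    (((ModuleCat.restrictScalars.{u}
      (α : MvPolynomial (Fin n) R →+* A)).mapDerivedCategorySingleFunctor 0).app
        (ModuleCat.of A A)) h1

/-- transitivity of relative `n`-pseudo-coherence of the rings themselves, with the bound
`max r s`. -/
theorem rel_trans_bdd [Algebra.FiniteType R A] [Algebra.FiniteType A B] (r s : ℤ)
    (hA : DerCA.IsRelPseudoCoherent R A s (Dual.inD A A))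
    (hB : DerCA.IsRelPseudoCoherent A B r (Dual.inD B B)) :
    DerCA.IsRelPseudoCoherent R B (max r s) (Dual.inD B B) := by
  obtain ⟨n, α, hα⟩ := exists_presentation (R := R) (A := A)
  have hbase := baseMpc_of_rel α hα s hA
  obtain ⟨k, αA, hαA⟩ := exists_presentation (R := A) (A := B)
  obtain ⟨δ, e, hδ, hδe⟩ := exists_delta α hα αA hαA
  have hB' : DRing.IsPseudoCoherent _ r
      ((DRing.restrictD (αA : MvPolynomial (Fin k) A →+* B)).obj (Dual.inD B B)) :=
    (rel_iff_via αA hαA r _).1 hB
  have h2 := mpc_restrict_comp_bdd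
    (MvPolynomial.map (α : MvPolynomial (Fin n) R →+* A) :
      MvPolynomial (Fin k) (MvPolynomial (Fin n) R) →+* MvPolynomial (Fin k) A)
    (αA : MvPolynomial (Fin k) A →+* B)
    (baseMpc_map (α : MvPolynomial (Fin n) R →+* A) k hbase) (max r s) (le_max_right r s)
    (ModuleCat.of B B) (mpc_of_le (le_max_left r s) hB')
  have h3 := (mpc_restrict_comp_iff (e : MvPolynomial (Fin (k + n)) R →+* _)
    (baseIsPc_of_bijective _ e.bijective)
    ((αA : MvPolynomial (Fin k) A →+* B).comp
      (MvPolynomial.map (α : MvPolynomial (Fin n) R →+* A))) (max r s) (Dual.inD B B)).mp h2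
  refine (rel_iff_via δ hδ (max r s) _).2 ?_
  unfold DerCA.IsRelPseudoCoherentVia
  rw [hδe]
  exact h3

end Trans

end Groth.Agent.Helper5.PCB
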