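import Groth.Agent.Lib.Helper5.PCB2
import Groth.Agent.Lib.Helper5.PDZ8

/-!
# Composition of an `r`-pseudo-coherent and an `s`-pseudo-coherent morphism
-/

set_option autoImplicit false
set_option linter.unusedSectionVars false
set_option linter.unusedVariables false
set_option linter.style.haveILetI false

universe u

open CategoryTheory CategoryTheory.Limits AlgebraicGeometry TopologicalSpace

attribute [local instance] HasDerivedCategory.standard

namespace Groth.Agent.Helper5.PCB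

open Groth.Agent.Helper5.TB Groth.Agent.Helper5.RPR Groth.Agent.Helper11
  Groth.Agent.Helper5.TBA Groth.Agent.Helper5.RT Groth.Agent.Helper5.PCT Groth.Agent.Helper5.TT
  Groth.Agent.Helper5.KF Groth.Agent.Helper11.TA Groth.Agent.Helper5.CHP
  Groth.Agent.Helper11.MPC Groth.Agent.Helper11.PcHom Groth.Agent.Helper5.PDZ
  Groth.Agent.Helper5.FBX

variable {X Y Z : Scheme.{u}}

/-- `f` `r`-pseudo-coherent and `g` `s`-pseudo-coherent: `f ≫ g` is `max r s`-pseudo-coherent -/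
theorem main (f : X ⟶ Y) (g : Y ⟶ Z) [LocallyOfFiniteType f] [LocallyOfFiniteType g] (r s : ℤ)
    (hf : DerSch.IsNPseudoCoherent f r) (hg : DerSch.IsNPseudoCoherent g s) :
    DerSch.IsNPseudoCoherent (f ≫ g) (max r s) := by
  have HX := (rel_iff_relPC f _ r (isQCohD_unit X)).mp hf
  have HY := (rel_iff_relPC g _ s (isQCohD_unit Y)).mp hg
  show DerSch.IsPseudoCoherentRel (f ≫ g) (max r s) (DCoh.toD X (DerSch.unitCx X))
  rw [rel_iff_relPC (f ≫ g) _ (max r s) (isQCohD_unit X)]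
  intro U hU W hW hUW
  refine relPC_of_local (f ≫ g) _ (max r s) hU hW hUW (fun x hx => ?_)
  have hxW : f.base x ∈ g ⁻¹ᵁ W := hUW hx
  obtain ⟨V, hV, hxV, hVW⟩ := (Opens.isBasis_iff_nbhd.mp Y.isBasis_affineOpens) hxW
  have hxUV : x ∈ U ⊓ f ⁻¹ᵁ V := ⟨hx, hxV⟩
  obtain ⟨U₂, hU₂, hxU₂, hU₂le⟩ := (Opens.isBasis_iff_nbhd.mp X.isBasis_affineOpens) hxUV
  have e₁ : U₂ ≤ f ⁻¹ᵁ V := le_trans hU₂le inf_le_right
  have e₂ : U₂ ≤ (f ≫ g) ⁻¹ᵁ W := fun y hy => hVW (e₁ hy)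
  have H2 : RelPC (f ≫ g) (DCoh.toD X (DerSch.unitCx X)) (max r s) hU₂ hW e₂ := by
    rw [relPC_unit_iff (f ≫ g) (max r s) hU₂ hW e₂]
    have h1 := (relPC_unit_iff f r hU₂ hV e₁).mp (HX U₂ hU₂ V hV e₁)
    have h2 := (relPC_unit_iff g s hV hW hVW).mp (HY V hV W hW hVW)
    letI algVU : Algebra Γ(Y, V) Γ(X, U₂) := (f.appLE V U₂ e₁).hom.toAlgebra
    letI algWV : Algebra Γ(Z, W) Γ(Y, V) := (g.appLE W V hVW).hom.toAlgebra
    letI algWU : Algebra Γ(Z, W) Γ(X, U₂) := ((f ≫ g).appLE W U₂ e₂).hom.toAlgebra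
    haveI : IsScalarTower Γ(Z, W) Γ(Y, V) Γ(X, U₂) := by
      refine IsScalarTower.of_algebraMap_eq' ?_
      have h := Scheme.Hom.appLE_comp_appLE f g W V U₂ hVW e₁
      exact (congrArg CommRingCat.Hom.hom h).symm
    haveI : Algebra.FiniteType Γ(Z, W) Γ(Y, V) := by
      have h := g.finiteType_appLE hW hV hVW
      exact h
    haveI : Algebra.FiniteType Γ(Y, V) Γ(X, U₂) := by
      have h := f.finiteType_appLE hV hU₂ e₁
      exact h
    exact rel_trans_bdd r s h2 h1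
  exact relPC_transfer (f ≫ g) _ (max r s) (isQCohD_unit X) hU hU₂ hW hW hUW e₂ H2 x hx hxU₂

end Groth.Agent.Helper5.PCB
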