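import Groth.Agent.Lib.Helper5.PCI1
import Groth.Agent.Lib.Helper5.LOC2
import Groth.Agent.Lib.Helper5.FD1
import Groth.Agent.Lib.Helper5.KRes4
import Groth.Agent.Lib.Helper9.RelPC2
import Groth.Prelude.Def_KSix

/-!
# Direct image along a closed immersion on affine charts, part 2: consequences of perfect amplitude
-/

set_option autoImplicit false
set_option linter.unusedSectionVars false
set_option linter.unusedVariables false
set_option linter.style.haveILetI false

universe u

open CategoryTheory CategoryTheory.Limits AlgebraicGeometry TopologicalSpace ZeroObject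

attribute [local instance] HasDerivedCategory.standard

namespace Groth.Agent.Helper5.PCI

open Groth.Agent.Helper5.TB Groth.Agent.Helper5.RPR Groth.Agent.Helper11
  Groth.Agent.Helper5.TBA Groth.Agent.Helper5.RT Groth.Agent.Helper5.PCT Groth.Agent.Helper5.TT
  Groth.Agent.Helper5.KF Groth.Agent.Helper9.RelPC Groth.Agent.Helper5.CHP

variable {X Y : Scheme.{u}}

/-- perfect amplitude implies pseudo-coherence -/
theorem pc_of_perfAmp (K : DCoh.D Y) (a b : ℤ) (h : KSix.HasPerfectAmplitudeIn a b K) (m : ℤ) :
    DCoh.IsPseudoCoherentD m K := by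
  intro x
  obtain ⟨V, hxV, hV⟩ := h x
  refine ⟨V, hxV, fun F hF => ?_⟩
  obtain ⟨E', hv, hf, ⟨e⟩⟩ := hV F hF
  exact ⟨E', e.inv, ⟨⟨a, b, hv⟩, hf⟩, fun i _ => inferInstance, inferInstance⟩

/-- perfect amplitude implies flat amplitude -/
theorem flatAmp_of_perfAmp (K : DCoh.D Y) (a b : ℤ) (h : KSix.HasPerfectAmplitudeIn a b K) :
    DCoh.HasFlatAmplitudeIn a b K := by
  by_cases hab : a ≤ b
  · apply Groth.Agent.Helper5.LOC.hasFlatAmplitudeIn_of_local K a b hab
    intro x
    obtain ⟨V, hxV, hV⟩ := h x
    refine ⟨V, hxV, fun F hF => ?_⟩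
    obtain ⟨E', hv, hf, ⟨e⟩⟩ := hV F hF
    exact ⟨E', hv, fun i => Groth.Agent.Helper5.LDer.isFlat_of_isFinLocFree _ (hf i), ⟨e.symm⟩⟩
  · have hz : IsZero K := by
      apply Groth.Agent.Helper5.FD.isZero_of_homology
      intro n
      let G := (DerivedCategory.Q (C := Y.Modules)).objPreimage K
      let eG : DCoh.toD Y G ≅ K := (DerivedCategory.Q (C := Y.Modules)).objObjPreimageIso K
      have eH : G.homology n ≅ DCoh.HD K n :=
        ((DerivedCategory.homologyFunctorFactors _ n).app G).symm ≪≫
          (DerivedCategory.homologyFunctor _ n).mapIso eG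
      refine IsZero.of_iso ?_ eH.symm
      rw [← HomologicalComplex.exactAt_iff_isZero_homology]
      apply Groth.Agent.Helper5.LOC.exactAt_of_local
      intro x
      obtain ⟨V, hxV, hV⟩ := h x
      obtain ⟨E', hv, hf, ⟨e⟩⟩ := hV G ⟨eG⟩
      refine ⟨V, hxV, ?_⟩
      rw [HomologicalComplex.exactAt_iff_isZero_homology]
      have e2 : ((rCx V.ι).obj G).homology n ≅ E'.homology n :=
        ((DerivedCategory.homologyFunctorFactors _ n).app _).symm ≪≫
          (DerivedCategory.homologyFunctor _ n).mapIso e ≪≫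
          (DerivedCategory.homologyFunctorFactors _ n).app E'
      refine IsZero.of_iso ?_ e2
      rw [← HomologicalComplex.exactAt_iff_isZero_homology]
      exact ShortComplex.exact_of_isZero_X₂ _ (hv n (by omega))
    refine ⟨0, fun i _ => (HomologicalComplex.eval _ _ i).map_isZero (isZero_zero _),
      fun i => Groth.Agent.Helper5.KRes.isFlat_zero_X i, ⟨?_⟩⟩
    exact ((DerivedCategory.Q (C := Y.Modules)).map_isZero (isZero_zero _)).iso hz

/-- the class of a complex on a closed subscheme whose direct image is pseudo-coherent has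
quasi-coherent cohomology sheaves -/
theorem isQCohD_of_push (i : X ⟶ Y) [IsClosedImmersion i] (F : CochainComplex X.Modules ℤ)
    (h : ∀ m : ℤ, DCoh.IsPseudoCoherentD m (DCoh.toD Y ((DerSch.pushCx i).obj F))) :
    DCoh.IsQCohD (DCoh.toD X F) := by
  intro j
  have h1 : Coh.IsQCoh (DCoh.HD (DCoh.toD Y ((DerSch.pushCx i).obj F)) j) :=
    (Groth.Agent.S7240.result (j - 1) _ (h (j - 1))).1 j (by omega)
  have h2 : (((DerSch.pushCx i).obj F).homology j).IsQuasicoherent :=
    qi ((DerivedCategory.homologyFunctorFactors _ j).app _) h1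
  have h3 := qi (pushHomologyIso i F j) h2
  have h4 := isQuasicoherent_of_isQuasicoherent_push i _ h3
  exact qi ((DerivedCategory.homologyFunctorFactors _ j).app F).symm h4

end Groth.Agent.Helper5.PCI
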