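import Groth.Agent.Lib.Helper5.PCM1

/-!
# Modules of finite type / finite presentation as pseudo-coherent objects, II
-/

set_option autoImplicit false
set_option linter.unusedSectionVars false
set_option linter.unusedVariables false
set_option linter.style.haveILetI false

universe u

open CategoryTheory CategoryTheory.Limits AlgebraicGeometry HomologicalComplex

attribute [local instance] HasDerivedCategory.standard

namespace Groth.Agent.Helper5.PCM

open Groth.Agent.Helper5.RT Groth.Agent.Helper13.LocFree Groth.Agent.Helper5.LDer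
  Groth.Agent.Helper5.FPC Groth.Agent.Helper5.PC Groth.Agent.Helper13.FinType
  Groth.Agent.Helper5.LOC

variable {X : Scheme.{u}}

lemma isIso_HD_map_iff {A B : CochainComplex X.Modules ℤ} (β : A ⟶ B) (i : ℤ) :
    IsIso ((DerivedCategory.homologyFunctor X.Modules i).map (DerivedCategory.Q.map β)) ↔
      QuasiIsoAt β i := by
  rw [quasiIsoAt_iff_isIso_homologyMap]
  exact NatIso.isIso_map_iff (DerivedCategory.homologyFunctorFactors X.Modules i) β

lemma epi_HD_map_iff {A B : CochainComplex X.Modules ℤ} (β : A ⟶ B) (i : ℤ) :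
    Epi ((DerivedCategory.homologyFunctor X.Modules i).map (DerivedCategory.Q.map β)) ↔
      Epi (HomologicalComplex.homologyMap β i) :=
  (MorphismProperty.epimorphisms X.Modules).arrow_mk_iso_iff
    (Arrow.isoOfNatIso (DerivedCategory.homologyFunctorFactors X.Modules i) (Arrow.mk β))

lemma isIso_of_isZero {𝒜 : Type*} [Category 𝒜] [HasZeroMorphisms 𝒜] {A B : 𝒜} (f : A ⟶ B)
    (hA : IsZero A) (hB : IsZero B) : IsIso f :=
  ⟨0, hA.eq_of_src _ _, hB.eq_of_src _ _⟩

lemma epi_of_isZero_tgt {𝒜 : Type*} [Category 𝒜] [HasZeroMorphisms 𝒜] {A B : 𝒜} (f : A ⟶ B)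
    (hB : IsZero B) : Epi f :=
  ⟨fun _ _ _ => hB.eq_of_src _ _⟩

/-- a morphism of complexes vanishing above `m` which is an epimorphism on `H^m` is
`m`-connected -/
theorem isConn_of_epi {A B : CochainComplex X.Modules ℤ} (β : A ⟶ B) (m : ℤ)
    (hA : ∀ i : ℤ, m < i → IsZero (A.X i)) (hB : ∀ i : ℤ, m < i → IsZero (B.X i))
    (he : Epi (HomologicalComplex.homologyMap β m)) : IsConn m (DerivedCategory.Q.map β) :=
  ⟨fun i hi => isIso_of_isZero _ (isZero_HD_Q_of_isZero_X A i (hA i hi))
    (isZero_HD_Q_of_isZero_X B i (hB i hi)), (epi_HD_map_iff β m).mpr he⟩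

/-- a morphism of complexes vanishing above `k = m + 1`, with target vanishing in degree `m`, which
is a quasi-isomorphism in degree `k` is `m`-connected -/
theorem isConn_of_quasiIsoAt {A B : CochainComplex X.Modules ℤ} (β : A ⟶ B) (m k : ℤ)
    (hk : m + 1 = k)
    (hA : ∀ i : ℤ, k < i → IsZero (A.X i)) (hB : ∀ i : ℤ, k < i → IsZero (B.X i))
    (hB' : IsZero (B.X m)) (hq : QuasiIsoAt β k) : IsConn m (DerivedCategory.Q.map β) := by
  refine ⟨fun i hi => ?_, epi_of_isZero_tgt _ (isZero_HD_Q_of_isZero_X B m hB')⟩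
  rcases (show k ≤ i by omega).lt_or_eq with h | h
  · exact isIso_of_isZero _ (isZero_HD_Q_of_isZero_X A i (hA i h))
      (isZero_HD_Q_of_isZero_X B i (hB i h))
  · subst h
    exact (isIso_HD_map_iff β k).mpr hq

/-- local generators of a module of finite type -/
theorem exists_epi_of_isFiniteType (F : X.Modules) [hF : CohB1.IsFT F] (x : X) :
    ∃ (V : X.Opens) (_ : x ∈ V) (B : (V : Scheme.{u}).Modules) (_ : FlatMod.IsFinLocFree B)
      (π : B ⟶ F.restrict V.ι), Epi π := by
  obtain ⟨σ, hσ⟩ := SheafOfModules.IsFiniteType.exists_localGeneratorsData F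
  have hcov := (Opens.coversTop_iff _ _).1 σ.coversTop
  have hx : x ∈ iSup σ.X := by rw [hcov.iSup_eq_top]; trivial
  obtain ⟨i, hi⟩ := TopologicalSpace.Opens.mem_iSup.1 hx
  let τ := generatingSectionsRestrict F (σ.X i) (σ.generators i)
  haveI hfin : Finite τ.I := (hσ.isFiniteType i).finite
  exact ⟨σ.X i, hi, SheafOfModules.free τ.I,
    isFinLocFree_of_iso (freeIsoFreeMod τ.I).symm (isFinLocFree_freeMod _), τ.π, τ.epi⟩

/-- local presentations of a module of finite presentation -/
theorem exists_presentation_of_isFinitePresentation (F : X.Modules) [hF : CohB1.IsFP F] (x : X) :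
    ∃ (V : X.Opens) (_ : x ∈ V) (A B : (V : Scheme.{u}).Modules) (_ : FlatMod.IsFinLocFree A)
      (_ : FlatMod.IsFinLocFree B) (φ : A ⟶ B) (ε : B ⟶ F.restrict V.ι) (w : φ ≫ ε = 0),
      Nonempty (IsColimit (CokernelCofork.ofπ ε w)) := by
  obtain ⟨ι, U, P, hcov, -, hfin⟩ := exists_isOpenCover_finite_presentation F
  have hx : x ∈ ⨆ i, U i := by rw [hcov.iSup_eq_top]; trivial
  obtain ⟨i, hi⟩ := TopologicalSpace.Opens.mem_iSup.1 hx
  haveI := hfin i
  haveI h1 : Finite (P i).generators.I := (hfin i).isFiniteType_generators.finite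
  haveI h2 : Finite (P i).relations.I := (hfin i).isFiniteType_relations.finite
  exact ⟨U i, hi, SheafOfModules.free (P i).relations.I, SheafOfModules.free (P i).generators.I,
    isFinLocFree_of_iso (freeIsoFreeMod _).symm (isFinLocFree_freeMod _),
    isFinLocFree_of_iso (freeIsoFreeMod _).symm (isFinLocFree_freeMod _), _, _, _,
    ⟨(P i).isColimit⟩⟩

end Groth.Agent.Helper5.PCM
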