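import Mathlib

/-!
# The stupid truncation `σ_{≥ a}` of a cochain complex, with its inclusion
-/

set_option autoImplicit false
set_option linter.unusedSectionVars false
set_option linter.unusedVariables false
set_option linter.style.haveILetI false

universe v u

open CategoryTheory CategoryTheory.Limits HomologicalComplex

namespace Groth.Agent.Helper5.PCT

variable {C : Type u} [Category.{v} C] [Abelian C]

lemma embGE_f (a : ℤ) (i : ℤ) (h : a ≤ i) :
    (ComplexShape.embeddingUpIntGE a).f (i - a).toNat = i := by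
  rw [ComplexShape.embeddingUpIntGE_f]
  omega

/-- the stupid truncation `σ_{≥ a} P` -/
noncomputable def sig (a : ℤ) (P : CochainComplex C ℤ) : CochainComplex C ℤ :=
  P.stupidTrunc (ComplexShape.embeddingUpIntGE a)

lemma isZero_sig_X (a : ℤ) (P : CochainComplex C ℤ) (i : ℤ) (hi : i < a) :
    IsZero ((sig a P).X i) :=
  P.isZero_stupidTrunc_X _ i ((ComplexShape.notMem_range_embeddingUpIntGE_iff a i).mpr hi)

/-- the terms of the stupid truncation in degrees `≥ a` -/
noncomputable def sigXIso (a : ℤ) (P : CochainComplex C ℤ) (i : ℤ) (hi : a ≤ i) :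
    (sig a P).X i ≅ P.X i :=
  P.stupidTruncXIso (ComplexShape.embeddingUpIntGE a) (embGE_f a i hi)

lemma sig_d (a : ℤ) (P : CochainComplex C ℤ) (i j : ℤ) (hi : a ≤ i) (hj : a ≤ j) :
    (sig a P).d i j = (sigXIso a P i hi).hom ≫ P.d i j ≫ (sigXIso a P j hj).inv := by
  dsimp only [sig, stupidTrunc, sigXIso, stupidTruncXIso]
  rw [extend_d_eq _ _ (embGE_f a i hi) (embGE_f a j hj),
    restriction_d_eq _ _ (embGE_f a i hi) (embGE_f a j hj)]
  simp [restrictionXIso]

/-- the inclusion `σ_{≥ a} P ⟶ P` -/
noncomputable def sigι (a : ℤ) (P : CochainComplex C ℤ) : sig a P ⟶ P where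
  f i := if h : a ≤ i then (sigXIso a P i h).hom else 0
  comm' i j hij := by
    by_cases h : a ≤ i
    · have hj : a ≤ j := by
        have : i + 1 = j := hij
        omega
      rw [dif_pos h, dif_pos hj, sig_d a P i j h hj]
      simp
    · exact (isZero_sig_X a P i (by omega)).eq_of_src _ _

lemma sigι_f (a : ℤ) (P : CochainComplex C ℤ) (i : ℤ) (hi : a ≤ i) :
    (sigι a P).f i = (sigXIso a P i hi).hom := dif_pos hi

lemma isIso_sigι_f (a : ℤ) (P : CochainComplex C ℤ) (i : ℤ) (hi : a ≤ i) :
    IsIso ((sigι a P).f i) := by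
  rw [sigι_f a P i hi]
  infer_instance

/-- a morphism of cochain complexes which is an isomorphism in degrees `≥ a`, from a complex which
vanishes in degrees `< a`, induces isomorphisms on `H^i` for `i > a` and an epimorphism on `H^a` -/
theorem homologyMap_of_isIso_f_ge {K L : CochainComplex C ℤ} (φ : K ⟶ L) (a : ℤ)
    (hφ : ∀ i : ℤ, a ≤ i → IsIso (φ.f i)) :
    (∀ i : ℤ, a < i → IsIso (homologyMap φ i)) ∧ Epi (homologyMap φ a) := by
  constructor
  · intro i hi
    rw [← quasiIsoAt_iff_isIso_homologyMap,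
      quasiIsoAt_iff' φ (i - 1) i (i + 1) (by simp) (by simp)]
    haveI : IsIso (φ.f (i - 1)) := hφ _ (by omega)
    haveI : IsIso (φ.f i) := hφ _ (by omega)
    haveI : IsIso (φ.f (i + 1)) := hφ _ (by omega)
    haveI : Epi ((shortComplexFunctor' C (ComplexShape.up ℤ) (i - 1) i (i + 1)).map φ).τ₁ := by
      change Epi (φ.f (i - 1)); infer_instance
    haveI : IsIso ((shortComplexFunctor' C (ComplexShape.up ℤ) (i - 1) i (i + 1)).map φ).τ₂ := by
      change IsIso (φ.f i); infer_instance
    haveI : Mono ((shortComplexFunctor' C (ComplexShape.up ℤ) (i - 1) i (i + 1)).map φ).τ₃ := by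
      change Mono (φ.f (i + 1)); infer_instance
    exact ShortComplex.quasiIso_of_epi_of_isIso_of_mono _
  · haveI : IsIso (φ.f a) := hφ _ le_rfl
    haveI : IsIso (φ.f ((ComplexShape.up ℤ).next a)) := hφ _ (by simp)
    haveI : IsIso (cyclesMap φ a) := by
      haveI : IsIso ((shortComplexFunctor C (ComplexShape.up ℤ) a).map φ).τ₂ := by
        change IsIso (φ.f a); infer_instance
      haveI : Mono ((shortComplexFunctor C (ComplexShape.up ℤ) a).map φ).τ₃ := by
        change Mono (φ.f ((ComplexShape.up ℤ).next a)); infer_instance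
      exact ShortComplex.isIso_cyclesMap_of_isIso_of_mono _
    have h1 : Epi (K.homologyπ a ≫ homologyMap φ a) := by
      rw [homologyπ_naturality]
      infer_instance
    exact epi_of_epi (K.homologyπ a) _

theorem homologyMap_sigι (a : ℤ) (P : CochainComplex C ℤ) :
    (∀ i : ℤ, a < i → IsIso (homologyMap (sigι a P) i)) ∧ Epi (homologyMap (sigι a P) a) :=
  homologyMap_of_isIso_f_ge (sigι a P) a (fun i hi => isIso_sigι_f a P i hi)

end Groth.Agent.Helper5.PCT
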