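import Groth.Agent.Lib.Helper5.PCT2
import Groth.Agent.Lib.Helper5.FPC5

/-!
# Restriction of morphisms of the derived category between complexes; chain level local models
-/

set_option autoImplicit false
set_option linter.unusedSectionVars false
set_option linter.unusedVariables false
set_option linter.style.haveILetI false

universe u

open CategoryTheory CategoryTheory.Limits AlgebraicGeometry Pretriangulated CochainComplex

attribute [local instance] HasDerivedCategory.standard

namespace Groth.Agent.Helper5.PCT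

open Groth.Agent.Helper5.PC Groth.Agent.Helper5.RT Groth.Agent.Helper5.LDer
  Groth.Agent.Helper5.FPC DerivedCategory

section TriangleMap

variable {𝒜 : Type*} [Category 𝒜] [Abelian 𝒜] [HasDerivedCategory 𝒜]
  {K₁ L₁ K₂ L₂ : CochainComplex 𝒜 ℤ} {φ₁ : K₁ ⟶ L₁} {φ₂ : K₂ ⟶ L₂}
  {a : K₁ ⟶ K₂} {b : L₁ ⟶ L₂}

/-- the morphism of distinguished triangles of the derived category induced by a square of
complexes which commutes up to homotopy -/
noncomputable def coneTriangleMap (H : Homotopy (φ₁ ≫ b) (a ≫ φ₂)) :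
    DerivedCategory.Q.mapTriangle.obj (mappingCone.triangle φ₁) ⟶
      DerivedCategory.Q.mapTriangle.obj (mappingCone.triangle φ₂) where
  hom₁ := DerivedCategory.Q.map a
  hom₂ := DerivedCategory.Q.map b
  hom₃ := DerivedCategory.Q.map (mappingCone.mapOfHomotopy H)
  comm₁ := by
    change DerivedCategory.Q.map φ₁ ≫ DerivedCategory.Q.map b =
      DerivedCategory.Q.map a ≫ DerivedCategory.Q.map φ₂
    rw [← Functor.map_comp, ← Functor.map_comp]
    exact DerivedCategory.Q_map_eq_of_homotopy _ H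
  comm₂ := by
    change DerivedCategory.Q.map (mappingCone.inr φ₁) ≫
      DerivedCategory.Q.map (mappingCone.mapOfHomotopy H) =
      DerivedCategory.Q.map b ≫ DerivedCategory.Q.map (mappingCone.inr φ₂)
    rw [← Functor.map_comp, ← Functor.map_comp, mappingCone.triangleMapOfHomotopy_comm₂]
  comm₃ := by
    let t₁ : mappingCone φ₁ ⟶ (CategoryTheory.shiftFunctor (CochainComplex 𝒜 ℤ) (1 : ℤ)).obj K₁ :=
      (mappingCone.triangle φ₁).mor₃
    let t₂ : mappingCone φ₂ ⟶ (CategoryTheory.shiftFunctor (CochainComplex 𝒜 ℤ) (1 : ℤ)).obj K₂ :=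
      (mappingCone.triangle φ₂).mor₃
    have h1 : mappingCone.mapOfHomotopy H ≫ t₂ =
        t₁ ≫ (CategoryTheory.shiftFunctor (CochainComplex 𝒜 ℤ) (1 : ℤ)).map a :=
      mappingCone.triangleMapOfHomotopy_comm₃ H
    have h2 : DerivedCategory.Q.map ((CategoryTheory.shiftFunctor (CochainComplex 𝒜 ℤ) (1 : ℤ)).map a) ≫
        (DerivedCategory.Q.commShiftIso (1 : ℤ)).hom.app K₂ =
        (DerivedCategory.Q.commShiftIso (1 : ℤ)).hom.app K₁ ≫
          (CategoryTheory.shiftFunctor (DerivedCategory 𝒜) (1 : ℤ)).map (DerivedCategory.Q.map a) :=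
      (DerivedCategory.Q.commShiftIso (1 : ℤ)).hom.naturality a
    symm
    change DerivedCategory.Q.map (mappingCone.mapOfHomotopy H) ≫
      (DerivedCategory.Q.map t₂ ≫ (DerivedCategory.Q.commShiftIso (1 : ℤ)).hom.app K₂) =
      (DerivedCategory.Q.map t₁ ≫ (DerivedCategory.Q.commShiftIso (1 : ℤ)).hom.app K₁) ≫
        (CategoryTheory.shiftFunctor (DerivedCategory 𝒜) (1 : ℤ)).map (DerivedCategory.Q.map a)
    rw [← Category.assoc, ← Functor.map_comp, h1, Functor.map_comp, Category.assoc, Category.assoc, h2]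

end TriangleMap

variable {X : Scheme.{u}}

lemma isConn_iso_hom {A B : DCoh.D X} (e : A ≅ B) (m : ℤ) : IsConn m e.hom :=
  isConn_of_isIso e.hom

lemma isConn_iso_inv {A B : DCoh.D X} (e : A ≅ B) (m : ℤ) : IsConn m e.inv :=
  isConn_of_isIso e.inv

section rQ

variable {U W : Scheme.{u}} (i : W ⟶ U) [IsOpenImmersion i]

/-- restriction along an open immersion of a morphism of the derived category between complexes -/
noncomputable def rQ {A B : CochainComplex U.Modules ℤ}
    (α : DerivedCategory.Q.obj A ⟶ DerivedCategory.Q.obj B) :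
    DerivedCategory.Q.obj ((rCx i).obj A) ⟶ DerivedCategory.Q.obj ((rCx i).obj B) :=
  ((Scheme.Modules.restrictFunctor i).mapDerivedCategoryFactors.app A).inv ≫
    (DCoh.restrictD i).map α ≫
    ((Scheme.Modules.restrictFunctor i).mapDerivedCategoryFactors.app B).hom

lemma rQ_Q_map {A B : CochainComplex U.Modules ℤ} (β : A ⟶ B) :
    rQ i (DerivedCategory.Q.map β) = DerivedCategory.Q.map ((rCx i).map β) := by
  have nat := (Scheme.Modules.restrictFunctor i).mapDerivedCategoryFactors.hom.naturality β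
  dsimp at nat
  dsimp only [rQ, Iso.app_inv, Iso.app_hom]
  rw [nat, Iso.inv_hom_id_app_assoc]

lemma rQ_comp {A B C : CochainComplex U.Modules ℤ}
    (α : DerivedCategory.Q.obj A ⟶ DerivedCategory.Q.obj B)
    (β : DerivedCategory.Q.obj B ⟶ DerivedCategory.Q.obj C) :
    rQ i (α ≫ β) = rQ i α ≫ rQ i β := by
  dsimp only [rQ]
  rw [Functor.map_comp]
  simp only [Category.assoc, Iso.app_hom, Iso.app_inv, Iso.hom_inv_id_app_assoc]

lemma isConn_rQ {A B : CochainComplex U.Modules ℤ}
    (α : DerivedCategory.Q.obj A ⟶ DerivedCategory.Q.obj B) (m : ℤ) (h : IsConn m α) :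
    IsConn m (rQ i α) := by
  have h1 : IsConn m ((DCoh.restrictD i).map α) := isConn_restrictD i α m h
  refine h1.of_arrow_iso (Arrow.isoMk
    ((Scheme.Modules.restrictFunctor i).mapDerivedCategoryFactors.app A)
    ((Scheme.Modules.restrictFunctor i).mapDerivedCategoryFactors.app B) ?_)
  dsimp only [rQ, Arrow.mk_hom, Iso.app_hom, Iso.app_inv, Functor.id_obj, Arrow.mk_left,
    Arrow.mk_right]
  rw [Iso.hom_inv_id_app_assoc]

end rQ

/-- the chain level version of a local model of an `m`-pseudo-coherent complex -/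
theorem exists_chain_model (F : CochainComplex X.Modules ℤ) (m : ℤ)
    (hF : DCoh.IsPseudoCoherentD m (DerivedCategory.Q.obj F)) (x : X) :
    ∃ (V : X.Opens), x ∈ V ∧ ∃ (P : CochainComplex (V : Scheme.{u}).Modules ℤ)
      (a : P ⟶ (DCoh.restrictCx V).obj F), DCoh.IsStrictlyPerfect P ∧
        IsConn m (DerivedCategory.Q.map a) := by
  obtain ⟨V₀, hx, h⟩ := hF x
  obtain ⟨E, α, hE, hα1, hα2⟩ := h F ⟨Iso.refl _⟩
  have hα : IsConn m α := ⟨hα1, hα2⟩
  obtain ⟨W, hxW, hW⟩ := Groth.Agent.S0944.result hE α ⟨x, hx⟩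
  obtain ⟨β, hβ⟩ := hW
  have h2 : IsConn m (DerivedCategory.Q.map β) := by
    have h3 := isConn_rQ W.ι α m hα
    have h4 : rQ W.ι α = DerivedCategory.Q.map β := by
      dsimp only [rQ, Iso.app_inv, Iso.app_hom]
      rw [hβ]
      simp only [Category.assoc, Iso.inv_hom_id_app_assoc, Iso.inv_hom_id_app]
      erw [Category.comp_id]
    rwa [h4] at h3
  set j := W.ι ≫ V₀.ι with hj
  let c : (rCx j.isoOpensRange.inv).obj ((rCx W.ι).obj ((DCoh.restrictCx V₀).obj F)) ≅
      (DCoh.restrictCx j.opensRange).obj F :=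
    (rCx j.isoOpensRange.inv).mapIso ((NatIso.mapHomologicalComplex
      (Scheme.Modules.restrictFunctorComp W.ι V₀.ι) (ComplexShape.up ℤ)).app F).symm ≪≫
    (NatIso.mapHomologicalComplex (restrictOpensRangeIso j) (ComplexShape.up ℤ)).app F
  refine ⟨j.opensRange, ⟨⟨⟨x, hx⟩, hxW⟩, rfl⟩, (rCx j.isoOpensRange.inv).obj ((rCx W.ι).obj E),
    (rCx j.isoOpensRange.inv).map β ≫ c.hom,
    isStrictlyPerfect_restrict _ _ (isStrictlyPerfect_restrict _ _ hE), ?_⟩
  rw [Functor.map_comp]
  refine IsConn.comp ?_ (isConn_of_isIso _)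
  rw [← rQ_Q_map]
  exact isConn_rQ _ _ m h2

/-- restriction of a chain level local model to a smaller open -/
theorem isConn_restrict_chain {V' V : X.Opens} (h : V' ≤ V) (F : CochainComplex X.Modules ℤ)
    {P : CochainComplex (V : Scheme.{u}).Modules ℤ} (a : P ⟶ (DCoh.restrictCx V).obj F) (m : ℤ)
    (ha : IsConn m (DerivedCategory.Q.map a)) :
    IsConn m (DerivedCategory.Q.map
      ((rCx (X.homOfLE h)).map a ≫ (restrictCxCompIso h F).inv)) := by
  rw [Functor.map_comp]
  refine IsConn.comp ?_ (isConn_of_isIso _)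
  rw [← rQ_Q_map]
  exact isConn_rQ _ _ m ha

/-- transfer of a connected morphism from the source of an open immersion to its open range -/
theorem exists_transfer_conn {U : Scheme.{u}} (j : U ⟶ X) [IsOpenImmersion j]
    {F F' : CochainComplex X.Modules ℤ} (e : DerivedCategory.Q.obj F' ≅ DerivedCategory.Q.obj F)
    {P : CochainComplex U.Modules ℤ}
    (α : DerivedCategory.Q.obj P ⟶ DerivedCategory.Q.obj ((rCx j).obj F)) (m : ℤ)
    (hα : IsConn m α) :
    ∃ α' : DerivedCategory.Q.obj ((rCx j.isoOpensRange.inv).obj P) ⟶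
      DerivedCategory.Q.obj ((DCoh.restrictCx j.opensRange).obj F'), IsConn m α' := by
  refine ⟨rQ j.isoOpensRange.inv α ≫ (DerivedCategory.Q.mapIso ((NatIso.mapHomologicalComplex
    (restrictOpensRangeIso j) (ComplexShape.up ℤ)).app F)).hom ≫
    (restrictQIso j.opensRange.ι e).inv, ?_⟩
  exact IsConn.comp (isConn_rQ _ _ m hα) (IsConn.comp (isConn_iso_hom _ m) (isConn_iso_inv _ m))

end Groth.Agent.Helper5.PCT
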