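import Groth.Agent.Lib.Helper5.PCT3
import Groth.Agent.Lib.Helper5.BP3
import Groth.Agent.S0933

/-!
# Pseudo-coherence of mapping cones
-/

set_option autoImplicit false
set_option linter.unusedSectionVars false
set_option linter.unusedVariables false
set_option linter.style.haveILetI false

universe u

open CategoryTheory CategoryTheory.Limits AlgebraicGeometry Pretriangulated CochainComplex

attribute [local instance] HasDerivedCategory.standard

namespace Groth.Agent.Helper5.PCT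

open Groth.Agent.Helper5.PC Groth.Agent.Helper5.RT Groth.Agent.Helper5.LDer
  Groth.Agent.Helper5.FPC Groth.Agent.Helper5.BP Groth.Agent.Helper13.LocFree DerivedCategory

variable {X : Scheme.{u}}

/-- the stupid truncation of a strictly perfect complex is strictly perfect -/
theorem isStrictlyPerfect_sig (P : CochainComplex X.Modules ℤ) (hP : DCoh.IsStrictlyPerfect P)
    (a : ℤ) : DCoh.IsStrictlyPerfect (sig a P) := by
  obtain ⟨⟨a₀, b₀, hv⟩, hf⟩ := hP
  refine ⟨⟨a₀, b₀, fun i hi => ?_⟩, fun i => ?_⟩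
  · by_cases h : a ≤ i
    · exact IsZero.of_iso (hv i hi) (sigXIso a P i h)
    · exact isZero_sig_X a P i (by omega)
  · by_cases h : a ≤ i
    · exact isFinLocFree_of_iso (sigXIso a P i h).symm (hf i)
    · exact isFinLocFree_of_isZero (isZero_sig_X a P i (by omega))

lemma isConn_Q_map_sigι (P : CochainComplex X.Modules ℤ) (a : ℤ) :
    IsConn a (DerivedCategory.Q.map (sigι a P)) :=
  (isConn_Q_map_iff _ a).mpr (homologyMap_sigι a P)

/-- local model of the mapping cone of a morphism from an `(m + 1)`-pseudo-coherent complex to an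
`m`-pseudo-coherent complex -/
theorem exists_cone_conn {F₁ F₂ : CochainComplex X.Modules ℤ} (φ : F₁ ⟶ F₂) (V : X.Opens)
    (x : X) (hx : x ∈ V) (m : ℤ) {P₁ P₂ : CochainComplex (V : Scheme.{u}).Modules ℤ}
    (hP₁ : DCoh.IsStrictlyPerfect P₁) (hP₂ : DCoh.IsStrictlyPerfect P₂)
    (a₁ : P₁ ⟶ (DCoh.restrictCx V).obj F₁) (a₂ : P₂ ⟶ (DCoh.restrictCx V).obj F₂)
    (h₁ : IsConn (m + 1) (DerivedCategory.Q.map a₁)) (h₂ : IsConn m (DerivedCategory.Q.map a₂)) :
    ∃ (W : (V : Scheme.{u}).Opens), (⟨x, hx⟩ : (V : Scheme.{u})) ∈ W ∧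
      ∃ (P₃ : CochainComplex (W : Scheme.{u}).Modules ℤ)
        (α₃ : DerivedCategory.Q.obj P₃ ⟶
          DerivedCategory.Q.obj ((rCx (W.ι ≫ V.ι)).obj (mappingCone φ))),
        DCoh.IsStrictlyPerfect P₃ ∧ IsConn m α₃ := by
  have hP₁' := isStrictlyPerfect_sig P₁ hP₁ (m + 1)
  have hι := isConn_Q_map_sigι P₁ (m + 1)
  have h₂' := (isConn_Q_map_iff a₂ m).mp h₂
  obtain ⟨W, β, hxW, ⟨H⟩⟩ := Groth.Agent.S0933.result
    (sigι (m + 1) P₁ ≫ a₁ ≫ (DCoh.restrictCx V).map φ) a₂ hP₁' m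
    (fun j hj => isZero_sig_X (m + 1) P₁ j (by omega)) h₂'.1 h₂'.2 ⟨x, hx⟩
  set g := (rCx W.ι).map ((DCoh.restrictCx V).map φ) with hg
  set a := (rCx W.ι).map (sigι (m + 1) P₁ ≫ a₁) with ha
  set b := (rCx W.ι).map a₂ with hb
  have H' : Homotopy (β ≫ b) (a ≫ g) :=
    H.trans (Homotopy.ofEq (by
      rw [ha, hg, ← Functor.map_comp, Category.assoc]))
  have hc := isConn_hom₃ _ _ (DerivedCategory.mappingCone_triangle_distinguished β)
    (DerivedCategory.mappingCone_triangle_distinguished g) (coneTriangleMap H') m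
    (by
      change IsConn (m + 1) (DerivedCategory.Q.map a)
      rw [ha, ← rQ_Q_map, Functor.map_comp]
      exact isConn_rQ _ _ _ (IsConn.comp hι h₁))
    (by
      change IsConn m (DerivedCategory.Q.map b)
      rw [hb, ← rQ_Q_map]
      exact isConn_rQ _ _ _ h₂)
  have c1 : (rCx (W.ι ≫ V.ι)).obj (mappingCone φ) ≅ mappingCone g :=
    (NatIso.mapHomologicalComplex (Scheme.Modules.restrictFunctorComp W.ι V.ι)
      (ComplexShape.up ℤ)).app _ ≪≫
    (rCx W.ι).mapIso (mappingCone.mapHomologicalComplexIso φ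
      (Scheme.Modules.restrictFunctor V.ι)) ≪≫
    mappingCone.mapHomologicalComplexIso ((DCoh.restrictCx V).map φ)
      (Scheme.Modules.restrictFunctor W.ι)
  refine ⟨W, hxW, mappingCone β, DerivedCategory.Q.map (mappingCone.mapOfHomotopy H') ≫
    (DerivedCategory.Q.mapIso c1).inv,
    isStrictlyPerfect_mappingCone β (isStrictlyPerfect_restrict W.ι _ hP₁')
      (isStrictlyPerfect_restrict W.ι P₂ hP₂), ?_⟩
  exact IsConn.comp hc (isConn_iso_inv _ m)

/-- the mapping cone of a morphism from an `(m + 1)`-pseudo-coherent complex to an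
`m`-pseudo-coherent complex is `m`-pseudo-coherent -/
theorem isPseudoCoherentD_Q_mappingCone {F₁ F₂ : CochainComplex X.Modules ℤ} (φ : F₁ ⟶ F₂) (m : ℤ)
    (h₁ : DCoh.IsPseudoCoherentD (m + 1) (DerivedCategory.Q.obj F₁))
    (h₂ : DCoh.IsPseudoCoherentD m (DerivedCategory.Q.obj F₂)) :
    DCoh.IsPseudoCoherentD m (DerivedCategory.Q.obj (mappingCone φ)) := by
  intro x
  obtain ⟨V₁, hx₁, P₁, a₁, hP₁, ha₁⟩ := exists_chain_model F₁ (m + 1) h₁ x
  obtain ⟨V₂, hx₂, P₂, a₂, hP₂, ha₂⟩ := exists_chain_model F₂ m h₂ x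
  have ha₁' := isConn_restrict_chain (inf_le_left : V₁ ⊓ V₂ ≤ V₁) F₁ a₁ (m + 1) ha₁
  have ha₂' := isConn_restrict_chain (inf_le_right : V₁ ⊓ V₂ ≤ V₂) F₂ a₂ m ha₂
  obtain ⟨W, hxW, P₃, α₃, hP₃, hα₃⟩ := exists_cone_conn φ (V₁ ⊓ V₂) x ⟨hx₁, hx₂⟩ m
    (isStrictlyPerfect_restrict _ P₁ hP₁) (isStrictlyPerfect_restrict _ P₂ hP₂) _ _ ha₁' ha₂'
  refine ⟨(W.ι ≫ (V₁ ⊓ V₂).ι).opensRange, ⟨⟨⟨x, ⟨hx₁, hx₂⟩⟩, hxW⟩, rfl⟩, ?_⟩
  rintro F ⟨eF⟩
  obtain ⟨α', hα'⟩ := exists_transfer_conn (W.ι ≫ (V₁ ⊓ V₂).ι) eF α₃ m hα₃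
  exact ⟨_, α', isStrictlyPerfect_restrict _ P₃ hP₃, hα'.1, hα'.2⟩

end Groth.Agent.Helper5.PCT
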