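import Groth.Agent.Lib.Helper5.PCT6
import Groth.Agent.S0914

/-!
# Direct summands of perfect objects are perfect
-/

set_option autoImplicit false
set_option linter.unusedSectionVars false
set_option linter.unusedVariables false
set_option linter.style.haveILetI false

universe u

open CategoryTheory CategoryTheory.Limits AlgebraicGeometry Pretriangulated CochainComplex
  ZeroObject

attribute [local instance] HasDerivedCategory.standard

namespace Groth.Agent.Helper5.PCT

open Groth.Agent.Helper5.PC Groth.Agent.Helper5.RT Groth.Agent.Helper5.LDer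
  Groth.Agent.Helper5.FPC Groth.Agent.Helper5.BP Groth.Agent.Helper13.LocFree DerivedCategory

variable {X : Scheme.{u}}

lemma hasFlatAmplitudeIn_mono {a b b' : ℤ} (hb : b ≤ b') {E : DCoh.D X}
    (h : DCoh.HasFlatAmplitudeIn a b E) : DCoh.HasFlatAmplitudeIn a b' E := by
  obtain ⟨G, hv, hfl, he⟩ := h
  exact ⟨G, fun i hi => hv i (by omega), hfl, he⟩

/-- locally finite tor dimension passes to retracts -/
theorem locHasFiniteTorDim_of_retract {K S : DCoh.D X} (r : K ⟶ S) (s : S ⟶ K) (hrs : r ≫ s = 𝟙 K)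
    (h : DCoh.LocHasFiniteTorDim S) : DCoh.LocHasFiniteTorDim K := by
  intro x
  obtain ⟨V, a, b, hxV, hV⟩ := h x
  refine ⟨V, a, max a b, hxV, fun F' ⟨eF'⟩ => ?_⟩
  have hS := hV (DerivedCategory.Q.objPreimage S) ⟨DerivedCategory.Q.objObjPreimageIso S⟩
  have hS' := hasTorAmplitudeIn_of_hasFlatAmplitudeIn a (max a b) _
    (hasFlatAmplitudeIn_mono (le_max_right a b) hS)
  let e₁ : DerivedCategory.Q.obj ((DCoh.restrictCx V).obj F') ≅ (DCoh.restrictD V.ι).obj K :=
    ((Scheme.Modules.restrictFunctor V.ι).mapDerivedCategoryFactors.app F').symm ≪≫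
      (DCoh.restrictD V.ι).mapIso eF'
  let e₂ : DerivedCategory.Q.obj ((DCoh.restrictCx V).obj (DerivedCategory.Q.objPreimage S)) ≅
      (DCoh.restrictD V.ι).obj S :=
    ((Scheme.Modules.restrictFunctor V.ι).mapDerivedCategoryFactors.app _).symm ≪≫
      (DCoh.restrictD V.ι).mapIso (DerivedCategory.Q.objObjPreimageIso S)
  have hK := hasTorAmplitudeIn_of_retract (e₁.hom ≫ (DCoh.restrictD V.ι).map r ≫ e₂.inv)
    (e₂.hom ≫ (DCoh.restrictD V.ι).map s ≫ e₁.inv) (by
      simp only [Category.assoc, Iso.inv_hom_id_assoc]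
      rw [← Functor.map_comp_assoc, hrs, CategoryTheory.Functor.map_id, Category.id_comp,
        Iso.hom_inv_id]) hS'
  exact hasFlatAmplitudeIn_of_hasTorAmplitudeIn _ a (max a b) (le_max_left a b) hK

/-- direct summands of perfect objects are perfect -/
theorem isPerfect_of_biprod (K L : DCoh.D X) [HasBinaryBiproduct K L]
    (h : DCoh.IsPerfect (K ⊞ L)) : DCoh.IsPerfect K ∧ DCoh.IsPerfect L := by
  obtain ⟨hpc, htd⟩ := (Groth.Agent.S0914.result (K ⊞ L)).mp h
  constructor
  · exact (Groth.Agent.S0914.result K).mpr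
      ⟨fun m x => (pcAt_of_biprod K L m x (hpc m x)).1,
        locHasFiniteTorDim_of_retract biprod.inl biprod.fst (by simp) htd⟩
  · exact (Groth.Agent.S0914.result L).mpr
      ⟨fun m x => (pcAt_of_biprod K L m x (hpc m x)).2,
        locHasFiniteTorDim_of_retract biprod.inr biprod.snd (by simp) htd⟩

end Groth.Agent.Helper5.PCT
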