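import Groth.Agent.Lib.Helper5.TB10
import Groth.Agent.Lib.Helper5.COHP3

/-!
# Affine-local transport, part 1: pseudo-coherence near a point and stalkwise tor vanishing near a
point, under restriction to an open subscheme
-/

set_option autoImplicit false
set_option linter.unusedSectionVars false
set_option linter.unusedVariables false
set_option linter.style.haveILetI false

universe u

open CategoryTheory CategoryTheory.Limits AlgebraicGeometry

attribute [local instance] HasDerivedCategory.standard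

namespace Groth.Agent.Helper5.TBA

open Groth.Agent.Helper5.PC Groth.Agent.Helper5.PCT Groth.Agent.Helper5.RT
  Groth.Agent.Helper5.RPR Groth.Agent.Helper5.LDer Groth.Agent.Helper5.COHP
  Groth.Agent.Helper5.TB Groth.Agent.Helper11

section PC

variable {X U : Scheme.{u}}

/-- pseudo-coherence near a point passes to an open subscheme -/
theorem pcAt_restrictD (j : U ⟶ X) [IsOpenImmersion j] (K : DCoh.D X) (m : ℤ) (y : U)
    (h : PCAt m K (j.base y)) : PCAt m ((DCoh.restrictD j).obj K) y := by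
  set F₀ := DerivedCategory.Q.objPreimage K with hF₀
  have e₀ : DerivedCategory.Q.obj F₀ ≅ K := DerivedCategory.Q.objObjPreimageIso K
  have e₁ : DerivedCategory.Q.obj ((rCx j).obj F₀) ≅ (DCoh.restrictD j).obj K :=
    ((Scheme.Modules.restrictFunctor j).mapDerivedCategoryFactors.app F₀).symm ≪≫
      (DCoh.restrictD j).mapIso e₀
  obtain ⟨V, hyV, P, a, hP, ha⟩ := exists_chain_model_at F₀ m (j.base y) (pcAt_of_iso e₀.symm h)
  set W : U.Opens := j ⁻¹ᵁ V with hW
  have hyW : y ∈ W := hyV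
  set j' := W.ι ≫ j with hj'
  have hj'V : Set.range j' ⊆ (V : Set X) := by
    rintro _ ⟨w, rfl⟩
    exact w.2
  obtain ⟨P', a', hP', ha'⟩ := exists_chain_model_on j' F₀ m V hj'V P hP a ha
  let c : (rCx W.ι).obj ((rCx j).obj F₀) ≅ (rCx j').obj F₀ :=
    ((NatIso.mapHomologicalComplex
      (Scheme.Modules.restrictFunctorComp W.ι j) (ComplexShape.up ℤ)).app F₀).symm
  refine ⟨W, hyW, fun F ⟨eF⟩ => ?_⟩
  have e₂ : DerivedCategory.Q.obj ((rCx j).obj F₀) ≅ DerivedCategory.Q.obj F := e₁ ≪≫ eF.symm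
  have hα : IsConn m (DerivedCategory.Q.map a' ≫ DerivedCategory.Q.map c.inv ≫
      (restrictQIso W.ι e₂).hom) :=
    IsConn.comp ha' (IsConn.comp (isConn_of_isIso _) (isConn_iso_hom _ m))
  exact ⟨P', _, hP', hα.1, hα.2⟩

theorem pcAt_restrictD_iff (j : U ⟶ X) [IsOpenImmersion j] (K : DCoh.D X) (m : ℤ) (y : U) :
    PCAt m ((DCoh.restrictD j).obj K) y ↔ PCAt m K (j.base y) :=
  ⟨pcAt_of_openImmersion j K m y, pcAt_restrictD j K m y⟩

end PC

section TV

variable {X S : Scheme.{u}} (f : X ⟶ S)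

/-- stalkwise tor vanishing relative to `f`, uniformly near a point -/
def TorVanNear (K : DCoh.D X) (x : X) : Prop :=
  ∃ (V : X.Opens) (a b : ℤ), x ∈ V ∧ ∀ y : X, y ∈ V → TA.TorVan a b ((stalkD f y).obj K)

lemma locTorVan_iff (K : DCoh.D X) : LocTorVan f K ↔ ∀ x, TorVanNear f K x := Iff.rfl

lemma torVanNear_of_iso {K K' : DCoh.D X} (e : K ≅ K') (x : X) (h : TorVanNear f K x) :
    TorVanNear f K' x := by
  obtain ⟨V, a, b, hxV, hV⟩ := h
  exact ⟨V, a, b, hxV, fun y hy => (hV y hy).of_iso ((stalkD f y).mapIso e)⟩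

lemma torVanNear_congr {f g : X ⟶ S} (h : f = g) (K : DCoh.D X) (x : X) :
    TorVanNear f K x ↔ TorVanNear g K x := by
  subst h
  rfl

variable {U : Scheme.{u}} (j : U ⟶ X) [IsOpenImmersion j]

/-- the relative stalk of a restriction, on derived categories -/
theorem torVan_stalkD_restrict_iff (K : DCoh.D X) (y : U) (a b : ℤ) :
    TA.TorVan a b ((stalkD (j ≫ f) y).obj ((DCoh.restrictD j).obj K)) ↔
      TA.TorVan a b ((stalkD f (j.base y)).obj K) := by
  set F₀ := DerivedCategory.Q.objPreimage K with hF₀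
  have e₀ : DerivedCategory.Q.obj F₀ ≅ K := DerivedCategory.Q.objObjPreimageIso K
  have e₁ : DerivedCategory.Q.obj ((rCx j).obj F₀) ≅ (DCoh.restrictD j).obj K :=
    ((Scheme.Modules.restrictFunctor j).mapDerivedCategoryFactors.app F₀).symm ≪≫
      (DCoh.restrictD j).mapIso e₀
  constructor
  · intro h
    have h1 := h.of_iso (stalkDIso (j ≫ f) y ((rCx j).obj F₀) e₁)
    exact (torVan_stalkCxOver_of_restrict f j F₀ y a b h1).of_iso
      (stalkDIso f (j.base y) F₀ e₀).symm
  · intro h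
    have h1 := h.of_iso (stalkDIso f (j.base y) F₀ e₀)
    exact (torVan_stalkCxOver_restrict f j F₀ y a b h1).of_iso
      (stalkDIso (j ≫ f) y ((rCx j).obj F₀) e₁).symm

theorem torVanNear_restrict_iff (K : DCoh.D X) (y : U) :
    TorVanNear (j ≫ f) ((DCoh.restrictD j).obj K) y ↔ TorVanNear f K (j.base y) := by
  constructor
  · rintro ⟨W, a, b, hyW, hW⟩
    refine ⟨j ''ᵁ W, a, b, ⟨y, hyW, rfl⟩, ?_⟩
    rintro _ ⟨y', hy', rfl⟩
    exact (torVan_stalkD_restrict_iff f j K y' a b).mp (hW y' hy')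
  · rintro ⟨V, a, b, hyV, hV⟩
    refine ⟨j ⁻¹ᵁ V, a, b, hyV, fun y' hy' => ?_⟩
    exact (torVan_stalkD_restrict_iff f j K y' a b).mpr (hV (j.base y') hy')

end TV

end Groth.Agent.Helper5.TBA
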