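import Groth.Agent.Lib.Helper5.COHP5
import Groth.Agent.Lib.Helper5.TBA1
import Groth.Agent.Lib.Helper5.CI4

/-!
# Pseudo-coherence along a closed immersion, part 1: generalities on pseudo-coherence
(restriction to opens, direct sums, modules placed in one degree, direct images of free modules)
-/

set_option autoImplicit false
set_option linter.unusedSectionVars false
set_option linter.unusedVariables false
set_option linter.style.haveILetI false

universe u

open CategoryTheory CategoryTheory.Limits AlgebraicGeometry Pretriangulated DerivedCategory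

attribute [local instance] HasDerivedCategory.standard

namespace Groth.Agent.Helper5.PCZ

open Groth.Agent.Helper5.PCT Groth.Agent.Helper5.TBA Groth.Agent.Helper5.RT
  Groth.Agent.Helper5.BP Groth.Agent.Helper5.COHP

section Restrict

variable {X U : Scheme.{u}} (j : U ⟶ X) [IsOpenImmersion j]

lemma pc_restrictD (K : DCoh.D X) (m : ℤ) (h : DCoh.IsPseudoCoherentD m K) :
    DCoh.IsPseudoCoherentD m ((DCoh.restrictD j).obj K) :=
  fun y => pcAt_restrictD j K m y (h _)

lemma pcAt_of_pc_restrictD (K : DCoh.D X) (m : ℤ) (y : U)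
    (h : DCoh.IsPseudoCoherentD m ((DCoh.restrictD j).obj K)) : PCAt m K (j.base y) :=
  pcAt_of_openImmersion j K m y (h y)

/-- the restriction of the image of a complex -/
noncomputable def restrictDQIso (G : CochainComplex X.Modules ℤ) :
    (DCoh.restrictD j).obj (Q.obj G) ≅ Q.obj ((rCx j).obj G) :=
  (Scheme.Modules.restrictFunctor j).mapDerivedCategoryFactors.app G

lemma pc_rCx (G : CochainComplex X.Modules ℤ) (m : ℤ)
    (h : DCoh.IsPseudoCoherentD m (Q.obj G)) :
    DCoh.IsPseudoCoherentD m (Q.obj ((rCx j).obj G)) :=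
  isPseudoCoherentD_of_iso (restrictDQIso j G) (pc_restrictD j _ m h)

lemma pcAt_of_pc_rCx (G : CochainComplex X.Modules ℤ) (m : ℤ) (y : U)
    (h : DCoh.IsPseudoCoherentD m (Q.obj ((rCx j).obj G))) : PCAt m (Q.obj G) (j.base y) :=
  pcAt_of_pc_restrictD j _ m y (isPseudoCoherentD_of_iso (restrictDQIso j G).symm h)

end Restrict

variable {X : Scheme.{u}}

/-- pseudo-coherence near a point is pseudo-coherence on a neighbourhood -/
lemma exists_pc_restrict_of_pcAt (K : DCoh.D X) (m : ℤ) (x : X) (h : PCAt m K x) :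
    ∃ V : X.Opens, x ∈ V ∧ DCoh.IsPseudoCoherentD m ((DCoh.restrictD V.ι).obj K) := by
  obtain ⟨V, hxV, hV⟩ := h
  exact ⟨V, hxV, fun y => pcAt_restrictD V.ι K m y ⟨V, y.2, hV⟩⟩

lemma exists_pc_rCx_of_pcAt (G : CochainComplex X.Modules ℤ) (m : ℤ) (x : X)
    (h : PCAt m (Q.obj G) x) :
    ∃ V : X.Opens, x ∈ V ∧ DCoh.IsPseudoCoherentD m (Q.obj ((rCx V.ι).obj G)) := by
  obtain ⟨V, hxV, hV⟩ := exists_pc_restrict_of_pcAt _ m x h
  exact ⟨V, hxV, isPseudoCoherentD_of_iso (restrictDQIso V.ι G) hV⟩

/-- direct sums of pseudo-coherent objects -/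
theorem pc_biprod (K L : DCoh.D X) (m : ℤ) (hK : DCoh.IsPseudoCoherentD m K)
    (hL : DCoh.IsPseudoCoherentD m L) : DCoh.IsPseudoCoherentD m (K ⊞ L) :=
  isPseudoCoherentD_obj₂ _ (binaryBiproductTriangle_distinguished K L) m hK hL

lemma pc_of_isZero (K : DCoh.D X) (m : ℤ) (h : IsZero K) : DCoh.IsPseudoCoherentD m K := by
  intro x
  refine pcAt_of_isZero_HD K m x ⊤ trivial (fun i _ => ?_)
  exact (DerivedCategory.homologyFunctor _ i).map_isZero ((DCoh.restrictD _).map_isZero h)

/-- a pseudo-coherent module placed in any degree -/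
theorem pc_Q_single (M : X.Modules) (h : ∀ m : ℤ, DCoh.IsPseudoCoherentD m (DCoh.inD X M))
    (b m : ℤ) :
    DCoh.IsPseudoCoherentD m
      (Q.obj ((HomologicalComplex.single X.Modules (ComplexShape.up ℤ) b).obj M)) := by
  have e : ((DCoh.inD X M)⟦-b⟧) ≅
      Q.obj ((HomologicalComplex.single X.Modules (ComplexShape.up ℤ) b).obj M) :=
    ((DerivedCategory.singleFunctors X.Modules).shiftIso (-b) b 0 (by omega)).app M ≪≫
      (DerivedCategory.singleFunctorIsoCompQ X.Modules b).app M
  exact isPseudoCoherentD_of_iso e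
    (isPseudoCoherentD_of_eq (by omega) (isPseudoCoherentD_shift _ (m - b) (-b) (h (m - b))))

end Groth.Agent.Helper5.PCZ
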