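import Groth.Agent.Lib.Helper5.PCZ1
import Groth.Agent.Lib.Helper5.BP1

/-!
# Pseudo-coherence along a closed immersion, part 2: direct images of free modules of finite rank
-/

set_option autoImplicit false
set_option linter.unusedSectionVars false
set_option linter.unusedVariables false
set_option linter.style.haveILetI false

universe u

open CategoryTheory CategoryTheory.Limits AlgebraicGeometry Pretriangulated DerivedCategory

attribute [local instance] HasDerivedCategory.standard

namespace Groth.Agent.Helper5.PCZ

open Groth.Agent.Helper5.PCT Groth.Agent.Helper5.TBA Groth.Agent.Helper5.RT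
  Groth.Agent.Helper5.BP Groth.Agent.Helper5.COHP

variable {Z X : Scheme.{u}}

lemma isZero_freeMod_zero : IsZero (FlatMod.freeMod Z 0) := by
  rw [IsZero.iff_id_eq_zero]
  apply Sigma.hom_ext
  intro k
  exact Fin.elim0 k

/-- the free module of rank one -/
noncomputable def freeModOneIso : FlatMod.freeMod Z 1 ≅ Coh.structureModule Z :=
  coproductUniqueIso (fun _ : Fin 1 => Coh.structureModule Z)

variable (F : Z.Modules ⥤ DCoh.D X) [F.Additive]

theorem pc_map_freeMod (hO : ∀ m : ℤ, DCoh.IsPseudoCoherentD m (F.obj (Coh.structureModule Z)))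
    (n : ℕ) (m : ℤ) : DCoh.IsPseudoCoherentD m (F.obj (FlatMod.freeMod Z n)) := by
  haveI := preservesBinaryBiproducts_of_preservesBiproducts F
  induction n with
  | zero => exact pc_of_isZero _ m (F.map_isZero isZero_freeMod_zero)
  | succ n ih =>
    have e : F.obj (FlatMod.freeMod Z n) ⊞ F.obj (Coh.structureModule Z) ≅
        F.obj (FlatMod.freeMod Z (n + 1)) :=
      (biprod.mapIso (Iso.refl _) (F.mapIso freeModOneIso).symm) ≪≫
        (F.mapBiprod (FlatMod.freeMod Z n) (FlatMod.freeMod Z 1)).symm ≪≫
        F.mapIso (freeModBiprodIso n 1)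
    exact isPseudoCoherentD_of_iso e (pc_biprod _ _ m ih (hO m))

end Groth.Agent.Helper5.PCZ
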