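import Groth.Agent.Lib.Helper5.PCZ2
import Groth.Agent.Lib.Helper5.LOC1
import Groth.Agent.Lib.Helper13.LocalLift
import Groth.Agent.Lib.Helper13.StalkBasis5

/-!
# Pseudo-coherence along a closed immersion, part 3: killing a cohomology sheaf of finite type by a
free module placed in one degree
-/

set_option autoImplicit false
set_option linter.unusedSectionVars false
set_option linter.unusedVariables false
set_option linter.style.haveILetI false

universe u

open CategoryTheory CategoryTheory.Limits AlgebraicGeometry Pretriangulated DerivedCategory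

attribute [local instance] HasDerivedCategory.standard

namespace Groth.Agent.Helper5.PCZ

open Groth.Agent.Helper5.PCT Groth.Agent.Helper5.TBA Groth.Agent.Helper5.RT
  Groth.Agent.Helper5.BP Groth.Agent.Helper5.COHP Groth.Agent.Helper5.LOC

section General

variable {C D : Type*} [Category C] [Category D] [Abelian C] [Abelian D]

/-- compatibility of `mapCyclesIso` and `mapHomologyIso` with the projection from cycles to
homology -/
lemma mapCyclesIso_hom_map_homologyπ (S : ShortComplex C) (F : C ⥤ D) [F.PreservesZeroMorphisms]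
    [F.PreservesLeftHomologyOf S] :
    (S.mapCyclesIso F).hom ≫ F.map S.homologyπ =
      (S.map F).homologyπ ≫ (S.mapHomologyIso F).hom := by
  have h1 := ShortComplex.LeftHomologyData.mapCyclesIso_eq S.leftHomologyData F
  have h2 := ShortComplex.LeftHomologyData.mapHomologyIso_eq S.leftHomologyData F
  rw [h1, h2]
  have h3 := (S.leftHomologyData.map F).homologyπ_comp_homologyIso_hom
  have h4 := S.leftHomologyData.homologyπ_comp_homologyIso_hom
  have h5 : S.leftHomologyData.cyclesIso.inv ≫ S.homologyπ =
      S.leftHomologyData.π ≫ S.leftHomologyData.homologyIso.inv := by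
    rw [Iso.inv_comp_eq, ← Category.assoc, ← h4, Category.assoc, Iso.hom_inv_id, Category.comp_id]
  have e1 : F.map S.leftHomologyData.cyclesIso.inv ≫ F.map S.homologyπ =
      F.map S.leftHomologyData.π ≫ F.map S.leftHomologyData.homologyIso.inv := by
    rw [← F.map_comp, h5, F.map_comp]
  simp only [Iso.trans_hom, Functor.mapIso_hom, Iso.symm_hom, Category.assoc]
  rw [reassoc_of% h3]
  congr 1

/-- the map induced on the homology in degree `b` by a morphism from a complex concentrated in
degree `b` -/
lemma homologyMap_mkHomFromSingle (K : CochainComplex C ℤ) (b : ℤ) (A : C) (c : A ⟶ K.cycles b) :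
    HomologicalComplex.homologyMap
      (HomologicalComplex.mkHomFromSingle (c ≫ K.iCycles b) (fun k _ => by simp)) b =
    (HomologicalComplex.singleObjHomologySelfIso (ComplexShape.up ℤ) b A).hom ≫ c ≫
      K.homologyπ b := by
  rw [← cancel_epi (((HomologicalComplex.single C (ComplexShape.up ℤ) b).obj A).homologyπ b)]
  rw [HomologicalComplex.homologyπ_naturality,
    HomologicalComplex.homologyπ_singleObjHomologySelfIso_hom_assoc]
  have h : HomologicalComplex.cyclesMap
      (HomologicalComplex.mkHomFromSingle (c ≫ K.iCycles b) (fun k _ => by simp)) b =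
      (HomologicalComplex.singleObjCyclesSelfIso (ComplexShape.up ℤ) b A).hom ≫ c := by
    rw [← cancel_mono (K.iCycles b), HomologicalComplex.cyclesMap_i, Category.assoc,
      HomologicalComplex.mkHomFromSingle_f]
    rw [HomologicalComplex.singleObjCyclesSelfIso_hom, Category.assoc]
  rw [h, Category.assoc]

end General

end Groth.Agent.Helper5.PCZ

namespace Groth.Agent.Helper5.PCZ

open Groth.Agent.Helper5.PCT Groth.Agent.Helper5.TBA Groth.Agent.Helper5.RT
  Groth.Agent.Helper5.BP Groth.Agent.Helper5.COHP Groth.Agent.Helper5.LOC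
  Groth.Agent.Helper13.FinType Groth.Agent.Helper13.StalkBasis Groth.Agent.Helper13.LocalLift
  Groth.Agent.Helper13.QCoh

section L1

variable {T U : Scheme.{u}} (r : U ⟶ T) [IsOpenImmersion r] (K : CochainComplex T.Modules ℤ)
  (b : ℤ)

lemma restrict_homologyπ :
    (restrictCyclesIso r K b).hom ≫ (Scheme.Modules.restrictFunctor r).map (K.homologyπ b) =
      ((rCx r).obj K).homologyπ b ≫ (restrictHomologyIso r K b).hom :=
  mapCyclesIso_hom_map_homologyπ (K.sc b) (Scheme.Modules.restrictFunctor r)

/-- the morphism from a module placed in degree `b` to the restriction of a complex given by a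
morphism to the restriction of the cycles -/
noncomputable def singleToRestrict (A' : U.Modules)
    (φ : A' ⟶ (Scheme.Modules.restrictFunctor r).obj (K.cycles b)) :
    (HomologicalComplex.single U.Modules (ComplexShape.up ℤ) b).obj A' ⟶ (rCx r).obj K :=
  HomologicalComplex.mkHomFromSingle
    ((φ ≫ (restrictCyclesIso r K b).inv) ≫ ((rCx r).obj K).iCycles b)
    (fun k _ => by rw [Category.assoc, HomologicalComplex.iCycles_d, comp_zero])

lemma epi_homologyMap_singleToRestrict (A' : U.Modules)
    (φ : A' ⟶ (Scheme.Modules.restrictFunctor r).obj (K.cycles b))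
    (M : T.Modules) (π : M ⟶ K.homology b) [Epi π]
    (e : A' ≅ (Scheme.Modules.restrictFunctor r).obj M)
    (hφ : φ ≫ (Scheme.Modules.restrictFunctor r).map (K.homologyπ b) =
      e.hom ≫ (Scheme.Modules.restrictFunctor r).map π) :
    Epi (HomologicalComplex.homologyMap (singleToRestrict r K b A' φ) b) := by
  have h1 : (restrictCyclesIso r K b).inv ≫ ((rCx r).obj K).homologyπ b =
      (Scheme.Modules.restrictFunctor r).map (K.homologyπ b) ≫ (restrictHomologyIso r K b).inv := by
    rw [Iso.inv_comp_eq, ← Category.assoc, restrict_homologyπ, Category.assoc, Iso.hom_inv_id,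
      Category.comp_id]
  rw [singleToRestrict, homologyMap_mkHomFromSingle, Category.assoc, h1, ← Category.assoc φ,
    hφ]
  haveI : Epi ((Scheme.Modules.restrictFunctor r).map π) := inferInstance
  infer_instance

end L1

/-- if the cohomology sheaf `H^b(G)` is of finite type then, near any point, it is killed by a
free module of finite rank placed in degree `b` -/
theorem exists_single_free_epi {Y : Scheme.{u}} (G : CochainComplex Y.Modules ℤ) (b : ℤ) (y : Y)
    (hft : SheafOfModules.IsFiniteType (R := Y.ringCatSheaf) (G.homology b)) :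
    ∃ V₀ : Y.Opens, y ∈ V₀ ∧ ∀ (U : Scheme.{u}) (j : U ⟶ Y) [IsOpenImmersion j],
      Set.range j.base ⊆ (V₀ : Set Y) →
      ∃ (n : ℕ) (a : (HomologicalComplex.single U.Modules (ComplexShape.up ℤ) b).obj
          (FlatMod.freeMod U n) ⟶ (rCx j).obj G),
        Epi (HomologicalComplex.homologyMap a b) := by
  haveI := hft
  obtain ⟨U₁, hyU₁, I, hI, s, hs⟩ := exists_genOn_of_isFiniteType (G.homology b) y
  obtain ⟨n, ⟨eI⟩⟩ := Finite.exists_equiv_fin I
  have hs' : GenOn (G.homology b) U₁ (fun k : Fin n => s (eI.symm k)) := by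
    intro y' hy'
    have h := hs y' hy'
    have hr : (Set.range fun k : Fin n => (G.homology b).presheaf.germ U₁ y' hy' (s (eI.symm k))) =
        Set.range fun i : I => (G.homology b).presheaf.germ U₁ y' hy' (s i) :=
      eI.symm.surjective.range_comp (fun i : I => (G.homology b).presheaf.germ U₁ y' hy' (s i))
    rw [hr]
    exact h
  obtain ⟨π, hπ⟩ := exists_epi_of_genOn (G.homology b) (fun k : Fin n => s (eI.symm k)) hs'
  set G₁ := (rCx U₁.ι).obj G with hG₁
  let π₁ : FlatMod.freeMod (↑U₁) n ⟶ G₁.homology b := π ≫ (restrictHomologyIso U₁.ι G b).inv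
  haveI : Epi π₁ := epi_comp _ _
  obtain ⟨V, ψ, hyV, hψ⟩ := exists_local_lift (G₁.homologyπ b) π₁
    (Groth.Agent.Helper13.LocFree.isFinLocFree_freeMod n) (⟨y, hyU₁⟩ : (U₁ : Scheme.{u}))
  refine ⟨(V.ι ≫ U₁.ι).opensRange, ⟨⟨⟨y, hyU₁⟩, hyV⟩, rfl⟩, fun U j _ hj => ?_⟩
  let k : U ⟶ (V : Scheme.{u}) := IsOpenImmersion.lift (V.ι ≫ U₁.ι) j hj
  have hk : k ≫ V.ι ≫ U₁.ι = j := IsOpenImmersion.lift_fac _ _ _
  haveI : IsOpenImmersion (k ≫ V.ι ≫ U₁.ι) := by rw [hk]; infer_instance
  haveI : IsOpenImmersion k := IsOpenImmersion.of_comp k (V.ι ≫ U₁.ι)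
  let r : U ⟶ (U₁ : Scheme.{u}) := k ≫ V.ι
  have hr : r ≫ U₁.ι = j := by rw [Category.assoc]; exact hk
  let c := Scheme.Modules.restrictFunctorComp k V.ι
  let e : FlatMod.freeMod U n ≅
      (Scheme.Modules.restrictFunctor r).obj (FlatMod.freeMod (↑U₁) n) :=
    (restrictFreeModIso r n).symm
  let φ : FlatMod.freeMod U n ⟶ (Scheme.Modules.restrictFunctor r).obj (G₁.cycles b) :=
    e.hom ≫ c.hom.app _ ≫ (Scheme.Modules.restrictFunctor k).map ψ ≫ c.inv.app _
  have hφ : φ ≫ (Scheme.Modules.restrictFunctor r).map (G₁.homologyπ b) =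
      e.hom ≫ (Scheme.Modules.restrictFunctor r).map π₁ := by
    have n1 := c.inv.naturality (G₁.homologyπ b)
    have n2 := c.hom.naturality π₁
    simp only [Functor.comp_map] at n1 n2
    change (e.hom ≫ c.hom.app _ ≫ (Scheme.Modules.restrictFunctor k).map ψ ≫ c.inv.app _) ≫ _ = _
    simp only [Category.assoc]
    rw [← n1, ← Functor.map_comp_assoc, hψ, ← reassoc_of% n2, Iso.hom_inv_id_app, Category.comp_id]
  have hepi := epi_homologyMap_singleToRestrict r G₁ b (FlatMod.freeMod U n) φ
    (FlatMod.freeMod (↑U₁) n) π₁ e hφ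
  let iso : (rCx r).obj G₁ ≅ (rCx j).obj G :=
    ((NatIso.mapHomologicalComplex (Scheme.Modules.restrictFunctorComp r U₁.ι)
      (ComplexShape.up ℤ)).app G).symm ≪≫
    (NatIso.mapHomologicalComplex (Scheme.Modules.restrictFunctorCongr hr)
      (ComplexShape.up ℤ)).app G
  refine ⟨n, singleToRestrict r G₁ b (FlatMod.freeMod U n) φ ≫ iso.hom, ?_⟩
  rw [HomologicalComplex.homologyMap_comp]
  haveI : IsIso (HomologicalComplex.homologyMap iso.hom b) := inferInstance
  exact epi_comp _ _

end Groth.Agent.Helper5.PCZ
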