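import Groth.Agent.Lib.Helper5.PCZ3
import Groth.Agent.Lib.Helper5.LRes1
import Groth.Agent.Lib.Helper29.OpenRes
import Groth.Agent.Lib.Helper13.FinType
import Groth.Prelude.Def_DerSch2

/-!
# Pseudo-coherence along a closed immersion, part 4: direct image along a closed immersion
(cohomology, restriction to opens, modules of finite type, free modules)
-/

set_option autoImplicit false
set_option linter.unusedSectionVars false
set_option linter.unusedVariables false
set_option linter.style.haveILetI false

universe u

open CategoryTheory CategoryTheory.Limits AlgebraicGeometry Pretriangulated DerivedCategory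
  TopologicalSpace

attribute [local instance] HasDerivedCategory.standard

namespace Groth.Agent.Helper5.PCZ

open Groth.Agent.Helper5.PCT Groth.Agent.Helper5.TBA Groth.Agent.Helper5.RT
  Groth.Agent.Helper5.BP Groth.Agent.Helper5.COHP Groth.Agent.Helper5.LOC
  Groth.Agent.Helper13.FinType Groth.Agent.Helper13.QCoh Groth.Agent.Helper5.CI
  Groth.Agent.Helper5.LDer Groth.Agent.Helper5.StalkCx

variable {Z X : Scheme.{u}} (i : Z ⟶ X)

instance preservesFiniteLimits_pushforward' :
    PreservesFiniteLimits (Scheme.Modules.pushforward i) :=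
  ⟨fun _ _ _ => (Scheme.Modules.pullbackPushforwardAdjunction i).rightAdjoint_preservesLimits.preservesLimitsOfShape⟩

variable [IsClosedImmersion i]

/-- the direct image along a closed immersion commutes with cohomology -/
noncomputable def pushHomologyIso (G : CochainComplex Z.Modules ℤ) (j : ℤ) :
    ((DerSch.pushCx i).obj G).homology j ≅ (Scheme.Modules.pushforward i).obj (G.homology j) :=
  (G.sc j).mapHomologyIso (Scheme.Modules.pushforward i)

/-- a module with zero direct image along a closed immersion is zero -/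
lemma isZero_of_isZero_push (M : Z.Modules)
    (h : IsZero ((Scheme.Modules.pushforward i).obj M)) : IsZero M := by
  haveI := isIso_counit i M
  exact IsZero.of_iso ((Scheme.Modules.pullback i).map_isZero h)
    (asIso ((Scheme.Modules.pullbackPushforwardAdjunction i).counit.app M)).symm

/-- the direct image along a closed immersion vanishes away from the image -/
lemma isZero_restrict_push_of_disjoint (N : Z.Modules) (W : X.Opens)
    (hW : ∀ x ∈ W, x ∉ Set.range i.base) :
    IsZero ((Scheme.Modules.restrictFunctor W.ι).obj ((Scheme.Modules.pushforward i).obj N)) := by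
  apply isZero_of_stalks
  intro w
  have h1 := isZero_stalk_pushforward i N (W.ι.base w) (hW _ w.2)
  exact IsZero.of_iso ((ModuleCat.extendScalars (Sky.φst W.ι w)).map_isZero h1)
    ((restrictStalkIso W.ι w).app _)

/-- pseudo-coherence of a complex with vanishing cohomology in degrees `≥ m` -/
lemma pc_of_isZero_homology {Y : Scheme.{u}} (G : CochainComplex Y.Modules ℤ) (m : ℤ)
    (h : ∀ j : ℤ, m ≤ j → IsZero (G.homology j)) : DCoh.IsPseudoCoherentD m (Q.obj G) := by
  intro y
  refine pcAt_of_isZero_HD _ m y ⊤ trivial (fun j hj => ?_)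
  have h1 : IsZero ((Scheme.Modules.restrictFunctor (⊤ : Y.Opens).ι).obj (G.homology j)) :=
    (Scheme.Modules.restrictFunctor _).map_isZero (h j hj)
  have h2 : IsZero (((rCx (⊤ : Y.Opens).ι).obj G).homology j) :=
    IsZero.of_iso h1 (restrictHomologyIso _ G j)
  exact IsZero.of_iso (IsZero.of_iso h2 (HDQIso _ j))
    ((DerivedCategory.homologyFunctor _ j).mapIso (restrictDQIso (⊤ : Y.Opens).ι G))

/-- near a point outside the image of the closed immersion the direct image is pseudo-coherent -/
theorem pcAt_push_of_not_mem_range (G : CochainComplex Z.Modules ℤ) (m : ℤ) (x : X)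
    (hx : x ∉ Set.range i.base) : PCAt m (Q.obj ((DerSch.pushCx i).obj G)) x := by
  let W : X.Opens := ⟨(Set.range i.base)ᶜ, i.isClosedEmbedding.isClosed_range.isOpen_compl⟩
  have hxW : x ∈ W := hx
  have hz : ∀ k : ℤ, IsZero (((rCx W.ι).obj ((DerSch.pushCx i).obj G)).X k) := fun k =>
    isZero_restrict_push_of_disjoint i (G.X k) W (fun x hx => hx)
  have h := pc_of_isZero_homology ((rCx W.ι).obj ((DerSch.pushCx i).obj G)) m
    (fun j _ => (HomologicalComplex.ExactAt.of_isZero (hz j)).isZero_homology)
  exact pcAt_of_pc_rCx W.ι _ m ⟨x, hxW⟩ h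

/-- opens of the source of a closed immersion are, near a point, inverse images of opens of the
target -/
lemma exists_opens_preimage_le (V₀ : Z.Opens) (z : Z) (hz : z ∈ V₀) :
    ∃ W : X.Opens, i.base z ∈ W ∧ i ⁻¹ᵁ W ≤ V₀ := by
  obtain ⟨W', hW', hWV⟩ := i.isClosedEmbedding.isInducing.isOpen_iff.mp V₀.2
  refine ⟨⟨W', hW'⟩, ?_, ?_⟩
  · have : z ∈ i.base ⁻¹' W' := by rw [hWV]; exact hz
    exact this
  · intro z' hz'
    have : z' ∈ i.base ⁻¹' W' := hz'
    rw [hWV] at this
    exact this

section Open

variable (W : X.Opens)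

/-- the direct image along a closed immersion and restriction to an open, on complexes -/
noncomputable def pushRestrictCxIso' (G : CochainComplex Z.Modules ℤ) :
    (rCx W.ι).obj ((DerSch.pushCx i).obj G) ≅
      (DerSch.pushCx (i ∣_ W)).obj ((rCx (i ⁻¹ᵁ W).ι).obj G) := by
  haveI i1 : (Scheme.Modules.pushforward i ⋙
      Scheme.Modules.restrictFunctor W.ι).PreservesZeroMorphisms := inferInstance
  haveI i2 : (Scheme.Modules.restrictFunctor (i ⁻¹ᵁ W).ι ⋙
      Scheme.Modules.pushforward (i ∣_ W)).PreservesZeroMorphisms := inferInstance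
  exact (@NatIso.mapHomologicalComplex _ _ _ _ _ _ _ _ _ i1 i2
    (Groth.Agent.Helper29.OpenRes.γ i W) (ComplexShape.up ℤ)).app G

/-- the hypothesis on the structure sheaf passes to opens -/
theorem hO_restrict
    (hO : ∀ m : ℤ, DCoh.IsPseudoCoherentD m
      (DCoh.inD X ((Scheme.Modules.pushforward i).obj (Coh.structureModule Z)))) (m : ℤ) :
    DCoh.IsPseudoCoherentD m (DCoh.inD (W : Scheme.{u})
      ((Scheme.Modules.pushforward (i ∣_ W)).obj (Coh.structureModule (i ⁻¹ᵁ W : Scheme.{u})))) := by
  have h1 := pc_restrictD W.ι _ m (hO m)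
  have e : (DCoh.restrictD W.ι).obj
      (DCoh.inD X ((Scheme.Modules.pushforward i).obj (Coh.structureModule Z))) ≅
      DCoh.inD (W : Scheme.{u}) ((Scheme.Modules.pushforward (i ∣_ W)).obj
        (Coh.structureModule (i ⁻¹ᵁ W : Scheme.{u}))) :=
    ((Scheme.Modules.restrictFunctor W.ι).mapDerivedCategorySingleFunctor 0).app _ ≪≫
      (DerivedCategory.singleFunctor _ 0).mapIso
        ((Groth.Agent.Helper29.OpenRes.γ i W).app _ ≪≫
          (Scheme.Modules.pushforward (i ∣_ W)).mapIso
            (Scheme.Modules.restrictUnitIso (i ⁻¹ᵁ W).ι))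
  exact isPseudoCoherentD_of_iso e h1

end Open

/-- the direct image of a free module of finite rank placed in one degree is pseudo-coherent -/
theorem pc_Q_push_single_free
    (hO : ∀ m : ℤ, DCoh.IsPseudoCoherentD m
      (DCoh.inD X ((Scheme.Modules.pushforward i).obj (Coh.structureModule Z)))) (n : ℕ)
    (b m : ℤ) :
    DCoh.IsPseudoCoherentD m (Q.obj ((DerSch.pushCx i).obj
      ((HomologicalComplex.single Z.Modules (ComplexShape.up ℤ) b).obj (FlatMod.freeMod Z n)))) := by
  have h1 : ∀ m : ℤ, DCoh.IsPseudoCoherentD m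
      (DCoh.inD X ((Scheme.Modules.pushforward i).obj (FlatMod.freeMod Z n))) := fun m =>
    pc_map_freeMod (Scheme.Modules.pushforward i ⋙ DerivedCategory.singleFunctor X.Modules 0)
      hO n m
  exact isPseudoCoherentD_of_iso (Q.mapIso
    ((HomologicalComplex.singleMapHomologicalComplex (Scheme.Modules.pushforward i)
      (ComplexShape.up ℤ) b).app (FlatMod.freeMod Z n)).symm)
    (pc_Q_single _ h1 b m)

end Groth.Agent.Helper5.PCZ
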