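import Groth.Agent.Lib.Helper5.PCZ4

/-!
# Pseudo-coherence along a closed immersion, part 5: a module whose direct image along a closed
immersion is of finite type is of finite type
-/

set_option autoImplicit false
set_option linter.unusedSectionVars false
set_option linter.unusedVariables false
set_option linter.style.haveILetI false

universe u

open CategoryTheory CategoryTheory.Limits AlgebraicGeometry Pretriangulated DerivedCategory
  TopologicalSpace

attribute [local instance] HasDerivedCategory.standard

namespace Groth.Agent.Helper5.PCZ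

open Groth.Agent.Helper5.PCT Groth.Agent.Helper5.TBA Groth.Agent.Helper5.RT
  Groth.Agent.Helper5.BP Groth.Agent.Helper5.COHP Groth.Agent.Helper5.LOC
  Groth.Agent.Helper13.FinType Groth.Agent.Helper13.QCoh Groth.Agent.Helper5.CI
  Groth.Agent.Helper5.LDer Groth.Agent.Helper5.StalkCx

variable {Z X : Scheme.{u}} (i : Z ⟶ X) [IsClosedImmersion i]

theorem isFiniteType_of_push (M : Z.Modules)
    (h : SheafOfModules.IsFiniteType (R := X.ringCatSheaf)
      ((Scheme.Modules.pushforward i).obj M)) :
    SheafOfModules.IsFiniteType (R := Z.ringCatSheaf) M := by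
  haveI := h
  apply isFiniteType_of_genOn
  intro z
  obtain ⟨W, hxW, I, hI, s, hs⟩ :=
    exists_genOn_of_isFiniteType ((Scheme.Modules.pushforward i).obj M) (i.base z)
  refine ⟨i ⁻¹ᵁ W, hxW, I, hI, s, ?_⟩
  intro z' hz'
  have h1 := hs (i.base z') hz'
  haveI := isIso_sigma i z' M
  have hsurj : Function.Surjective (sigma i z' M).hom :=
    (ConcreteCategory.bijective_of_isIso (sigma i z' M)).2
  rw [eq_top_iff]
  rintro m -
  obtain ⟨t, rfl⟩ := hsurj m
  have ht : t ∈ Submodule.span (X.presheaf.stalk (i.base z'))
      (Set.range fun k => ((Scheme.Modules.pushforward i).obj M).presheaf.germ W (i.base z') hz'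
        (s k)) := by
    rw [h1]; trivial
  induction ht using Submodule.span_induction with
  | mem t ht =>
    obtain ⟨k, rfl⟩ := ht
    refine Submodule.subset_span ⟨k, ?_⟩
    exact (sigma_germ i z' M W hz' (s k)).symm
  | zero =>
    rw [map_zero]
    exact Submodule.zero_mem _
  | add a b _ _ ha hb =>
    rw [map_add]
    exact Submodule.add_mem _ ha hb
  | smul a t _ ht =>
    rw [map_smul]
    exact Submodule.smul_mem _ _ ht

end Groth.Agent.Helper5.PCZ
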