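import Groth.Agent.Lib.Helper5.PCZ5
import Groth.Agent.Lib.Helper13.FinTypeEpi

/-!
# Pseudo-coherence along a closed immersion, part 6: killing the top cohomology sheaf
-/

set_option autoImplicit false
set_option linter.unusedSectionVars false
set_option linter.unusedVariables false
set_option linter.style.haveILetI false

universe u

open CategoryTheory CategoryTheory.Limits AlgebraicGeometry Pretriangulated DerivedCategory
  TopologicalSpace

attribute [local instance] HasDerivedCategory.standard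

namespace Groth.Agent.Helper5.PCZ

open Groth.Agent.Helper5.PCT Groth.Agent.Helper5.TBA Groth.Agent.Helper5.RT
  Groth.Agent.Helper5.BP Groth.Agent.Helper5.COHP Groth.Agent.Helper5.LOC
  Groth.Agent.Helper13.FinType Groth.Agent.Helper13.QCoh Groth.Agent.Helper5.CI
  Groth.Agent.Helper5.LDer Groth.Agent.Helper5.StalkCx Groth.Agent.Helper5.PC
  Groth.Agent.Helper5.PCM Groth.Agent.Helper5.PCH

section Gen

variable {Y : Scheme.{u}}

lemma isFiniteType_of_iso' {M N : Y.Modules} (e : M ≅ N)
    (h : SheafOfModules.IsFiniteType (R := Y.ringCatSheaf) M) :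
    SheafOfModules.IsFiniteType (R := Y.ringCatSheaf) N := by
  haveI := h
  exact isFiniteType_of_epi e.hom

/-- a free module of finite rank placed in one degree is strictly perfect -/
lemma isStrictlyPerfect_single_free (k : ℕ) (b : ℤ) :
    DCoh.IsStrictlyPerfect
      ((HomologicalComplex.single Y.Modules (ComplexShape.up ℤ) b).obj (FlatMod.freeMod Y k)) := by
  refine ⟨⟨b, b, fun i hi => ?_⟩, fun i => ?_⟩
  · exact HomologicalComplex.isZero_single_obj_X _ _ _ _ (by omega)
  · by_cases h : i = b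
    · subst h
      exact Groth.Agent.Helper13.LocFree.isFinLocFree_of_iso
        (HomologicalComplex.singleObjXSelf (ComplexShape.up ℤ) i (FlatMod.freeMod Y k)).symm
        (Groth.Agent.Helper13.LocFree.isFinLocFree_freeMod k)
    · exact Groth.Agent.Helper5.FPC.isFinLocFree_of_isZero
        (HomologicalComplex.isZero_single_obj_X _ _ _ _ h)

lemma pc_Q_single_free (k : ℕ) (b m : ℤ) :
    DCoh.IsPseudoCoherentD m (Q.obj
      ((HomologicalComplex.single Y.Modules (ComplexShape.up ℤ) b).obj (FlatMod.freeMod Y k))) :=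
  fun y => pcAt_Q_of_isStrictlyPerfect _ (isStrictlyPerfect_single_free k b) m y

/-- the cone of a morphism from a module placed in degree `b` which is surjective on `H^b`, to a
complex without cohomology above `b`, has no cohomology in degrees `≥ b` -/
lemma isZero_homology_cone_of_epi {A : Y.Modules} {K : CochainComplex Y.Modules ℤ} (b : ℤ)
    (a : (HomologicalComplex.single Y.Modules (ComplexShape.up ℤ) b).obj A ⟶ K)
    (ha : Epi (HomologicalComplex.homologyMap a b))
    (hK : ∀ j : ℤ, b < j → IsZero (K.homology j)) (j : ℤ) (hj : b ≤ j) :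
    IsZero ((CochainComplex.mappingCone a).homology j) := by
  have hc : IsConn b (Q.map a) := by
    rw [isConn_Q_map_iff]
    refine ⟨fun i hi => ?_, ha⟩
    exact isIso_of_isZero _
      (HomologicalComplex.isZero_single_obj_homology _ _ _ _ (by omega)) (hK i hi)
  have h := (isConn_mor₁_iff _ (DerivedCategory.mappingCone_triangle_distinguished a) b).mp hc j hj
  exact IsZero.of_iso h (HDQIso _ j).symm

end Gen

variable {Z X : Scheme.{u}} (i : Z ⟶ X) [IsClosedImmersion i]

/-- killing the cohomology sheaf `H^b(G)`, of finite type near `z`, on the inverse image of an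
open neighbourhood of the image of `z` -/
theorem exists_kill (G : CochainComplex Z.Modules ℤ) (b : ℤ) (z : Z) (V₁ : Z.Opens)
    (hz : z ∈ V₁)
    (hft : SheafOfModules.IsFiniteType (R := (V₁ : Scheme.{u}).ringCatSheaf)
      (((rCx V₁.ι).obj G).homology b))
    (hv : ∀ j : ℤ, b < j → IsZero (G.homology j)) :
    ∃ W : X.Opens, i.base z ∈ W ∧ ∃ (k : ℕ)
      (a : (HomologicalComplex.single (i ⁻¹ᵁ W : Scheme.{u}).Modules (ComplexShape.up ℤ) b).obj
        (FlatMod.freeMod (i ⁻¹ᵁ W : Scheme.{u}) k) ⟶ (rCx (i ⁻¹ᵁ W).ι).obj G),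
      ∀ j : ℤ, b ≤ j → IsZero ((CochainComplex.mappingCone a).homology j) := by
  obtain ⟨V₀, hzV₀, H⟩ := exists_single_free_epi ((rCx V₁.ι).obj G) b
    (⟨z, hz⟩ : (V₁ : Scheme.{u})) hft
  obtain ⟨W, hzW, hWV⟩ := exists_opens_preimage_le i (V₁.ι ''ᵁ V₀) z ⟨⟨z, hz⟩, hzV₀, rfl⟩
  have hle : i ⁻¹ᵁ W ≤ V₁ := by
    intro z' hz'
    obtain ⟨v, -, rfl⟩ := hWV hz'
    exact v.2
  have hrange : Set.range (Z.homOfLE hle).base ⊆ (V₀ : Set (V₁ : Scheme.{u})) := by
    rintro _ ⟨v, rfl⟩
    obtain ⟨v₀, hv₀, hv₀'⟩ := hWV v.2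
    have h1 : V₁.ι.base ((Z.homOfLE hle).base v) = V₁.ι.base v₀ := by
      rw [← Scheme.Hom.comp_apply, Z.homOfLE_ι hle]
      exact hv₀'.symm
    have h2 := V₁.ι.isOpenEmbedding.injective h1
    rw [h2]
    exact hv₀
  obtain ⟨k, a, ha⟩ := H _ (Z.homOfLE hle) hrange
  let iso : (rCx (Z.homOfLE hle)).obj ((rCx V₁.ι).obj G) ≅ (rCx (i ⁻¹ᵁ W).ι).obj G :=
    ((NatIso.mapHomologicalComplex (Scheme.Modules.restrictFunctorComp (Z.homOfLE hle) V₁.ι)
      (ComplexShape.up ℤ)).app G).symm ≪≫
    (NatIso.mapHomologicalComplex (Scheme.Modules.restrictFunctorCongr (Z.homOfLE_ι hle))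
      (ComplexShape.up ℤ)).app G
  refine ⟨W, hzW, k, a ≫ iso.hom, fun j hj => ?_⟩
  refine isZero_homology_cone_of_epi b (a ≫ iso.hom) ?_ (fun j' hj' => ?_) j hj
  · rw [HomologicalComplex.homologyMap_comp]
    haveI : IsIso (HomologicalComplex.homologyMap iso.hom b) := inferInstance
    exact epi_comp _ _
  · exact IsZero.of_iso ((Scheme.Modules.restrictFunctor _).map_isZero (hv j' hj'))
      (restrictHomologyIso _ G j')

end Groth.Agent.Helper5.PCZ
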