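import Groth.Agent.Lib.Helper5.PCZ6

/-!
# Pseudo-coherence along a closed immersion, part 7: for a closed immersion `i` with pseudo-coherent
`i_* O_Z`, a complex `G` is `m`-pseudo-coherent if and only if `i_* G` is
-/

set_option autoImplicit false
set_option linter.unusedSectionVars false
set_option linter.unusedVariables false
set_option linter.style.haveILetI false

universe u

open CategoryTheory CategoryTheory.Limits AlgebraicGeometry Pretriangulated DerivedCategory
  TopologicalSpace

attribute [local instance] HasDerivedCategory.standard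

namespace Groth.Agent.Helper5.PCZ

open Groth.Agent.Helper5.PCT Groth.Agent.Helper5.TBA Groth.Agent.Helper5.RT
  Groth.Agent.Helper5.BP Groth.Agent.Helper5.COHP Groth.Agent.Helper5.LOC
  Groth.Agent.Helper13.FinType Groth.Agent.Helper13.QCoh Groth.Agent.Helper5.CI
  Groth.Agent.Helper5.LDer Groth.Agent.Helper5.StalkCx Groth.Agent.Helper5.PC
  Groth.Agent.Helper5.PCM Groth.Agent.Helper5.PCH

/-- the hypothesis on the structure sheaf -/
def HO {Z X : Scheme.{u}} (i : Z ⟶ X) : Prop :=
  ∀ m : ℤ, DCoh.IsPseudoCoherentD m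
    (DCoh.inD X ((Scheme.Modules.pushforward i).obj (Coh.structureModule Z)))

section Step

variable {Z X : Scheme.{u}} (i : Z ⟶ X) [IsClosedImmersion i]
  (G : CochainComplex Z.Modules ℤ) (m : ℤ)

lemma isZero_homology_push (j : ℤ) (h : IsZero (G.homology j)) :
    IsZero (((DerSch.pushCx i).obj G).homology j) :=
  IsZero.of_iso ((Scheme.Modules.pushforward i).map_isZero h) (pushHomologyIso i G j)

/-- the induction step, data on an open `W` of `X`: the cone `C` of `a` on `i⁻¹ W` -/
lemma step_forward (hO : HO i) (W : X.Opens) (k : ℕ) (b : ℤ)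
    (a : (HomologicalComplex.single (i ⁻¹ᵁ W : Scheme.{u}).Modules (ComplexShape.up ℤ) b).obj
        (FlatMod.freeMod (i ⁻¹ᵁ W : Scheme.{u}) k) ⟶ (rCx (i ⁻¹ᵁ W).ι).obj G)
    (hC : DCoh.IsPseudoCoherentD m
      (Q.obj ((DerSch.pushCx (i ∣_ W)).obj (CochainComplex.mappingCone a)))) :
    DCoh.IsPseudoCoherentD m (Q.obj ((rCx W.ι).obj ((DerSch.pushCx i).obj G))) := by
  have hOW : ∀ m, DCoh.IsPseudoCoherentD m (DCoh.inD (W : Scheme.{u})
      ((Scheme.Modules.pushforward (i ∣_ W)).obj
        (Coh.structureModule (i ⁻¹ᵁ W : Scheme.{u})))) := hO_restrict i W hO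
  have h₁ := pc_Q_push_single_free (i ∣_ W) hOW k b m
  have h₃ : DCoh.IsPseudoCoherentD m
      (Q.obj (CochainComplex.mappingCone ((DerSch.pushCx (i ∣_ W)).map a))) :=
    isPseudoCoherentD_of_iso (Q.mapIso (CochainComplex.mappingCone.mapHomologicalComplexIso a
      (Scheme.Modules.pushforward (i ∣_ W)))) hC
  have h₂ := isPseudoCoherentD_obj₂ _
    (DerivedCategory.mappingCone_triangle_distinguished ((DerSch.pushCx (i ∣_ W)).map a)) m h₁ h₃
  exact isPseudoCoherentD_of_iso (Q.mapIso (pushRestrictCxIso' i W G).symm) h₂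

lemma step_backward_cone (hO : HO i) (W : X.Opens) (k : ℕ) (b : ℤ)
    (a : (HomologicalComplex.single (i ⁻¹ᵁ W : Scheme.{u}).Modules (ComplexShape.up ℤ) b).obj
        (FlatMod.freeMod (i ⁻¹ᵁ W : Scheme.{u}) k) ⟶ (rCx (i ⁻¹ᵁ W).ι).obj G)
    (hP : DCoh.IsPseudoCoherentD m (Q.obj ((DerSch.pushCx i).obj G))) :
    DCoh.IsPseudoCoherentD m
      (Q.obj ((DerSch.pushCx (i ∣_ W)).obj (CochainComplex.mappingCone a))) := by
  have hOW : ∀ m, DCoh.IsPseudoCoherentD m (DCoh.inD (W : Scheme.{u})
      ((Scheme.Modules.pushforward (i ∣_ W)).obj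
        (Coh.structureModule (i ⁻¹ᵁ W : Scheme.{u})))) := hO_restrict i W hO
  have h₁ := pc_Q_push_single_free (i ∣_ W) hOW k b (m + 1)
  have h₂ : DCoh.IsPseudoCoherentD m
      (Q.obj ((DerSch.pushCx (i ∣_ W)).obj ((rCx (i ⁻¹ᵁ W).ι).obj G))) :=
    isPseudoCoherentD_of_iso (Q.mapIso (pushRestrictCxIso' i W G)) (pc_rCx W.ι _ m hP)
  have h₃ := isPseudoCoherentD_Q_mappingCone ((DerSch.pushCx (i ∣_ W)).map a) m h₁ h₂
  exact isPseudoCoherentD_of_iso (Q.mapIso (CochainComplex.mappingCone.mapHomologicalComplexIso a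
    (Scheme.Modules.pushforward (i ∣_ W))).symm) h₃

end Step

/-- the key induction: for complexes without cohomology in degrees `≥ m + n` -/
theorem key (n : ℕ) : ∀ {Z X : Scheme.{u}} (i : Z ⟶ X) [IsClosedImmersion i] (hO : HO i)
    (G : CochainComplex Z.Modules ℤ) (m : ℤ)
    (hv : ∀ j : ℤ, m + n ≤ j → IsZero (G.homology j)),
    DCoh.IsPseudoCoherentD m (Q.obj G) ↔
      DCoh.IsPseudoCoherentD m (Q.obj ((DerSch.pushCx i).obj G)) := by
  induction n with
  | zero =>
    intro Z X i _ hO G m hv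
    simp only [Nat.cast_zero, add_zero] at hv
    exact ⟨fun _ => pc_of_isZero_homology _ m (fun j hj => isZero_homology_push i G j (hv j hj)),
      fun _ => pc_of_isZero_homology _ m hv⟩
  | succ n ih =>
    intro Z X i _ hO G m hv
    have hv' : ∀ j : ℤ, m + n < j → IsZero (G.homology j) := fun j hj =>
      hv j (by push_cast; omega)
    constructor
    · intro hG x
      by_cases hx : x ∈ Set.range i.base
      · obtain ⟨z, rfl⟩ := hx
        -- the top cohomology sheaf is of finite type near `z`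
        obtain ⟨V₁, hzV₁, P, a₁, hP, ha₁⟩ := exists_chain_model_at G (m + n) z
          (pcAt_of_le (by omega) (hG z))
        have hft := isFiniteType_homology_of_conn P _ hP (Q.map a₁) (m + n) ha₁
          (fun j hj => IsZero.of_iso ((Scheme.Modules.restrictFunctor _).map_isZero (hv' j hj))
            (restrictHomologyIso _ G j))
        obtain ⟨W, hzW, k, a, hC⟩ := exists_kill i G (m + n) z V₁ hzV₁ hft hv'
        have hS := pc_Q_single_free (Y := (i ⁻¹ᵁ W : Scheme.{u})) k (m + n) (m + 1)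
        have hGV := pc_rCx (i ⁻¹ᵁ W).ι G m hG
        have hCpc := isPseudoCoherentD_Q_mappingCone a m hS hGV
        have hpush := (ih (i ∣_ W) (hO_restrict i W hO) (CochainComplex.mappingCone a) m hC).mp hCpc
        have h := step_forward i G m hO W k (m + n) a hpush
        exact pcAt_of_pc_rCx W.ι _ m ⟨i.base z, hzW⟩ h
      · exact pcAt_push_of_not_mem_range i G m x hx
    · intro hP z
      obtain ⟨W₁, hzW₁, P, a₁, hPs, ha₁⟩ := exists_chain_model_at ((DerSch.pushCx i).obj G) (m + n)
        (i.base z) (pcAt_of_le (by omega) (hP (i.base z)))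
      have hft₀ := isFiniteType_homology_of_conn P _ hPs (Q.map a₁) (m + n) ha₁
        (fun j hj => IsZero.of_iso ((Scheme.Modules.restrictFunctor _).map_isZero
          (isZero_homology_push i G j (hv' j hj))) (restrictHomologyIso _ _ j))
      have hft₁ : SheafOfModules.IsFiniteType (R := (W₁ : Scheme.{u}).ringCatSheaf)
          ((Scheme.Modules.pushforward (i ∣_ W₁)).obj
            (((rCx (i ⁻¹ᵁ W₁).ι).obj G).homology (m + n))) :=
        isFiniteType_of_iso' ((HomologicalComplex.homologyFunctor _ _ (m + n)).mapIso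
          (pushRestrictCxIso' i W₁ G) ≪≫ pushHomologyIso (i ∣_ W₁) _ (m + n)) hft₀
      have hft := isFiniteType_of_push (i ∣_ W₁) _ hft₁
      obtain ⟨W, hzW, k, a, hC⟩ := exists_kill i G (m + n) z (i ⁻¹ᵁ W₁) hzW₁ hft hv'
      have hpush := step_backward_cone i G m hO W k (m + n) a hP
      have hCpc := (ih (i ∣_ W) (hO_restrict i W hO) (CochainComplex.mappingCone a) m hC).mpr hpush
      have hS := pc_Q_single_free (Y := (i ⁻¹ᵁ W : Scheme.{u})) k (m + n) m
      have hGV := isPseudoCoherentD_obj₂ _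
        (DerivedCategory.mappingCone_triangle_distinguished a) m hS hCpc
      exact pcAt_of_pc_rCx (i ⁻¹ᵁ W).ι G m ⟨z, hzW⟩ hGV

end Groth.Agent.Helper5.PCZ
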