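import Groth.Agent.Lib.Helper5.PCZ7

/-!
# Pseudo-coherence along a closed immersion, part 8: the main theorem
-/

set_option autoImplicit false
set_option linter.unusedSectionVars false
set_option linter.unusedVariables false
set_option linter.style.haveILetI false

universe u

open CategoryTheory CategoryTheory.Limits AlgebraicGeometry Pretriangulated DerivedCategory
  TopologicalSpace

attribute [local instance] HasDerivedCategory.standard

namespace Groth.Agent.Helper5.PCZ

open Groth.Agent.Helper5.PCT Groth.Agent.Helper5.TBA Groth.Agent.Helper5.RT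
  Groth.Agent.Helper5.BP Groth.Agent.Helper5.COHP Groth.Agent.Helper5.LOC
  Groth.Agent.Helper13.FinType Groth.Agent.Helper13.QCoh Groth.Agent.Helper5.CI
  Groth.Agent.Helper5.LDer Groth.Agent.Helper5.StalkCx Groth.Agent.Helper5.PC
  Groth.Agent.Helper5.PCM Groth.Agent.Helper5.PCH

variable {Z X : Scheme.{u}} (i : Z ⟶ X) [IsClosedImmersion i]

/-- the cohomology of `Q G` restricted to an open -/
noncomputable def HDrestrictIso {Y : Scheme.{u}} (G : CochainComplex Y.Modules ℤ) (V : Y.Opens)
    (j : ℤ) :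
    DCoh.HD ((DCoh.restrictD V.ι).obj (Q.obj G)) j ≅
      (Scheme.Modules.restrictFunctor V.ι).obj (G.homology j) :=
  (DerivedCategory.homologyFunctor _ j).mapIso (restrictDQIso V.ι G) ≪≫ HDQIso _ j ≪≫
    restrictHomologyIso V.ι G j

lemma isZero_restrict_of_le {Y : Scheme.{u}} (M : Y.Modules) {V' V : Y.Opens} (hle : V' ≤ V)
    (h : IsZero ((Scheme.Modules.restrictFunctor V.ι).obj M)) :
    IsZero ((Scheme.Modules.restrictFunctor V'.ι).obj M) := by
  have e1 : Scheme.Modules.restrictFunctor V'.ι ≅
      Scheme.Modules.restrictFunctor V.ι ⋙ Scheme.Modules.restrictFunctor (Y.homOfLE hle) :=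
    Scheme.Modules.restrictFunctorCongr (Y.homOfLE_ι hle).symm ≪≫
      Scheme.Modules.restrictFunctorComp (Y.homOfLE hle) V.ι
  exact IsZero.of_iso ((Scheme.Modules.restrictFunctor (Y.homOfLE hle)).map_isZero h) (e1.app M)

theorem main (hO : HO i) (G : CochainComplex Z.Modules ℤ) (m : ℤ) :
    DCoh.IsPseudoCoherentD m (Q.obj G) ↔
      DCoh.IsPseudoCoherentD m (Q.obj ((DerSch.pushCx i).obj G)) := by
  constructor
  · intro hG x
    by_cases hx : x ∈ Set.range i.base
    · obtain ⟨z, rfl⟩ := hx
      obtain ⟨V, N, hzV, hN⟩ := exists_isZero_HD_of_pcAt (Q.obj G) m z (hG z)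
      obtain ⟨W, hzW, hWV⟩ := exists_opens_preimage_le i V z hzV
      have hv : ∀ j : ℤ, m + ((N - m).toNat : ℤ) ≤ j →
          IsZero (((rCx (i ⁻¹ᵁ W).ι).obj G).homology j) := by
        intro j hj
        have hj' : N ≤ j := by
          have := Int.self_le_toNat (N - m)
          omega
        have h1 := IsZero.of_iso (hN j hj') (HDrestrictIso G V j).symm
        exact IsZero.of_iso (isZero_restrict_of_le _ hWV h1) (restrictHomologyIso _ G j)
      have h := (key (N - m).toNat (i ∣_ W) (hO_restrict i W hO) _ m hv).mp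
        (pc_rCx (i ⁻¹ᵁ W).ι G m hG)
      exact pcAt_of_pc_rCx W.ι _ m ⟨i.base z, hzW⟩
        (isPseudoCoherentD_of_iso (Q.mapIso (pushRestrictCxIso' i W G).symm) h)
    · exact pcAt_push_of_not_mem_range i G m x hx
  · intro hP z
    obtain ⟨W, N, hzW, hN⟩ := exists_isZero_HD_of_pcAt (Q.obj ((DerSch.pushCx i).obj G)) m
      (i.base z) (hP (i.base z))
    have hv : ∀ j : ℤ, m + ((N - m).toNat : ℤ) ≤ j →
        IsZero (((rCx (i ⁻¹ᵁ W).ι).obj G).homology j) := by
      intro j hj
      have hj' : N ≤ j := by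
        have := Int.self_le_toNat (N - m)
        omega
      have h1 : IsZero (((rCx W.ι).obj ((DerSch.pushCx i).obj G)).homology j) :=
        IsZero.of_iso (hN j hj')
          ((restrictHomologyIso W.ι _ j) ≪≫
            (HDrestrictIso ((DerSch.pushCx i).obj G) W j).symm)
      have h2 : IsZero ((Scheme.Modules.pushforward (i ∣_ W)).obj
          (((rCx (i ⁻¹ᵁ W).ι).obj G).homology j)) :=
        IsZero.of_iso h1 ((pushHomologyIso (i ∣_ W) _ j).symm ≪≫
          (HomologicalComplex.homologyFunctor _ _ j).mapIso (pushRestrictCxIso' i W G).symm)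
      exact isZero_of_isZero_push (i ∣_ W) _ h2
    have h := (key (N - m).toNat (i ∣_ W) (hO_restrict i W hO) _ m hv).mpr
      (isPseudoCoherentD_of_iso (Q.mapIso (pushRestrictCxIso' i W G)) (pc_rCx W.ι _ m hP))
    exact pcAt_of_pc_rCx (i ⁻¹ᵁ W).ι G m ⟨z, hzW⟩ h

/-- S1102 -/
theorem main_D [(Scheme.Modules.pushforward i).Additive]
    [PreservesFiniteLimits (Scheme.Modules.pushforward i)]
    [PreservesFiniteColimits (Scheme.Modules.pushforward i)]
    (hO : ∀ m : ℤ, DCoh.IsPseudoCoherentD m
      (DCoh.inD X ((Scheme.Modules.pushforward i).obj (Coh.structureModule Z))))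
    (E : DCoh.D Z) (m : ℤ) :
    DCoh.IsPseudoCoherentD m E ↔
      DCoh.IsPseudoCoherentD m ((Scheme.Modules.pushforward i).mapDerivedCategory.obj E) := by
  let G := (Q (C := Z.Modules)).objPreimage E
  let e : Q.obj G ≅ E := (Q (C := Z.Modules)).objObjPreimageIso E
  have e' : Q.obj ((DerSch.pushCx i).obj G) ≅
      (Scheme.Modules.pushforward i).mapDerivedCategory.obj E :=
    ((Scheme.Modules.pushforward i).mapDerivedCategoryFactors.app G).symm ≪≫
      (Scheme.Modules.pushforward i).mapDerivedCategory.mapIso e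
  constructor
  · intro h
    exact isPseudoCoherentD_of_iso e' ((main i hO G m).mp (isPseudoCoherentD_of_iso e.symm h))
  · intro h
    exact isPseudoCoherentD_of_iso e ((main i hO G m).mpr (isPseudoCoherentD_of_iso e'.symm h))

end Groth.Agent.Helper5.PCZ
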