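import Groth.Agent.Lib.Helper5.FBX9
import Groth.Agent.Lib.Helper11.FlatPc2
import Groth.Agent.Lib.Helper11.Glue2
import Groth.Agent.Lib.Helper11.PcHom1

/-!
# Perfect dimension `0`, part 1: the chart of the structure sheaf and pseudo-coherent ring maps
-/

set_option autoImplicit false
set_option linter.unusedSectionVars false
set_option linter.unusedVariables false
set_option linter.style.haveILetI false

universe u

open CategoryTheory CategoryTheory.Limits AlgebraicGeometry TopologicalSpace

attribute [local instance] HasDerivedCategory.standard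

namespace Groth.Agent.Helper5.PDZ

open Groth.Agent.Helper5.TB Groth.Agent.Helper5.RPR Groth.Agent.Helper11
  Groth.Agent.Helper5.TBA Groth.Agent.Helper5.RT Groth.Agent.Helper5.PCT Groth.Agent.Helper5.TT
  Groth.Agent.Helper5.KF Groth.Agent.Helper9.RelPC Groth.Agent.Helper11.TA
  Groth.Agent.Helper5.LDer Groth.Agent.Helper5.CHP Groth.Agent.Helper11.MPC
  Groth.Agent.Helper11.PcHom

variable {X S : Scheme.{u}}

/-- the restriction of the structure sheaf along an open immersion -/
noncomputable def restrictUnitIso {W : Scheme.{u}} (j : W ⟶ X) [IsOpenImmersion j] :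
    (Scheme.Modules.restrictFunctor j).obj (Coh.structureModule X) ≅ Coh.structureModule W :=
  (Scheme.Modules.restrictFunctorIsoPullback j).app _ ≪≫
    Groth.Agent.Helper13.PbUnit.pullbackUnitIso j

/-- the chart of the structure sheaf in degree `0` is the ring of sections in degree `0` -/
noncomputable def chartUnitIso {U : X.Opens} (hU : IsAffineOpen U) :
    chart (DCoh.toD X (DerSch.unitCx X)) hU ≅
      (DCoh.tildeD Γ(X, U)).obj (Dual.inD Γ(X, U) Γ(X, U)) :=
  chartIso _ hU (DerSch.unitCx X) (Iso.refl _) ≪≫
    DerivedCategory.Q.mapIso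
      ((HomologicalComplex.singleMapHomologicalComplex
          (Scheme.Modules.restrictFunctor hU.fromSpec) (ComplexShape.up ℤ) 0).app
          (Coh.structureModule X) ≪≫
        (HomologicalComplex.single _ (ComplexShape.up ℤ) 0).mapIso
          (restrictUnitIso hU.fromSpec ≪≫ (tildeSelf (R := Γ(X, U))).symm) ≪≫
        ((HomologicalComplex.singleMapHomologicalComplex
          (tilde.functor Γ(X, U)) (ComplexShape.up ℤ) 0).app
          (ModuleCat.of Γ(X, U) Γ(X, U))).symm) ≪≫
    QtildeIso Γ(X, U) _ ≪≫
    (DCoh.tildeD Γ(X, U)).mapIso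
      ((DerivedCategory.singleFunctorIsoCompQ (ModuleCat.{u} Γ(X, U)) 0).app
        (ModuleCat.of Γ(X, U) Γ(X, U))).symm

end Groth.Agent.Helper5.PDZ
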