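import Groth.Agent.Lib.Helper5.PDZ9
import Groth.Agent.Lib.Helper5.TBC1
import Groth.Agent.Lib.Helper11.RelBC3
import Groth.Agent.Lib.Helper3.KP1

/-!
# Perfect amplitude, part 10: the complex of modules representing a derived pullback on an affine
open; relative pseudo-coherence of the derived pullback along a pseudo-coherent morphism
-/

set_option autoImplicit false
set_option linter.unusedSectionVars false
set_option linter.unusedVariables false
set_option linter.style.haveILetI false

universe u

open CategoryTheory CategoryTheory.Limits AlgebraicGeometry TopologicalSpace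

attribute [local instance] HasDerivedCategory.standard

namespace Groth.Agent.Helper5.PDZ

open Groth.Agent.Helper5.TB Groth.Agent.Helper5.RPR Groth.Agent.Helper11
  Groth.Agent.Helper5.TBA Groth.Agent.Helper5.RT Groth.Agent.Helper5.PCT Groth.Agent.Helper5.TT
  Groth.Agent.Helper5.KF Groth.Agent.Helper11.TA Groth.Agent.Helper5.CHP
  Groth.Agent.Helper11.MPC Groth.Agent.Helper11.PcHom Groth.Agent.Helper5.LDer

section Chart

variable {X X' : Scheme.{u}} (g : X' ⟶ X) [DCoh.HasLpull g] (E : DCoh.D X)
  {U : X.Opens} (hU : IsAffineOpen U) {U' : X'.Opens} (hU' : IsAffineOpen U')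
  (hle : U' ≤ g ⁻¹ᵁ U)

/-- the complex of modules representing a derived pullback on an affine open mapping into an
affine open on which the object is represented by `M` -/
theorem nonempty_chartLpull (M : Dual.D Γ(X, U))
    (e : chart E hU ≅ (DCoh.tildeD Γ(X, U)).obj M)
    [DRing.HasLBaseChange (g.appLE U U' hle).hom] :
    Nonempty (chart ((DCoh.Lpull g).obj E) hU' ≅
      (DCoh.tildeD Γ(X', U')).obj ((DRing.LBaseChange (g.appLE U U' hle).hom).obj M)) := by
  let F := (DerivedCategory.Q (C := X.Modules)).objPreimage E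
  let eF : DCoh.toD X F ≅ E := (DerivedCategory.Q (C := X.Modules)).objObjPreimageIso E
  obtain ⟨P, q, hP, -, hq, -⟩ := KRes.exists_kFlat_resolution F
  haveI := hq
  let eP : DCoh.toD X P ≅ E := asIso (DerivedCategory.Q.map q) ≪≫ eF
  let pP := ((Scheme.Modules.pullback g).mapHomologicalComplex (ComplexShape.up ℤ)).obj P
  let e1 : DCoh.toD X' pP ≅ (DCoh.Lpull g).obj E :=
    (LpullObjIso g P hP).symm ≪≫ (DCoh.Lpull g).mapIso eP
  let e2 := chartIso ((DCoh.Lpull g).obj E) hU' pP e1
  have comm : hU'.fromSpec ≫ g = Spec.map (g.appLE U U' hle) ≫ hU.fromSpec :=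
    (IsAffineOpen.SpecMap_appLE_fromSpec g hU hU' hle).symm
  let e3 : (rCx hU'.fromSpec).obj pP ≅
      ((Scheme.Modules.pullback (Spec.map (g.appLE U U' hle))).mapHomologicalComplex
        (ComplexShape.up ℤ)).obj ((rCx hU.fromSpec).obj P) :=
    (NatIso.mapHomologicalComplex (Groth.Agent.Helper13.Pullback.pullbackRestrictIso g
      hU'.fromSpec hU.fromSpec (Spec.map (g.appLE U U' hle)) comm) (ComplexShape.up ℤ)).app P
  have hPU : DCoh.IsKFlat ((rCx hU.fromSpec).obj P) := isKFlat_restrict hU.fromSpec P hP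
  haveI : DCoh.HasLpull (Spec.map (g.appLE U U' hle)) := hasLpull _
  let e4 : DerivedCategory.Q.obj ((rCx hU.fromSpec).obj P) ≅ (DCoh.tildeD Γ(X, U)).obj M :=
    (chartIso E hU P eP).symm ≪≫ e
  let e5 := (LpullObjIso (Spec.map (g.appLE U U' hle)) ((rCx hU.fromSpec).obj P) hPU).symm ≪≫
    (DCoh.Lpull (Spec.map (g.appLE U U' hle))).mapIso e4
  obtain ⟨e6⟩ := Groth.Agent.Helper5.TBC.nonempty_LBaseChange_tildeD_iso (g.appLE U U' hle).hom
  exact ⟨e2 ≪≫ DerivedCategory.Q.mapIso e3 ≪≫ e5 ≪≫ (e6.app M).symm⟩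

end Chart

end Groth.Agent.Helper5.PDZ
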