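import Groth.Agent.Lib.Helper5.RTA1

/-!
# Relative tor amplitude of an extension of scalars along a ring map of finite tor dimension
-/

set_option autoImplicit false
set_option linter.unusedSectionVars false
set_option linter.unusedVariables false
set_option linter.style.haveILetI false

universe u

open CategoryTheory CategoryTheory.Limits MonoidalCategory HomologicalComplex
open scoped TensorProduct

attribute [local instance] HasDerivedCategory.standard

namespace Groth.Agent.Helper5.RTA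

open Groth.Agent.Helper5.KF Groth.Agent.Helper11.DC Groth.Agent.Helper11.Tel
  Groth.Agent.Helper11.TorGE Groth.Agent.Helper11

/-- the tensor product of K-flat complexes is K-flat -/
theorem KFl_tensor {B : Type u} [CommRing B] {P G : DRing.Cx B} (hP : KFl P) (hG : KFl G) :
    KFl (P ⊗ G) := by
  intro L hL i
  exact IsZero.of_iso (hG (L ⊗ P) (hP L hL) i)
    ((HomologicalComplex.homologyFunctor _ _ i).mapIso (α_ L P G)).symm

theorem hasTorAmplitudeIn_rsC_extC_of_torDim {A B C : Type u} [CommRing A] [CommRing B]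
    [CommRing C] (ψ : A →+* B) (φ : B →+* C) (a' b' : ℤ)
    (hC : DRing.HasTorAmplitudeIn B a' b' (DRing.toD ((rsC φ).obj (𝟙_ (DRing.Cx C)))))
    (P : DRing.Cx B) (hPk : KFl P) (c d : ℤ)
    (hP : DRing.HasTorAmplitudeIn A c d (DRing.toD ((rsC ψ).obj P))) :
    DRing.HasTorAmplitudeIn A (a' + c) (b' + d)
      (DRing.toD ((rsC ψ).obj ((rsC φ).obj ((extC φ).obj P)))) := by
  have hPex := exactAt_of_hasTorAmplitudeIn ψ P c d hP
  obtain ⟨PK, cK, hPKb, hPKp, ⟨ePK⟩⟩ := (TA.torVan_of_hasTorAmplitudeIn hC).hasProjRes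
  obtain ⟨E, hE, hEf, ⟨eE⟩⟩ := hC
  haveI : PK.IsKProjective := isKProjective_of_vanishesAbove PK cK hPKb hPKp
  obtain ⟨fE, hfE⟩ := exists_lift_of_isKProjective PK E (ePK.hom ≫ eE.inv)
  have hfEq : QuasiIso fE := by
    rw [← DerivedCategory.isIso_Q_map_iff_quasiIso, hfE]
    infer_instance
  obtain ⟨fC, hfC⟩ := exists_lift_of_isKProjective PK ((rsC φ).obj (𝟙_ (DRing.Cx C))) ePK.hom
  have hfCq : QuasiIso fC := by
    rw [← DerivedCategory.isIso_Q_map_iff_quasiIso, hfC]
    infer_instance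
  have hcmp : ∀ (W : DRing.Cx B), KFl W → ∀ i : ℤ,
      ((rsC φ).obj (𝟙_ (DRing.Cx C)) ⊗ W).ExactAt i ↔ (E ⊗ W).ExactAt i := by
    intro W hW i
    haveI h1 : QuasiIso (fC ▷ W) := hW.quasiIso_whiskerRight fC hfCq
    haveI h2 : QuasiIso (fE ▷ W) := hW.quasiIso_whiskerRight fE hfEq
    exact (_root_.exactAt_iff_of_quasiIsoAt (fC ▷ W) i).symm.trans
      (_root_.exactAt_iff_of_quasiIsoAt (fE ▷ W) i)
  let Y : DRing.Cx B := (rsC φ).obj ((extC φ).obj P)
  let X : DRing.Cx A := (rsC ψ).obj Y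
  have hXle : (DRing.toD X).IsLE (b' + d) := by
    rw [DerivedCategory.isLE_iff]
    intro i hi
    rw [TA.isZero_homology_Q_iff_exactAt]
    apply exactAt_rsC ψ Y i
    refine (_root_.exactAt_iff_of_quasiIsoAt (unitTensorIso φ P).hom i).mp ?_
    refine (hcmp P hPk i).mpr ?_
    exact exactAt_tensor_of_bounds E P a' b' c d hE hEf hPex i (Or.inr hi)
  obtain ⟨PX, cX, hPXb, hPXp, ⟨ePX⟩⟩ := PRT.hasProjRes_of_isLE (DRing.toD X) (b' + d) hXle
  haveI : PX.IsKProjective := isKProjective_of_vanishesAbove PX cX hPXb hPXp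
  obtain ⟨ψX, hψX⟩ := exists_lift_of_isKProjective PX X ePX.hom
  have hψXq : QuasiIso ψX := by
    rw [← DerivedCategory.isIso_Q_map_iff_quasiIso, hψX]
    infer_instance
  obtain ⟨PL, cL, hPLb, hPLp, ⟨ePL⟩, hPLv⟩ := TA.torVan_of_hasTorAmplitudeIn hP
  haveI : PL.IsKProjective := isKProjective_of_vanishesAbove PL cL hPLb hPLp
  obtain ⟨ψL, hψL⟩ := exists_lift_of_isKProjective PL ((rsC ψ).obj P) ePL.hom
  have hψLq : QuasiIso ψL := by
    rw [← DerivedCategory.isIso_Q_map_iff_quasiIso, hψL]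
    infer_instance
  have hXtor : TA.TorVan (a' + c) (b' + d) (DRing.toD X) := by
    refine ⟨PX, cX, hPXb, hPXp, ⟨ePX⟩, ?_⟩
    intro M i hi
    rw [TA.isZero_homology_Q_iff_exactAt]
    obtain ⟨hFb, hFp, -⟩ := TA.projRes_spec M
    let F : DRing.Cx A := (projectiveResolution M).cochainComplex
    let π : F ⟶ (CochainComplex.singleFunctor (ModuleCat.{u} A) 0).obj M :=
      (projectiveResolution M).π'
    have hπ : QuasiIso π := inferInstance
    have hFf : ∀ j, Module.Flat A (F.X j) := fun j => by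
      haveI := hFp j
      infer_instance
    have hGk : KFl ((extC ψ).obj F) := KFl.extC ψ F (KFl.of_flat_bddAbove F 0 hFb hFf)
    refine (exactAt_tens_iff_tensor X PX cX hPXb hPXp ψX hψXq M F 0 hFb hFf π hπ i).mpr ?_
    refine (exactAt_rsC_tensor_iff ψ Y F i).mpr ?_
    refine (_root_.exactAt_iff_of_quasiIsoAt ((unitTensorIso φ P).hom ▷ (extC ψ).obj F) i).mp ?_
    refine (_root_.exactAt_iff_of_quasiIsoAt
      (α_ ((rsC φ).obj (𝟙_ (DRing.Cx C))) P ((extC ψ).obj F)).hom i).mpr ?_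
    refine (hcmp (P ⊗ (extC ψ).obj F) (KFl_tensor hPk hGk) i).mpr ?_
    refine exactAt_tensor_of_bounds E (P ⊗ (extC ψ).obj F) a' b' c d hE hEf ?_ i hi
    intro j hj
    refine (exactAt_rsC_tensor_iff ψ P F j).mp ?_
    refine (exactAt_tens_iff_tensor _ PL cL hPLb hPLp ψL hψLq M F 0 hFb hFf π hπ j).mp ?_
    rw [← TA.isZero_homology_Q_iff_exactAt]
    exact hPLv M j hj
  exact TA.hasTorAmplitudeIn_of_torVan hXtor

end Groth.Agent.Helper5.RTA
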