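import Groth.Agent.Lib.Helper5.RTA3
import Groth.Agent.Lib.Helper5.RTA4
import Groth.Agent.Lib.Helper9.TorComp

/-!
# Relative tor amplitude of a derived pullback along a morphism of finite tor dimension
-/

set_option autoImplicit false
set_option linter.unusedSectionVars false
set_option linter.unusedVariables false
set_option linter.style.haveILetI false

universe u

open CategoryTheory CategoryTheory.Limits MonoidalCategory HomologicalComplex AlgebraicGeometry
open scoped TensorProduct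

attribute [local instance] HasDerivedCategory.standard

namespace Groth.Agent.Helper5.RTA

open Groth.Agent.Helper5.KF Groth.Agent.Helper5.StalkCx Groth.Agent.Helper5.Sky
  Groth.Agent.Helper5.LDer

variable {X Y Z : Scheme.{u}}

/-- the complex of stalks of the unit complex is the unit complex -/
noncomputable def stalkCxUnitIso (x : X) :
    stalkCx x (DerSch.unitCx X) ≅ 𝟙_ (DRing.Cx (X.presheaf.stalk x)) :=
  (HomologicalComplex.singleMapHomologicalComplex (DerSch.stalkFunctor X x)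
      (ComplexShape.up ℤ) 0).app (Coh.structureModule X) ≪≫
    (HomologicalComplex.single _ (ComplexShape.up ℤ) 0).mapIso
      (LinearEquiv.toModuleIso (Groth.Agent.Helper13.WeakAss.unitStalkEquiv x))

theorem hasTorAmplitudeD_Lpull_comp (f : X ⟶ Y) (g : Y ⟶ Z) (m : ℕ)
    (hf : DerSch.HasTorDimLE f m) [DCoh.HasLpull f]
    (G : CochainComplex Y.Modules ℤ) (c d : ℤ) (hG : DerSch.HasTorAmplitude g c d G) :
    DerSch.HasTorAmplitudeD (f ≫ g) (c - m) d ((DCoh.Lpull f).obj (DCoh.toD Y G)) := by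
  rintro G' ⟨eG'⟩ x
  obtain ⟨P, q, hP, -, hq, -⟩ := KRes.exists_kFlat_resolution G
  haveI := hq
  have e1 : DerivedCategory.Q.obj G' ≅ DerivedCategory.Q.obj
      (((Scheme.Modules.pullback f).mapHomologicalComplex (ComplexShape.up ℤ)).obj P) :=
    eG' ≪≫ (DCoh.Lpull f).mapIso (asIso (DerivedCategory.Q.map q)).symm ≪≫ LpullObjIso f P hP
  -- the stalk of `P` over `Z`
  have hPy : DRing.HasTorAmplitudeIn (Z.presheaf.stalk (g.base (f.base x))) c d
      (DRing.toD ((rsC (g.stalkMap (f.base x)).hom).obj (stalkCx (f.base x) P))) := by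
    obtain ⟨E, hE, hEf, ⟨eE⟩⟩ := hG (f.base x)
    exact ⟨E, hE, hEf,
      ⟨eE ≪≫ (stalkCxOverDIso g (f.base x) (asIso (DerivedCategory.Q.map q))).symm⟩⟩
  have hPk : KFl (stalkCx (f.base x) P) := isKFlat_stalk (f.base x) P hP
  have hC : DRing.HasTorAmplitudeIn (Y.presheaf.stalk (f.base x)) (-(m : ℤ)) 0
      (DRing.toD ((rsC (φst f x)).obj (𝟙_ (DRing.Cx (X.presheaf.stalk x))))) := by
    obtain ⟨E, hE, hEf, ⟨eE⟩⟩ := hf x
    exact ⟨E, hE, hEf, ⟨eE ≪≫ DerivedCategory.Q.mapIso ((rsC (φst f x)).mapIso (stalkCxUnitIso x))⟩⟩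
  obtain ⟨E, hE, hEf, ⟨eE⟩⟩ := hasTorAmplitudeIn_rsC_extC_of_torDim (g.stalkMap (f.base x)).hom
    (φst f x) (-(m : ℤ)) 0 hC (stalkCx (f.base x) P) hPk c d hPy
  let e2 := (NatIso.mapHomologicalComplex (pullbackStalkIso f x) (ComplexShape.up ℤ)).app P
  have e3 : DRing.toD ((DerSch.stalkCxOver (f ≫ g) x).obj G') ≅
      DRing.toD ((rsC (g.stalkMap (f.base x)).hom).obj ((rsC (φst f x)).obj
        ((extC (φst f x)).obj (stalkCx (f.base x) P)))) :=
    stalkCxOverDIso (f ≫ g) x e1 ≪≫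
      DerivedCategory.Q.mapIso (Groth.Agent.Helper9.TorComp.stalkCxCompIso f g x _) ≪≫
      DerivedCategory.Q.mapIso ((rsC (g.stalkMap (f.base x)).hom).mapIso
        ((rsC (φst f x)).mapIso e2))
  exact ⟨E, fun i hi => hE i (by omega), hEf, ⟨eE ≪≫ e3.symm⟩⟩

end Groth.Agent.Helper5.RTA
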