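import Groth.Agent.Lib.Helper5.PDZ10
import Groth.Agent.Lib.Helper5.RTA5

/-!
# Perfect amplitude, part 11: relative pseudo-coherence of the derived pullback along a
pseudo-coherent morphism; perfect amplitude of the derived pullback
-/

set_option autoImplicit false
set_option linter.unusedSectionVars false
set_option linter.unusedVariables false
set_option linter.style.haveILetI false

universe u

open CategoryTheory CategoryTheory.Limits AlgebraicGeometry TopologicalSpace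

attribute [local instance] HasDerivedCategory.standard

namespace Groth.Agent.Helper5.PDZ

open Groth.Agent.Helper5.TB Groth.Agent.Helper5.RPR Groth.Agent.Helper11
  Groth.Agent.Helper5.TBA Groth.Agent.Helper5.RT Groth.Agent.Helper5.PCT Groth.Agent.Helper5.TT
  Groth.Agent.Helper5.KF Groth.Agent.Helper11.TA Groth.Agent.Helper5.CHP
  Groth.Agent.Helper11.MPC Groth.Agent.Helper11.PcHom Groth.Agent.Helper5.LDer

variable {X Y Z : Scheme.{u}}

/-- the derived pullback along a pseudo-coherent morphism `f` of an object which is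
`m`-pseudo-coherent relative to `g` is `m`-pseudo-coherent relative to `f ≫ g` -/
theorem rel_Lpull_of_pcMor (f : X ⟶ Y) (g : Y ⟶ Z) [LocallyOfFiniteType f]
    [LocallyOfFiniteType g] [DCoh.HasLpull f] (hf : MoreMor.IsPseudoCoherentMor f)
    (K : DCoh.D Y) (hq : DCoh.IsQCohD K) (m : ℤ) (hK : DerSch.IsPseudoCoherentRel g m K) :
    DerSch.IsPseudoCoherentRel (f ≫ g) m ((DCoh.Lpull f).obj K) := by
  have hq' : DCoh.IsQCohD ((DCoh.Lpull f).obj K) := Groth.Agent.Helper29.QcE.main f K hq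
  have HY := (rel_iff_relPC g K m hq).mp hK
  rw [rel_iff_relPC (f ≫ g) _ m hq']
  intro U hU W hW hUW
  refine relPC_of_local (f ≫ g) _ m hU hW hUW (fun x hx => ?_)
  have hxW : f.base x ∈ g ⁻¹ᵁ W := hUW hx
  obtain ⟨V, hV, hxV, hVW⟩ := (Opens.isBasis_iff_nbhd.mp Y.isBasis_affineOpens) hxW
  have hxUV : x ∈ U ⊓ f ⁻¹ᵁ V := ⟨hx, hxV⟩
  obtain ⟨U₂, hU₂, hxU₂, hU₂le⟩ := (Opens.isBasis_iff_nbhd.mp X.isBasis_affineOpens) hxUV
  have e₁ : U₂ ≤ f ⁻¹ᵁ V := le_trans hU₂le inf_le_right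
  have e₂ : U₂ ≤ (f ≫ g) ⁻¹ᵁ W := fun y hy => hVW (e₁ hy)
  have H2 : RelPC (f ≫ g) ((DCoh.Lpull f).obj K) m hU₂ hW e₂ := by
    intro M ⟨e⟩
    obtain ⟨MV, ⟨eV⟩⟩ := exists_model K hq hV
    haveI : DRing.HasLBaseChange (f.appLE V U₂ e₁).hom :=
      Groth.Agent.Helper3.KP.hasLeftDerivedFunctor _
    obtain ⟨e3⟩ := nonempty_chartLpull f K hV hU₂ e₁ MV eV
    obtain ⟨e4⟩ := repr_unique _ hU₂ _ _ e3 e
    have h1 := HY V hV W hW hVW MV ⟨eV⟩
    letI algVU : Algebra Γ(Y, V) Γ(X, U₂) := (f.appLE V U₂ e₁).hom.toAlgebra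
    letI algWV : Algebra Γ(Z, W) Γ(Y, V) := (g.appLE W V hVW).hom.toAlgebra
    letI algWU : Algebra Γ(Z, W) Γ(X, U₂) := ((f ≫ g).appLE W U₂ e₂).hom.toAlgebra
    haveI : IsScalarTower Γ(Z, W) Γ(Y, V) Γ(X, U₂) := by
      refine IsScalarTower.of_algebraMap_eq' ?_
      have h := Scheme.Hom.appLE_comp_appLE f g W V U₂ hVW e₁
      exact (congrArg CommRingCat.Hom.hom h).symm
    haveI : Algebra.FiniteType Γ(Y, V) Γ(X, U₂) := by
      have h := f.finiteType_appLE hV hU₂ e₁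
      exact h
    haveI : DRing.HasLBaseChange (algebraMap Γ(Y, V) Γ(X, U₂)) :=
      Groth.Agent.Helper3.KP.hasLeftDerivedFunctor _
    have h2 := Groth.Agent.Helper11.RelBC.rel_LBaseChange (R := Γ(Z, W)) (A := Γ(Y, V))
      (B := Γ(X, U₂)) (rel_of_hom (hf U₂ V hU₂ hV e₁)) MV m h1
    exact rel_of_iso' (f ≫ g) m e₂ e4 h2
  exact relPC_transfer (f ≫ g) _ m hq' hU hU₂ hW hW hUW e₂ H2 x hx hxU₂

/-- the derived pullback along a morphism `f` of perfect dimension `≤ m` of a complex of perfect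
amplitude `[c, d]` relative to `g` has perfect amplitude `[c - m, d]` relative to `f ≫ g` -/
theorem perfAmp_Lpull_comp (f : X ⟶ Y) (g : Y ⟶ Z) [LocallyOfFiniteType f]
    [LocallyOfFiniteType g] (m : ℕ) (hf : DerSch.HasPerfDimLE f m) [DCoh.HasLpull f] (c d : ℤ)
    (G : CochainComplex Y.Modules ℤ) (hG : DerSch.HasPerfAmplitudeRel g c d G)
    (F' : CochainComplex X.Modules ℤ)
    (e : DCoh.toD X F' ≅ (DCoh.Lpull f).obj (DCoh.toD Y G)) :
    DerSch.HasPerfAmplitudeRel (f ≫ g) (c - m) d F' := by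
  have hq : DCoh.IsQCohD (DCoh.toD Y G) :=
    Groth.Agent.Helper9.RelPC.isQCohD_of_isPseudoCoherentRelAll g _ hG.1
  have hfpc : MoreMor.IsPseudoCoherentMor f := (pcRelAll_unit_iff f).mp hf.1
  refine ⟨fun k => ?_, ?_⟩
  · exact Groth.Agent.Helper5.FBX.isPseudoCoherentRel_of_iso (f ≫ g) k e.symm
      (rel_Lpull_of_pcMor f g hfpc _ hq k (hG.1 k))
  · exact Groth.Agent.Helper5.RTA.hasTorAmplitudeD_Lpull_comp f g m hf.2 G c d hG.2 F' ⟨e⟩

end Groth.Agent.Helper5.PDZ
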