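import Groth.Agent.Lib.Helper5.PDZ11
import Groth.Agent.Lib.Helper11.KoszPerf2
import Groth.Agent.Lib.Helper11.PerfMor5
import Groth.Prelude.Def_RegImm

/-!
# Perfect amplitude, part 12: a Koszul-regular immersion of codimension `d` has perfect dimension
at most `d`
-/

set_option autoImplicit false
set_option linter.unusedSectionVars false
set_option linter.unusedVariables false
set_option linter.style.haveILetI false

universe u

open CategoryTheory CategoryTheory.Limits AlgebraicGeometry TopologicalSpace DerivedCategory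

attribute [local instance] HasDerivedCategory.standard

namespace Groth.Agent.Helper5.PDZ

open Groth.Agent.Helper5.TB Groth.Agent.Helper5.RPR Groth.Agent.Helper11
  Groth.Agent.Helper5.TBA Groth.Agent.Helper5.RT Groth.Agent.Helper5.PCT Groth.Agent.Helper5.TT
  Groth.Agent.Helper5.KF Groth.Agent.Helper11.TA Groth.Agent.Helper5.CHP
  Groth.Agent.Helper11.MPC Groth.Agent.Helper11.PcHom Groth.Agent.Helper5.LDer
  Groth.Agent.Helper11.KoszPerf

/-- the quotient by a Koszul-regular sequence of length `d` has tor amplitude in `[-d, 0]` -/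
theorem hasTorAmplitudeIn_single_of_koszulRegular (A : Type u) [CommRing A] (l : List A)
    (h : LCI.IsKoszulRegularSeq A l) (M : ModuleCat.{u} A) (e : M ≃ₗ[A] A ⧸ Ideal.ofList l) :
    DRing.HasTorAmplitudeIn A (-(l.length : ℤ)) 0
      ((DerivedCategory.singleFunctor (ModuleCat.{u} A) 0).obj M) := by
  let K : Dual.D A := Q.obj (Koszul.koszul A l)
  have hK : ∀ i : ℤ, i ≠ 0 → IsZero ((homologyFunctor (ModuleCat.{u} A) i).obj K) := fun i hi =>
    (h i hi).of_iso ((homologyFunctorFactors (ModuleCat.{u} A) i).app (Koszul.koszul A l))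
  have h1 : K.IsLE 0 := by
    rw [isLE_iff]
    intro i hi
    exact hK i (by omega)
  have h2 : K.IsGE 0 := by
    rw [isGE_iff]
    intro i hi
    exact hK i (by omega)
  obtain ⟨N, ⟨eN⟩⟩ := exists_iso_singleFunctor_obj_of_isGE_of_isLE K 0
  have e1 : (homologyFunctor (ModuleCat.{u} A) 0).obj K ≅ N :=
    (homologyFunctor (ModuleCat.{u} A) 0).mapIso eN ≪≫
      (singleFunctorCompHomologyFunctorIso (ModuleCat.{u} A) 0).app N
  have e2 : (homologyFunctor (ModuleCat.{u} A) 0).obj K ≅ (Koszul.koszul A l).homology 0 :=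
    (homologyFunctorFactors (ModuleCat.{u} A) 0).app (Koszul.koszul A l)
  obtain ⟨e3⟩ := homology_zero_equiv A l
  have eM : N ≅ M := e1.symm ≪≫ e2 ≪≫ e3.toModuleIso ≪≫ e.symm.toModuleIso
  refine ⟨Koszul.koszul A l, koszul_vanishesOutside A l, fun i => ?_,
    ⟨eN ≪≫ (DerivedCategory.singleFunctor (ModuleCat.{u} A) 0).mapIso eM⟩⟩
  obtain ⟨hf1, hf2⟩ := koszul_finite_free A l i
  infer_instance

/-- a Koszul-regular immersion of codimension `d` has perfect dimension at most `d` -/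
theorem perfDim_of_koszulRegular {Z X : Scheme.{u}} (i : Z ⟶ X) (d : ℕ)
    (hi : RegImm.IsRegularImmersionOfCodim RegImm.Kind.koszul d i) : DerSch.HasPerfDimLE i d := by
  haveI : IsImmersion i := hi.1
  have hreg : RegImm.IsRegularImmersion .koszul i :=
    ⟨hi.1, fun z => by
      obtain ⟨U, hz, hci, rs, -, hrs, hker⟩ := hi.2 z
      exact ⟨U, hz, hci, rs, hrs, hker⟩⟩
  have hperf := Groth.Agent.Helper11.PerfMor.perfMor_of_koszulRegularImmersion i hreg
  have hpc : MoreMor.IsPseudoCoherentMor i := fun U V hU hV e => (hperf U V hU hV e).1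
  refine ⟨(pcRelAll_unit_iff i).mpr hpc, ?_⟩
  intro z
  obtain ⟨U, hz, hci, rs, hlen, hrs, hker⟩ := hi.2 z
  haveI := hci
  haveI : IsAffine (U.1 : Scheme.{u}) := U.2
  have hUaff : IsAffineOpen (i ⁻¹ᵁ U.1) := isAffine_of_isAffineHom (i ∣_ U.1)
  have hsurj : Function.Surjective (i.app U.1).hom := by
    have h1 : Function.Surjective ((i ∣_ U.1).app ⊤).hom :=
      (i ∣_ U.1).app_surjective ⊤ (isAffineOpen_top _)
    rw [morphismRestrict_app] at h1
    have h2 : Function.Injective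
        (Z.presheaf.map (eqToHom (image_morphismRestrict_preimage i U.1 ⊤)).op).hom :=
      (ConcreteCategory.bijective_of_isIso
        (Z.presheaf.map (eqToHom (image_morphismRestrict_preimage i U.1 ⊤)).op)).injective
    have h3 : Function.Surjective (i.app (U.1.ι ''ᵁ ⊤)).hom := by
      refine Function.Surjective.of_comp_left (f := (Z.presheaf.map
        (eqToHom (image_morphismRestrict_preimage i U.1 ⊤)).op).hom) ?_ h2
      exact h1
    exact Groth.Agent.Helper11.PerfMor.app_surjective_of_eq i (by simp) h3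
  set φ := (i.appLE U.1 (i ⁻¹ᵁ U.1) le_rfl).hom with hφ
  have hφsurj : Function.Surjective φ := by
    rw [hφ, Scheme.Hom.appLE_eq_app]
    exact hsurj
  have hφker : RingHom.ker φ = Ideal.ofList rs := by
    rw [hφ, Scheme.Hom.appLE_eq_app]
    exact hker
  letI := φ.toAlgebra
  -- the ring-level tor amplitude
  let M : ModuleCat.{u} Γ(X, U.1) :=
    (ModuleCat.restrictScalars.{u} φ).obj (ModuleCat.of Γ(Z, i ⁻¹ᵁ U.1) Γ(Z, i ⁻¹ᵁ U.1))
  have hk : LinearMap.ker (Algebra.linearMap Γ(X, U.1) Γ(Z, i ⁻¹ᵁ U.1)) = Ideal.ofList rs := by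
    rw [← hφker]
    ext x
    rw [LinearMap.mem_ker, RingHom.mem_ker]
    rfl
  let e : M ≃ₗ[Γ(X, U.1)] Γ(X, U.1) ⧸ Ideal.ofList rs :=
    ((Algebra.linearMap Γ(X, U.1) Γ(Z, i ⁻¹ᵁ U.1)).quotKerEquivOfSurjective hφsurj).symm.trans
      (Submodule.quotEquivOfEq _ _ hk)
  have h1 := hasTorAmplitudeIn_single_of_koszulRegular Γ(X, U.1) rs hrs M e
  rw [hlen] at h1
  have e2 := ((ModuleCat.restrictScalars.{u} φ).mapDerivedCategorySingleFunctor 0).app
    (ModuleCat.of Γ(Z, i ⁻¹ᵁ U.1) Γ(Z, i ⁻¹ᵁ U.1))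
  have h2 : DRing.HasTorAmplitudeIn Γ(X, U.1) (-(d : ℤ)) 0
      ((DRing.restrictD φ).obj (Dual.inD Γ(Z, i ⁻¹ᵁ U.1) Γ(Z, i ⁻¹ᵁ U.1))) :=
    hasTorAmplitudeIn_of_iso e2.symm _ _ h1
  have key := (torAmp_chart_iff i (DCoh.toD Z (DerSch.unitCx Z)) hUaff U.2 le_rfl _
    (chartUnitIso hUaff) (-(d : ℤ)) 0).mpr h2
  exact TA.hasTorAmplitudeIn_of_torVan ((key z hz).of_iso (stalkDIso i z _ (Iso.refl _)))

end Groth.Agent.Helper5.PDZ
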