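import Groth.Agent.Lib.Helper5.PDZ2
import Groth.Prelude.Def_FlatMod2

/-!
# Perfect dimension `0`, part 3: stalkwise tor amplitude `[0, 0]` of a module in degree `0` is
flatness over the base
-/

set_option autoImplicit false
set_option linter.unusedSectionVars false
set_option linter.unusedVariables false
set_option linter.style.haveILetI false

universe u

open CategoryTheory CategoryTheory.Limits AlgebraicGeometry TopologicalSpace

attribute [local instance] HasDerivedCategory.standard

namespace Groth.Agent.Helper5.PDZ

variable {X S : Scheme.{u}} (f : X ⟶ S)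

/-- the stalk complex over the base of a module in degree `0` -/
noncomputable def stalkCxOverSingleIso (M : X.Modules) (x : X) :
    DRing.toD ((DerSch.stalkCxOver f x).obj
        ((HomologicalComplex.single _ (ComplexShape.up ℤ) 0).obj M)) ≅
      (DerivedCategory.singleFunctor (ModuleCat.{u} (S.presheaf.stalk (f.base x))) 0).obj
        ((DerSch.stalkOver f x).obj M) :=
  DerivedCategory.Q.mapIso ((HomologicalComplex.singleMapHomologicalComplex
      (DerSch.stalkOver f x) (ComplexShape.up ℤ) 0).app M) ≪≫
    ((DerivedCategory.singleFunctorIsoCompQ _ 0).app _).symm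

lemma hasTorAmplitudeIn_of_iso {B : Type u} [CommRing B] {K L : Dual.D B} (e : K ≅ L) (a b : ℤ)
    (h : DRing.HasTorAmplitudeIn B a b K) : DRing.HasTorAmplitudeIn B a b L := by
  obtain ⟨E, h1, h2, ⟨e'⟩⟩ := h
  exact ⟨E, h1, h2, ⟨e' ≪≫ e⟩⟩

/-- stalkwise tor amplitude `[0, 0]` of a module in degree `0` is flatness over the base -/
theorem hasTorAmplitudeAt_single_iff (M : X.Modules) (x : X) :
    DerSch.HasTorAmplitudeAt f 0 0 ((HomologicalComplex.single _ (ComplexShape.up ℤ) 0).obj M) x ↔
      FlatMod.IsFlatOverAt f M x := by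
  constructor
  · intro h
    have h1 := hasTorAmplitudeIn_of_iso (stalkCxOverSingleIso f M x) 0 0 h
    obtain ⟨N, _, _, hN, ⟨e⟩⟩ :=
      Groth.Agent.Helper11.Glue.exists_flat_of_hasTorAmplitudeIn_zero _ h1
    have e' : (DerSch.stalkOver f x).obj M ≅ ModuleCat.of _ N :=
      (DerivedCategory.singleFunctor (ModuleCat.{u} (S.presheaf.stalk (f.base x))) 0).preimageIso e
    have h2 : Module.Flat (S.presheaf.stalk (f.base x)) ((DerSch.stalkOver f x).obj M) :=
      Module.Flat.of_linearEquiv e'.toLinearEquiv
    exact h2
  · intro h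
    have h2 : Module.Flat (S.presheaf.stalk (f.base x)) ((DerSch.stalkOver f x).obj M) := h
    have h3 := Groth.Agent.Helper11.Glue.hasTorAmplitudeIn_inD_of_flat
      (B := S.presheaf.stalk (f.base x)) ((DerSch.stalkOver f x).obj M)
    exact hasTorAmplitudeIn_of_iso (stalkCxOverSingleIso f M x).symm 0 0 h3

/-- stalkwise tor amplitude `[0, 0]` of a module in degree `0` is flatness over the base -/
theorem hasTorAmplitude_single_iff (M : X.Modules) :
    DerSch.HasTorAmplitude f 0 0 ((HomologicalComplex.single _ (ComplexShape.up ℤ) 0).obj M) ↔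
      FlatMod.IsFlatOver f M :=
  forall_congr' (fun x => hasTorAmplitudeAt_single_iff f M x)

end Groth.Agent.Helper5.PDZ
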