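import Groth.Agent.Lib.Helper5.PDZ3
import Groth.Agent.Lib.Helper9.RelPC4
import Groth.Agent.Lib.Helper13.WeakAss

/-!
# Perfect dimension `0`, part 4: a morphism has perfect dimension `≤ 0` iff it is flat and locally
of finite presentation
-/

set_option autoImplicit false
set_option linter.unusedSectionVars false
set_option linter.unusedVariables false
set_option linter.style.haveILetI false

universe u

open CategoryTheory CategoryTheory.Limits AlgebraicGeometry TopologicalSpace

attribute [local instance] HasDerivedCategory.standard

namespace Groth.Agent.Helper5.PDZ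

variable {X S : Scheme.{u}} (f : X ⟶ S)

/-- the structure sheaf is flat over the base at `x` iff the stalk map is flat -/
theorem isFlatOverAt_unit_iff (x : X) :
    FlatMod.IsFlatOverAt f (Coh.structureModule X) x ↔ (f.stalkMap x).hom.Flat := by
  unfold FlatMod.IsFlatOverAt
  letI := FlatMod.moduleStalkOver f (Coh.structureModule X) x
  letI : Algebra (S.presheaf.stalk (f.base x)) (X.presheaf.stalk x) := (f.stalkMap x).hom.toAlgebra
  let e := Groth.Agent.Helper13.WeakAss.unitStalkEquiv x
  let e' : (Coh.structureModule X).presheaf.stalk x ≃ₗ[S.presheaf.stalk (f.base x)]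
      X.presheaf.stalk x :=
    { e.toAddEquiv with
      map_smul' := fun r m => by
        show e ((f.stalkMap x).hom r • m) = (f.stalkMap x).hom r • e m
        exact e.map_smul _ _ }
  constructor
  · intro h
    have h1 : Module.Flat (S.presheaf.stalk (f.base x)) (X.presheaf.stalk x) :=
      Module.Flat.of_linearEquiv e'.symm
    exact h1
  · intro h
    haveI : Module.Flat (S.presheaf.stalk (f.base x)) (X.presheaf.stalk x) := h
    exact Module.Flat.of_linearEquiv e'

/-- the structure sheaf is flat over the base iff the morphism is flat -/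
theorem isFlatOver_unit_iff : FlatMod.IsFlatOver f (Coh.structureModule X) ↔ Flat f := by
  rw [Flat.iff_flat_stalkMap]
  exact forall_congr' (fun x => isFlatOverAt_unit_iff f x)

/-- a morphism locally of finite type has perfect dimension `≤ 0` iff it is flat and locally of
finite presentation -/
theorem perfDim_zero_iff [LocallyOfFiniteType f] :
    DerSch.HasPerfDimLE f 0 ↔ (Flat f ∧ LocallyOfFinitePresentation f) := by
  have h0 : (-((0 : ℕ) : ℤ)) = 0 := by simp
  unfold DerSch.HasPerfDimLE DerSch.HasPerfAmplitudeRel
  rw [h0]
  constructor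
  · rintro ⟨hpc, htor⟩
    refine ⟨(isFlatOver_unit_iff f).mp ((hasTorAmplitude_single_iff f _).mp htor), ?_⟩
    exact (Groth.Agent.Helper9.RelPC.main6225 f).mp (hpc (-1))
  · rintro ⟨hfl, hfp⟩
    haveI := hfl
    haveI := hfp
    exact ⟨(pcRelAll_unit_iff f).mpr (pcMor_of_flat_lfp f),
      (hasTorAmplitude_single_iff f _).mpr ((isFlatOver_unit_iff f).mpr hfl)⟩

end Groth.Agent.Helper5.PDZ
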