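import Groth.Agent.Lib.Helper5.PDZ4
import Groth.Agent.Lib.Helper11.FlatPc3
import Groth.Agent.Lib.Helper11.DCPc0
import Groth.Agent.Lib.Helper11.DCRestrict
import Groth.Agent.Lib.Helper11.MPC12

/-!
# Perfect amplitude `[0, 0]`, part 5: a `(-1)`-pseudo-coherent object over a flat finitely presented
algebra with tor amplitude `[0, 0]` over the base is pseudo-coherent
-/

set_option autoImplicit false
set_option linter.unusedSectionVars false
set_option linter.unusedVariables false
set_option linter.style.haveILetI false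

universe u

open CategoryTheory CategoryTheory.Limits AlgebraicGeometry TopologicalSpace DerivedCategory

attribute [local instance] HasDerivedCategory.standard

namespace Groth.Agent.Helper5.PDZ

open Groth.Agent.Helper11.DC Groth.Agent.Helper11.MPC Groth.Agent.Helper11.TA

variable {A P : Type u} [CommRing A] [CommRing P] [Algebra A P]

/-- an object of `D(P)` whose restriction to `A` is a flat module in degree `0` is a module in
degree `0`, flat over `A` -/
theorem exists_single_of_torAmp_zero (L : Dual.D P)
    (h2 : DRing.HasTorAmplitudeIn A 0 0 ((DRing.restrictD (algebraMap A P)).obj L)) :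
    ∃ N : ModuleCat.{u} P, Nonempty (L ≅ (singleFunctor (ModuleCat.{u} P) 0).obj N) ∧
      Module.Flat A ((ModuleCat.restrictScalars.{u} (algebraMap A P)).obj N) := by
  obtain ⟨N', _, _, hN'flat, ⟨e2⟩⟩ :=
    Groth.Agent.Helper11.Glue.exists_flat_of_hasTorAmplitudeIn_zero _ h2
  have hz : ∀ i : ℤ, i ≠ 0 → IsZero ((homologyFunctor (ModuleCat.{u} P) i).obj L) := by
    intro i hi
    have h3 : IsZero ((homologyFunctor (ModuleCat.{u} A) i).obj
        ((DRing.restrictD (algebraMap A P)).obj L)) :=
      (isZero_homology_single (ModuleCat.of A N') i hi).of_iso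
        ((homologyFunctor (ModuleCat.{u} A) i).mapIso e2)
    have h4 : IsZero ((ModuleCat.restrictScalars.{u} (algebraMap A P)).obj
        ((homologyFunctor (ModuleCat.{u} P) i).obj L)) :=
      h3.of_iso (homologyRestrictIso (algebraMap A P) L i).symm
    have h5 : Subsingleton ((ModuleCat.restrictScalars.{u} (algebraMap A P)).obj
        ((homologyFunctor (ModuleCat.{u} P) i).obj L)) := ModuleCat.subsingleton_of_isZero h4
    haveI : Subsingleton ((homologyFunctor (ModuleCat.{u} P) i).obj L) := h5
    exact ModuleCat.isZero_of_subsingleton _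
  haveI : L.IsGE 0 := by
    rw [DerivedCategory.isGE_iff]
    intro i hi
    exact hz i (by omega)
  haveI : L.IsLE 0 := by
    rw [DerivedCategory.isLE_iff]
    intro i hi
    exact hz i (by omega)
  obtain ⟨N, ⟨eL⟩⟩ := DerivedCategory.exists_iso_singleFunctor_obj_of_isGE_of_isLE L 0
  refine ⟨N, ⟨eL⟩, ?_⟩
  have e3 : (singleFunctor (ModuleCat.{u} A) 0).obj
      ((ModuleCat.restrictScalars.{u} (algebraMap A P)).obj N) ≅
      (singleFunctor (ModuleCat.{u} A) 0).obj (ModuleCat.of A N') :=
    (((ModuleCat.restrictScalars.{u} (algebraMap A P)).mapDerivedCategorySingleFunctor 0).app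
      N).symm ≪≫ (DRing.restrictD (algebraMap A P)).mapIso eL.symm ≪≫ e2
  have e4 : (ModuleCat.restrictScalars.{u} (algebraMap A P)).obj N ≅ ModuleCat.of A N' :=
    (singleFunctor (ModuleCat.{u} A) 0).preimageIso e3
  exact Module.Flat.of_linearEquiv e4.toLinearEquiv

/-- over a flat finitely presented `A`-algebra `P`, a `(-1)`-pseudo-coherent object whose
restriction to `A` has tor amplitude in `[0, 0]` is pseudo-coherent -/
theorem pc'_of_pcNeg1_of_torAmp_zero [Module.Flat A P] [Algebra.FinitePresentation A P]
    (L : Dual.D P) (h1 : DRing.IsPseudoCoherent P (-1) L)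
    (h2 : DRing.HasTorAmplitudeIn A 0 0 ((DRing.restrictD (algebraMap A P)).obj L)) :
    DRing.IsPseudoCoherent' P L := by
  obtain ⟨N, ⟨eL⟩, hfl⟩ := exists_single_of_torAmp_zero L h2
  have hfp : Module.FinitePresentation P N := fp_of_pcNeg1 N (mpc_of_iso eL h1)
  letI : Module A N := Module.compHom N (algebraMap A P)
  haveI : IsScalarTower A P N := IsScalarTower.of_algebraMap_smul (fun _ _ => rfl)
  haveI : Module.Flat A N := hfl
  have h3 : DRing.IsPseudoCoherentModule' P N :=
    Groth.Agent.Helper11.FlatPc.pc_module_of_flat_fp A P N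
  obtain ⟨E, b, hb, hE, ⟨e'⟩⟩ := h3
  exact ⟨E, b, hb, hE, ⟨e' ≪≫ eL.symm⟩⟩

end Groth.Agent.Helper5.PDZ
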