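import Groth.Agent.Lib.Helper5.PDZ5

/-!
# Perfect amplitude, part 6: the stalkwise relative tor amplitude on an affine chart is the
ring-level tor amplitude of the representing complex
-/

set_option autoImplicit false
set_option linter.unusedSectionVars false
set_option linter.unusedVariables false
set_option linter.style.haveILetI false

universe u

open CategoryTheory CategoryTheory.Limits AlgebraicGeometry TopologicalSpace

attribute [local instance] HasDerivedCategory.standard

namespace Groth.Agent.Helper5.PDZ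

open Groth.Agent.Helper5.TB Groth.Agent.Helper5.RPR Groth.Agent.Helper11
  Groth.Agent.Helper5.TBA Groth.Agent.Helper5.RT Groth.Agent.Helper5.PCT Groth.Agent.Helper5.TT
  Groth.Agent.Helper5.KF Groth.Agent.Helper11.TA Groth.Agent.Helper5.CHP

variable {X S : Scheme.{u}}

lemma torVan_stalkD_congr {f g : X ⟶ S} (h : f = g) (K : DCoh.D X) (x : X) (a b : ℤ) :
    TA.TorVan a b ((stalkD f x).obj K) ↔ TA.TorVan a b ((stalkD g x).obj K) := by
  subst h
  rfl

variable (f : X ⟶ S)

/-- chain-level stalkwise tor amplitude in terms of the relative stalk functors on derived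
categories -/
theorem hasTorAmplitude_iff_torVan (F : CochainComplex X.Modules ℤ) (a b : ℤ) :
    DerSch.HasTorAmplitude f a b F ↔
      ∀ y : X, TA.TorVan a b ((stalkD f y).obj (DCoh.toD X F)) := by
  constructor
  · intro h y
    exact (TA.torVan_of_hasTorAmplitudeIn (h y)).of_iso (stalkDIso f y F (Iso.refl _)).symm
  · intro h y
    exact TA.hasTorAmplitudeIn_of_torVan ((h y).of_iso (stalkDIso f y F (Iso.refl _)))

/-- the stalkwise relative tor amplitude on an affine chart is the ring-level tor amplitude of the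
representing complex -/
theorem torAmp_chart_iff (E : DCoh.D X) {U : X.Opens} (hU : IsAffineOpen U) {V : S.Opens}
    (hV : IsAffineOpen V) (hUV : U ≤ f ⁻¹ᵁ V) (M : Dual.D Γ(X, U))
    (e : chart E hU ≅ (DCoh.tildeD Γ(X, U)).obj M) (a b : ℤ) :
    (∀ y ∈ U, TA.TorVan a b ((stalkD f y).obj E)) ↔
      DRing.HasTorAmplitudeIn Γ(S, V) a b
        ((DRing.restrictD (f.appLE V U hUV).hom).obj M) := by
  set φ : Spec Γ(X, U) ⟶ Spec Γ(S, V) := Spec.map (f.appLE V U hUV) with hφ
  have hsq : hU.isoSpec.inv ≫ U.ι ≫ f = φ ≫ hV.fromSpec := by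
    rw [← Category.assoc]
    exact (IsAffineOpen.SpecMap_appLE_fromSpec f hV hU hUV).symm
  have h1 : ∀ z : Spec Γ(X, U), TA.TorVan a b ((stalkD φ z).obj (chart E hU)) ↔
      TA.TorVan a b ((stalkD f (hU.fromSpec.base z)).obj E) := by
    intro z
    rw [← torVan_postcomp_iff φ hV.fromSpec, ← torVan_stalkD_congr hsq]
    exact (torVan_stalkD_restrict_iff (U.ι ≫ f) hU.isoSpec.inv _ z a b).trans
      (torVan_stalkD_restrict_iff f U.ι E (hU.isoSpec.inv.base z) a b)
  let F := (DerivedCategory.Q (C := (Spec Γ(X, U)).Modules)).objPreimage (chart E hU)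
  let eF : DCoh.toD _ F ≅ chart E hU :=
    (DerivedCategory.Q (C := (Spec Γ(X, U)).Modules)).objObjPreimageIso (chart E hU)
  have key := hasTorAmplitude_tilde_iff (f.appLE V U hUV).hom M F ⟨eF ≪≫ e⟩ a b
  have h2 : DerSch.HasTorAmplitude φ a b F ↔
      ∀ z, TA.TorVan a b ((stalkD φ z).obj (chart E hU)) := by
    constructor
    · intro h z
      exact (TA.torVan_of_hasTorAmplitudeIn (h z)).of_iso (stalkDIso φ z F eF).symm
    · intro h z
      exact TA.hasTorAmplitudeIn_of_torVan ((h z).of_iso (stalkDIso φ z F eF))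
  rw [← key]
  refine Iff.trans ?_ h2.symm
  constructor
  · intro h z
    exact (h1 z).mpr (h _ (fromSpec_mem hU z))
  · intro h y hy
    obtain ⟨z, rfl⟩ := exists_fromSpec_eq hU y hy
    exact (h1 z).mp (h z)

end Groth.Agent.Helper5.PDZ
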