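import Groth.Agent.Lib.Helper5.PDZ6
import Groth.Agent.Lib.Helper11.Shr1
import Groth.Agent.Lib.Helper9.RelPC2

/-!
# Perfect amplitude, part 7: a module in degree `0` has perfect amplitude `[0, 0]` relative to a
morphism iff it is flat over the base and finitely presented relative to the morphism
-/

set_option autoImplicit false
set_option linter.unusedSectionVars false
set_option linter.unusedVariables false
set_option linter.style.haveILetI false

universe u

open CategoryTheory CategoryTheory.Limits AlgebraicGeometry TopologicalSpace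

attribute [local instance] HasDerivedCategory.standard

namespace Groth.Agent.Helper5.PDZ

open Groth.Agent.Helper5.TB Groth.Agent.Helper5.RPR Groth.Agent.Helper11
  Groth.Agent.Helper5.TBA Groth.Agent.Helper5.RT Groth.Agent.Helper5.PCT Groth.Agent.Helper5.TT
  Groth.Agent.Helper5.KF Groth.Agent.Helper11.TA Groth.Agent.Helper5.CHP
  Groth.Agent.Helper11.MPC

variable {X S : Scheme.{u}} (f : X ⟶ S)

/-- a module in degree `0` which is `(-1)`-pseudo-coherent relative to `f` is quasi-coherent as an
object of the derived category -/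
theorem isQCohD_single_of_rel (M : X.Modules)
    (hpc : DerSch.IsPseudoCoherentRel f (-1)
      (DCoh.toD X ((HomologicalComplex.single _ (ComplexShape.up ℤ) 0).obj M))) :
    DCoh.IsQCohD (DCoh.toD X ((HomologicalComplex.single _ (ComplexShape.up ℤ) 0).obj M)) := by
  intro i
  by_cases hi : (-1 : ℤ) < i
  · exact Groth.Agent.Helper9.RelPC.isQCoh_HD_of_isPseudoCoherentRel f (-1) _ hpc i hi
  · have hi0 : i ≠ 0 := by omega
    have e : DCoh.HD (DCoh.toD X ((HomologicalComplex.single _ (ComplexShape.up ℤ) 0).obj M)) i ≅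
        ((HomologicalComplex.single _ (ComplexShape.up ℤ) 0).obj M).homology i :=
      (DerivedCategory.homologyFunctorFactors X.Modules i).app _
    exact Groth.Agent.Helper13.QCohFin.isQuasicoherent_of_isZero
      (IsZero.of_iso (HomologicalComplex.isZero_single_obj_homology (ComplexShape.up ℤ) 0 M i hi0) e)

/-- an object which is `(-1)`-pseudo-coherent relative to `f` and of stalkwise tor amplitude
`[0, 0]` over the base is pseudo-coherent relative to `f` -/
theorem relAll_of_relNeg1_of_torVan [LocallyOfFiniteType f] (E : DCoh.D X) (hq : DCoh.IsQCohD E)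
    (hpc : DerSch.IsPseudoCoherentRel f (-1) E)
    (hT : ∀ y : X, TA.TorVan 0 0 ((stalkD f y).obj E)) :
    DerSch.IsPseudoCoherentRelAll f E := by
  intro m
  rw [rel_iff_relPC f E m hq]
  intro U hU V hV hUV M' ⟨e⟩
  have H := (rel_iff_relPC f E (-1) hq).mp hpc U hU V hV hUV M' ⟨e⟩
  have ht := (torAmp_chart_iff f E hU hV hUV M' e 0 0).mp (fun y _ => hT y)
  letI := (f.appLE V U hUV).hom.toAlgebra
  obtain ⟨n, α, hα, hvia⟩ := H
  refine ⟨n, α, hα, ?_⟩
  have hcomp : (f.appLE V U hUV).hom =
      (α : MvPolynomial (Fin n) Γ(S, V) →+* Γ(X, U)).comp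
        (algebraMap Γ(S, V) (MvPolynomial (Fin n) Γ(S, V))) := by
    ext r
    exact (α.commutes r).symm
  have e1 : (DRing.restrictD (f.appLE V U hUV).hom).obj M' ≅
      (DRing.restrictD (algebraMap Γ(S, V) (MvPolynomial (Fin n) Γ(S, V)))).obj
        ((DRing.restrictD (α : MvPolynomial (Fin n) Γ(S, V) →+* Γ(X, U))).obj M') :=
    (Groth.Agent.Helper11.Shr.resDComp _ _ _ hcomp).app M'
  have ht' := hasTorAmplitudeIn_of_iso e1 0 0 ht
  have h3 := pc'_of_pcNeg1_of_torAmp_zero (A := Γ(S, V)) (P := MvPolynomial (Fin n) Γ(S, V))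
    _ hvia ht'
  exact mpc_of_pc' h3 m

/-- a module in degree `0` has perfect amplitude `[0, 0]` relative to `f` iff it is flat over the
base and `(-1)`-pseudo-coherent relative to `f` -/
theorem perfAmp_zero_single_iff [LocallyOfFiniteType f] (M : X.Modules) :
    DerSch.HasPerfAmplitudeRel f 0 0 ((HomologicalComplex.single _ (ComplexShape.up ℤ) 0).obj M) ↔
      (FlatMod.IsFlatOver f M ∧ DerSch.IsPseudoCoherentRel f (-1)
        (DCoh.toD X ((HomologicalComplex.single _ (ComplexShape.up ℤ) 0).obj M))) := by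
  constructor
  · rintro ⟨hpc, htor⟩
    exact ⟨(hasTorAmplitude_single_iff f M).mp htor, hpc (-1)⟩
  · rintro ⟨hfl, hpc⟩
    have htor := (hasTorAmplitude_single_iff f M).mpr hfl
    exact ⟨relAll_of_relNeg1_of_torVan f _ (isQCohD_single_of_rel f M hpc) hpc
      ((hasTorAmplitude_iff_torVan f _ 0 0).mp htor), htor⟩

end Groth.Agent.Helper5.PDZ
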