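import Groth.Agent.Lib.Helper5.PDZ8
import Groth.Agent.Lib.Helper11.MPC3
import Groth.Agent.Lib.Helper29.QcE

/-!
# Perfect amplitude, part 9: a bounded above complex whose terms are pseudo-coherent relative to a
morphism is pseudo-coherent relative to it
-/

set_option autoImplicit false
set_option linter.unusedSectionVars false
set_option linter.unusedVariables false
set_option linter.style.haveILetI false

universe u

open CategoryTheory CategoryTheory.Limits AlgebraicGeometry TopologicalSpace

attribute [local instance] HasDerivedCategory.standard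

namespace Groth.Agent.Helper5.PDZ

open Groth.Agent.Helper5.TB Groth.Agent.Helper5.RPR Groth.Agent.Helper11
  Groth.Agent.Helper5.TBA Groth.Agent.Helper5.RT Groth.Agent.Helper5.PCT Groth.Agent.Helper5.TT
  Groth.Agent.Helper5.KF Groth.Agent.Helper11.TA Groth.Agent.Helper5.CHP
  Groth.Agent.Helper11.MPC Groth.Agent.Helper11.PcHom

variable {X S : Scheme.{u}} (f : X ⟶ S)

/-- a module which, placed in degree `0`, is `(-1)`-pseudo-coherent relative to `f` is
quasi-coherent -/
theorem isQuasicoherent_of_rel (M : X.Modules)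
    (hpc : DerSch.IsPseudoCoherentRel f (-1)
      (DCoh.toD X ((HomologicalComplex.single _ (ComplexShape.up ℤ) 0).obj M))) :
    M.IsQuasicoherent := by
  have h := isQCohD_single_of_rel f M hpc 0
  have e : DCoh.HD (DCoh.toD X ((HomologicalComplex.single _ (ComplexShape.up ℤ) 0).obj M)) 0 ≅ M :=
    (DerivedCategory.homologyFunctorFactors X.Modules 0).app _ ≪≫
      HomologicalComplex.singleObjHomologySelfIso (ComplexShape.up ℤ) 0 M
  haveI : (DCoh.HD (DCoh.toD X
      ((HomologicalComplex.single _ (ComplexShape.up ℤ) 0).obj M)) 0).IsQuasicoherent := h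
  exact Groth.Agent.Helper13.QCohLocal.isQuasicoherent_of_iso e

/-- the chart of a quasi-coherent module in degree `0` -/
noncomputable def chartSingleIso (M : X.Modules) [M.IsQuasicoherent] {U : X.Opens}
    (hU : IsAffineOpen U) :
    chart (DCoh.toD X ((HomologicalComplex.single _ (ComplexShape.up ℤ) 0).obj M)) hU ≅
      (DCoh.tildeD Γ(X, U)).obj ((DerivedCategory.singleFunctor (ModuleCat.{u} Γ(X, U)) 0).obj
        ((Γf Γ(X, U)).obj ((Scheme.Modules.restrictFunctor hU.fromSpec).obj M))) := by
  haveI hM' : ((Scheme.Modules.restrictFunctor hU.fromSpec).obj M).IsQuasicoherent :=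
    inferInstance
  haveI : IsIso ((tilde.adjunction (R := Γ(X, U))).counit.app
      ((Scheme.Modules.restrictFunctor hU.fromSpec).obj M)) :=
    @Scheme.Modules.isIso_fromTildeΓ_of_isQuasicoherent Γ(X, U)
      ((Scheme.Modules.restrictFunctor hU.fromSpec).obj M) hM'
  exact chartIso _ hU ((HomologicalComplex.single _ (ComplexShape.up ℤ) 0).obj M) (Iso.refl _) ≪≫
    DerivedCategory.Q.mapIso
      ((HomologicalComplex.singleMapHomologicalComplex
          (Scheme.Modules.restrictFunctor hU.fromSpec) (ComplexShape.up ℤ) 0).app M ≪≫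
        (HomologicalComplex.single _ (ComplexShape.up ℤ) 0).mapIso
          (asIso ((tilde.adjunction (R := Γ(X, U))).counit.app
            ((Scheme.Modules.restrictFunctor hU.fromSpec).obj M))).symm ≪≫
        ((HomologicalComplex.singleMapHomologicalComplex
          (tilde.functor Γ(X, U)) (ComplexShape.up ℤ) 0).app
          ((Γf Γ(X, U)).obj ((Scheme.Modules.restrictFunctor hU.fromSpec).obj M))).symm) ≪≫
    QtildeIso Γ(X, U) _ ≪≫
    (DCoh.tildeD Γ(X, U)).mapIso
      ((DerivedCategory.singleFunctorIsoCompQ (ModuleCat.{u} Γ(X, U)) 0).app _).symm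

/-- the chart of a complex with quasi-coherent terms -/
noncomputable def chartCxIso (E : CochainComplex X.Modules ℤ) (hE : ∀ i, (E.X i).IsQuasicoherent)
    {U : X.Opens} (hU : IsAffineOpen U) :
    chart (DCoh.toD X E) hU ≅
      (DCoh.tildeD Γ(X, U)).obj (DerivedCategory.Q.obj
        ((ΓC Γ(X, U)).obj ((rCx hU.fromSpec).obj E))) := by
  haveI : IsIso (counitCx Γ(X, U) ((rCx hU.fromSpec).obj E)) :=
    isIso_counitCx Γ(X, U) _ (fun i => by
      haveI := hE i
      exact inferInstanceAs
        (((Scheme.Modules.restrictFunctor hU.fromSpec).obj (E.X i)).IsQuasicoherent))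
  exact chartIso _ hU E (Iso.refl _) ≪≫
    DerivedCategory.Q.mapIso (asIso (counitCx Γ(X, U) ((rCx hU.fromSpec).obj E))).symm ≪≫
    QtildeIso Γ(X, U) _

/-- a bounded above complex whose terms are pseudo-coherent relative to `f` is pseudo-coherent
relative to `f` -/
theorem relAll_of_terms [LocallyOfFiniteType f] (E : CochainComplex X.Modules ℤ) (b : ℤ)
    (hb : ∀ i : ℤ, b < i → IsZero (E.X i))
    (hterms : ∀ i, DerSch.IsPseudoCoherentRelAll f
      (DCoh.toD X ((HomologicalComplex.single _ (ComplexShape.up ℤ) 0).obj (E.X i)))) :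
    DerSch.IsPseudoCoherentRelAll f (DCoh.toD X E) := by
  have hq : ∀ i, (E.X i).IsQuasicoherent := fun i =>
    isQuasicoherent_of_rel f (E.X i) (hterms i (-1))
  have hqE : DCoh.IsQCohD (DCoh.toD X E) := fun i => by
    haveI h1 : (E.homology i).IsQuasicoherent :=
      Groth.Agent.Helper29.QcE.isQuasicoherent_homology E hq i
    exact Groth.Agent.Helper13.QCohLocal.isQuasicoherent_of_iso (M := E.homology i)
      ((DerivedCategory.homologyFunctorFactors X.Modules i).app E).symm
  intro m
  rw [rel_iff_relPC f _ m hqE]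
  intro U hU V hV hUV M' ⟨e⟩
  letI := (f.appLE V U hUV).hom.toAlgebra
  haveI : Algebra.FiniteType Γ(S, V) Γ(X, U) := by
    have h := f.finiteType_appLE hV hU hUV
    exact h
  obtain ⟨e'⟩ := repr_unique _ hU _ _ (chartCxIso E hq hU) e
  refine rel_of_iso' f m hUV e' ?_
  obtain ⟨n, α, hα⟩ := exists_presentation (R := Γ(S, V)) (A := Γ(X, U))
  refine ⟨n, α, hα, ?_⟩
  have e2 := (ModuleCat.restrictScalars.{u}
    (α : MvPolynomial (Fin n) Γ(S, V) →+* Γ(X, U))).mapDerivedCategoryFactors.app
      ((ΓC Γ(X, U)).obj ((rCx hU.fromSpec).obj E))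
  refine mpc_of_iso e2.symm (mpc_of_terms _ b ?_ ?_)
  · intro i hi
    exact (ModuleCat.restrictScalars.{u} _).map_isZero ((Γf Γ(X, U)).map_isZero
      ((Scheme.Modules.restrictFunctor hU.fromSpec).map_isZero (hb i hi)))
  · intro i
    refine mpc_single_of_module _ ?_
    haveI := hq i
    have h1 := (rel_iff_relPC f _ (m - i) (isQCohD_single_of_rel f (E.X i) (hterms i (-1)))).mp
      (hterms i (m - i)) U hU V hV hUV _ ⟨chartSingleIso (E.X i) hU⟩
    have h2 := (rel_iff_via α hα (m - i) _).mp h1
    exact (mpc_restrict_single_iff (α : MvPolynomial (Fin n) Γ(S, V) →+* Γ(X, U)) _ (m - i)).mp h2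

end Groth.Agent.Helper5.PDZ
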