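import Groth.Agent.Lib.Helper5.PFN1

/-!
# Derived direct image along an affine morphism on affine charts, part 2: the chart of `Rf_* E`
-/

set_option autoImplicit false
set_option linter.unusedSectionVars false
set_option linter.unusedVariables false
set_option linter.style.haveILetI false

universe u

open CategoryTheory CategoryTheory.Limits AlgebraicGeometry TopologicalSpace

attribute [local instance] HasDerivedCategory.standard

namespace Groth.Agent.Helper5.PFN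

open Groth.Agent.Helper5.TB Groth.Agent.Helper5.RPR Groth.Agent.Helper11
  Groth.Agent.Helper5.TBA Groth.Agent.Helper5.RT Groth.Agent.Helper5.PCT Groth.Agent.Helper5.TT
  Groth.Agent.Helper5.KF Groth.Agent.Helper9.RelPC Groth.Agent.Helper5.CHP
  Groth.Agent.Helper5.PCI Groth.Agent.Helper24.RFQc

variable {X Y : Scheme.{u}} (f : X ⟶ Y) {W : Y.Opens} (hW : IsAffineOpen W)
  (hU : IsAffineOpen (f ⁻¹ᵁ W))

/-- the chart of `Rf_* E` for an affine morphism `f`, in terms of a complex of modules representing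
`E` on the preimage -/
theorem nonempty_chartRpushIso [IsAffineHom f] [DCoh.HasRpush f] (E : DCoh.D X)
    (M : Dual.D Γ(X, f ⁻¹ᵁ W))
    (e : chart E hU ≅ (DCoh.tildeD Γ(X, f ⁻¹ᵁ W)).obj M) :
    Nonempty (chart ((DCoh.Rpush f).obj E) hW ≅
      (DCoh.tildeD Γ(Y, W)).obj ((DRing.restrictD (f.app W).hom).obj M)) := by
  haveI : IsAffineHom (f ∣_ W) := IsZariskiLocalAtTarget.restrict ‹IsAffineHom f› W
  obtain ⟨a1⟩ := Groth.Agent.Helper29.OpenRes.main6508 f W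
  let K₀ := (DerivedCategory.Q (C := ModuleCat.{u} Γ(X, f ⁻¹ᵁ W))).objPreimage M
  let e₀ : DerivedCategory.Q.obj K₀ ≅ M :=
    (DerivedCategory.Q (C := ModuleCat.{u} Γ(X, f ⁻¹ᵁ W))).objObjPreimageIso M
  let G := (DerivedCategory.Q (C := X.Modules)).objPreimage E
  let eG : DCoh.toD X G ≅ E := (DerivedCategory.Q (C := X.Modules)).objObjPreimageIso E
  let G_U : CochainComplex (f ⁻¹ᵁ W : Scheme.{u}).Modules ℤ := (rCx (f ⁻¹ᵁ W).ι).obj G
  let T : CochainComplex (Spec Γ(X, f ⁻¹ᵁ W)).Modules ℤ := (tildeC Γ(X, f ⁻¹ᵁ W)).obj K₀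
  let K : CochainComplex (f ⁻¹ᵁ W : Scheme.{u}).Modules ℤ := (rCx hU.isoSpec.hom).obj T
  let c1 : DerivedCategory.Q.obj ((rCx hU.isoSpec.inv).obj G_U) ≅ DerivedCategory.Q.obj T :=
    (chartQIso G hU).symm ≪≫
      (DCoh.restrictD hU.isoSpec.inv).mapIso ((DCoh.restrictD (f ⁻¹ᵁ W).ι).mapIso eG) ≪≫ e ≪≫
      (DCoh.tildeD Γ(X, f ⁻¹ᵁ W)).mapIso e₀.symm ≪≫ (QtildeIso Γ(X, f ⁻¹ᵁ W) K₀).symm
  let z : DerivedCategory.Q.obj G_U ≅ DerivedCategory.Q.obj K :=
    (DerivedCategory.Q.mapIso (rCxRoundIso hU.isoSpec G_U)).symm ≪≫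
    ((Scheme.Modules.restrictFunctor hU.isoSpec.hom).mapDerivedCategoryFactors.app _).symm ≪≫
    (DCoh.restrictD hU.isoSpec.hom).mapIso c1 ≪≫
    (Scheme.Modules.restrictFunctor hU.isoSpec.hom).mapDerivedCategoryFactors.app T
  have hq : ∀ n, qc (f ⁻¹ᵁ W : Scheme.{u}) (K.X n) := fun n => by
    haveI h1 : ((tilde.functor (CommRingCat.of Γ(X, f ⁻¹ᵁ W))).obj (K₀.X n)).IsQuasicoherent :=
      inferInstance
    exact Scheme.Modules.isQuasicoherent_restrictFunctor hU.isoSpec.hom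
      ((tilde.functor (CommRingCat.of Γ(X, f ⁻¹ᵁ W))).obj (K₀.X n))
  haveI hiso : IsIso ((βf (f ∣_ W)).app ((HomotopyCategory.quotient _ _).obj K)) :=
    isIso_unit_of_acyclic_qcoh (f ∣_ W) K hq (fun n => acyc_of_affine (f ∣_ W) _ (hq n))
  let u : DerivedCategory.Q.obj ((DerSch.pushCx (f ∣_ W)).obj K) ≅
      (DCoh.Rpush (f ∣_ W)).obj (DerivedCategory.Q.obj K) :=
    @asIso _ _ _ _ ((βf (f ∣_ W)).app ((HomotopyCategory.quotient _ _).obj K)) hiso
  refine ⟨(DCoh.restrictD hW.isoSpec.inv).mapIso (a1.app E ≪≫ (DCoh.Rpush (f ∣_ W)).mapIso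
      ((DCoh.restrictD (f ⁻¹ᵁ W).ι).mapIso eG.symm ≪≫
        (Scheme.Modules.restrictFunctor (f ⁻¹ᵁ W).ι).mapDerivedCategoryFactors.app G ≪≫ z) ≪≫
        u.symm) ≪≫
    (Scheme.Modules.restrictFunctor hW.isoSpec.inv).mapDerivedCategoryFactors.app _ ≪≫
    DerivedCategory.Q.mapIso (pushRestrictCxIso f hW hU K ≪≫
      (DerSch.pushCx (Spec.map (f.app W))).mapIso (rCxRoundIso' hU.isoSpec T)) ≪≫
    DerivedCategory.Q.mapIso ((Groth.Agent.Helper24.TildePush.cxIso (f.app W)).app K₀) ≪≫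
    QtildeIso Γ(Y, W) ((rsC (f.app W).hom).obj K₀) ≪≫
    (DCoh.tildeD Γ(Y, W)).mapIso
      (((ModuleCat.restrictScalars.{u} (f.app W).hom).mapDerivedCategoryFactors.app K₀).symm ≪≫
        (DRing.restrictD (f.app W).hom).mapIso e₀)⟩

end Groth.Agent.Helper5.PFN
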