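import Groth.Agent.Lib.Helper5.PFN2
import Groth.Agent.Lib.Helper5.PDZ1
import Groth.Agent.Lib.Helper11.MPC9

/-!
# Derived direct image along an affine morphism on affine charts, part 3: the chart of `f_* O_X`,
and pseudo-coherence of `Rf_* E` for a finite morphism with pseudo-coherent `f_* O_X`
-/

set_option autoImplicit false
set_option linter.unusedSectionVars false
set_option linter.unusedVariables false
set_option linter.style.haveILetI false

universe u

open CategoryTheory CategoryTheory.Limits AlgebraicGeometry TopologicalSpace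

attribute [local instance] HasDerivedCategory.standard

namespace Groth.Agent.Helper5.PFN

open Groth.Agent.Helper5.TB Groth.Agent.Helper5.RPR Groth.Agent.Helper11
  Groth.Agent.Helper5.TBA Groth.Agent.Helper5.RT Groth.Agent.Helper5.PCT Groth.Agent.Helper5.TT
  Groth.Agent.Helper5.KF Groth.Agent.Helper9.RelPC Groth.Agent.Helper5.CHP
  Groth.Agent.Helper5.PCI Groth.Agent.Helper24.RFQc Groth.Agent.Helper5.PDZ
  Groth.Agent.Helper11.MPC

variable {X Y : Scheme.{u}} (f : X ⟶ Y) {W : Y.Opens} (hW : IsAffineOpen W)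
  (hU : IsAffineOpen (f ⁻¹ᵁ W))

/-- the chart of `f_* O_X` on `W`, as a module -/
noncomputable def pushUnitChartIso :
    (Scheme.Modules.restrictFunctor hW.isoSpec.inv).obj
      ((Scheme.Modules.restrictFunctor W.ι).obj
        ((Scheme.Modules.pushforward f).obj (Coh.structureModule X))) ≅
    (tilde.functor Γ(Y, W)).obj ((ModuleCat.restrictScalars.{u} (f.app W).hom).obj
      (ModuleCat.of Γ(X, f ⁻¹ᵁ W) Γ(X, f ⁻¹ᵁ W))) :=
  (pushChartNatIso f hW hU).app (Coh.structureModule X) ≪≫
    (Scheme.Modules.pushforward (Spec.map (f.app W))).mapIso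
      ((Scheme.Modules.restrictFunctor hU.isoSpec.inv).mapIso (restrictUnitIso (f ⁻¹ᵁ W).ι) ≪≫
        restrictUnitIso hU.isoSpec.inv ≪≫ (tildeSelf (R := Γ(X, f ⁻¹ᵁ W))).symm) ≪≫
    (Groth.Agent.Helper24.TildePush.tildePushIso (f.app W)).symm.app
      (ModuleCat.of Γ(X, f ⁻¹ᵁ W) Γ(X, f ⁻¹ᵁ W))

/-- the chart of `f_* O_X` on `W`, in the derived category -/
noncomputable def pushUnitChartDIso :
    chart (DCoh.inD Y ((Scheme.Modules.pushforward f).obj (Coh.structureModule X))) hW ≅
      (DCoh.tildeD Γ(Y, W)).obj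
        ((DerivedCategory.singleFunctor (ModuleCat.{u} Γ(Y, W)) 0).obj
          ((ModuleCat.restrictScalars.{u} (f.app W).hom).obj
            (ModuleCat.of Γ(X, f ⁻¹ᵁ W) Γ(X, f ⁻¹ᵁ W)))) := by
  let N := (Scheme.Modules.pushforward f).obj (Coh.structureModule X)
  let CB := (ModuleCat.restrictScalars.{u} (f.app W).hom).obj
    (ModuleCat.of Γ(X, f ⁻¹ᵁ W) Γ(X, f ⁻¹ᵁ W))
  let s1 : (rCx W.ι).obj ((HomologicalComplex.single _ (ComplexShape.up ℤ) 0).obj N) ≅
      (HomologicalComplex.single _ (ComplexShape.up ℤ) 0).obj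
        ((Scheme.Modules.restrictFunctor W.ι).obj N) :=
    (HomologicalComplex.singleMapHomologicalComplex
      (Scheme.Modules.restrictFunctor W.ι) (ComplexShape.up ℤ) 0).app N
  let s2 : (rCx hW.isoSpec.inv).obj ((HomologicalComplex.single _ (ComplexShape.up ℤ) 0).obj
        ((Scheme.Modules.restrictFunctor W.ι).obj N)) ≅
      (HomologicalComplex.single _ (ComplexShape.up ℤ) 0).obj
        ((Scheme.Modules.restrictFunctor hW.isoSpec.inv).obj
          ((Scheme.Modules.restrictFunctor W.ι).obj N)) :=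
    (HomologicalComplex.singleMapHomologicalComplex
      (Scheme.Modules.restrictFunctor hW.isoSpec.inv) (ComplexShape.up ℤ) 0).app _
  exact (DCoh.restrictD hW.isoSpec.inv).mapIso ((DCoh.restrictD W.ι).mapIso
      ((DerivedCategory.singleFunctorIsoCompQ Y.Modules 0).app N)) ≪≫
    chartQIso ((HomologicalComplex.single _ (ComplexShape.up ℤ) 0).obj N) hW ≪≫
    DerivedCategory.Q.mapIso ((rCx hW.isoSpec.inv).mapIso s1 ≪≫ s2 ≪≫
      (HomologicalComplex.single _ (ComplexShape.up ℤ) 0).mapIso (pushUnitChartIso f hW hU) ≪≫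
      ((HomologicalComplex.singleMapHomologicalComplex
        (tilde.functor Γ(Y, W)) (ComplexShape.up ℤ) 0).app CB).symm) ≪≫
    QtildeIso Γ(Y, W) _ ≪≫
    (DCoh.tildeD Γ(Y, W)).mapIso
      ((DerivedCategory.singleFunctorIsoCompQ (ModuleCat.{u} Γ(Y, W)) 0).app CB).symm

/-- pseudo-coherence passes to charts -/
theorem pc_chart' (E : DCoh.D Y) (m : ℤ) (hE : DCoh.IsPseudoCoherentD m E) :
    DCoh.IsPseudoCoherentD m (chart E hW) :=
  (isPseudoCoherentD_iff_forall_pcAt m _).mpr (fun z =>
    (pcAt_chart_iff E hW m z).mpr ((isPseudoCoherentD_iff_forall_pcAt m E).mp hE _))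

include hW hU in
/-- if `f_* O_X` is pseudo-coherent, the ring of `f⁻¹W` is a pseudo-coherent module over the ring of
`W` -/
theorem baseIsPc_of_push
    (hO : ∀ m : ℤ, DCoh.IsPseudoCoherentD m
      (DCoh.inD Y ((Scheme.Modules.pushforward f).obj (Coh.structureModule X)))) :
    BaseIsPc (f.app W).hom := by
  apply pc'_of_forall_mpc
  intro m
  exact mpc_of_tilde _ _ m
    (isPseudoCoherentD_of_iso (pushUnitChartDIso f hW hU) (pc_chart' hW _ m (hO m)))

end Groth.Agent.Helper5.PFN
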