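import Groth.Agent.Lib.Helper5.PFN3
import Groth.Agent.Lib.Helper5.CHP7

/-!
# Derived direct image along an affine morphism on affine charts, part 4: for a finite morphism
with pseudo-coherent `f_* O_X`, an object with quasi-coherent cohomology is `m`-pseudo-coherent iff
its derived direct image is
-/

set_option autoImplicit false
set_option linter.unusedSectionVars false
set_option linter.unusedVariables false
set_option linter.style.haveILetI false

universe u

open CategoryTheory CategoryTheory.Limits AlgebraicGeometry TopologicalSpace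

attribute [local instance] HasDerivedCategory.standard

namespace Groth.Agent.Helper5.PFN

open Groth.Agent.Helper5.TB Groth.Agent.Helper5.RPR Groth.Agent.Helper11
  Groth.Agent.Helper5.TBA Groth.Agent.Helper5.RT Groth.Agent.Helper5.PCT Groth.Agent.Helper5.TT
  Groth.Agent.Helper5.KF Groth.Agent.Helper9.RelPC Groth.Agent.Helper5.CHP
  Groth.Agent.Helper5.PCI Groth.Agent.Helper24.RFQc Groth.Agent.Helper5.PDZ
  Groth.Agent.Helper11.MPC

variable {X Y : Scheme.{u}}

/-- pseudo-coherence may be tested on the charts of a family of affine opens covering the scheme -/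
theorem pc_of_charts (E : DCoh.D Y) (m : ℤ)
    (h : ∀ y : Y, ∃ (W : Y.Opens) (hW : IsAffineOpen W), y ∈ W ∧
      DCoh.IsPseudoCoherentD m (chart E hW)) : DCoh.IsPseudoCoherentD m E := by
  rw [isPseudoCoherentD_iff_forall_pcAt]
  intro y
  obtain ⟨W, hW, hy, hpc⟩ := h y
  obtain ⟨z, rfl⟩ := exists_fromSpec_eq hW y hy
  exact (pcAt_chart_iff E hW m z).mp ((isPseudoCoherentD_iff_forall_pcAt m _).mp hpc z)

/-- S1112 -/
theorem main (f : X ⟶ Y) [IsFinite f] [DCoh.HasRpush f]
    (hO : ∀ m : ℤ, DCoh.IsPseudoCoherentD m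
      (DCoh.inD Y ((Scheme.Modules.pushforward f).obj (Coh.structureModule X))))
    (E : DCoh.D X) (hE : DCoh.IsQCohD E) (m : ℤ) :
    DCoh.IsPseudoCoherentD m E ↔ DCoh.IsPseudoCoherentD m ((DCoh.Rpush f).obj E) := by
  have key : ∀ (W : Y.Opens) (hW : IsAffineOpen W),
      DCoh.IsPseudoCoherentD m (chart E (hW.preimage f)) ↔
        DCoh.IsPseudoCoherentD m (chart ((DCoh.Rpush f).obj E) hW) := by
    intro W hW
    obtain ⟨M, ⟨e⟩⟩ := exists_model E hE (hW.preimage f)
    obtain ⟨eR⟩ := nonempty_chartRpushIso f hW (hW.preimage f) E M e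
    have hB := baseIsPc_of_push f hW (hW.preimage f) hO
    constructor
    · intro h
      have h1 := mpc_of_tilde _ _ m (isPseudoCoherentD_of_iso e h)
      have h2 := (mpc_restrict_iff hB m M).mp h1
      exact isPseudoCoherentD_of_iso eR.symm (tilde_mpc _ _ m h2)
    · intro h
      have h1 := mpc_of_tilde _ _ m (isPseudoCoherentD_of_iso eR h)
      have h2 := (mpc_restrict_iff hB m M).mpr h1
      exact isPseudoCoherentD_of_iso e.symm (tilde_mpc _ _ m h2)
  constructor
  · intro h
    apply pc_of_charts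
    intro y
    obtain ⟨W, hW, hyW, -⟩ := (Opens.isBasis_iff_nbhd.mp Y.isBasis_affineOpens)
      (show y ∈ (⊤ : Y.Opens) from trivial)
    exact ⟨W, hW, hyW, (key W hW).mp (pc_chart' (hW.preimage f) E m h)⟩
  · intro h
    apply pc_of_charts
    intro x
    obtain ⟨W, hW, hyW, -⟩ := (Opens.isBasis_iff_nbhd.mp Y.isBasis_affineOpens)
      (show f.base x ∈ (⊤ : Y.Opens) from trivial)
    exact ⟨f ⁻¹ᵁ W, hW.preimage f, hyW, (key W hW).mpr (pc_chart' hW _ m h)⟩

end Groth.Agent.Helper5.PFN
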