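import Groth.Agent.Lib.Helper5.PFN4
import Groth.Agent.Lib.Helper5.CHP8
import Groth.Agent.Lib.Helper11.RelFin3
import Groth.Agent.S0998

/-!
# Relative pseudo-coherence and the derived direct image along a finite morphism over the base
-/

set_option autoImplicit false
set_option linter.unusedSectionVars false
set_option linter.unusedVariables false
set_option linter.style.haveILetI false

universe u

open CategoryTheory CategoryTheory.Limits AlgebraicGeometry TopologicalSpace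

attribute [local instance] HasDerivedCategory.standard

namespace Groth.Agent.Helper5.PFR

open Groth.Agent.Helper5.TB Groth.Agent.Helper5.RPR Groth.Agent.Helper11
  Groth.Agent.Helper5.TBA Groth.Agent.Helper5.RT Groth.Agent.Helper5.PCT Groth.Agent.Helper5.TT
  Groth.Agent.Helper5.KF Groth.Agent.Helper9.RelPC Groth.Agent.Helper5.CHP
  Groth.Agent.Helper5.PCI Groth.Agent.Helper5.PFN Groth.Agent.Helper11.MPC

section Ring

variable {R A B : Type u} [CommRing R] [CommRing A] [CommRing B]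
  [Algebra R A] [Algebra A B] [Algebra R B] [IsScalarTower R A B]

/-- relative `m`-pseudo-coherence and restriction of scalars along a finite ring map -/
theorem rel_restrict_finite_iff [Algebra.FiniteType R A] [Module.Finite A B] (K : Dual.D B)
    (m : ℤ) :
    DerCA.IsRelPseudoCoherent R A m ((DRing.restrictD (algebraMap A B)).obj K) ↔
      DerCA.IsRelPseudoCoherent R B m K := by
  obtain ⟨n, α, hα⟩ := exists_presentation (R := R) (A := A)
  obtain ⟨N, β, hβ, h⟩ := exists_presentation_of_finite (B := B) α hα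
  rw [rel_iff_via α hα, rel_iff_via β hβ]
  exact h K m

end Ring

/-- S7210 -/
theorem main {X Y S : Scheme.{u}} (p : X ⟶ S) (q : Y ⟶ S) [LocallyOfFiniteType p]
    [LocallyOfFiniteType q] (π : X ⟶ Y) [IsFinite π] (w : π ≫ q = p) [DCoh.HasRpush π] (m : ℤ)
    (E : DCoh.D X) (hE : DCoh.IsQCohD E) :
    DerSch.IsPseudoCoherentRel p m E ↔
      DerSch.IsPseudoCoherentRel q m ((DCoh.Rpush π).obj E) := by
  subst w
  have hq' : DCoh.IsQCohD ((DCoh.Rpush π).obj E) := Groth.Agent.S0998.result π E hE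
  have key : ∀ (W : Y.Opens) (hW : IsAffineOpen W) (V : S.Opens) (hV : IsAffineOpen V)
      (hWV : W ≤ q ⁻¹ᵁ V) (hUV : π ⁻¹ᵁ W ≤ (π ≫ q) ⁻¹ᵁ V),
      RelPC (π ≫ q) E m (hW.preimage π) hV hUV ↔
        RelPC q ((DCoh.Rpush π).obj E) m hW hV hWV := by
    intro W hW V hV hWV hUV
    obtain ⟨M, ⟨e⟩⟩ := exists_model E hE (hW.preimage π)
    obtain ⟨eR⟩ := nonempty_chartRpushIso π hW (hW.preimage π) E M e
    letI algVW : Algebra Γ(S, V) Γ(Y, W) := (q.appLE V W hWV).hom.toAlgebra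
    letI algWU : Algebra Γ(Y, W) Γ(X, π ⁻¹ᵁ W) := (π.app W).hom.toAlgebra
    letI algVU : Algebra Γ(S, V) Γ(X, π ⁻¹ᵁ W) :=
      ((π ≫ q).appLE V (π ⁻¹ᵁ W) hUV).hom.toAlgebra
    haveI : IsScalarTower Γ(S, V) Γ(Y, W) Γ(X, π ⁻¹ᵁ W) := by
      refine IsScalarTower.of_algebraMap_eq' ?_
      have h := Scheme.Hom.appLE_comp_appLE π q V W (π ⁻¹ᵁ W) hWV le_rfl
      rw [Scheme.Hom.appLE_eq_app] at h
      exact (congrArg CommRingCat.Hom.hom h).symm
    haveI : Algebra.FiniteType Γ(S, V) Γ(Y, W) := by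
      have h := q.finiteType_appLE hV hW hWV
      exact h
    haveI : Module.Finite Γ(Y, W) Γ(X, π ⁻¹ᵁ W) := by
      have h := IsFinite.finite_app π W hW
      exact h
    have ring := rel_restrict_finite_iff (R := Γ(S, V)) (A := Γ(Y, W))
      (B := Γ(X, π ⁻¹ᵁ W)) M m
    constructor
    · intro H M' ⟨e'⟩
      obtain ⟨eM⟩ := repr_unique _ hW _ _ eR e'
      exact rel_of_iso' q m hWV eM (ring.mpr (H M ⟨e⟩))
    · intro H M' ⟨e'⟩
      obtain ⟨eM⟩ := repr_unique _ (hW.preimage π) _ _ e e'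
      exact rel_of_iso' (π ≫ q) m hUV eM (ring.mp (H _ ⟨eR⟩))
  rw [rel_iff_relPC (π ≫ q) E m hE, rel_iff_relPC q _ m hq']
  constructor
  · intro H W hW V hV hWV
    have hUV : π ⁻¹ᵁ W ≤ (π ≫ q) ⁻¹ᵁ V := fun x hx => hWV hx
    exact (key W hW V hV hWV hUV).mp (H _ (hW.preimage π) V hV hUV)
  · intro H U hU V hV hUV
    refine relPC_of_local (π ≫ q) E m hU hV hUV (fun x hx => ?_)
    have hxV : π.base x ∈ q ⁻¹ᵁ V := hUV hx
    obtain ⟨W, hW, hxW, hWV⟩ := (Opens.isBasis_iff_nbhd.mp Y.isBasis_affineOpens) hxV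
    have e₂ : π ⁻¹ᵁ W ≤ (π ≫ q) ⁻¹ᵁ V := fun y hy => hWV hy
    have H2 := (key W hW V hV hWV e₂).mpr (H W hW V hV hWV)
    exact relPC_transfer (π ≫ q) E m hE hU (hW.preimage π) hV hV hUV e₂ H2 x hx hxW

end Groth.Agent.Helper5.PFR
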