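import Groth.Agent.Lib.Helper5.RT1
import Groth.Agent.Lib.Helper13.LocalLift

/-!
# Maps from strictly perfect complexes to complexes acyclic above a degree are locally
null-homotopic
-/

set_option autoImplicit false
set_option linter.unusedSectionVars false
set_option linter.unusedVariables false
set_option linter.style.haveILetI false

universe u

open CategoryTheory CategoryTheory.Limits AlgebraicGeometry HomologicalComplex ZeroObject

namespace Groth.Agent.Helper5.PL

open Groth.Agent.Helper5.RT CochainComplex HomComplex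

variable {X : Scheme.{u}}

/-- local lifting of a map into the cycles of an exact complex -/
theorem exists_local_lift_cycles {E F : CochainComplex X.Modules ℤ} (k k' k'' : ℤ)
    (hk' : k' + 1 = k) (hk'' : k + 1 = k'')
    (φ : E.X k ⟶ F.X k) (hφ : φ ≫ F.d k k'' = 0) (hF : F.ExactAt k)
    (hE : FlatMod.IsFinLocFree (E.X k)) (x : X) :
    ∃ (V : X.Opens) (ψ : (Scheme.Modules.restrictFunctor V.ι).obj (E.X k) ⟶
      (Scheme.Modules.restrictFunctor V.ι).obj (F.X k')), x ∈ V ∧
      ψ ≫ (Scheme.Modules.restrictFunctor V.ι).map (F.d k' k) =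
        (Scheme.Modules.restrictFunctor V.ι).map φ := by
  rw [F.exactAt_iff' k' k k'' (by simp; omega) (by simp [hk''])] at hF
  set S := F.sc' k' k k'' with hS
  haveI : Epi S.toCycles := (ShortComplex.exact_iff_epi_toCycles S).mp hF
  obtain ⟨V, ψ, hxV, hψ⟩ := Groth.Agent.Helper13.LocalLift.exists_local_lift S.toCycles
    (S.liftCycles φ hφ) hE x
  refine ⟨V, ψ, hxV, ?_⟩
  have h1 : S.toCycles ≫ S.iCycles = F.d k' k := S.toCycles_i
  have h2 : S.liftCycles φ hφ ≫ S.iCycles = φ := S.liftCycles_i φ hφ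
  have h3 := congrArg (fun t => t ≫ (Scheme.Modules.restrictFunctor V.ι).map S.iCycles) hψ
  simp only [Category.assoc, ← Functor.map_comp] at h3
  rw [h1, h2] at h3
  exact h3

/-- the inductive statement: a map vanishing in degrees `≥ a + n` -/
theorem locally_null_aux (n : ℕ) : ∀ (X : Scheme.{u}) (E F : CochainComplex X.Modules ℤ)
    (α : E ⟶ F) (a : ℤ) (x : X), (∀ i, FlatMod.IsFinLocFree (E.X i)) →
    (∀ i, i < a → IsZero (E.X i)) → (∀ i, a ≤ i → F.ExactAt i) →
    (∀ i, a + n ≤ i → α.f i = 0) →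
    ∃ V : X.Opens, x ∈ V ∧ IsNull ((DCoh.restrictCx V).map α) := by
  induction n with
  | zero =>
    intro X E F α a x hE hEa hF hα
    have h0 : α = 0 := by
      apply HomologicalComplex.hom_ext
      intro i
      by_cases hi : i < a
      · exact (hEa i hi).eq_of_src _ _
      · exact hα i (by simpa using not_lt.mp hi)
    subst h0
    refine ⟨⊤, trivial, ?_⟩
    rw [Functor.map_zero]
    exact isNull_zero
  | succ n ih =>
    intro X E F α a x hE hEa hF hα
    have hα' : ∀ i, a + n + 1 ≤ i → α.f i = 0 := by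
      intro i hi
      exact hα i (by push_cast; omega)
    have hφ : α.f (a + n) ≫ F.d (a + n) (a + n + 1) = 0 := by
      rw [α.comm, hα' (a + n + 1) le_rfl, comp_zero]
    obtain ⟨V₁, ψ, hxV₁, hψ⟩ := exists_local_lift_cycles (a + n) (a + n - 1) (a + n + 1)
      (by omega) rfl (α.f (a + n)) hφ (hF _ (by omega)) (hE _) x
    let E₁ := (DCoh.restrictCx V₁).obj E
    let F₁ := (DCoh.restrictCx V₁).obj F
    let α₁ : E₁ ⟶ F₁ := (DCoh.restrictCx V₁).map α
    let ψ' : E₁.X (a + n) ⟶ F₁.X (a + n - 1) := ψ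
    let h : ∀ i j, (ComplexShape.up ℤ).Rel j i → (E₁.X i ⟶ F₁.X j) := fun i j hij =>
      (Cochain.single ψ' (-1)).v i j (by simp at hij; omega)
    let N : E₁ ⟶ F₁ := Homotopy.nullHomotopicMap' h
    have hN : IsNull N := (isNull_iff _).2 ⟨Homotopy.nullHomotopy' h⟩
    have hNf : ∀ i, N.f i = E₁.d i (i + 1) ≫ (Cochain.single ψ' (-1)).v (i + 1) i (by omega) +
        (Cochain.single ψ' (-1)).v i (i - 1) (by omega) ≫ F₁.d (i - 1) i := by
      intro i
      exact Homotopy.nullHomotopicMap'_f (c := ComplexShape.up ℤ) (k₂ := i - 1) (k₁ := i)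
        (k₀ := i + 1) (by simp) (by simp) h
    have hNk : ∀ i, a + n ≤ i → (α₁ - N).f i = 0 := by
      intro i hi
      rw [HomologicalComplex.sub_f_apply, hNf i, sub_eq_zero]
      rcases hi.lt_or_eq with hlt | rfl
      · rw [Cochain.single_v_eq_zero _ _ _ _ _ (by omega),
          Cochain.single_v_eq_zero _ _ _ _ _ (by omega), comp_zero, zero_comp, add_zero]
        change (Scheme.Modules.restrictFunctor V₁.ι).map (α.f i) = 0
        rw [hα' i (by omega), Functor.map_zero]
      · rw [Cochain.single_v_eq_zero _ _ _ _ _ (by omega), comp_zero, zero_add,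
          Cochain.single_v]
        exact hψ.symm
    obtain ⟨V₂, hxV₂, hnull⟩ := ih (V₁ : Scheme.{u}) E₁ F₁ (α₁ - N) a ⟨x, hxV₁⟩
      (fun i => isFinLocFree_restrict V₁.ι _ (hE i))
      (fun i hi => (Scheme.Modules.restrictFunctor V₁.ι).map_isZero (hEa i hi))
      (fun i hi => exactAt_restrict V₁.ι F i (hF i hi)) hNk
    have h2 : IsNull ((DCoh.restrictCx V₂).map α₁) := by
      have e : α₁ = (α₁ - N) + N := (sub_add_cancel α₁ N).symm
      rw [e, Functor.map_add]
      exact hnull.add (hN.map _)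
    have h3 := isNull_restrict_opensRange (V₂.ι ≫ V₁.ι) α (isNull_restrict_comp V₂.ι V₁.ι α h2)
    refine ⟨(V₂.ι ≫ V₁.ι).opensRange, ?_, h3⟩
    exact ⟨⟨⟨x, hxV₁⟩, hxV₂⟩, rfl⟩

end Groth.Agent.Helper5.PL
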