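import Groth.Agent.Lib.Helper11.TorInd3
import Groth.Agent.Lib.Helper6.TorBC
import Groth.Agent.Lib.Helper10.TorSymm

/-!
# Products of pseudo-coherent morphisms, part 1: a Tor-independence lemma

`A → B₂` flat, `B₂ → C₂` with `C₂` flat over `A`, `B₁` any `A`-algebra: then `B₂ ⊗_A B₁` and `C₂`
are Tor-independent over `B₂`.
-/

set_option autoImplicit false
set_option linter.unusedSectionVars false
set_option linter.unusedVariables false
set_option linter.style.haveILetI false

universe u

open CategoryTheory Limits MonoidalCategory TensorProduct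

namespace Groth.Agent.Helper5.PPM

open Groth.Agent.Helper11.TorInd Groth.Agent.Helper18.TorLib Groth.Agent.Helper10.TorSymm

section

variable {A : Type u} [CommRing A]

theorem isZero_tor_succ_of_flat_right (N M : ModuleCat.{u} A) [Module.Flat A M] (n : ℕ) :
    IsZero (((Tor (ModuleCat.{u} A) (n + 1)).obj N).obj M) := by
  rw [isZero_tor_symm_iff]
  exact isZero_tor_succ_of_flat_left M N n

end

variable {A B₁ B₂ C₂ : Type u} [CommRing A] [CommRing B₂] [CommRing C₂]
  [AddCommGroup B₁] [Module A B₁]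
  [Algebra A B₂] [Algebra B₂ C₂] [Algebra A C₂] [IsScalarTower A B₂ C₂]

theorem torAcyc_tensor [Module.Flat A B₂] [Module.Flat A C₂] :
    TorAcyc (ModuleCat.of B₂ (B₂ ⊗[A] B₁)) (ModuleCat.of B₂ C₂) := by
  intro n
  rw [isZero_tor_symm_iff]
  obtain ⟨φ, hφ⟩ := Groth.Agent.Helper6.TorBC.tor_baseChange (A := A) (A' := B₂) B₁ C₂
    (fun q hq => by
      obtain ⟨k, rfl⟩ : ∃ k, q = k + 1 := ⟨q - 1, by omega⟩
      exact ModuleCat.subsingleton_of_isZero
        (isZero_tor_succ_of_flat_right (ModuleCat.of A B₁) (ModuleCat.of A B₂) k)) (n + 1)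
  have hz : IsZero (((Tor (ModuleCat.{u} A) (n + 1)).obj (ModuleCat.of A B₁)).obj
      (ModuleCat.of A C₂)) :=
    isZero_tor_succ_of_flat_right (ModuleCat.of A B₁) (ModuleCat.of A C₂) n
  haveI := ModuleCat.subsingleton_of_isZero hz
  haveI : Subsingleton (((Tor (ModuleCat.{u} B₂) (n + 1)).obj
      (ModuleCat.of B₂ (B₂ ⊗[A] B₁))).obj (ModuleCat.of B₂ C₂)) :=
    hφ.2.subsingleton
  exact ModuleCat.isZero_of_subsingleton _

end Groth.Agent.Helper5.PPM
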