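import Groth.Agent.Lib.Helper5.PPM1
import Groth.Agent.Lib.Helper11.PerfMor3
import Groth.Agent.Lib.Helper11.PcHom2
import Groth.Agent.Lib.Helper11.FrobRG1

/-!
# Products of pseudo-coherent morphisms, part 2: Tor-independent base change of pseudo-coherent
ring maps
-/

set_option autoImplicit false
set_option linter.unusedSectionVars false
set_option linter.unusedVariables false
set_option linter.style.haveILetI false

universe u

open CategoryTheory Category Limits DerivedCategory AlgebraicGeometry TensorProduct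

attribute [local instance] HasDerivedCategory.standard

namespace Groth.Agent.Helper5.PPM

open Groth.Agent.Helper11.DC Groth.Agent.Helper11.MPC Groth.Agent.Helper11.TA
  Groth.Agent.Helper11.PcHom Groth.Agent.Helper11.TorInd Groth.Agent.Helper11.PerfMor

section Tensor

attribute [local instance] MvPolynomial.algebraMvPolynomial Algebra.TensorProduct.rightAlgebra

variable {R S T : Type u} [CommRing R] [CommRing S] [CommRing T] [Algebra R S] [Algebra R T]

/-- base change of the ring itself, in the derived category -/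
theorem nonempty_esC_single_self {A B : Type u} [CommRing A] [CommRing B] (φ : A →+* B) :
    Nonempty (Q.obj ((esC φ).obj
      ((CochainComplex.singleFunctor (ModuleCat.{u} A) 0).obj (ModuleCat.of A A))) ≅
        Dual.inD B B) := by
  haveI : DRing.HasLBaseChange φ := Groth.Agent.Helper3.KP.hasLeftDerivedFunctor _
  let e2 : (esC φ).obj
      ((CochainComplex.singleFunctor (ModuleCat.{u} A) 0).obj (ModuleCat.of A A)) ≅
      (CochainComplex.singleFunctor (ModuleCat.{u} B) 0).obj
        ((ModuleCat.extendScalars.{u, u, u} φ).obj (ModuleCat.of A A)) :=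
    (HomologicalComplex.singleMapHomologicalComplex
      (ModuleCat.extendScalars.{u, u, u} φ) (ComplexShape.up ℤ) 0).app (ModuleCat.of A A)
  let e3 : (ModuleCat.extendScalars.{u, u, u} φ).obj (ModuleCat.of A A) ≅ ModuleCat.of B B :=
    (Groth.Agent.Helper11.FrobRG.extendSelfEquiv φ).toModuleIso
  let e4 : Q.obj ((CochainComplex.singleFunctor (ModuleCat.{u} B) 0).obj (ModuleCat.of B B)) ≅
      Dual.inD B B :=
    ((singleFunctorIsoCompQ (ModuleCat.{u} B) 0).app (ModuleCat.of B B)).symm
  exact ⟨Q.mapIso e2 ≪≫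
    Q.mapIso ((CochainComplex.singleFunctor (ModuleCat.{u} B) 0).mapIso e3) ≪≫ e4⟩

/-- Tor-independent base change of a pseudo-coherent ring map -/
theorem pcHom_tensor_ti (hti : TorAcyc (ModuleCat.of R S) (ModuleCat.of R T))
    (h : MoreMor.IsPseudoCoherentHom R T) : MoreMor.IsPseudoCoherentHom S (S ⊗[R] T) := by
  refine hom_of_rel (fun m => ?_)
  obtain ⟨n, α, hα, hpc⟩ := rel_of_hom h m
  let Tcx : DRing.Cx T :=
    (CochainComplex.singleFunctor (ModuleCat.{u} T) 0).obj (ModuleCat.of T T)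
  have hc : DRing.VanishesAbove Tcx 0 := by
    intro i hi
    exact HomologicalComplex.isZero_single_obj_X (ComplexShape.up ℤ) 0 (ModuleCat.of T T) i
      (by omega)
  have hfl : ∀ i, Module.Flat T (Tcx.X i) := by
    intro i
    by_cases h0 : i = 0
    · subst h0
      exact Module.Flat.of_linearEquiv (HomologicalComplex.singleObjXSelf (ComplexShape.up ℤ) 0
        (ModuleCat.of T T)).toLinearEquiv
    · haveI : Subsingleton (Tcx.X i) :=
        ModuleCat.subsingleton_of_isZero (HomologicalComplex.isZero_single_obj_X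
          (ComplexShape.up ℤ) 0 (ModuleCat.of T T) i h0)
      infer_instance
  let e0 : Dual.inD T T ≅ Q.obj Tcx :=
    (singleFunctorIsoCompQ (ModuleCat.{u} T) 0).app (ModuleCat.of T T)
  have h1 : DerCA.IsRelPseudoCoherentVia α m (Q.obj Tcx) :=
    mpc_of_iso ((DRing.restrictD _).mapIso e0) hpc
  have h2 := via_alpha' (R' := S) hti α Tcx 0 hc hfl m h1
  obtain ⟨e⟩ := nonempty_esC_single_self
    (Algebra.TensorProduct.includeRight : T →ₐ[R] S ⊗[R] T).toRingHom
  exact ⟨n, alpha' (R' := S) α, alpha'_surjective α hα,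
    mpc_of_iso ((DRing.restrictD _).mapIso e) h2⟩

theorem Q_tensor_ti (f : R →+* S) (φ : R →+* T)
    (hti : letI := f.toAlgebra
      letI := φ.toAlgebra
      TorAcyc (ModuleCat.of R S) (ModuleCat.of R T)) (hφ : Q φ) :
    letI := f.toAlgebra
    letI := φ.toAlgebra
    Q (algebraMap S (S ⊗[R] T)) := by
  letI := f.toAlgebra
  letI := φ.toAlgebra
  exact Q_algebraMap_iff.mpr (pcHom_tensor_ti hti hφ)

end Tensor

section Pushout

set_option backward.isDefEq.respectTransparency false in
theorem of_isPushout_ti {R S T P : CommRingCat.{u}} {a : R ⟶ S} {b : R ⟶ T} {c : S ⟶ P}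
    {d : T ⟶ P} (h : IsPushout a b c d)
    (hti : letI := a.hom.toAlgebra
      letI := b.hom.toAlgebra
      TorAcyc (ModuleCat.of R S) (ModuleCat.of R T)) (hb : Q b.hom) : Q c.hom := by
  have hW : RingHom.RespectsIso @Q := Q_isLocal.respectsIso
  have e1 : pushout.inl a b ≫ h.isoPushout.inv = c := h.inl_isoPushout_inv
  rw [← e1, CommRingCat.hom_comp, hW.cancel_right_isIso]
  letI := a.hom.toAlgebra
  letI := b.hom.toAlgebra
  rw [← show _ = pushout.inl a b from
      colimit.isoColimitCocone_ι_inv ⟨_, CommRingCat.pushoutCoconeIsColimit R S T⟩ WalkingSpan.left,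
    CommRingCat.hom_comp, hW.cancel_right_isIso]
  dsimp only [CommRingCat.pushoutCocone_inl, PushoutCocone.ι_app_left]
  exact Q_tensor_ti a.hom b.hom hti hb

/-- the two-step pushout: `A → B₁`, `A → B₂` flat, `B' = B₁ ⊗_A B₂`, `B₂ → C₂` pseudo-coherent
with `C₂` flat over `A`, `C' = B' ⊗_{B₂} C₂`: then `B' → C'` is pseudo-coherent. -/
theorem Q_of_isPushout_of_isPushout {A B₁ B₂ B' C₂ C' : CommRingCat.{u}}
    {a₁ : A ⟶ B₁} {a₂ : A ⟶ B₂} {c₁ : B₁ ⟶ B'} {c₂ : B₂ ⟶ B'}
    (hY : IsPushout a₁ a₂ c₁ c₂) {b : B₂ ⟶ C₂} {d : C₂ ⟶ C'} {e : B' ⟶ C'}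
    (hW : IsPushout b c₂ d e) (ha₂ : a₂.hom.Flat) (hab : (a₂ ≫ b).hom.Flat) (hb : Q b.hom) :
    Q e.hom := by
  refine of_isPushout_ti hW.flip ?_ hb
  letI : Algebra A B₁ := a₁.hom.toAlgebra
  letI : Algebra A B₂ := a₂.hom.toAlgebra
  letI : Algebra B₁ B' := c₁.hom.toAlgebra
  letI : Algebra B₂ B' := c₂.hom.toAlgebra
  letI : Algebra A B' := (a₂ ≫ c₂).hom.toAlgebra
  letI : Algebra B₂ C₂ := b.hom.toAlgebra
  letI : Algebra A C₂ := (a₂ ≫ b).hom.toAlgebra
  haveI : IsScalarTower A B₂ B' := IsScalarTower.of_algebraMap_eq (fun x => rfl)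
  haveI : IsScalarTower A B₁ B' := IsScalarTower.of_algebraMap_eq (fun x => by
    have := congrArg (fun φ => φ.hom x) hY.w
    exact this.symm)
  haveI : IsScalarTower A B₂ C₂ := IsScalarTower.of_algebraMap_eq (fun x => rfl)
  haveI : Module.Flat A B₂ := ha₂
  haveI : Module.Flat A C₂ := hab
  have hpo : Algebra.IsPushout A B₂ B₁ B' := by
    refine CommRingCat.isPushout_iff_isPushout.mp ?_
    exact hY.flip
  let eq : B₂ ⊗[A] B₁ ≃ₗ[B₂] B' := hpo.out.equiv
  exact TorAcyc.of_iso_right eq.toModuleIso (torAcyc_tensor (A := A) (B₁ := B₁) (B₂ := B₂)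
    (C₂ := C₂))

end Pushout

end Groth.Agent.Helper5.PPM
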