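import Groth.Agent.Lib.Helper5.PPM2
import Groth.Agent.Lib.Helper5.PDZ2

/-!
# Products of pseudo-coherent morphisms, part 3: the scheme level
-/

set_option autoImplicit false
set_option linter.unusedSectionVars false
set_option linter.unusedVariables false
set_option linter.style.haveILetI false

universe u

open CategoryTheory CategoryTheory.Limits AlgebraicGeometry TopologicalSpace

attribute [local instance] HasDerivedCategory.standard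

namespace Groth.Agent.Helper5.PPM

open Groth.Agent.Helper11.PcHom Groth.Agent.Helper11.PerfMor

/-- Tor-independent base change of a pseudo-coherent morphism: `f₂ : X₂ ⟶ Y₂` pseudo-coherent,
`Y₂` and `X₂` flat over `S`, `Y = Y₁ ×_S Y₂`; then the base change of `f₂` along `Y ⟶ Y₂` is
pseudo-coherent. -/
theorem pcMor_baseChange_ti {S Y₁ Y₂ Y X₂ W : Scheme.{u}} (q₁ : Y₁ ⟶ S) (q₂ : Y₂ ⟶ S)
    (pY₁ : Y ⟶ Y₁) (pY₂ : Y ⟶ Y₂) (hY : IsPullback pY₁ pY₂ q₁ q₂)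
    (f₂ : X₂ ⟶ Y₂) (g' : W ⟶ X₂) (v : W ⟶ Y) (hW : IsPullback g' v f₂ pY₂)
    [Flat q₂] [Flat (f₂ ≫ q₂)]
    (hf₂ : MoreMor.IsPseudoCoherentMor f₂) : MoreMor.IsPseudoCoherentMor v := by
  rw [pcMor_iff] at hf₂ ⊢
  rw [HasRingHomProperty.iff_exists_appLE (P := P) Q_sourceStable]
  intro w
  obtain ⟨S₀, hS₀, hxS₀, -⟩ := Opens.isBasis_iff_nbhd.mp S.isBasis_affineOpens
    (Opens.mem_top (q₂ (f₂ (g' w))))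
  obtain ⟨V, hV, hxV, hVS⟩ := Opens.isBasis_iff_nbhd.mp Y₂.isBasis_affineOpens
    (show f₂ (g' w) ∈ q₂ ⁻¹ᵁ S₀ from hxS₀)
  obtain ⟨U, hU, hxU, hUV⟩ := Opens.isBasis_iff_nbhd.mp X₂.isBasis_affineOpens
    (show g' w ∈ f₂ ⁻¹ᵁ V from hxV)
  have hw : pY₂ (v w) = f₂ (g' w) := by
    have := congrArg (fun φ : W ⟶ Y₂ => φ w) hW.w
    simpa using this.symm
  have hw1 : q₁ (pY₁ (v w)) = q₂ (pY₂ (v w)) := by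
    have := congrArg (fun φ : Y ⟶ S => φ (v w)) hY.w
    simpa using this
  obtain ⟨V₁, hV₁, hxV₁, hV₁S⟩ := Opens.isBasis_iff_nbhd.mp Y₁.isBasis_affineOpens
    (show pY₁ (v w) ∈ q₁ ⁻¹ᵁ S₀ from by
      show q₁ (pY₁ (v w)) ∈ S₀
      rw [hw1, hw]
      exact hxS₀)
  have hV' : IsAffineOpen (pY₁ ⁻¹ᵁ V₁ ⊓ pY₂ ⁻¹ᵁ V) := by
    have : IsAffine _ := hS₀
    have : IsAffine _ := hV
    have : IsAffine _ := hV₁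
    exact .of_isIso (Scheme.Hom.isPullback_resLE hY hVS hV₁S rfl).isoPullback.hom
  have hpoY := (isIso_pushoutSection_iff hY hVS hV₁S rfl).mp
    (isIso_pushoutSection_of_isAffineOpen hY hVS hV₁S rfl hS₀ hV hV₁)
  have hV'V : pY₁ ⁻¹ᵁ V₁ ⊓ pY₂ ⁻¹ᵁ V ≤ pY₂ ⁻¹ᵁ V := inf_le_right
  have hU' : IsAffineOpen (g' ⁻¹ᵁ U ⊓ v ⁻¹ᵁ (pY₁ ⁻¹ᵁ V₁ ⊓ pY₂ ⁻¹ᵁ V)) := by
    have : IsAffine _ := hV
    have : IsAffine _ := hV'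
    have : IsAffine _ := hU
    exact .of_isIso (Scheme.Hom.isPullback_resLE hW hV'V hUV rfl).isoPullback.hom
  have hpoW := (isIso_pushoutSection_iff hW hV'V hUV rfl).mp
    (isIso_pushoutSection_of_isAffineOpen hW hV'V hUV rfl hV hV' hU)
  have hxV' : v w ∈ pY₁ ⁻¹ᵁ V₁ ⊓ pY₂ ⁻¹ᵁ V := by
    refine Opens.mem_inf.mpr ⟨hxV₁, ?_⟩
    show pY₂ (v w) ∈ V
    rw [hw]
    exact hxV
  refine ⟨⟨pY₁ ⁻¹ᵁ V₁ ⊓ pY₂ ⁻¹ᵁ V, hV'⟩, ⟨g' ⁻¹ᵁ U ⊓ v ⁻¹ᵁ (pY₁ ⁻¹ᵁ V₁ ⊓ pY₂ ⁻¹ᵁ V), hU'⟩,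
    Opens.mem_inf.mpr ⟨hxU, hxV'⟩, inf_le_right, ?_⟩
  refine Q_of_isPushout_of_isPushout hpoY hpoW (Flat.flat_appLE q₂ hS₀ hV hVS) ?_
    (HasRingHomProperty.appLE P f₂ hf₂ ⟨V, hV⟩ ⟨U, hU⟩ hUV)
  rw [Scheme.Hom.appLE_comp_appLE]
  exact Flat.flat_appLE (f₂ ≫ q₂) hS₀ hU _

variable {S X₁ Y₁ X₂ Y₂ X Y : Scheme.{u}}

/-- the product of two pseudo-coherent morphisms (flat second factor) is pseudo-coherent -/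
theorem pcMor_prod (f₁ : X₁ ⟶ Y₁) (q₁ : Y₁ ⟶ S)
    (f₂ : X₂ ⟶ Y₂) (q₂ : Y₂ ⟶ S) [Flat q₂] [Flat (f₂ ≫ q₂)]
    (pX₁ : X ⟶ X₁) (pX₂ : X ⟶ X₂) (hX : IsPullback pX₁ pX₂ (f₁ ≫ q₁) (f₂ ≫ q₂))
    (pY₁ : Y ⟶ Y₁) (pY₂ : Y ⟶ Y₂) (hY : IsPullback pY₁ pY₂ q₁ q₂)
    (f : X ⟶ Y) (hf₁ : f ≫ pY₁ = pX₁ ≫ f₁) (hf₂ : f ≫ pY₂ = pX₂ ≫ f₂)
    [LocallyOfFiniteType f₁] [LocallyOfFiniteType f₂]
    (h₁ : MoreMor.IsPseudoCoherentMor f₁) (h₂ : MoreMor.IsPseudoCoherentMor f₂) :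
    LocallyOfFiniteType f ∧ MoreMor.IsPseudoCoherentMor f := by
  let W := pullback q₁ (f₂ ≫ q₂)
  let w₁ : W ⟶ Y₁ := pullback.fst _ _
  let w₂ : W ⟶ X₂ := pullback.snd _ _
  have hWpb : IsPullback w₁ w₂ q₁ (f₂ ≫ q₂) := IsPullback.of_hasPullback _ _
  let v : W ⟶ Y := hY.lift w₁ (w₂ ≫ f₂) (by rw [Category.assoc]; exact hWpb.w)
  have hv₁ : v ≫ pY₁ = w₁ := hY.lift_fst _ _ _
  have hv₂ : v ≫ pY₂ = w₂ ≫ f₂ := hY.lift_snd _ _ _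
  have hcv : IsPullback w₂ v f₂ pY₂ := by
    have s : IsPullback (v ≫ pY₁) w₂ q₁ (f₂ ≫ q₂) := by rw [hv₁]; exact hWpb
    exact (IsPullback.of_right s hv₂ hY).flip
  let u : X ⟶ W := hWpb.lift (pX₁ ≫ f₁) pX₂ (by rw [Category.assoc]; exact hX.w)
  have hu₁ : u ≫ w₁ = pX₁ ≫ f₁ := hWpb.lift_fst _ _ _
  have hu₂ : u ≫ w₂ = pX₂ := hWpb.lift_snd _ _ _
  have hcu : IsPullback pX₁ u f₁ w₁ := by
    have s : IsPullback (u ≫ w₂) pX₁ (f₂ ≫ q₂) (f₁ ≫ q₁) := by rw [hu₂]; exact hX.flip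
    exact (IsPullback.of_right s hu₁ hWpb.flip).flip
  have hfuv : f = u ≫ v := by
    apply hY.hom_ext
    · rw [Category.assoc, hv₁, hu₁, hf₁]
    · rw [Category.assoc, hv₂, ← Category.assoc, hu₂, hf₂]
  haveI : Flat w₁ := inferInstanceAs (Flat (pullback.fst q₁ (f₂ ≫ q₂)))
  have hu : MoreMor.IsPseudoCoherentMor u := pcMor_flat_baseChange f₁ u pX₁ w₁ hcu h₁
  have hv : MoreMor.IsPseudoCoherentMor v :=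
    pcMor_baseChange_ti q₁ q₂ pY₁ pY₂ hY f₂ w₂ v hcv h₂
  haveI : LocallyOfFiniteType u :=
    MorphismProperty.of_isPullback (P := @LocallyOfFiniteType) hcu inferInstance
  haveI : LocallyOfFiniteType v :=
    MorphismProperty.of_isPullback (P := @LocallyOfFiniteType) hcv inferInstance
  rw [hfuv]
  exact ⟨inferInstance, pcMor_comp u v hu hv⟩

/-- S6260 -/
theorem main (f₁ : X₁ ⟶ Y₁) (q₁ : Y₁ ⟶ S)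
    (f₂ : X₂ ⟶ Y₂) (q₂ : Y₂ ⟶ S) [Flat q₂] [Flat (f₂ ≫ q₂)]
    (pX₁ : X ⟶ X₁) (pX₂ : X ⟶ X₂) (hX : IsPullback pX₁ pX₂ (f₁ ≫ q₁) (f₂ ≫ q₂))
    (pY₁ : Y ⟶ Y₁) (pY₂ : Y ⟶ Y₂) (hY : IsPullback pY₁ pY₂ q₁ q₂)
    (f : X ⟶ Y) (hf₁ : f ≫ pY₁ = pX₁ ≫ f₁) (hf₂ : f ≫ pY₂ = pX₂ ≫ f₂)
    [LocallyOfFiniteType f₁] [LocallyOfFiniteType f₂]
    (h₁ : ∀ n : ℤ, DerSch.IsNPseudoCoherent f₁ n) (h₂ : ∀ n : ℤ, DerSch.IsNPseudoCoherent f₂ n)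
    (n : ℤ) : DerSch.IsNPseudoCoherent f n := by
  have hpc₁ : MoreMor.IsPseudoCoherentMor f₁ :=
    (Groth.Agent.Helper5.PDZ.pcRelAll_unit_iff f₁).mp h₁
  have hpc₂ : MoreMor.IsPseudoCoherentMor f₂ :=
    (Groth.Agent.Helper5.PDZ.pcRelAll_unit_iff f₂).mp h₂
  obtain ⟨hlft, hpc⟩ := pcMor_prod f₁ q₁ f₂ q₂ pX₁ pX₂ hX pY₁ pY₂ hY f hf₁ hf₂ hpc₁ hpc₂
  haveI := hlft
  exact (Groth.Agent.Helper5.PDZ.pcRelAll_unit_iff f).mpr hpc n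

end Groth.Agent.Helper5.PPM
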