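import Groth.Agent.Lib.Helper5.PRF1
import Groth.Agent.Lib.Helper5.StalkCx1
import Groth.Agent.Lib.Helper13.LocFree2
import Groth.Agent.Lib.Helper5.LRes1

/-!
# Projective dimension of stalks
-/

set_option autoImplicit false
set_option linter.unusedSectionVars false
set_option linter.unusedVariables false
set_option linter.style.haveILetI false

universe u

open CategoryTheory CategoryTheory.Limits AlgebraicGeometry

namespace Groth.Agent.Helper5.PRF

section General

variable {C D : Type*} [Category C] [Abelian C] [Category D] [Abelian D] [EnoughProjectives C]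

/-- an exact functor preserving projective objects does not increase the projective dimension -/
theorem hasProjectiveDimensionLT_map (G : C ⥤ D) [G.Additive] [PreservesFiniteLimits G]
    [PreservesFiniteColimits G] (hG : ∀ P : C, Projective P → Projective (G.obj P)) :
    ∀ (n : ℕ) (M : C), HasProjectiveDimensionLT M (n + 1) →
      HasProjectiveDimensionLT (G.obj M) (n + 1) := by
  intro n
  induction n with
  | zero =>
    intro M hM
    rw [← projective_iff_hasProjectiveDimensionLT_one] at hM ⊢
    exact hG M hM
  | succ n ih =>
    intro M hM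
    have hS := Groth.Agent.Helper5.COHP.shortExact_kernel (Projective.π M)
    have hP : Projective (Projective.over M) := inferInstance
    have h1 : HasProjectiveDimensionLT (kernel (Projective.π M)) (n + 1) :=
      (hS.hasProjectiveDimensionLT_X₃_iff n hP).mp hM
    have h2 := ih _ h1
    have hS' := hS.map_of_exact G
    exact (hS'.hasProjectiveDimensionLT_X₃_iff n (hG _ hP)).mpr h2

end General

section ExtendScalars

variable {R S : Type u} [CommRing R] [CommRing S] (φ : R →+* S)

/-- base change along a bijective ring homomorphism does not increase the projective dimension -/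
theorem hasProjectiveDimensionLT_extendScalars (hφ : Function.Bijective φ) (n : ℕ)
    (M : ModuleCat.{u} R) (hM : HasProjectiveDimensionLT M (n + 1)) :
    HasProjectiveDimensionLT ((ModuleCat.extendScalars.{u, u, u} φ).obj M) (n + 1) := by
  haveI : PreservesFiniteLimits (ModuleCat.extendScalars.{u, u, u} φ) :=
    ModuleCat.preservesFiniteLimits_extendScalars_of_flat (RingHom.Flat.of_bijective hφ)
  haveI : (ModuleCat.extendScalars.{u, u, u} φ).IsLeftAdjoint :=
    (ModuleCat.extendRestrictScalarsAdj φ).isLeftAdjoint
  haveI : PreservesFiniteColimits (ModuleCat.extendScalars.{u, u, u} φ) := ⟨fun J _ _ => inferInstance⟩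
  exact hasProjectiveDimensionLT_map _
    (fun P hP => (ModuleCat.extendRestrictScalarsAdj φ).map_projective P hP) n M hM

end ExtendScalars

section Stalks

open Groth.Agent.Helper5.LDer Groth.Agent.Helper5.PCH Groth.Agent.Helper5.FPC

variable {X : Scheme.{u}}

/-- the projective dimension of the stalk of a restriction to an open subscheme -/
theorem hasProjectiveDimensionLT_stalk_restrict {U : Scheme.{u}} (j : U ⟶ X) [IsOpenImmersion j]
    (y : U) (F : X.Modules) (n : ℕ)
    (h : HasProjectiveDimensionLT ((DerSch.stalkFunctor X (j.base y)).obj F) (n + 1)) :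
    HasProjectiveDimensionLT ((DerSch.stalkFunctor U y).obj (F.restrict j)) (n + 1) := by
  have h1 : HasProjectiveDimensionLT
      ((DerSch.stalkFunctor X (j.base y) ⋙ ModuleCat.extendScalars (Sky.φst j y)).obj F) (n + 1) :=
    hasProjectiveDimensionLT_extendScalars (Sky.φst j y) (bijective_φst j y) n _ h
  exact hasProjectiveDimensionLT_of_iso ((restrictStalkIso j y).app F).symm (n + 1)

/-- the stalks of a finite locally free module are projective -/
theorem projective_stalk_of_isFinLocFree (B : X.Modules) (hB : FlatMod.IsFinLocFree B) (y : X) :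
    Projective ((DerSch.stalkFunctor X y).obj B) := by
  haveI := isQuasicoherent_of_isFinLocFree _ hB
  haveI := Groth.Agent.Helper13.LocFree.free_stalk_of_isFinLocFree B hB y
  haveI : Module.Projective (X.presheaf.stalk y) (B.presheaf.stalk y) := inferInstance
  exact (IsProjective.iff_projective (R := X.presheaf.stalk y) (B.presheaf.stalk y)).mp
    inferInstance

/-- a coherent module on a locally Noetherian scheme whose stalk at `x` is projective is free in a
neighbourhood of `x` -/
theorem exists_restrict_iso_freeMod_of_projective_stalk [IsLocallyNoetherian X] (F : X.Modules)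
    (hF : Coh.IsCoh F) (x : X) (h : Projective ((DerSch.stalkFunctor X x).obj F)) :
    ∃ (V : X.Opens) (n : ℕ), x ∈ V ∧ Nonempty (F.restrict V.ι ≅ FlatMod.freeMod (↑V) n) := by
  haveI := hF.1
  haveI := hF.2
  haveI : Module.Projective (X.presheaf.stalk x) (F.presheaf.stalk x) :=
    (IsProjective.iff_projective (R := X.presheaf.stalk x) (F.presheaf.stalk x)).mpr h
  haveI : Module.Finite (X.presheaf.stalk x) (F.presheaf.stalk x) :=
    Groth.Agent.Helper13.LocFree.finite_stalk_of_isFiniteType F x
  haveI : Module.Free (X.presheaf.stalk x) (F.presheaf.stalk x) :=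
    Module.free_of_flat_of_isLocalRing
  obtain ⟨_, ⟨U, hU, rfl⟩, hxU, -⟩ :=
    X.isBasis_affineOpens.exists_subset_of_mem_open (Set.mem_univ x) isOpen_univ
  haveI : IsNoetherianRing Γ(X, U) := IsLocallyNoetherian.component_noetherian ⟨U, hU⟩
  haveI : Module.Finite Γ(X, U) Γ(F, U) :=
    Groth.Agent.Helper13.FinType.finite_sections_of_isFiniteType F hU
  haveI : Module.FinitePresentation Γ(X, U) Γ(F, U) := Module.finitePresentation_of_finite _ _
  obtain ⟨r, hxr, n, ⟨b⟩⟩ := Groth.Agent.Helper13.LocFree.exists_basicOpen_basis F hU ⟨x, hxU⟩
  exact ⟨X.basicOpen r, n, hxr,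
    Groth.Agent.Helper13.LocFree.restrict_iso_freeMod_of_basis F (hU.basicOpen r) b⟩

end Stalks

end Groth.Agent.Helper5.PRF
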