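import Groth.Agent.Lib.Helper5.PPM2

/-!
# Tor dimension of a product of morphisms, part 1: Tor-independent base change of tor dimension
(ring level)
-/

set_option autoImplicit false
set_option linter.unusedSectionVars false
set_option linter.unusedVariables false
set_option linter.style.haveILetI false

universe u

open CategoryTheory Category Limits DerivedCategory AlgebraicGeometry TensorProduct

attribute [local instance] HasDerivedCategory.standard

namespace Groth.Agent.Helper5.PTD

open Groth.Agent.Helper11.DC Groth.Agent.Helper11.MPC Groth.Agent.Helper11.TA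
  Groth.Agent.Helper11.TorInd Groth.Agent.Helper5.PPM

section Tensor

variable {R S T : Type u} [CommRing R] [CommRing S] [CommRing T] [Algebra R S] [Algebra R T]

/-- Tor-independent base change of the tor dimension of an algebra -/
theorem torVan_tensor_ti (hti : TorAcyc (ModuleCat.of R S) (ModuleCat.of R T)) (d : ℕ)
    (h : TorVan (-(d : ℤ)) 0 ((singleFunctor (ModuleCat.{u} R) 0).obj (ModuleCat.of R T))) :
    TorVan (-(d : ℤ)) 0
      ((singleFunctor (ModuleCat.{u} S) 0).obj (ModuleCat.of S (S ⊗[R] T))) := by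
  rw [torVan_single_iff] at h ⊢
  intro N' p hp
  letI : Module R N' := Module.compHom N' (algebraMap R S)
  haveI : IsScalarTower R S N' := ⟨fun r s x => by
    change (r • s) • x = (algebraMap R S r) • (s • x)
    rw [Algebra.smul_def, mul_smul]⟩
  obtain ⟨φ, hφ⟩ := Groth.Agent.Helper6.TorBC.tor_baseChange (A := R) (A' := S) T N'
    (fun q hq => by
      obtain ⟨k, rfl⟩ : ∃ k, q = k + 1 := ⟨q - 1, by omega⟩
      exact ModuleCat.subsingleton_of_isZero (hti k)) p
  have hz := h (ModuleCat.of R N') p hp
  haveI := ModuleCat.subsingleton_of_isZero hz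
  haveI : Subsingleton (((Tor (ModuleCat.{u} S) p).obj (ModuleCat.of S (S ⊗[R] T))).obj
      (ModuleCat.of S N')) := hφ.2.subsingleton
  haveI hsub : Subsingleton (((Tor (ModuleCat.{u} S) p).obj (ModuleCat.of S (S ⊗[R] T))).obj
      N') := this
  exact ModuleCat.isZero_of_subsingleton _

end Tensor

section Restrict

variable {A B : Type u} [CommRing A] [CommRing B]

/-- `B[0]` restricted along `φ` is the `A`-module `B` in degree `0` -/
noncomputable def restrictUnitIso (φ : A →+* B) :
    letI := φ.toAlgebra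
    (DRing.restrictD φ).obj (Dual.inD B B) ≅
      (singleFunctor (ModuleCat.{u} A) 0).obj (ModuleCat.of A B) :=
  letI := φ.toAlgebra
  ((ModuleCat.restrictScalars.{u} φ).mapDerivedCategorySingleFunctor 0).app (ModuleCat.of B B) ≪≫
    (singleFunctor (ModuleCat.{u} A) 0).mapIso
      { hom := ModuleCat.ofHom
          (X := (ModuleCat.restrictScalars.{u} φ).obj (ModuleCat.of B B)) (Y := ModuleCat.of A B)
          { toFun := fun x => x
            map_add' := fun _ _ => rfl
            map_smul' := fun _ _ => rfl }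
        inv := ModuleCat.ofHom
          (X := ModuleCat.of A B) (Y := (ModuleCat.restrictScalars.{u} φ).obj (ModuleCat.of B B))
          { toFun := fun x => x
            map_add' := fun _ _ => rfl
            map_smul' := fun _ _ => rfl }
        hom_inv_id := rfl
        inv_hom_id := rfl }

end Restrict

section Pushout

/-- Tor-independent base change of tor dimension, pushout form -/
theorem torAmp_of_isPushout_ti {R S T P : CommRingCat.{u}} {a : R ⟶ S} {b : R ⟶ T} {c : S ⟶ P}
    {d : T ⟶ P} (h : IsPushout a b c d)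
    (hti : letI := a.hom.toAlgebra
      letI := b.hom.toAlgebra
      TorAcyc (ModuleCat.of R S) (ModuleCat.of R T)) (n : ℕ)
    (hb : DRing.HasTorAmplitudeIn R (-(n : ℤ)) 0 ((DRing.restrictD b.hom).obj (Dual.inD T T))) :
    DRing.HasTorAmplitudeIn S (-(n : ℤ)) 0 ((DRing.restrictD c.hom).obj (Dual.inD P P)) := by
  letI : Algebra R S := a.hom.toAlgebra
  letI : Algebra R T := b.hom.toAlgebra
  letI : Algebra S P := c.hom.toAlgebra
  letI : Algebra T P := d.hom.toAlgebra
  letI : Algebra R P := (a ≫ c).hom.toAlgebra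
  haveI : IsScalarTower R S P := IsScalarTower.of_algebraMap_eq (fun x => rfl)
  haveI : IsScalarTower R T P := IsScalarTower.of_algebraMap_eq (fun x => by
    have := congrArg (fun φ => φ.hom x) h.w
    exact this)
  have hpo : Algebra.IsPushout R S T P := CommRingCat.isPushout_iff_isPushout.mp h
  let eq : S ⊗[R] T ≃ₐ[S] P := Algebra.IsPushout.equiv R S T P
  rw [hasTorAmplitudeIn_iff_torVan] at hb ⊢
  have h1 : TorVan (-(n : ℤ)) 0
      ((singleFunctor (ModuleCat.{u} R) 0).obj (ModuleCat.of R T)) :=
    hb.of_iso (restrictUnitIso b.hom)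
  have h2 := torVan_tensor_ti hti n h1
  have h3 : TorVan (-(n : ℤ)) 0
      ((singleFunctor (ModuleCat.{u} S) 0).obj (ModuleCat.of S P)) :=
    h2.of_iso ((singleFunctor (ModuleCat.{u} S) 0).mapIso eq.toLinearEquiv.toModuleIso)
  exact h3.of_iso (restrictUnitIso c.hom).symm

/-- Tor-independence in the two-step pushout situation -/
theorem torAcyc_of_isPushout {A B₁ B₂ B' C₂ : CommRingCat.{u}}
    {a₁ : A ⟶ B₁} {a₂ : A ⟶ B₂} {c₁ : B₁ ⟶ B'} {c₂ : B₂ ⟶ B'}
    (hY : IsPushout a₁ a₂ c₁ c₂) (b : B₂ ⟶ C₂) (ha₂ : a₂.hom.Flat) (hab : (a₂ ≫ b).hom.Flat) :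
    letI := c₂.hom.toAlgebra
    letI := b.hom.toAlgebra
    TorAcyc (ModuleCat.of B₂ B') (ModuleCat.of B₂ C₂) := by
  letI : Algebra A B₁ := a₁.hom.toAlgebra
  letI : Algebra A B₂ := a₂.hom.toAlgebra
  letI : Algebra B₁ B' := c₁.hom.toAlgebra
  letI : Algebra B₂ B' := c₂.hom.toAlgebra
  letI : Algebra A B' := (a₂ ≫ c₂).hom.toAlgebra
  letI : Algebra B₂ C₂ := b.hom.toAlgebra
  letI : Algebra A C₂ := (a₂ ≫ b).hom.toAlgebra
  haveI : IsScalarTower A B₂ B' := IsScalarTower.of_algebraMap_eq (fun x => rfl)
  haveI : IsScalarTower A B₁ B' := IsScalarTower.of_algebraMap_eq (fun x => by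
    have := congrArg (fun φ => φ.hom x) hY.w
    exact this.symm)
  haveI : IsScalarTower A B₂ C₂ := IsScalarTower.of_algebraMap_eq (fun x => rfl)
  haveI : Module.Flat A B₂ := ha₂
  haveI : Module.Flat A C₂ := hab
  have hpo : Algebra.IsPushout A B₂ B₁ B' := by
    refine CommRingCat.isPushout_iff_isPushout.mp ?_
    exact hY.flip
  let eq : B₂ ⊗[A] B₁ ≃ₗ[B₂] B' := hpo.out.equiv
  exact TorAcyc.of_iso_right eq.toModuleIso (torAcyc_tensor (A := A) (B₁ := B₁) (B₂ := B₂)
    (C₂ := C₂))

/-- flat base change is Tor-independent -/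
theorem torAcyc_of_flat_right {R S T : Type u} [CommRing R] [CommRing S] [CommRing T]
    [Algebra R S] [Algebra R T] [Module.Flat R S] :
    TorAcyc (ModuleCat.of R S) (ModuleCat.of R T) :=
  fun n => isZero_tor_succ_of_flat_right (ModuleCat.of R T) (ModuleCat.of R S) n

end Pushout

end Groth.Agent.Helper5.PTD
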