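import Groth.Agent.Lib.Helper5.PTD1
import Groth.Agent.Lib.Helper5.PDZ6
import Groth.Agent.Lib.Helper9.TorComp

/-!
# Tor dimension of a product of morphisms, part 2: the scheme level
-/

set_option autoImplicit false
set_option linter.unusedSectionVars false
set_option linter.unusedVariables false
set_option linter.style.haveILetI false

universe u

open CategoryTheory CategoryTheory.Limits AlgebraicGeometry TopologicalSpace

attribute [local instance] HasDerivedCategory.standard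

namespace Groth.Agent.Helper5.PTD

open Groth.Agent.Helper5.TB Groth.Agent.Helper5.RPR Groth.Agent.Helper11
  Groth.Agent.Helper5.TBA Groth.Agent.Helper5.RT Groth.Agent.Helper5.PCT Groth.Agent.Helper5.TT
  Groth.Agent.Helper5.KF Groth.Agent.Helper11.TA Groth.Agent.Helper5.CHP
  Groth.Agent.Helper5.PDZ Groth.Agent.Helper11.TorInd

section Chart

variable {X S : Scheme.{u}} (f : X ⟶ S)

/-- chart-level form of the tor dimension of a morphism -/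
theorem torDim_chart_iff (n : ℕ) {U : X.Opens} (hU : IsAffineOpen U) {V : S.Opens}
    (hV : IsAffineOpen V) (hUV : U ≤ f ⁻¹ᵁ V) :
    (∀ y ∈ U, DerSch.HasTorAmplitudeAt f (-(n : ℤ)) 0 (DerSch.unitCx X) y) ↔
      DRing.HasTorAmplitudeIn Γ(S, V) (-(n : ℤ)) 0
        ((DRing.restrictD (f.appLE V U hUV).hom).obj (Dual.inD Γ(X, U) Γ(X, U))) := by
  rw [← torAmp_chart_iff f (DCoh.toD X (DerSch.unitCx X)) hU hV hUV _ (chartUnitIso hU)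
    (-(n : ℤ)) 0]
  refine forall₂_congr (fun y hy => ?_)
  constructor
  · intro h
    exact (TA.torVan_of_hasTorAmplitudeIn h).of_iso
      (stalkDIso f y (DerSch.unitCx X) (Iso.refl _)).symm
  · intro h
    exact TA.hasTorAmplitudeIn_of_torVan
      (h.of_iso (stalkDIso f y (DerSch.unitCx X) (Iso.refl _)))

end Chart

/-- Tor-independent base change of the tor dimension of a morphism -/
theorem torDimLE_baseChange_ti {X S X' S' : Scheme.{u}} (f : X ⟶ S) (f' : X' ⟶ S')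
    (g' : X' ⟶ X) (g : S' ⟶ S) (hc : IsPullback g' f' f g) (n : ℕ)
    (hf : DerSch.HasTorDimLE f n)
    (H : ∀ x' : X', ∃ (V : S.Opens) (hV : IsAffineOpen V) (U : X.Opens) (hU : IsAffineOpen U)
      (hUV : U ≤ f ⁻¹ᵁ V) (V' : S'.Opens) (hV' : IsAffineOpen V') (hV'V : V' ≤ g ⁻¹ᵁ V),
      g' x' ∈ U ∧ f' x' ∈ V' ∧
        (letI := (g.appLE V V' hV'V).hom.toAlgebra
         letI := (f.appLE V U hUV).hom.toAlgebra
         TorAcyc (ModuleCat.of Γ(S, V) Γ(S', V')) (ModuleCat.of Γ(S, V) Γ(X, U)))) :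
    DerSch.HasTorDimLE f' n := by
  intro x'
  obtain ⟨V, hV, U, hU, hUV, V', hV', hV'V, hxU, hxV', hti⟩ := H x'
  have hU' : IsAffineOpen (g' ⁻¹ᵁ U ⊓ f' ⁻¹ᵁ V') := by
    have : IsAffine _ := hV
    have : IsAffine _ := hV'
    have : IsAffine _ := hU
    exact .of_isIso (Scheme.Hom.isPullback_resLE hc hV'V hUV rfl).isoPullback.hom
  have hpo := (isIso_pushoutSection_iff hc hV'V hUV rfl).mp
    (isIso_pushoutSection_of_isAffineOpen hc hV'V hUV rfl hV hV' hU)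
  have h1 := (torDim_chart_iff f n hU hV hUV).mp (fun y _ => hf y)
  have h2 := torAmp_of_isPushout_ti hpo.flip hti n h1
  exact (torDim_chart_iff f' n hU' hV' inf_le_right).mpr h2 x' (Opens.mem_inf.mpr ⟨hxU, hxV'⟩)

variable {S X₁ Y₁ X₂ Y₂ X Y : Scheme.{u}}

/-- S6242 -/
theorem main (f₁ : X₁ ⟶ Y₁) (q₁ : Y₁ ⟶ S)
    (f₂ : X₂ ⟶ Y₂) (q₂ : Y₂ ⟶ S) [Flat q₂] [Flat (f₂ ≫ q₂)]
    (pX₁ : X ⟶ X₁) (pX₂ : X ⟶ X₂) (hX : IsPullback pX₁ pX₂ (f₁ ≫ q₁) (f₂ ≫ q₂))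
    (pY₁ : Y ⟶ Y₁) (pY₂ : Y ⟶ Y₂) (hY : IsPullback pY₁ pY₂ q₁ q₂)
    (f : X ⟶ Y) (hf₁ : f ≫ pY₁ = pX₁ ≫ f₁) (hf₂ : f ≫ pY₂ = pX₂ ≫ f₂)
    (n₁ n₂ : ℕ) (h₁ : DerSch.HasTorDimLE f₁ n₁) (h₂ : DerSch.HasTorDimLE f₂ n₂) :
    DerSch.HasTorDimLE f (n₁ + n₂) := by
  let W := pullback q₁ (f₂ ≫ q₂)
  let w₁ : W ⟶ Y₁ := pullback.fst _ _
  let w₂ : W ⟶ X₂ := pullback.snd _ _
  have hWpb : IsPullback w₁ w₂ q₁ (f₂ ≫ q₂) := IsPullback.of_hasPullback _ _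
  let v : W ⟶ Y := hY.lift w₁ (w₂ ≫ f₂) (by rw [Category.assoc]; exact hWpb.w)
  have hv₁ : v ≫ pY₁ = w₁ := hY.lift_fst _ _ _
  have hv₂ : v ≫ pY₂ = w₂ ≫ f₂ := hY.lift_snd _ _ _
  have hcv : IsPullback w₂ v f₂ pY₂ := by
    have s : IsPullback (v ≫ pY₁) w₂ q₁ (f₂ ≫ q₂) := by rw [hv₁]; exact hWpb
    exact (IsPullback.of_right s hv₂ hY).flip
  let u : X ⟶ W := hWpb.lift (pX₁ ≫ f₁) pX₂ (by rw [Category.assoc]; exact hX.w)
  have hu₁ : u ≫ w₁ = pX₁ ≫ f₁ := hWpb.lift_fst _ _ _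
  have hu₂ : u ≫ w₂ = pX₂ := hWpb.lift_snd _ _ _
  have hcu : IsPullback pX₁ u f₁ w₁ := by
    have s : IsPullback (u ≫ w₂) pX₁ (f₂ ≫ q₂) (f₁ ≫ q₁) := by rw [hu₂]; exact hX.flip
    exact (IsPullback.of_right s hu₁ hWpb.flip).flip
  have hfuv : f = u ≫ v := by
    apply hY.hom_ext
    · rw [Category.assoc, hv₁, hu₁, hf₁]
    · rw [Category.assoc, hv₂, ← Category.assoc, hu₂, hf₂]
  haveI : Flat w₁ := inferInstanceAs (Flat (pullback.fst q₁ (f₂ ≫ q₂)))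
  -- `u` is a flat base change of `f₁`
  have hu : DerSch.HasTorDimLE u n₁ := by
    refine torDimLE_baseChange_ti f₁ u pX₁ w₁ hcu n₁ h₁ (fun x' => ?_)
    obtain ⟨V, hV, hxV, -⟩ := Opens.isBasis_iff_nbhd.mp Y₁.isBasis_affineOpens
      (Opens.mem_top (f₁ (pX₁ x')))
    obtain ⟨U, hU, hxU, hUV⟩ := Opens.isBasis_iff_nbhd.mp X₁.isBasis_affineOpens
      (show pX₁ x' ∈ f₁ ⁻¹ᵁ V from hxV)
    have hw : w₁ (u x') = f₁ (pX₁ x') := by
      have := congrArg (fun φ : X ⟶ Y₁ => φ x') hcu.w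
      simpa using this.symm
    obtain ⟨V', hV', hxV', hV'V⟩ := Opens.isBasis_iff_nbhd.mp W.isBasis_affineOpens
      (show u x' ∈ w₁ ⁻¹ᵁ V from by
        show w₁ (u x') ∈ V
        rw [hw]
        exact hxV)
    refine ⟨V, hV, U, hU, hUV, V', hV', hV'V, hxU, hxV', ?_⟩
    letI := (w₁.appLE V V' hV'V).hom.toAlgebra
    letI := (f₁.appLE V U hUV).hom.toAlgebra
    haveI : Module.Flat Γ(Y₁, V) Γ(W, V') := Flat.flat_appLE w₁ hV hV' hV'V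
    exact torAcyc_of_flat_right
  -- `v` is a Tor-independent base change of `f₂`
  have hv : DerSch.HasTorDimLE v n₂ := by
    refine torDimLE_baseChange_ti f₂ v w₂ pY₂ hcv n₂ h₂ (fun w => ?_)
    obtain ⟨S₀, hS₀, hxS₀, -⟩ := Opens.isBasis_iff_nbhd.mp S.isBasis_affineOpens
      (Opens.mem_top (q₂ (f₂ (w₂ w))))
    obtain ⟨V, hV, hxV, hVS⟩ := Opens.isBasis_iff_nbhd.mp Y₂.isBasis_affineOpens
      (show f₂ (w₂ w) ∈ q₂ ⁻¹ᵁ S₀ from hxS₀)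
    obtain ⟨U, hU, hxU, hUV⟩ := Opens.isBasis_iff_nbhd.mp X₂.isBasis_affineOpens
      (show w₂ w ∈ f₂ ⁻¹ᵁ V from hxV)
    have hw : pY₂ (v w) = f₂ (w₂ w) := by
      have := congrArg (fun φ : W ⟶ Y₂ => φ w) hcv.w
      simpa using this.symm
    have hw1 : q₁ (pY₁ (v w)) = q₂ (pY₂ (v w)) := by
      have := congrArg (fun φ : Y ⟶ S => φ (v w)) hY.w
      simpa using this
    obtain ⟨V₁, hV₁, hxV₁, hV₁S⟩ := Opens.isBasis_iff_nbhd.mp Y₁.isBasis_affineOpens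
      (show pY₁ (v w) ∈ q₁ ⁻¹ᵁ S₀ from by
        show q₁ (pY₁ (v w)) ∈ S₀
        rw [hw1, hw]
        exact hxS₀)
    have hV' : IsAffineOpen (pY₁ ⁻¹ᵁ V₁ ⊓ pY₂ ⁻¹ᵁ V) := by
      have : IsAffine _ := hS₀
      have : IsAffine _ := hV
      have : IsAffine _ := hV₁
      exact .of_isIso (Scheme.Hom.isPullback_resLE hY hVS hV₁S rfl).isoPullback.hom
    have hpoY := (isIso_pushoutSection_iff hY hVS hV₁S rfl).mp
      (isIso_pushoutSection_of_isAffineOpen hY hVS hV₁S rfl hS₀ hV hV₁)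
    have hV'V : pY₁ ⁻¹ᵁ V₁ ⊓ pY₂ ⁻¹ᵁ V ≤ pY₂ ⁻¹ᵁ V := inf_le_right
    have hxV' : v w ∈ pY₁ ⁻¹ᵁ V₁ ⊓ pY₂ ⁻¹ᵁ V := by
      refine Opens.mem_inf.mpr ⟨hxV₁, ?_⟩
      show pY₂ (v w) ∈ V
      rw [hw]
      exact hxV
    refine ⟨V, hV, U, hU, hUV, _, hV', hV'V, hxU, hxV', ?_⟩
    refine torAcyc_of_isPushout hpoY (f₂.appLE V U hUV) (Flat.flat_appLE q₂ hS₀ hV hVS) ?_
    rw [Scheme.Hom.appLE_comp_appLE]
    exact Flat.flat_appLE (f₂ ≫ q₂) hS₀ hU _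
  intro x
  have key := Groth.Agent.Helper9.TorComp.main u v n₂ hv (DerSch.unitCx X) (-(n₁ : ℤ)) 0 hu x
  have e : (-((n₁ + n₂ : ℕ) : ℤ)) = -(n₁ : ℤ) - (n₂ : ℤ) := by push_cast; ring
  rw [hfuv]
  show DerSch.HasTorAmplitudeAt (u ≫ v) (-((n₁ + n₂ : ℕ) : ℤ)) 0 (DerSch.unitCx X) x
  rw [e]
  exact key

end Groth.Agent.Helper5.PTD
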