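import Mathlib.AlgebraicGeometry.Morphisms.FinitePresentation
import Groth.Agent.Lib.Helper5.ProConsImage

set_option autoImplicit false

universe u

namespace Groth.Agent.Helper5.PC

open Topology Set Set.Notation AlgebraicGeometry CategoryTheory

variable {X' X : Scheme.{u}}

/-- Chevalley for the restriction of a morphism locally of finite presentation to affine opens -/
theorem isConstructible_image_resFun (f : X' ⟶ X) [LocallyOfFinitePresentation f]
    {V : X.Opens} (hV : IsAffineOpen V) {W : X'.Opens}
    (hW : IsAffineOpen W) (e : W ≤ f ⁻¹ᵁ V) {s : Set ↥(W : Set X')}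
    (hs : IsConstructible s) : IsConstructible (resFun f V W e '' s) := by
  have : IsAffine V.toScheme := hV
  have : IsAffine W.toScheme := hW
  have hq : QuasiCompact (f.resLE V W e) := inferInstance
  have h := (f.resLE V W e).isConstructible_image (s := s) hs
  have heq : resFun f V W e = ⇑(f.resLE V W e) := by
    funext z
    apply Subtype.ext
    rw [resLE_apply_val]
    rfl
  rw [heq]
  exact h

/-- EGA IV 1.9.5 (viii): the image of an ind-constructible set under a morphism locally of finite
presentation is ind-constructible -/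
theorem isIndConstructible_image (f : X' ⟶ X) [LocallyOfFinitePresentation f] {E' : Set X'}
    (hE' : ProCons.IsIndConstructible E') : ProCons.IsIndConstructible (f '' E') := by
  rw [isIndConstructible_iff]
  intro V hV
  have := compactSpace_of_isAffineOpen hV
  rw [@isOpen_iff_forall_mem_open ↥(V : Set X) (constructibleTopology ↥(V : Set X))]
  rintro y ⟨x', hx'E, hx'y⟩
  have hx'V : x' ∈ f ⁻¹ᵁ V := by
    change f x' ∈ V
    rw [hx'y]; exact y.2
  obtain ⟨_, ⟨W, hW, rfl⟩, hx'W, hWV⟩ := (X'.isBasis_affineOpens).exists_subset_of_mem_open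
    hx'V (f ⁻¹ᵁ V).isOpen
  have e : W ≤ f ⁻¹ᵁ V := hWV
  have := quasiSeparatedSpace_of_isAffineOpen hW
  obtain ⟨v, hvc, _, _, hxv, hvE⟩ := exists_isConstructible_nhds_of_isOpen_cT
    (isOpen_cT_affine_of_isIndConstructible hW hE') (y := (⟨x', hx'W⟩ : ↥(W : Set X'))) hx'E
  refine ⟨resFun f V W e '' v, ?_,
    (isClopen_cT_of_isConstructible (isConstructible_image_resFun f hV hW e hvc)).1, ?_⟩
  · rintro _ ⟨z, hz, rfl⟩
    exact ⟨z.1, hvE hz, rfl⟩
  · exact ⟨⟨x', hx'W⟩, hxv, Subtype.ext hx'y⟩

end Groth.Agent.Helper5.PC
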