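import Mathlib
import Groth.Agent.Lib.Helper5.QMorse3

/-! Power series over an adically complete ring are complete for the ideal `(m, x)`. -/

set_option autoImplicit false
set_option linter.style.haveILetI false
universe u
open MvPowerSeries Finsupp

namespace Groth.Agent.Helper5.QMorse

open Groth.Agent.Helper5.Morse Groth.Agent.Helper5.InvFun

variable {A : Type u} [CommRing A] {n : ℕ} (m : Ideal A)

/-- the ideal `(m, x)` -/
noncomputable def MM (n : ℕ) : Ideal (MvPowerSeries (Fin n) A) := Ideal.map C m ⊔ XI A n

/-- power series whose coefficients of degree `< N` lie in `m ^ (N - degree)` -/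
def SN (n N : ℕ) : Ideal (MvPowerSeries (Fin n) A) where
  carrier := {f | ∀ e : Fin n →₀ ℕ, e.degree < N → coeff e f ∈ m ^ (N - e.degree)}
  add_mem' := by
    intro f g hf hg e he
    rw [map_add]
    exact Ideal.add_mem _ (hf e he) (hg e he)
  zero_mem' := by
    intro e _
    rw [map_zero]
    exact Ideal.zero_mem _
  smul_mem' := by
    classical
    intro g f hf e he
    rw [smul_eq_mul, coeff_mul]
    apply Ideal.sum_mem
    rintro ⟨e1, e2⟩ h12
    have h12' : e1 + e2 = e := Finset.HasAntidiagonal.mem_antidiagonal.mp h12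
    have hdeg : e1.degree + e2.degree = e.degree := by
      rw [← h12', map_add]
    apply Ideal.mul_mem_left
    exact Ideal.pow_le_pow_right (by omega) (hf e2 (by omega))

theorem mem_SN {N : ℕ} {f : MvPowerSeries (Fin n) A} :
    f ∈ SN m n N ↔ ∀ e : Fin n →₀ ℕ, e.degree < N → coeff e f ∈ m ^ (N - e.degree) := Iff.rfl

theorem C_mul_mem_SN {N : ℕ} {μ : A} (hμ : μ ∈ m) {f : MvPowerSeries (Fin n) A}
    (hf : f ∈ SN m n N) : C μ * f ∈ SN m n (N + 1) := by
  intro e he
  rw [coeff_C_mul]
  by_cases h : e.degree < N
  · have h1 : N + 1 - e.degree = (N - e.degree) + 1 := by omega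
    rw [h1, pow_succ']
    exact Ideal.mul_mem_mul hμ (hf e h)
  · have h1 : N + 1 - e.degree = 1 := by omega
    rw [h1, pow_one]
    exact Ideal.mul_mem_right _ _ hμ

theorem X_mul_mem_SN {N : ℕ} (i : Fin n) {f : MvPowerSeries (Fin n) A}
    (hf : f ∈ SN m n N) : X i * f ∈ SN m n (N + 1) := by
  classical
  intro e he
  rw [X_def, coeff_monomial_mul, one_mul]
  split_ifs with hle
  · have hadd : e - single i 1 + single i 1 = e := tsub_add_cancel_of_le hle
    have hdeg : (e - single i 1).degree + 1 = e.degree := by
      conv_rhs => rw [← hadd]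
      rw [map_add, degree_single]
    have := hf (e - single i 1) (by omega)
    have h1 : N + 1 - e.degree = N - (e - single i 1).degree := by omega
    rw [h1]
    exact this
  · exact Ideal.zero_mem _

theorem MM_mul_SN_le (N : ℕ) : MM m n * SN m n N ≤ SN m n (N + 1) := by
  rw [Ideal.mul_le]
  intro s hs f hf
  have hMM : MM m n = Ideal.span (C '' (m : Set A) ∪ Set.range (X : Fin n → _)) := by
    unfold MM
    rw [Ideal.span_union, Ideal.map]
  rw [hMM] at hs
  induction hs using Submodule.span_induction with
  | mem s hs =>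
    rcases hs with ⟨μ, hμ, rfl⟩ | ⟨i, rfl⟩
    · exact C_mul_mem_SN m hμ hf
    · exact X_mul_mem_SN m i hf
  | zero => rw [zero_mul]; exact Ideal.zero_mem _
  | add s t _ _ hs ht => rw [add_mul]; exact Ideal.add_mem _ hs ht
  | smul r s _ hs =>
    rw [smul_eq_mul, mul_assoc]
    exact Ideal.mul_mem_left _ _ hs

theorem MM_pow_le (N : ℕ) : MM m n ^ N ≤ SN m n N := by
  induction N with
  | zero =>
    intro f _ e he
    omega
  | succ N ih =>
    rw [pow_succ']
    exact le_trans (Ideal.mul_mono_right ih) (MM_mul_SN_le m N)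

theorem monomial_mem_MM_pow (N : ℕ) (e : Fin n →₀ ℕ) (he : e.degree ≤ N) (r : A)
    (hr : r ∈ m ^ (N - e.degree)) : monomial e r ∈ MM m n ^ N := by
  classical
  have h1 : monomial e r = C r * monomial e (1 : A) := by
    rw [← monomial_zero_eq_C_apply, monomial_mul_monomial, zero_add, mul_one]
  have h2 : (C r : MvPowerSeries (Fin n) A) ∈ MM m n ^ (N - e.degree) := by
    have : (C r : MvPowerSeries (Fin n) A) ∈ Ideal.map C (m ^ (N - e.degree)) :=
      Ideal.mem_map_of_mem _ hr
    rw [Ideal.map_pow] at this
    exact Ideal.pow_right_mono le_sup_left _ this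
  have h3 : monomial e (1 : A) ∈ MM m n ^ e.degree := by
    have : monomial e (1 : A) ∈ XI A n ^ e.degree := by
      rw [span_X_pow_eq, mem_ordIdeal_iff]
      intro e' he'
      rw [coeff_monomial, if_neg]
      rintro rfl
      omega
    exact Ideal.pow_right_mono le_sup_right _ this
  have h4 : N = (N - e.degree) + e.degree := by omega
  rw [h1, h4, pow_add]
  exact Ideal.mul_mem_mul h2 h3

theorem SN_le (N : ℕ) : SN m n N ≤ MM m n ^ N := by
  classical
  intro f hf
  have h1 : f - ((truncTotal N f : MvPolynomial (Fin n) A) : MvPowerSeries (Fin n) A) ∈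
      MM m n ^ N := Ideal.pow_right_mono le_sup_right _ (sub_truncTotal_mem N f)
  have h2 : ((truncTotal N f : MvPolynomial (Fin n) A) : MvPowerSeries (Fin n) A) ∈
      MM m n ^ N := by
    rw [← (truncTotal N f).support_sum_monomial_coeff]
    change MvPolynomial.coeToMvPowerSeries.ringHom _ ∈ _
    rw [map_sum]
    apply Ideal.sum_mem
    intro e he
    rw [MvPolynomial.coeToMvPowerSeries.ringHom_apply, MvPolynomial.coe_monomial]
    have hne : MvPolynomial.coeff e (truncTotal N f) ≠ 0 := MvPolynomial.mem_support_iff.mp he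
    have hdeg : e.degree < N := by
      by_contra hcon
      exact hne (coeff_truncTotal_eq_zero _ (not_lt.mp hcon))
    rw [coeff_truncTotal _ hdeg]
    exact monomial_mem_MM_pow m N e hdeg.le _ (hf e hdeg)
  have : f = (f - ((truncTotal N f : MvPolynomial (Fin n) A) : MvPowerSeries (Fin n) A)) +
      ((truncTotal N f : MvPolynomial (Fin n) A) : MvPowerSeries (Fin n) A) := by ring
  rw [this]
  exact Ideal.add_mem _ h1 h2

theorem MM_pow_eq (N : ℕ) : MM m n ^ N = SN m n N := le_antisymm (MM_pow_le m N) (SN_le m N)

instance isHausdorff_MM [IsHausdorff m A] : IsHausdorff (MM m n) (MvPowerSeries (Fin n) A) where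
  haus' f hf := by
    ext e
    rw [map_zero]
    apply IsHausdorff.haus' (I := m)
    intro k
    rw [SModEq.zero, smul_eq_mul, Ideal.mul_top]
    by_cases hk : k = 0
    · subst hk
      simp
    have := hf (k + e.degree)
    rw [SModEq.zero, smul_eq_mul, Ideal.mul_top, MM_pow_eq] at this
    have h2 := this e (by omega)
    have h3 : k + e.degree - e.degree = k := by omega
    rwa [h3] at h2

instance isPrecomplete_MM [IsPrecomplete m A] :
    IsPrecomplete (MM m n) (MvPowerSeries (Fin n) A) where
  prec' f hf := by
    have hcoeff : ∀ e : Fin n →₀ ℕ, ∃ L : A, ∀ k : ℕ,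
        coeff e (f (k + e.degree)) ≡ L [SMOD (m ^ k • ⊤ : Submodule A A)] := by
      intro e
      apply IsPrecomplete.prec' (I := m) (fun k => coeff e (f (k + e.degree)))
      intro k l hkl
      have := hf (m := k + e.degree) (n := l + e.degree) (by omega)
      rw [SModEq.sub_mem, smul_eq_mul, Ideal.mul_top, MM_pow_eq] at this
      rw [SModEq.sub_mem, smul_eq_mul, Ideal.mul_top, ← map_sub]
      by_cases hk : k = 0
      · subst hk
        simp
      · have h2 := this e (by omega)
        have h3 : k + e.degree - e.degree = k := by omega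
        rwa [h3] at h2
    choose L hL using hcoeff
    let g : MvPowerSeries (Fin n) A := fun e => L e
    have hg : ∀ e, coeff e g = L e := fun e => rfl
    refine ⟨g, fun N => ?_⟩
    rw [SModEq.sub_mem, smul_eq_mul, Ideal.mul_top, MM_pow_eq]
    intro e he
    have := hL e (N - e.degree)
    rw [SModEq.sub_mem, smul_eq_mul, Ideal.mul_top] at this
    have h3 : N - e.degree + e.degree = N := by omega
    rw [h3] at this
    rw [map_sub, hg]
    exact this

instance isAdicComplete_MM [IsAdicComplete m A] :
    IsAdicComplete (MM m n) (MvPowerSeries (Fin n) A) where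

end Groth.Agent.Helper5.QMorse
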