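import Mathlib
import Groth.Agent.Lib.Helper5.QMorse4

/-! Translations of power series rings over an adically complete ring. -/

set_option autoImplicit false
set_option linter.style.haveILetI false
set_option linter.unusedSectionVars false
universe u
open MvPowerSeries Finsupp

namespace Groth.Agent.Helper5.QMorse

open Groth.Agent.Helper5.Morse Groth.Agent.Helper5.InvFun

variable {A : Type u} [CommRing A] {n : ℕ} (m : Ideal A) [IsAdicComplete m A]

theorem X_add_C_mem_MM (c : Fin n → A) (hc : ∀ i, c i ∈ m) (i : Fin n) :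
    (X i + C (c i) : MvPowerSeries (Fin n) A) ∈ MM m n := by
  unfold MM
  exact Ideal.add_mem _ (Ideal.mem_sup_right (Ideal.subset_span ⟨i, rfl⟩))
    (Ideal.mem_sup_left (Ideal.mem_map_of_mem _ (hc i)))

/-- translation by `c` -/
noncomputable def trans (c : Fin n → A) (hc : ∀ i, c i ∈ m) :
    MvPowerSeries (Fin n) A →ₐ[A] MvPowerSeries (Fin n) A :=
  EvalPS.evalHom (k := A) (MM m n) (fun i => X i + C (c i)) (X_add_C_mem_MM m c hc)

theorem trans_X (c : Fin n → A) (hc : ∀ i, c i ∈ m) (i : Fin n) :
    trans m c hc (X i) = X i + C (c i) := EvalPS.evalHom_X _ _ _ i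

theorem trans_C (c : Fin n → A) (hc : ∀ i, c i ∈ m) (a : A) :
    trans m c hc (C a) = C a := by
  rw [c_eq_algebraMap, AlgHom.commutes]

theorem trans_comp (c d : Fin n → A) (hc : ∀ i, c i ∈ m) (hd : ∀ i, d i ∈ m) :
    (trans m d hd).comp (trans m c hc) =
      trans m (c + d) (fun i => Ideal.add_mem _ (hc i) (hd i)) := by
  apply algHom_ext_of_X (MM m n)
  · intro i
    rw [AlgHom.comp_apply, trans_X, map_add, trans_X, trans_C]
    exact Ideal.add_mem _ (X_add_C_mem_MM m d hd i)
      (Ideal.mem_sup_left (Ideal.mem_map_of_mem _ (hc i)))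
  · intro i
    rw [AlgHom.comp_apply, trans_X, map_add, trans_X, trans_C, trans_X, Pi.add_apply, map_add]
    ring

theorem trans_zero : trans m (0 : Fin n → A) (fun _ => Ideal.zero_mem _) = AlgHom.id A _ := by
  apply algHom_ext_of_X (MM m n)
  · intro i
    rw [trans_X]
    exact X_add_C_mem_MM m 0 (fun _ => Ideal.zero_mem _) i
  · intro i
    rw [trans_X]
    simp

/-- translation as an automorphism -/
noncomputable def transEquiv (c : Fin n → A) (hc : ∀ i, c i ∈ m) :
    MvPowerSeries (Fin n) A ≃ₐ[A] MvPowerSeries (Fin n) A :=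
  AlgEquiv.ofAlgHom (trans m c hc) (trans m (-c) (fun i => neg_mem (hc i)))
    (by
      rw [trans_comp]
      have : (-c + c) = 0 := by simp
      simp only [this]
      exact trans_zero m)
    (by
      rw [trans_comp]
      have : (c + -c) = 0 := by simp
      simp only [this]
      exact trans_zero m)

theorem transEquiv_apply (c : Fin n → A) (hc : ∀ i, c i ∈ m) (f : MvPowerSeries (Fin n) A) :
    transEquiv m c hc f = trans m c hc f := rfl

/-- evaluation at a point of `m` -/
noncomputable def ev (c : Fin n → A) (hc : ∀ i, c i ∈ m) : MvPowerSeries (Fin n) A →ₐ[A] A :=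
  EvalPS.evalHom (k := A) m c hc

theorem ev_X (c : Fin n → A) (hc : ∀ i, c i ∈ m) (i : Fin n) : ev m c hc (X i) = c i :=
  EvalPS.evalHom_X _ _ _ i

/-- the constant coefficient as an algebra map -/
noncomputable def ccAlgHom (n : ℕ) : MvPowerSeries (Fin n) A →ₐ[A] A where
  toRingHom := constantCoeff
  commutes' r := by
    change constantCoeff (algebraMap A (MvPowerSeries (Fin n) A) r) = _
    rw [← c_eq_algebraMap]
    simp

theorem ccAlgHom_apply (f : MvPowerSeries (Fin n) A) : ccAlgHom n f = constantCoeff f := rfl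

theorem constantCoeff_trans (c : Fin n → A) (hc : ∀ i, c i ∈ m) (f : MvPowerSeries (Fin n) A) :
    constantCoeff (trans m c hc f) = ev m c hc f := by
  have : (ccAlgHom n).comp (trans m c hc) = ev m c hc := by
    apply algHom_ext_of_X m
    · intro i
      rw [AlgHom.comp_apply, trans_X, ccAlgHom_apply]
      simp [hc i]
    · intro i
      rw [AlgHom.comp_apply, trans_X, ccAlgHom_apply, ev_X]
      simp
  exact congrArg (fun θ => θ f) this

theorem map_trans (c : Fin n → A) (hc : ∀ i, c i ∈ m) (f : MvPowerSeries (Fin n) A) :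
    MvPowerSeries.map (Ideal.Quotient.mk m) (trans m c hc f) =
      MvPowerSeries.map (Ideal.Quotient.mk m) f := by
  have : (mapAlgHom (σ := Fin n) (Ideal.Quotient.mkₐ A m)).comp (trans m c hc) =
      mapAlgHom (σ := Fin n) (Ideal.Quotient.mkₐ A m) := by
    apply algHom_ext_of_X (XI (A ⧸ m) n)
    · intro i
      rw [AlgHom.comp_apply, trans_X, mapAlgHom_apply, map_add, map_X, map_C]
      have : (Ideal.Quotient.mkₐ A m) (c i) = 0 := Ideal.Quotient.eq_zero_iff_mem.mpr (hc i)
      change X i + C ((Ideal.Quotient.mkₐ A m) (c i)) ∈ _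
      rw [this, map_zero, add_zero]
      exact Ideal.subset_span ⟨i, rfl⟩
    · intro i
      rw [AlgHom.comp_apply, trans_X, mapAlgHom_apply, mapAlgHom_apply, map_add, map_X, map_C]
      have : (Ideal.Quotient.mkₐ A m) (c i) = 0 := Ideal.Quotient.eq_zero_iff_mem.mpr (hc i)
      change X i + C ((Ideal.Quotient.mkₐ A m) (c i)) = _
      rw [this, map_zero, add_zero]
  exact congrArg (fun θ => θ f) this

theorem coeff_trans_sub_mem (c : Fin n → A) (hc : ∀ i, c i ∈ m) (f : MvPowerSeries (Fin n) A)
    (e : Fin n →₀ ℕ) : coeff e (trans m c hc f) - coeff e f ∈ m := by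
  have := congrArg (coeff e) (map_trans m c hc f)
  rw [coeff_map, coeff_map] at this
  rw [← Ideal.Quotient.eq_zero_iff_mem, map_sub, this, sub_self]

end Groth.Agent.Helper5.QMorse
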