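import Mathlib
import Groth.Agent.Lib.Helper5.QMorse5

/-! Linear coefficients of a translate and existence of critical points. -/

set_option autoImplicit false
set_option linter.style.haveILetI false
set_option linter.unusedSectionVars false
universe u
open MvPowerSeries Finsupp

namespace Groth.Agent.Helper5.QMorse

open Groth.Agent.Helper5.Morse Groth.Agent.Helper5.InvFun

variable {A : Type u} [CommRing A] {n : ℕ} (m : Ideal A) [IsAdicComplete m A]

theorem coeff_single_mul_X_add_C (G : MvPowerSeries (Fin n) A) (i j : Fin n) (r : A) :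
    coeff (single i 1) (G * (X j + C r)) =
      (if j = i then constantCoeff G else 0) + coeff (single i 1) G * r := by
  classical
  rw [mul_add, map_add, coeff_mul_C, X_def, coeff_mul_monomial, mul_one]
  congr 1
  by_cases hji : j = i
  · subst hji
    rw [if_pos le_rfl, if_pos rfl, tsub_self]
    rfl
  · rw [if_neg hji, if_neg]
    intro hle
    have := hle j
    simp only [single_eq_same] at this
    rw [single_eq_of_ne hji] at this
    omega

/-- the linear coefficients of a translate, on polynomials -/
theorem coeff_single_trans_coe (c : Fin n → A) (hc : ∀ i, c i ∈ m) (i : Fin n)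
    (p : MvPolynomial (Fin n) A) :
    coeff (single i 1) (trans m c hc (p : MvPowerSeries (Fin n) A)) =
      ev m c hc (pderiv A i (p : MvPowerSeries (Fin n) A)) := by
  classical
  induction p using MvPolynomial.induction_on with
  | C a =>
    rw [MvPolynomial.coe_C, trans_C, pderiv_C, map_zero, coeff_C, if_neg]
    intro h
    have := congrArg (fun e => e i) h
    simp at this
  | add p q hp hq =>
    rw [MvPolynomial.coe_add, map_add, map_add, map_add, map_add, hp, hq]
  | mul_X p j hp =>
    rw [MvPolynomial.coe_mul, MvPolynomial.coe_X, map_mul, trans_X, coeff_single_mul_X_add_C,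
      Derivation.leibniz, map_add, smul_eq_mul, smul_eq_mul, map_mul, map_mul, ev_X, hp,
      constantCoeff_trans, pderiv_X, Pi.single_apply]
    by_cases hji : j = i
    · subst hji
      rw [if_pos rfl, if_pos rfl, map_one]
      ring
    · rw [if_neg hji, if_neg hji, map_zero]
      ring

theorem pderiv_mem_pow (i : Fin n) (N : ℕ) (F : MvPowerSeries (Fin n) A)
    (hF : F ∈ XI A n ^ (N + 1)) : pderiv A i F ∈ XI A n ^ N := by
  rw [span_X_pow_eq, mem_ordIdeal_iff] at hF ⊢
  intro e he
  rw [coeff_pderiv, hF, zero_mul]
  rw [map_add, degree_single]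
  omega

theorem coeff_single_trans (c : Fin n → A) (hc : ∀ i, c i ∈ m) (i : Fin n)
    (F : MvPowerSeries (Fin n) A) :
    coeff (single i 1) (trans m c hc F) = ev m c hc (pderiv A i F) := by
  rw [← sub_eq_zero]
  apply IsHausdorff.haus' (I := m)
  intro N
  rw [SModEq.zero, smul_eq_mul, Ideal.mul_top]
  set p := truncTotal (N + 1) F with hp
  set G := F - (p : MvPowerSeries (Fin n) A) with hG
  have hGmem : G ∈ XI A n ^ (N + 1) := sub_truncTotal_mem (N + 1) F
  have hF : F = G + (p : MvPowerSeries (Fin n) A) := by rw [hG]; ring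
  have h1 : coeff (single i 1) (trans m c hc G) ∈ m ^ N := by
    have := map_mem_pow (MM m n) (trans m c hc)
      (fun j => by rw [trans_X]; exact X_add_C_mem_MM m c hc j) (N + 1) hGmem
    rw [MM_pow_eq] at this
    by_cases hN : N = 0
    · subst hN
      simp
    · have h2 := this (single i 1) (by rw [degree_single]; omega)
      rw [degree_single] at h2
      have h3 : N + 1 - 1 = N := by omega
      rwa [h3] at h2
  have h2 : ev m c hc (pderiv A i G) ∈ m ^ N :=
    map_mem_pow m (ev m c hc) (fun j => by rw [ev_X]; exact hc j) N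
      (pderiv_mem_pow i N G hGmem)
  have : coeff (single i 1) (trans m c hc F) - ev m c hc (pderiv A i F) =
      coeff (single i 1) (trans m c hc G) - ev m c hc (pderiv A i G) := by
    conv_lhs => rw [hF]
    rw [map_add, map_add, map_add, map_add, coeff_single_trans_coe]
    ring
  rw [this]
  exact Ideal.sub_mem _ h1 h2

/-- existence of a critical point -/
theorem exists_crit (F : MvPowerSeries (Fin n) A)
    (hJ : IsUnit (Matrix.det (Matrix.of fun i j : Fin n =>
      coeff (single j 1) (pderiv A i F))))
    (hℓ : ∀ i, constantCoeff (pderiv A i F) ∈ m) :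
    ∃ (c : Fin n → A) (hc : ∀ i, c i ∈ m), ∀ i, ev m c hc (pderiv A i F) = 0 := by
  classical
  set ℓ : Fin n → A := fun i => constantCoeff (pderiv A i F) with hℓdef
  let g : Fin n → MvPowerSeries (Fin n) A := fun i => pderiv A i F - C (ℓ i)
  have hg0 : ∀ i, constantCoeff (g i) = 0 := by
    intro i
    simp [g, ℓ]
  have hJg : IsUnit (Matrix.det (Matrix.of fun i j : Fin n =>
      coeff (single j 1) (g i))) := by
    have : (Matrix.of fun i j : Fin n => coeff (single j 1) (g i)) =
        Matrix.of fun i j : Fin n => coeff (single j 1) (pderiv A i F) := by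
      ext i j
      simp only [Matrix.of_apply, g, map_sub]
      rw [coeff_C, if_neg, sub_zero]
      intro h
      have := congrArg (fun e => e j) h
      simp at this
    rw [this]
    exact hJ
  let Φ := substEquiv g hg0 hJg
  have hΦX : ∀ i, Φ (X i) = g i := substEquiv_X g hg0 hJg
  have hk0 : ∀ i, constantCoeff (Φ.symm (X i)) = 0 :=
    constantCoeff_symm_X Φ (fun i => by rw [hΦX]; exact hg0 i)
  have hnegℓ : ∀ i, (-ℓ) i ∈ m := fun i => neg_mem (hℓ i)
  let c : Fin n → A := fun i => ev m (-ℓ) hnegℓ (Φ.symm (X i))
  have hc : ∀ i, c i ∈ m := by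
    intro i
    have h1 : Φ.symm (X i) ∈ XI A n ^ 1 := by
      rw [pow_one]
      exact mem_XI_of_constantCoeff (hk0 i)
    have := map_mem_pow m (ev m (-ℓ) hnegℓ) (fun j => by rw [ev_X]; exact hnegℓ j) 1 h1
    rwa [pow_one] at this
  refine ⟨c, hc, fun i => ?_⟩
  have hev : ev m c hc = (ev m (-ℓ) hnegℓ).comp Φ.symm.toAlgHom := by
    apply algHom_ext_of_X m
    · intro j
      rw [ev_X]
      exact hc j
    · intro j
      rw [ev_X]
      rfl
  have h1 : pderiv A i F = Φ (X i) + C (ℓ i) := by
    rw [hΦX]
    simp [g]
  have h2 : Φ.symm (pderiv A i F) = X i + C (ℓ i) := by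
    rw [h1, map_add, AlgEquiv.symm_apply_apply, c_eq_algebraMap, AlgEquiv.commutes]
  rw [hev, AlgHom.comp_apply]
  change ev m (-ℓ) hnegℓ (Φ.symm (pderiv A i F)) = 0
  rw [h2, map_add, ev_X, c_eq_algebraMap, AlgHom.commutes]
  simp

end Groth.Agent.Helper5.QMorse
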