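import Mathlib
import Groth.Agent.Lib.Helper5.QMorse6

/-! Normal form of a power series with non-degenerate quadratic part over a complete local ring. -/

set_option autoImplicit false
set_option linter.style.haveILetI false
set_option linter.unusedSectionVars false
universe u
open MvPowerSeries Finsupp

namespace Groth.Agent.Helper5.QMorse

open Groth.Agent.Helper5.Morse Groth.Agent.Helper5.InvFun

variable {A : Type u} [CommRing A] {n : ℕ}

theorem pair_eq (a b i j : Fin n) (hab : a ≤ b) (hij : i ≤ j)
    (h : (single a 1 + single b 1 : Fin n →₀ ℕ) = single i 1 + single j 1) : a = i ∧ b = j := by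
  classical
  have ha := congrArg (fun e => e a) h
  simp only [Finsupp.add_apply, single_eq_same] at ha
  have hai : a = i ∨ a = j := by
    by_contra hcon
    push Not at hcon
    rw [single_eq_of_ne hcon.1, single_eq_of_ne hcon.2] at ha
    omega
  rcases hai with rfl | rfl
  · refine ⟨rfl, ?_⟩
    have := add_left_cancel h
    exact (single_left_inj (one_ne_zero)).mp this
  · have h' : (single a 1 + single b 1 : Fin n →₀ ℕ) = single a 1 + single i 1 := by
      rw [h, add_comm]
    have := add_left_cancel h'
    have hbi : b = i := (single_left_inj (one_ne_zero)).mp this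
    subst hbi
    have : a = b := le_antisymm hab hij
    exact ⟨this, this.symm⟩

theorem coeff_quadPoly (q : Fin n → Fin n → A) (i j : Fin n) (hij : i ≤ j) :
    MvPolynomial.coeff (single i 1 + single j 1) (VanCyc.quadPoly q) = q i j := by
  classical
  unfold VanCyc.quadPoly
  have hterm : ∀ a b : Fin n, MvPolynomial.coeff (single i 1 + single j 1)
      (if a ≤ b then MvPolynomial.C (q a b) * MvPolynomial.X a * MvPolynomial.X b else 0 :
        MvPolynomial (Fin n) A) =
      if a = i ∧ b = j then q i j else 0 := by
    intro a b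
    by_cases hab : a ≤ b
    · rw [if_pos hab]
      have hmon : (MvPolynomial.C (q a b) * MvPolynomial.X a * MvPolynomial.X b :
          MvPolynomial (Fin n) A) = MvPolynomial.monomial (single a 1 + single b 1) (q a b) := by
        rw [MvPolynomial.X, MvPolynomial.X, MvPolynomial.C_mul_monomial,
          MvPolynomial.monomial_mul, mul_one, mul_one]
      rw [hmon, MvPolynomial.coeff_monomial]
      by_cases h : (single a 1 + single b 1 : Fin n →₀ ℕ) = single i 1 + single j 1
      · obtain ⟨rfl, rfl⟩ := pair_eq a b i j hab hij h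
        rw [if_pos h, if_pos ⟨rfl, rfl⟩]
      · rw [if_neg h, if_neg]
        rintro ⟨rfl, rfl⟩
        exact h rfl
    · rw [if_neg hab, MvPolynomial.coeff_zero, if_neg]
      rintro ⟨rfl, rfl⟩
      exact hab hij
  rw [MvPolynomial.coeff_sum]
  simp only [MvPolynomial.coeff_sum, hterm]
  rw [Finset.sum_eq_single i]
  · rw [Finset.sum_eq_single j]
    · rw [if_pos ⟨rfl, rfl⟩]
    · intro b _ hb
      rw [if_neg]
      rintro ⟨_, rfl⟩
      exact hb rfl
    · intro h; exact absurd (Finset.mem_univ j) h
  · intro a _ ha
    apply Finset.sum_eq_zero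
    intro b _
    rw [if_neg]
    rintro ⟨rfl, _⟩
    exact ha rfl
  · intro h; exact absurd (Finset.mem_univ i) h

/-- the coefficients of degree `≤ 2` of `Q + Σ ℓ_i x_i + a` -/
theorem coeff_T_zero (q : Fin n → Fin n → A) (ℓ : Fin n → A) (a : A) :
    MvPolynomial.coeff 0 (VanCyc.quadPoly q + ∑ i, MvPolynomial.C (ℓ i) * MvPolynomial.X i +
      MvPolynomial.C a : MvPolynomial (Fin n) A) = a := by
  classical
  rw [MvPolynomial.coeff_add, MvPolynomial.coeff_add,
    (quadPoly_isHomogeneous q).coeff_eq_zero (by simp), MvPolynomial.coeff_sum,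
    MvPolynomial.coeff_C, if_pos rfl]
  rw [Finset.sum_eq_zero, zero_add, zero_add]
  intro i _
  exact (MvPolynomial.isHomogeneous_C_mul_X (ℓ i) i).coeff_eq_zero (by simp)

theorem coeff_T_single (q : Fin n → Fin n → A) (ℓ : Fin n → A) (a : A) (i : Fin n) :
    MvPolynomial.coeff (single i 1)
      (VanCyc.quadPoly q + ∑ i, MvPolynomial.C (ℓ i) * MvPolynomial.X i +
      MvPolynomial.C a : MvPolynomial (Fin n) A) = ℓ i := by
  classical
  rw [MvPolynomial.coeff_add, MvPolynomial.coeff_add,
    (quadPoly_isHomogeneous q).coeff_eq_zero (by simp [degree_single]), MvPolynomial.coeff_sum,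
    MvPolynomial.coeff_C, if_neg, zero_add, add_zero]
  · rw [Finset.sum_eq_single i]
    · rw [MvPolynomial.coeff_C_mul, MvPolynomial.coeff_X, if_pos rfl, mul_one]
    · intro j _ hj
      rw [MvPolynomial.coeff_C_mul, MvPolynomial.coeff_X, if_neg, mul_zero]
      intro h
      exact hj ((single_left_inj one_ne_zero).mp h)
    · intro h; exact absurd (Finset.mem_univ i) h
  · intro h
    have := congrArg (fun e => e i) h
    simp at this

theorem coeff_T_pair (q : Fin n → Fin n → A) (ℓ : Fin n → A) (a : A) (i j : Fin n)
    (hij : i ≤ j) :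
    MvPolynomial.coeff (single i 1 + single j 1)
      (VanCyc.quadPoly q + ∑ i, MvPolynomial.C (ℓ i) * MvPolynomial.X i +
      MvPolynomial.C a : MvPolynomial (Fin n) A) = q i j := by
  classical
  have hdeg : (single i 1 + single j 1 : Fin n →₀ ℕ).degree = 2 := by
    rw [map_add, degree_single, degree_single]
  rw [MvPolynomial.coeff_add, MvPolynomial.coeff_add, coeff_quadPoly q i j hij,
    MvPolynomial.coeff_sum, MvPolynomial.coeff_C, if_neg, add_zero]
  · rw [Finset.sum_eq_zero, add_zero]
    intro k _
    exact (MvPolynomial.isHomogeneous_C_mul_X (ℓ k) k).coeff_eq_zero (by rw [hdeg]; norm_num)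
  · intro h
    have := congrArg Finsupp.degree h
    rw [hdeg] at this
    simp at this

end Groth.Agent.Helper5.QMorse
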