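import Mathlib
import Groth.Agent.Lib.Helper5.QMorse7

/-! Normal form of a power series with non-degenerate quadratic part over a complete local ring. -/

set_option autoImplicit false
set_option linter.style.haveILetI false
set_option linter.unusedSectionVars false
universe u
open MvPowerSeries Finsupp

namespace Groth.Agent.Helper5.QMorse

open Groth.Agent.Helper5.Morse Groth.Agent.Helper5.InvFun

variable {A : Type u} [CommRing A] {n : ℕ}

theorem single_two (i : Fin n) : (single i 2 : Fin n →₀ ℕ) = single i 1 + single i 1 := by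
  rw [← single_add]

theorem polarMatrix_sub_mem (m : Ideal A) (q q' : Fin n → Fin n → A)
    (h : ∀ i j, i ≤ j → q' i j - q i j ∈ m) (i j : Fin n) :
    VanCyc.polarMatrix q' i j - VanCyc.polarMatrix q i j ∈ m := by
  rw [polarMatrix_apply, polarMatrix_apply]
  by_cases hij : i = j
  · subst hij
    rw [if_pos rfl, if_pos rfl, ← mul_sub]
    exact Ideal.mul_mem_left _ _ (h i i le_rfl)
  · rw [if_neg hij, if_neg hij]
    by_cases hlt : i < j
    · rw [if_pos hlt, if_pos hlt]
      exact h i j hlt.le
    · rw [if_neg hlt, if_neg hlt]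
      exact h j i (not_lt.mp hlt)

theorem main_complete [IsLocalRing A] [IsAdicComplete (IsLocalRing.maximalIdeal A) A]
    (q : Fin n → Fin n → A) (hq : VanCyc.QuadNondeg q)
    (a : A) (ha : a ∈ IsLocalRing.maximalIdeal A)
    (ℓ : Fin n → A) (hℓ : ∀ i, ℓ i ∈ IsLocalRing.maximalIdeal A)
    (F : MvPowerSeries (Fin n) A)
    (hF : ∀ e : Fin n →₀ ℕ, e.degree ≤ 2 →
      coeff e F = coeff e ((VanCyc.quadPoly q + ∑ i, MvPolynomial.C (ℓ i) * MvPolynomial.X i +
        MvPolynomial.C a : MvPolynomial (Fin n) A) : MvPowerSeries (Fin n) A)) :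
    ∃ (a' : A) (q' : Fin n → Fin n → A), a' ∈ IsLocalRing.maximalIdeal A ∧
      VanCyc.QuadNondeg q' ∧
      Nonempty ((MvPowerSeries (Fin n) A ⧸ Ideal.span {F}) ≃ₐ[A]
        (MvPowerSeries (Fin n) A ⧸ Ideal.span
          {((VanCyc.quadPoly q' + MvPolynomial.C a' : MvPolynomial (Fin n) A) :
            MvPowerSeries (Fin n) A)})) := by
  classical
  set mI := IsLocalRing.maximalIdeal A with hmI
  -- low degree coefficients of `F`
  have hF0 : coeff 0 F = a := by
    rw [hF 0 (by simp), MvPolynomial.coeff_coe, coeff_T_zero]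
  have hF1 : ∀ i, coeff (single i 1) F = ℓ i := by
    intro i
    rw [hF _ (by rw [degree_single]; norm_num), MvPolynomial.coeff_coe, coeff_T_single]
  have hF2 : ∀ i j, i ≤ j → coeff (single i 1 + single j 1) F = q i j := by
    intro i j hij
    rw [hF _ (by rw [map_add, degree_single, degree_single]), MvPolynomial.coeff_coe,
      coeff_T_pair q ℓ a i j hij]
  -- the derivatives
  have h1 : ∀ i, constantCoeff (pderiv A i F) = ℓ i := by
    intro i
    have := coeff_pderiv (R := A) F (0 : Fin n →₀ ℕ) (i := i)
    rw [zero_add, hF1] at this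
    change constantCoeff (pderiv A i F) = _ at this
    rw [this]
    simp
  have h2 : (Matrix.of fun i j : Fin n => coeff (single j 1) (pderiv A i F)) =
      VanCyc.polarMatrix q := by
    ext i j
    rw [Matrix.of_apply, coeff_pderiv, polarMatrix_apply]
    by_cases hij : i = j
    · subst hij
      rw [if_pos rfl, hF2 i i le_rfl, single_eq_same]
      push_cast
      ring
    · rw [if_neg hij, single_eq_of_ne hij]
      by_cases hlt : i < j
      · rw [if_pos hlt, add_comm, hF2 i j hlt.le]
        simp
      · rw [if_neg hlt, hF2 j i (not_lt.mp hlt)]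
        simp
  obtain ⟨c, hc, hcrit⟩ := exists_crit mI F (by rw [h2]; exact hq)
    (fun i => by rw [h1]; exact hℓ i)
  set F' := trans mI c hc F with hF'def
  set a' := constantCoeff F' with ha'def
  set q' := VanCyc.quadPart F' with hq'def
  have hlin : ∀ i, coeff (single i 1) F' = 0 := by
    intro i
    rw [hF'def, coeff_single_trans, hcrit]
  have ha' : a' ∈ mI := by
    have := coeff_trans_sub_mem mI c hc F 0
    rw [hF0] at this
    have h3 : a' = (coeff 0 (trans mI c hc F) - a) + a := by
      rw [ha'def, hF'def]
      change coeff 0 (trans mI c hc F) = _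
      ring
    rw [h3]
    exact Ideal.add_mem _ this ha
  have hq'ij : ∀ i j, i ≤ j → q' i j = coeff (single i 1 + single j 1) F' := by
    intro i j hij
    rw [hq'def]
    unfold VanCyc.quadPart
    by_cases h : i = j
    · subst h
      rw [if_pos rfl, single_two]
    · rw [if_neg h, if_pos (lt_of_le_of_ne hij h)]
  have hq'sub : ∀ i j, i ≤ j → q' i j - q i j ∈ mI := by
    intro i j hij
    rw [hq'ij i j hij, ← hF2 i j hij]
    exact coeff_trans_sub_mem mI c hc F _
  have hdet : VanCyc.QuadNondeg q' := by
    unfold VanCyc.QuadNondeg at hq ⊢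
    have hmap : (VanCyc.polarMatrix q').map (Ideal.Quotient.mk mI) =
        (VanCyc.polarMatrix q).map (Ideal.Quotient.mk mI) := by
      ext i j
      rw [Matrix.map_apply, Matrix.map_apply, ← sub_eq_zero, ← map_sub,
        Ideal.Quotient.eq_zero_iff_mem]
      exact polarMatrix_sub_mem mI q q' hq'sub i j
    have hd : Ideal.Quotient.mk mI (VanCyc.polarMatrix q').det =
        Ideal.Quotient.mk mI (VanCyc.polarMatrix q).det := by
      rw [RingHom.map_det, RingHom.map_det]
      exact congrArg Matrix.det hmap
    have hmem : (VanCyc.polarMatrix q').det - (VanCyc.polarMatrix q).det ∈ mI := by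
      rw [← Ideal.Quotient.eq_zero_iff_mem, map_sub, hd, sub_self]
    by_contra hnu
    have h3 : (VanCyc.polarMatrix q').det ∈ mI := (IsLocalRing.mem_maximalIdeal _).mpr hnu
    have h4 : (VanCyc.polarMatrix q).det ∈ mI := by
      have := Ideal.sub_mem _ h3 hmem
      simpa using this
    exact (IsLocalRing.mem_maximalIdeal _).mp h4 hq
  have hF' : ∀ e : Fin n →₀ ℕ, e.degree ≤ 2 → coeff e F' =
      coeff e ((VanCyc.quadPoly q' + MvPolynomial.C a' : MvPolynomial (Fin n) A) :
        MvPowerSeries (Fin n) A) := by
    intro e he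
    rw [MvPolynomial.coeff_coe, MvPolynomial.coeff_add]
    rcases Nat.lt_or_ge e.degree 2 with hlt | hge
    · rw [(quadPoly_isHomogeneous q').coeff_eq_zero (by omega), zero_add]
      rcases Nat.lt_or_ge e.degree 1 with hlt1 | hge1
      · have he0 : e = 0 := (Finsupp.degree_eq_zero_iff e).mp (by omega)
        subst he0
        rw [MvPolynomial.coeff_C, if_pos rfl]
        rfl
      · obtain ⟨i, e', rfl, he'⟩ := exists_add_single_of_degree_succ e 0 (by omega)
        rw [Finsupp.degree_eq_zero_iff] at he'
        subst he'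
        rw [zero_add, hlin, MvPolynomial.coeff_C, if_neg]
        intro h
        have := congrArg (fun e => e i) h
        simp at this
    · obtain ⟨i, j, rfl⟩ := exists_of_degree_two e (by omega)
      have hC : MvPolynomial.coeff (single i 1 + single j 1)
          (MvPolynomial.C a' : MvPolynomial (Fin n) A) = 0 := by
        rw [MvPolynomial.coeff_C, if_neg]
        intro h
        have := congrArg Finsupp.degree h
        rw [map_add, degree_single, degree_single] at this
        simp at this
      rw [hC, add_zero]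
      rcases le_total i j with hij | hji
      · rw [coeff_quadPoly q' i j hij, hq'ij i j hij]
      · rw [add_comm, coeff_quadPoly q' j i hji, hq'ij j i hji]
  obtain ⟨h, _, _, _, ⟨e2⟩⟩ := exists_subst 2 le_rfl q' hdet a' F' hF'
  refine ⟨a', q', ha', hdet, ⟨AlgEquiv.trans
    (Ideal.quotientEquivAlg _ _ (transEquiv mI c hc) ?_) e2⟩⟩
  rw [Ideal.map_span, Set.image_singleton]
  rfl

end Groth.Agent.Helper5.QMorse
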