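import Groth.Agent.Lib.Helper5.QST1
import Groth.Agent.Lib.Helper5.LTen8

/-!
# Tor amplitude on a quasi-separated scheme can be tested on quasi-coherent modules
-/

set_option autoImplicit false
set_option linter.unusedSectionVars false
set_option linter.unusedVariables false
set_option linter.style.haveILetI false

universe u

open CategoryTheory CategoryTheory.Limits AlgebraicGeometry MonoidalCategory

attribute [local instance] HasDerivedCategory.standard

namespace Groth.Agent.Helper5.QST

open Groth.Agent.Helper5.StalkCx Groth.Agent.Helper5.KRes Groth.Agent.Helper5.LDer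

variable {X : Scheme.{u}}

/-- tor vanishing of a complex against quasi-coherent modules -/
def QCTorVanishing (K : CochainComplex X.Modules ℤ) (j : ℤ) : Prop :=
  ∀ (F : X.Modules), Coh.IsQCoh F → ∀ [DCoh.HasLTensorMod F],
    IsZero (DCoh.HD ((DCoh.LTensorMod F).obj (DerivedCategory.Q.obj K)) j)

lemma QCTorVanishing.of_iso {K L : CochainComplex X.Modules ℤ} {j : ℤ}
    (e : DerivedCategory.Q.obj K ≅ DerivedCategory.Q.obj L) (h : QCTorVanishing K j) :
    QCTorVanishing L j := by
  intro F hF _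
  exact IsZero.of_iso (h F hF) ((DerivedCategory.homologyFunctor X.Modules j).mapIso
    ((DCoh.LTensorMod F).mapIso e.symm))

/-- the stalk at `x` of `K ⊗ F` (termwise) when `F_x ≅ N` -/
noncomputable def stalkTensorIso (x : X) (F : X.Modules) (N : ModuleCat.{u} (X.presheaf.stalk x))
    (e : (DerSch.stalkFunctor X x).obj F ≅ N) (K : CochainComplex X.Modules ℤ) :
    stalkCx x (((DCoh.tensorRightMod F).mapHomologicalComplex (ComplexShape.up ℤ)).obj K) ≅
      ((tensorRight N).mapHomologicalComplex (ComplexShape.up ℤ)).obj (stalkCx x K) :=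
  (NatIso.mapHomologicalComplex (stalkTensorRightIso x F) (ComplexShape.up ℤ)).app K ≪≫
    (NatIso.mapHomologicalComplex ((tensoringRight _).mapIso e) (ComplexShape.up ℤ)).app
      (stalkCx x K)

/-- Tor vanishing against a module `F` with `F_x ≅ N` gives exactness of the stalk complex tensored
with `N` -/
theorem isZero_homology_tensor_stalk (x : X) (F : X.Modules)
    (N : ModuleCat.{u} (X.presheaf.stalk x)) (e : (DerSch.stalkFunctor X x).obj F ≅ N)
    (K : CochainComplex X.Modules ℤ) (hK : DCoh.IsKFlat K) [DCoh.HasLTensorMod F] (j : ℤ)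
    (h : IsZero (DCoh.HD ((DCoh.LTensorMod F).obj (DerivedCategory.Q.obj K)) j)) :
    IsZero ((((tensorRight N).mapHomologicalComplex (ComplexShape.up ℤ)).obj
      (stalkCx x K)).homology j) := by
  have h1 : IsZero ((((DCoh.tensorRightMod F).mapHomologicalComplex
      (ComplexShape.up ℤ)).obj K).homology j) :=
    IsZero.of_iso (IsZero.of_iso h ((DerivedCategory.homologyFunctor X.Modules j).mapIso
      (LTensorModObjIso F K hK)).symm) (HDQIso _ j).symm
  have h2 := isZero_homology_stalk _ j h1 x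
  exact IsZero.of_iso h2 ((HomologicalComplex.homologyFunctor _ _ j).mapIso
      (stalkTensorIso x F N e K)).symm

variable [QuasiSeparatedSpace X]

/-- on a quasi-separated scheme, Tor vanishing against quasi-coherent modules gives exactness of
the stalk complexes tensored with any module -/
theorem isZero_homology_tensor_stalk_of_qc (K : CochainComplex X.Modules ℤ) (hK : DCoh.IsKFlat K)
    (j : ℤ) (h : QCTorVanishing K j) (x : X) (N : ModuleCat.{u} (X.presheaf.stalk x)) :
    IsZero ((((tensorRight N).mapHomologicalComplex (ComplexShape.up ℤ)).obj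
      (stalkCx x K)).homology j) := by
  haveI := hasLTensorMod (G x N)
  exact isZero_homology_tensor_stalk x (G x N) N (stalkIso x N) K hK j
    (h (G x N) (isQuasicoherent_G x N))

theorem ker_le_range_of_qc (K : CochainComplex X.Modules ℤ) (hK : DCoh.IsKFlat K)
    (j : ℤ) (h : QCTorVanishing K j) (x : X) (N : ModuleCat.{u} (X.presheaf.stalk x))
    (i k : ℤ) (hij : i + 1 = j) (hjk : j + 1 = k) :
    LinearMap.ker (((stalkCx x K).d j k).hom.rTensor N) ≤
      LinearMap.range (((stalkCx x K).d i j).hom.rTensor N) := by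
  have h3 := isZero_homology_tensor_stalk_of_qc K hK j h x N
  have h4 := (HomologicalComplex.exactAt_iff_isZero_homology _ _).mpr h3
  have h5 := Groth.Agent.Helper11.TA.range_eq_ker_of_exactAt _ i j k hij hjk h4
  exact h5.ge

theorem exactAt_stalk_of_qc (K : CochainComplex X.Modules ℤ) (hK : DCoh.IsKFlat K)
    (j : ℤ) (h : QCTorVanishing K j) (x : X) : (stalkCx x K).ExactAt j := by
  have h3 := isZero_homology_tensor_stalk_of_qc K hK j h x
    (𝟙_ (ModuleCat.{u} (X.presheaf.stalk x)))
  have h4 := (HomologicalComplex.exactAt_iff_isZero_homology _ _).mpr h3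
  exact h4.of_iso ((NatIso.mapHomologicalComplex (rightUnitorNatIso _) (ComplexShape.up ℤ)).app _ ≪≫
    (Functor.mapHomologicalComplexIdIso _ _).app _)

theorem isFlat_cokernel_d_of_qc (E : CochainComplex X.Modules ℤ) (hK : DCoh.IsKFlat E) (a : ℤ)
    (hfl : FlatMod.IsFlat (E.X a)) (hE : QCTorVanishing E (a - 1)) :
    FlatMod.IsFlat (cokernel (E.d (a - 1) a)) := by
  apply isFlat_cokernel_of_stalks
  intro x
  haveI : Module.Flat (X.presheaf.stalk x) ((stalkCx x E).X a) := hfl x
  refine Groth.Agent.Helper11.TA.flat_coker_of_exact ((stalkCx x E).d (a - 1 - 1) (a - 1)).hom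
    ((stalkCx x E).d (a - 1) a).hom ?_ ?_
  · ext z
    exact congr($((stalkCx x E).d_comp_d (a - 1 - 1) (a - 1) a) z)
  · intro N _ _
    exact ker_le_range_of_qc E hK (a - 1) hE x (ModuleCat.of (X.presheaf.stalk x) N)
      (a - 1 - 1) a (by omega) (by omega)

theorem isFlat_cycles_of_qc (K : CochainComplex X.Modules ℤ) (hK : DCoh.IsKFlat K)
    (hfl : ∀ i : ℤ, FlatMod.IsFlat (K.X i)) (b : ℤ)
    (hE : ∀ j : ℤ, b < j → QCTorVanishing K j) :
    FlatMod.IsFlat (K.cycles b) := by
  apply isFlat_cycles_of_stalks K b (b + 1) rfl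
  intro x
  refine KF.flat_ker_of_tor_vanishing (stalkCx x K) b (fun i => hfl i x) ?_ ?_ (b + 1) rfl
  · intro i hi
    exact exactAt_stalk_of_qc K hK i (hE i hi) x
  · intro N _ _ i j k hij hjk hj
    exact ker_le_range_of_qc K hK j (hE j hj) x (ModuleCat.of (X.presheaf.stalk x) N) i k hij hjk

theorem exactAt_of_qc (K : CochainComplex X.Modules ℤ) (hK : DCoh.IsKFlat K) (j : ℤ)
    (hE : QCTorVanishing K j) : K.ExactAt j := by
  rw [HomologicalComplex.exactAt_iff_isZero_homology]
  apply isZero_homology_of_stalks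
  intro x
  rw [← HomologicalComplex.exactAt_iff_isZero_homology]
  exact exactAt_stalk_of_qc K hK j hE x

theorem isFlat_truncLE_X_of_qc (K : CochainComplex X.Modules ℤ) (hK : DCoh.IsKFlat K)
    (hfl : ∀ i : ℤ, FlatMod.IsFlat (K.X i)) (b : ℤ) (hE : ∀ j : ℤ, b < j → QCTorVanishing K j)
    (i : ℤ) : FlatMod.IsFlat ((K.truncLE b).X i) := by
  rcases lt_trichotomy i b with hi | hi | hi
  · exact isFlat_of_iso (K.truncLEXIso b i hi).symm (hfl i)
  · subst hi
    exact isFlat_of_iso (K.truncLEXIsoCycles i).symm (isFlat_cycles_of_qc K hK hfl i hE)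
  · exact isFlat_of_isZero _ ((K.truncLE b).isZero_of_isStrictlyLE b i hi)

theorem isFlat_truncGE_X_of_qc (K : CochainComplex X.Modules ℤ) (hK : DCoh.IsKFlat K)
    (hfl : ∀ i : ℤ, FlatMod.IsFlat (K.X i)) (a : ℤ) (hE : QCTorVanishing K (a - 1))
    (i : ℤ) : FlatMod.IsFlat ((K.truncGE a).X i) := by
  rcases lt_trichotomy i a with hi | hi | hi
  · exact isFlat_of_isZero _ ((K.truncGE a).isZero_of_isStrictlyGE a i hi)
  · subst hi
    have h1 := isFlat_cokernel_d_of_qc K hK i (hfl i) hE
    exact isFlat_of_iso ((K.truncGEXIsoOpcycles i ≪≫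
      K.opcyclesIsoSc' (i - 1) i (i + 1) (by simp) (by simp) ≪≫
      (K.sc' (i - 1) i (i + 1)).opcyclesIsoCokernel)).symm h1
  · exact isFlat_of_iso (K.truncGEXIso a i hi).symm (hfl i)

/-- on a quasi-separated scheme, Tor vanishing outside `[a, b]` against all quasi-coherent modules
gives a flat representative concentrated in `[a, b]` -/
theorem hasFlatAmplitudeIn_of_qc (E : DCoh.D X) (a b : ℤ) (hab : a ≤ b)
    (h : ∀ (F : X.Modules), Coh.IsQCoh F → ∀ [DCoh.HasLTensorMod F] (i : ℤ), (i < a ∨ b < i) →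
      IsZero (DCoh.HD ((DCoh.LTensorMod F).obj E) i)) : DCoh.HasFlatAmplitudeIn a b E := by
  obtain ⟨K, q, hK, hfl, hq, -⟩ :=
    KRes.exists_kFlat_resolution (DerivedCategory.Q.objPreimage E)
  have e0 : DerivedCategory.Q.obj K ≅ E :=
    asIso (DerivedCategory.Q.map q) ≪≫ DerivedCategory.Q.objObjPreimageIso E
  have hT : ∀ j : ℤ, (j < a ∨ b < j) → QCTorVanishing K j := by
    intro j hj F hF _
    exact IsZero.of_iso (h F hF j hj) ((DerivedCategory.homologyFunctor X.Modules j).mapIso
      ((DCoh.LTensorMod F).mapIso e0))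
  have hex : ∀ j : ℤ, (j < a ∨ b < j) → K.ExactAt j :=
    fun j hj => exactAt_of_qc K hK j (hT j hj)
  haveI : K.IsLE b := by
    rw [CochainComplex.isLE_iff]
    exact fun i hi => hex i (Or.inr hi)
  haveI : K.IsGE a := by
    rw [CochainComplex.isGE_iff]
    exact fun i hi => hex i (Or.inl hi)
  -- first truncation
  have hfl2 : ∀ i : ℤ, FlatMod.IsFlat ((K.truncLE b).X i) :=
    isFlat_truncLE_X_of_qc K hK hfl b (fun j hj => hT j (Or.inr hj))
  have hK2 : DCoh.IsKFlat (K.truncLE b) :=
    isKFlat_of_flat_bddAbove _ b (fun i hi => (K.truncLE b).isZero_of_isStrictlyLE b i hi) hfl2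
  have e1 : DerivedCategory.Q.obj (K.truncLE b) ≅ DerivedCategory.Q.obj K :=
    asIso (DerivedCategory.Q.map (K.ιTruncLE b))
  haveI : (K.truncLE b).IsGE a :=
    (HomologicalComplex.isSupported_iff_of_quasiIso (K.ιTruncLE b) _).mpr inferInstance
  have hT2 : QCTorVanishing (K.truncLE b) (a - 1) :=
    QCTorVanishing.of_iso e1.symm (hT (a - 1) (Or.inl (by omega)))
  -- second truncation
  have hfl3 : ∀ i : ℤ, FlatMod.IsFlat (((K.truncLE b).truncGE a).X i) :=
    isFlat_truncGE_X_of_qc _ hK2 hfl2 a hT2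
  have e2 : DerivedCategory.Q.obj (K.truncLE b) ≅ DerivedCategory.Q.obj ((K.truncLE b).truncGE a) :=
    asIso (DerivedCategory.Q.map ((K.truncLE b).πTruncGE a))
  refine ⟨(K.truncLE b).truncGE a, ?_, hfl3, ⟨e2.symm ≪≫ e1 ≪≫ e0⟩⟩
  intro i hi
  rcases hi with hi | hi
  · exact ((K.truncLE b).truncGE a).isZero_of_isStrictlyGE a i hi
  · exact IsZero.of_iso ((K.truncLE b).isZero_of_isStrictlyLE b i hi)
      ((K.truncLE b).truncGEXIso a i (by omega))

end Groth.Agent.Helper5.QST
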