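import Groth.Agent.Lib.Helper5.COHP1
import Groth.Agent.Lib.Helper13.StalkBasis5

/-!
# Global sections of retracts of finite free modules
-/

set_option autoImplicit false
set_option linter.unusedSectionVars false
set_option linter.unusedVariables false
set_option linter.style.haveILetI false

universe u

open CategoryTheory CategoryTheory.Limits AlgebraicGeometry

namespace Groth.Agent.Helper5.RFP

open Groth.Agent.Helper13.LocFree Groth.Agent.Helper5.COHP

variable {X : Scheme.{u}}

/-- global sections as a functor to modules over the ring of global functions -/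
noncomputable def Γtop : X.Modules ⥤ ModuleCat.{u} Γ(X, ⊤) where
  obj M := ModuleCat.of Γ(X, ⊤) Γ(M, ⊤)
  map φ := ModuleCat.ofHom (appₗ φ ⊤)
  map_id M := by
    ext t
    rfl
  map_comp φ ψ := by
    ext t
    rfl

lemma Γtop_map_apply {M N : X.Modules} (φ : M ⟶ N) (t : Γ(M, ⊤)) :
    (Γtop.map φ).hom t = φ.app ⊤ t := rfl

variable (n : ℕ)

/-- the standard generators of the global sections of `O^n` -/
noncomputable def e (i : Fin n) : Γ(FlatMod.freeMod X n, ⊤) :=
  (ι n i).app ⊤ (toO ⊤ 1)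

lemma ι_app_eq_smul (i : Fin n) (c : Γ(X, ⊤)) :
    (ι n i).app ⊤ (toO ⊤ c) = c • e (X := X) n i := by
  unfold e
  rw [← Scheme.Modules.Hom.app_smul]
  congr 1
  exact (mul_one c).symm

lemma secOfCoord_eq (c : Fin n → Γ(X, ⊤)) :
    secOfCoord n ⊤ c = ∑ i, c i • e (X := X) n i := by
  unfold secOfCoord
  exact Finset.sum_congr rfl (fun i _ => ι_app_eq_smul n i (c i))

lemma eq_sum_smul_e (t : Γ(FlatMod.freeMod X n, ⊤)) :
    t = ∑ i, coordOfSec n ⊤ t i • e (X := X) n i := by
  rw [← secOfCoord_eq, secOfCoord_coordOfSec]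

/-- sections of `O^n` as a linear equivalence -/
noncomputable def secLinearEquiv : (Fin n → Γ(X, ⊤)) ≃ₗ[Γ(X, ⊤)] Γ(FlatMod.freeMod X n, ⊤) where
  toFun := secOfCoord n ⊤
  invFun := coordOfSec n ⊤
  left_inv := coordOfSec_secOfCoord n ⊤
  right_inv := secOfCoord_coordOfSec n ⊤
  map_add' c c' := by
    rw [secOfCoord_eq, secOfCoord_eq, secOfCoord_eq, ← Finset.sum_add_distrib]
    exact Finset.sum_congr rfl (fun i _ => add_smul _ _ _)
  map_smul' r c := by
    rw [secOfCoord_eq, secOfCoord_eq, Finset.smul_sum]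
    refine Finset.sum_congr rfl (fun i _ => ?_)
    rw [RingHom.id_apply, Pi.smul_apply, smul_eq_mul, mul_smul]

instance : Module.Finite Γ(X, ⊤) Γ(FlatMod.freeMod X n, ⊤) :=
  Module.Finite.equiv (secLinearEquiv n)

instance : Module.Free Γ(X, ⊤) Γ(FlatMod.freeMod X n, ⊤) :=
  Module.Free.of_equiv (secLinearEquiv n)

variable {n}

lemma presheaf_map_top (M : X.Modules) (t : Γ(M, ⊤)) :
    M.presheaf.map (homOfLE (le_top : (⊤ : X.Opens) ≤ ⊤)).op t = t := by
  have : (homOfLE (le_top : (⊤ : X.Opens) ≤ ⊤)) = 𝟙 _ := rfl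
  rw [this, op_id, CategoryTheory.Functor.map_id]
  rfl

lemma descSec_app_e (M : X.Modules) (s : Fin n → Γ(M, ⊤)) (i : Fin n) :
    (descSec M s).app ⊤ (e n i) = s i := by
  unfold e
  rw [← app_comp_apply, ι_descSec, homOfSec_app_one, presheaf_map_top]

/-- morphisms out of `O^n` are determined by their effect on global sections -/
lemma hom_ext_Γtop {M : X.Modules} (f g : FlatMod.freeMod X n ⟶ M)
    (h : Γtop.map f = Γtop.map g) : f = g := by
  apply Groth.Agent.Helper13.LocFree.hom_ext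
  intro i
  have h1 : (f.app ⊤) (e n i) = (g.app ⊤) (e n i) := by
    rw [← Γtop_map_apply, ← Γtop_map_apply, h]
  rw [← Groth.Agent.Helper13.GenLoc.homOfSec_sec M (ι n i ≫ f),
    ← Groth.Agent.Helper13.GenLoc.homOfSec_sec M (ι n i ≫ g)]
  congr 1

/-- every linear map out of the global sections of `O^n` comes from a morphism -/
lemma exists_map_eq {M : X.Modules} (g : Γtop.obj (FlatMod.freeMod X n) ⟶ Γtop.obj M) :
    ∃ f : FlatMod.freeMod X n ⟶ M, Γtop.map f = g := by
  let gl : Γ(FlatMod.freeMod X n, ⊤) →ₗ[Γ(X, ⊤)] Γ(M, ⊤) := g.hom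
  refine ⟨descSec M (fun i => gl (e n i)), ?_⟩
  ext t
  change (descSec M fun i => gl (e n i)).app ⊤ t = gl t
  have ht := eq_sum_smul_e n t
  generalize coordOfSec n ⊤ t = c at ht
  rw [ht, map_sum, map_sum]
  refine Finset.sum_congr rfl (fun i _ => ?_)
  rw [Scheme.Modules.Hom.app_smul, descSec_app_e, map_smul]

end Groth.Agent.Helper5.RFP
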