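import Groth.Agent.Lib.Helper5.RFP1

/-!
# Retracts of finite free modules and finite projective modules over global functions
-/

set_option autoImplicit false
set_option linter.unusedSectionVars false
set_option linter.unusedVariables false
set_option linter.style.haveILetI false

universe u

open CategoryTheory CategoryTheory.Limits AlgebraicGeometry

namespace Groth.Agent.Helper5.RFP

open Groth.Agent.Helper13.LocFree Groth.Agent.Helper5.COHP

variable {X : Scheme.{u}}

/-- `Γtop` is faithful on morphisms out of a retract of `O^n` -/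
lemma map_injective_of_retract {M N : X.Modules} {n : ℕ} (i : M ⟶ FlatMod.freeMod X n)
    (r : FlatMod.freeMod X n ⟶ M) (hir : i ≫ r = 𝟙 M) (f g : M ⟶ N)
    (h : Γtop.map f = Γtop.map g) : f = g := by
  have h1 : r ≫ f = r ≫ g := by
    apply hom_ext_Γtop
    rw [Functor.map_comp, Functor.map_comp, h]
  calc f = (i ≫ r) ≫ f := by rw [hir, Category.id_comp]
    _ = i ≫ (r ≫ g) := by rw [Category.assoc, h1]
    _ = g := by rw [← Category.assoc, hir, Category.id_comp]

/-- `Γtop` is full on morphisms out of a retract of `O^n` -/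
lemma map_surjective_of_retract {M N : X.Modules} {n : ℕ} (i : M ⟶ FlatMod.freeMod X n)
    (r : FlatMod.freeMod X n ⟶ M) (hir : i ≫ r = 𝟙 M) (g : Γtop.obj M ⟶ Γtop.obj N) :
    ∃ f : M ⟶ N, Γtop.map f = g := by
  obtain ⟨h, hh⟩ := exists_map_eq (Γtop.map r ≫ g)
  refine ⟨i ≫ h, ?_⟩
  rw [Functor.map_comp, hh, ← Category.assoc, ← Functor.map_comp, hir,
    CategoryTheory.Functor.map_id, Category.id_comp]

/-- the global sections of a retract of `O^n` form a finite projective module -/
lemma finite_projective_of_retract {M : X.Modules} {n : ℕ} (i : M ⟶ FlatMod.freeMod X n)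
    (r : FlatMod.freeMod X n ⟶ M) (hir : i ≫ r = 𝟙 M) :
    Module.Finite Γ(X, ⊤) (Γtop.obj M) ∧ Module.Projective Γ(X, ⊤) (Γtop.obj M) := by
  haveI : Module.Finite Γ(X, ⊤) (Γtop.obj (FlatMod.freeMod X n)) :=
    inferInstanceAs (Module.Finite Γ(X, ⊤) Γ(FlatMod.freeMod X n, ⊤))
  haveI : Module.Free Γ(X, ⊤) (Γtop.obj (FlatMod.freeMod X n)) :=
    inferInstanceAs (Module.Free Γ(X, ⊤) Γ(FlatMod.freeMod X n, ⊤))
  have hcomp : Γtop.map i ≫ Γtop.map r = 𝟙 (Γtop.obj M) := by
    rw [← Functor.map_comp, hir, CategoryTheory.Functor.map_id]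
  have hcomp' : (Γtop.map r).hom.comp (Γtop.map i).hom = LinearMap.id := by
    have := congrArg ModuleCat.Hom.hom hcomp
    exact this
  refine ⟨?_, Module.Projective.of_split (Γtop.map i).hom (Γtop.map r).hom hcomp'⟩
  refine Module.Finite.of_surjective (Γtop.map r).hom (fun t => ⟨(Γtop.map i).hom t, ?_⟩)
  exact LinearMap.congr_fun hcomp' t

/-- every finite projective module is the module of global sections of a retract of some `O^n` -/
lemma exists_retract_of_finite_projective (P : ModuleCat.{u} Γ(X, ⊤)) [Module.Finite Γ(X, ⊤) P]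
    [Module.Projective Γ(X, ⊤) P] :
    ∃ (M : X.Modules) (n : ℕ) (i : M ⟶ FlatMod.freeMod X n) (r : FlatMod.freeMod X n ⟶ M),
      i ≫ r = 𝟙 M ∧ Nonempty (Γtop.obj M ≅ P) := by
  obtain ⟨n, p₀, hp₀⟩ := Module.Finite.exists_fin' Γ(X, ⊤) P
  obtain ⟨s₀, hs₀⟩ := Module.projective_lifting_property p₀ LinearMap.id hp₀
  let β := secLinearEquiv (X := X) n
  -- the projection and the section as morphisms of `ModuleCat`
  let p : Γtop.obj (FlatMod.freeMod X n) ⟶ P :=
    ModuleCat.ofHom (p₀.comp β.symm.toLinearMap)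
  let s : P ⟶ Γtop.obj (FlatMod.freeMod X n) :=
    ModuleCat.ofHom (β.toLinearMap.comp s₀)
  have hsp : s ≫ p = 𝟙 P := by
    ext t
    change p₀ (β.symm (β (s₀ t))) = t
    rw [LinearEquiv.symm_apply_apply]
    exact LinearMap.congr_fun hs₀ t
  obtain ⟨et, het⟩ := exists_map_eq (p ≫ s)
  have hidem : et ≫ et = et := by
    apply hom_ext_Γtop
    rw [Functor.map_comp, het, Category.assoc, ← Category.assoc s, hsp, Category.id_comp]
  obtain ⟨M, i, r, hir, hri⟩ := IsIdempotentComplete.idempotents_split _ et hidem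
  refine ⟨M, n, i, r, hir, ⟨?_⟩⟩
  refine ⟨Γtop.map i ≫ p, s ≫ Γtop.map r, ?_, ?_⟩
  · have h1 : i ≫ et ≫ r = 𝟙 M := by
      rw [← hri, Category.assoc, hir, Category.comp_id, hir]
    calc (Γtop.map i ≫ p) ≫ s ≫ Γtop.map r = Γtop.map i ≫ (p ≫ s) ≫ Γtop.map r := by
          simp only [Category.assoc]
      _ = Γtop.map (i ≫ et ≫ r) := by rw [← het, Functor.map_comp, Functor.map_comp]
      _ = 𝟙 _ := by rw [h1, CategoryTheory.Functor.map_id]
  · calc (s ≫ Γtop.map r) ≫ Γtop.map i ≫ p = s ≫ Γtop.map (r ≫ i) ≫ p := by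
          simp only [Category.assoc, Functor.map_comp]
      _ = (s ≫ p) ≫ (s ≫ p) := by rw [hri, het]; simp only [Category.assoc]
      _ = 𝟙 _ := by rw [hsp, Category.id_comp]

end Groth.Agent.Helper5.RFP
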