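import Groth.Agent.Lib.Helper5.RFP2

/-!
# The equivalence between retracts of finite free modules and finite projective modules
-/

set_option autoImplicit false
set_option linter.unusedSectionVars false
set_option linter.unusedVariables false
set_option linter.style.haveILetI false

universe u

open CategoryTheory CategoryTheory.Limits AlgebraicGeometry

namespace Groth.Agent.Helper5.RFP

variable (X : Scheme.{u})

/-- retracts of finite free modules -/
abbrev PRetr : ObjectProperty X.Modules := fun M =>
  ∃ (n : ℕ) (i : M ⟶ FlatMod.freeMod X n) (r : FlatMod.freeMod X n ⟶ M), i ≫ r = 𝟙 M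

/-- finite projective modules -/
abbrev PFinProj : ObjectProperty (ModuleCat.{u} Γ(X, ⊤)) := fun N =>
  Module.Finite Γ(X, ⊤) N ∧ Module.Projective Γ(X, ⊤) N

/-- the global sections functor on retracts of finite free modules -/
noncomputable def ΓRetr : (PRetr X).FullSubcategory ⥤ (PFinProj X).FullSubcategory :=
  (PFinProj X).lift ((PRetr X).ι ⋙ Γtop) (fun M => by
    obtain ⟨n, i, r, h⟩ := M.property
    exact finite_projective_of_retract i r h)

instance : (ΓRetr X).Faithful where
  map_injective {M N} f g h := by
    obtain ⟨n, i, r, hir⟩ := M.property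
    apply ObjectProperty.hom_ext
    apply map_injective_of_retract i r hir
    have h2 := congrArg InducedCategory.Hom.hom h
    exact h2

instance : (ΓRetr X).Full where
  map_surjective {M N} g := by
    obtain ⟨n, i, r, hir⟩ := M.property
    obtain ⟨f, hf⟩ := map_surjective_of_retract (N := N.obj) i r hir g.hom
    refine ⟨ObjectProperty.homMk f, ?_⟩
    apply ObjectProperty.hom_ext
    exact hf

instance : (ΓRetr X).EssSurj where
  mem_essImage N := by
    obtain ⟨hfin, hproj⟩ := N.property
    haveI := hfin
    haveI := hproj
    obtain ⟨M, n, i, r, hir, ⟨e⟩⟩ := exists_retract_of_finite_projective (X := X) N.obj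
    exact ⟨⟨M, n, i, r, hir⟩, ⟨(PFinProj X).isoMk e⟩⟩

instance : (ΓRetr X).IsEquivalence where

/-- the equivalence -/
theorem nonempty_equivalence :
    Nonempty ((PRetr X).FullSubcategory ≌ (PFinProj X).FullSubcategory) :=
  ⟨(ΓRetr X).asEquivalence⟩

end Groth.Agent.Helper5.RFP
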