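import Mathlib
import Groth.Agent.Lib.Helper5.GrReg3

/-! Analytic independence of a regular system of parameters, and multiplicativity of the
order function of a regular local ring. -/

set_option autoImplicit false
set_option linter.style.haveILetI false

namespace Groth.Agent.Helper5.RLRVal

open IsLocalRing GrReg

universe u

variable {A : Type u} [CommRing A] [IsLocalRing A] [IsNoetherianRing A] {r : ℕ} (x : Fin r → A)

/-- Analytic independence (sum form): a relation of degree `s` modulo `𝔪^(s+1)` among the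
monomials of degree `s` has all its coefficients in `𝔪`. -/
theorem coeff_mem_of_sum_mem (hx : Ideal.span (Set.range x) = maximalIdeal A)
    (hdim : ringKrullDim A = r) (s : ℕ) (c : (Fin r →₀ ℕ) → A)
    (hc : ∑ u ∈ D r s, c u * xx x u ∈ maximalIdeal A ^ (s + 1)) :
    ∀ u ∈ D r s, c u ∈ maximalIdeal A := by
  classical
  intro u₀ hu₀
  by_contra hnm
  have hunit : IsUnit (c u₀) := by
    by_contra h
    exact hnm ((mem_maximalIdeal _).mpr h)
  obtain ⟨w, hw⟩ := hunit.exists_left_inv
  set R := ∑ u ∈ D r s, c u * xx x u with hR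
  have hR' : R = c u₀ * xx x u₀ + ∑ u ∈ (D r s).erase u₀, c u * xx x u :=
    (Finset.add_sum_erase _ _ hu₀).symm
  have hxx : xx x u₀ = w * R - ∑ u ∈ (D r s).erase u₀, (w * c u) * xx x u := by
    rw [hR', mul_add, ← mul_assoc, hw, one_mul, Finset.mul_sum]
    simp only [mul_assoc]
    ring
  have h := length_G_le (maximalIdeal A) s ((D r s).erase u₀) (xx x)
    (fun e he => by rw [← hx]; exact xx_mem_pow x (Finset.mem_of_mem_erase he))
    (fun a ha => by
      rw [← hx, pow_eq_span] at ha
      have h1 : Submodule.mkQ (maximalIdeal A ^ (s + 1)) a ∈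
          (Submodule.span A (xx x '' (D r s : Set (Fin r →₀ ℕ)))).map
            (Submodule.mkQ (maximalIdeal A ^ (s + 1))) := Submodule.mem_map_of_mem ha
      rw [Submodule.map_span, Set.image_image] at h1
      refine Submodule.span_le.mpr ?_ h1
      rintro _ ⟨γ, hγ, rfl⟩
      by_cases hγu : γ = u₀
      · subst hγu
        change Submodule.mkQ (maximalIdeal A ^ (s + 1)) (xx x γ) ∈ _
        rw [hxx, map_sub, map_sum]
        have hR0 : Submodule.mkQ (maximalIdeal A ^ (s + 1)) (w * R) = 0 :=
          (Submodule.Quotient.mk_eq_zero _).mpr (Ideal.mul_mem_left _ _ hc)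
        rw [hR0, zero_sub]
        apply Submodule.neg_mem
        apply Submodule.sum_mem
        intro u hu
        have : Submodule.mkQ (maximalIdeal A ^ (s + 1)) (w * c u * xx x u) =
            (w * c u) • (Submodule.Quotient.mk (xx x u) : A ⧸ maximalIdeal A ^ (s + 1)) := rfl
        rw [this]
        exact Submodule.smul_mem _ _ (Submodule.subset_span ⟨u, Finset.mem_coe.mpr hu, rfl⟩)
      · exact Submodule.subset_span ⟨γ, Finset.mem_coe.mpr (Finset.mem_erase.mpr ⟨hγu, hγ⟩), rfl⟩)
  rw [length_quot_maximalIdeal, mul_one, length_G_eq x hx hdim s, Finset.card_erase_of_mem hu₀] at h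
  have hpos : 0 < (D r s).card := Finset.card_pos.mpr ⟨u₀, hu₀⟩
  have h' : (D r s).card ≤ (D r s).card - 1 := by exact_mod_cast h
  omega

omit [IsLocalRing A] [IsNoetherianRing A] in
/-- evaluation of a polynomial at the generators, in terms of the monomials `xx` -/
lemma eval_eq_sum (p : MvPolynomial (Fin r) A) :
    MvPolynomial.eval x p = ∑ γ ∈ p.support, MvPolynomial.coeff γ p * xx x γ := by
  rw [MvPolynomial.eval_eq]
  rfl

omit [IsLocalRing A] [IsNoetherianRing A] in
lemma support_subset_D {p : MvPolynomial (Fin r) A} {s : ℕ} (hp : p.IsHomogeneous s) :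
    p.support ⊆ D r s := by
  intro γ hγ
  rw [mem_D]
  have := hp (MvPolynomial.mem_support_iff.mp hγ)
  rw [← this, Finsupp.weight_apply, Finsupp.sum_fintype _ _ (by simp)]
  simp

omit [IsLocalRing A] [IsNoetherianRing A] in
lemma eval_eq_sum_D {p : MvPolynomial (Fin r) A} {s : ℕ} (hp : p.IsHomogeneous s) :
    MvPolynomial.eval x p = ∑ γ ∈ D r s, MvPolynomial.coeff γ p * xx x γ := by
  rw [eval_eq_sum]
  apply Finset.sum_subset (support_subset_D hp)
  intro γ _ hγ
  rw [MvPolynomial.notMem_support_iff.mp hγ, zero_mul]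

/-- Analytic independence (polynomial form). -/
theorem coeff_mem_of_eval_mem (hx : Ideal.span (Set.range x) = maximalIdeal A)
    (hdim : ringKrullDim A = r) {s : ℕ} {p : MvPolynomial (Fin r) A} (hp : p.IsHomogeneous s)
    (h : MvPolynomial.eval x p ∈ maximalIdeal A ^ (s + 1)) (γ : Fin r →₀ ℕ) :
    MvPolynomial.coeff γ p ∈ maximalIdeal A := by
  by_cases hγ : γ ∈ D r s
  · rw [eval_eq_sum_D x hp] at h
    exact coeff_mem_of_sum_mem x hx hdim s (fun γ => MvPolynomial.coeff γ p) h γ hγ
  · have : MvPolynomial.coeff γ p = 0 := by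
      by_contra hne
      exact hγ (support_subset_D hp (MvPolynomial.mem_support_iff.mpr hne))
    rw [this]
    exact zero_mem _

omit [IsNoetherianRing A] in
lemma eval_mem_pow (hx : Ideal.span (Set.range x) = maximalIdeal A) {s : ℕ}
    {p : MvPolynomial (Fin r) A} (hp : p.IsHomogeneous s) :
    MvPolynomial.eval x p ∈ maximalIdeal A ^ s := by
  rw [← hx]
  exact (Ideal.mem_span_pow_iff_exists_isHomogeneous x _).mpr ⟨p, hp, rfl⟩

omit [IsNoetherianRing A] in
lemma eval_mem_pow_succ (hx : Ideal.span (Set.range x) = maximalIdeal A) {s : ℕ}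
    {p : MvPolynomial (Fin r) A} (hp : p.IsHomogeneous s)
    (hc : ∀ γ, MvPolynomial.coeff γ p ∈ maximalIdeal A) :
    MvPolynomial.eval x p ∈ maximalIdeal A ^ (s + 1) := by
  rw [eval_eq_sum_D x hp]
  apply Ideal.sum_mem
  intro γ hγ
  rw [pow_succ']
  exact Ideal.mul_mem_mul (hc γ) (by rw [← hx]; exact xx_mem_pow x hγ)

/-- The order function of a regular local ring is multiplicative. -/
theorem mul_notMem_pow (hx : Ideal.span (Set.range x) = maximalIdeal A)
    (hdim : ringKrullDim A = r) {s t : ℕ} {a b : A}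
    (ha : a ∈ maximalIdeal A ^ s) (ha' : a ∉ maximalIdeal A ^ (s + 1))
    (hb : b ∈ maximalIdeal A ^ t) (hb' : b ∉ maximalIdeal A ^ (t + 1)) :
    a * b ∉ maximalIdeal A ^ (s + t + 1) := by
  rw [← hx] at ha hb
  obtain ⟨P, hP, rfl⟩ := (Ideal.mem_span_pow_iff_exists_isHomogeneous x _).mp ha
  obtain ⟨Q, hQ, rfl⟩ := (Ideal.mem_span_pow_iff_exists_isHomogeneous x _).mp hb
  intro hab
  rw [← map_mul] at hab
  have hPQ := coeff_mem_of_eval_mem x hx hdim (hP.mul hQ) hab
  have hmap : MvPolynomial.map (residue A) (P * Q) = 0 := by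
    ext γ
    rw [MvPolynomial.coeff_map, MvPolynomial.coeff_zero]
    exact (residue_eq_zero_iff _).mpr (hPQ γ)
  rw [map_mul, mul_eq_zero] at hmap
  rcases hmap with h0 | h0
  · apply ha'
    apply eval_mem_pow_succ x hx hP
    intro γ
    have := congrArg (MvPolynomial.coeff γ) h0
    rw [MvPolynomial.coeff_map, MvPolynomial.coeff_zero] at this
    exact (residue_eq_zero_iff _).mp this
  · apply hb'
    apply eval_mem_pow_succ x hx hQ
    intro γ
    have := congrArg (MvPolynomial.coeff γ) h0
    rw [MvPolynomial.coeff_map, MvPolynomial.coeff_zero] at this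
    exact (residue_eq_zero_iff _).mp this

end Groth.Agent.Helper5.RLRVal
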