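import Mathlib
import Groth.Agent.Lib.Helper5.RLRVal1

/-! The order valuation of a regular local ring. -/

set_option autoImplicit false
set_option linter.style.haveILetI false

namespace Groth.Agent.Helper5.RLRVal

open IsLocalRing GrReg WithZero

universe u

section ord

variable {A : Type u} [CommRing A] [IsLocalRing A] [IsNoetherianRing A]

/-- the order of an element -/
noncomputable def ord (a : A) : ℕ := sSup {n | a ∈ maximalIdeal A ^ n}

lemma exists_notMem_pow {a : A} (ha : a ≠ 0) : ∃ n, a ∉ maximalIdeal A ^ n := by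
  by_contra h
  push Not at h
  have h1 : a ∈ ⨅ i : ℕ, maximalIdeal A ^ i := by
    rw [Submodule.mem_iInf]
    exact h
  rw [Ideal.iInf_pow_eq_bot_of_isLocalRing _ (Ideal.IsMaximal.ne_top inferInstance)] at h1
  exact ha (by simpa using h1)

lemma bddAbove_ord {a : A} (ha : a ≠ 0) : BddAbove {n | a ∈ maximalIdeal A ^ n} := by
  obtain ⟨n₀, hn₀⟩ := exists_notMem_pow ha
  refine ⟨n₀, fun n hn => ?_⟩
  by_contra hlt
  push Not at hlt
  exact hn₀ (Ideal.pow_le_pow_right hlt.le hn)

lemma mem_pow_ord {a : A} (ha : a ≠ 0) : a ∈ maximalIdeal A ^ ord a :=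
  Nat.sSup_mem ⟨0, by simp⟩ (bddAbove_ord ha)

lemma le_ord_iff {a : A} (ha : a ≠ 0) {n : ℕ} : n ≤ ord a ↔ a ∈ maximalIdeal A ^ n :=
  ⟨fun h => Ideal.pow_le_pow_right h (mem_pow_ord ha), fun h => le_csSup (bddAbove_ord ha) h⟩

lemma notMem_pow_succ_ord {a : A} (ha : a ≠ 0) : a ∉ maximalIdeal A ^ (ord a + 1) := fun h => by
  have := (le_ord_iff ha).mpr h
  omega

lemma ord_eq_zero_iff {a : A} (ha : a ≠ 0) : ord a = 0 ↔ IsUnit a := by
  constructor
  · intro h
    by_contra hu
    have h1 : a ∈ maximalIdeal A ^ 1 := by rw [pow_one]; exact (mem_maximalIdeal _).mpr hu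
    have := (le_ord_iff ha).mpr h1
    omega
  · intro hu
    by_contra h
    have h1 : 1 ≤ ord a := Nat.one_le_iff_ne_zero.mpr h
    have h2 := (le_ord_iff ha).mp h1
    rw [pow_one] at h2
    exact (mem_maximalIdeal _).mp h2 hu

lemma min_le_ord_add {a b : A} (ha : a ≠ 0) (hb : b ≠ 0) (hab : a + b ≠ 0) :
    min (ord a) (ord b) ≤ ord (a + b) := by
  rw [le_ord_iff hab]
  exact Ideal.add_mem _ (Ideal.pow_le_pow_right (min_le_left _ _) (mem_pow_ord ha))
    (Ideal.pow_le_pow_right (min_le_right _ _) (mem_pow_ord hb))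

end ord

section reg

variable {A : Type u} [CommRing A] [IsRegularLocalRing A]

theorem ord_mul {a b : A} (ha : a ≠ 0) (hb : b ≠ 0) (hab : a * b ≠ 0) :
    ord (a * b) = ord a + ord b := by
  obtain ⟨x, hx⟩ := Groth.Agent.Lead.Hom.exists_generators_maximalIdeal (R := A)
  have hdim : ringKrullDim A = ((maximalIdeal A).spanFinrank : ℕ) :=
    (IsRegularLocalRing.spanFinrank_maximalIdeal (R := A)).symm
  apply le_antisymm
  · by_contra h
    push Not at h
    have : a * b ∈ maximalIdeal A ^ (ord a + ord b + 1) := (le_ord_iff hab).mp h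
    exact mul_notMem_pow x hx hdim (mem_pow_ord ha) (notMem_pow_succ_ord ha) (mem_pow_ord hb)
      (notMem_pow_succ_ord hb) this
  · rw [le_ord_iff hab, pow_add]
    exact Ideal.mul_mem_mul (mem_pow_ord ha) (mem_pow_ord hb)

variable (A) in
open scoped Classical in
/-- the order valuation on a regular local ring -/
noncomputable def val : Valuation A ℤᵐ⁰ where
  toFun a := if a = 0 then 0 else exp (-(ord a : ℤ))
  map_zero' := by simp
  map_one' := by
    have h : ord (1 : A) = 0 := (ord_eq_zero_iff one_ne_zero).mpr isUnit_one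
    simp [h]
  map_mul' a b := by
    haveI := Groth.Agent.Lead.RLR.isDomain A
    by_cases ha : a = 0
    · simp [ha]
    by_cases hb : b = 0
    · simp [hb]
    have hab : a * b ≠ 0 := mul_ne_zero ha hb
    simp only [ha, hb, hab, if_false]
    rw [ord_mul ha hb hab, ← exp_add]
    congr 1
    push_cast
    ring
  map_add_le_max' a b := by
    by_cases hab : a + b = 0
    · simp [hab]
    by_cases ha : a = 0
    · simp [ha]
    by_cases hb : b = 0
    · simp [hb]
    simp only [ha, hb, hab, if_false]
    rw [le_max_iff, exp_le_exp, exp_le_exp]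
    have := min_le_ord_add ha hb hab
    rcases min_le_iff.mp this with h | h
    · left; omega
    · right; omega

open scoped Classical in
lemma val_apply {a : A} (ha : a ≠ 0) : val A a = exp (-(ord a : ℤ)) := by
  change (if a = 0 then 0 else exp (-(ord a : ℤ))) = _
  rw [if_neg ha]

lemma val_eq_zero_iff {a : A} : val A a = 0 ↔ a = 0 := by
  constructor
  · intro h
    by_contra ha
    rw [val_apply ha] at h
    exact exp_ne_zero h
  · rintro rfl
    exact map_zero _

lemma val_le_exp_neg_iff {a : A} {n : ℕ} : val A a ≤ exp (-(n : ℤ)) ↔ a ∈ maximalIdeal A ^ n := by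
  by_cases ha : a = 0
  · subst ha
    simp
  · rw [val_apply ha, exp_le_exp, ← le_ord_iff ha]
    omega

lemma val_le_one (a : A) : val A a ≤ 1 := by
  have := (val_le_exp_neg_iff (a := a) (n := 0)).mpr (by simp)
  simpa using this

lemma val_lt_one_iff {a : A} : val A a < 1 ↔ a ∈ maximalIdeal A := by
  by_cases ha : a = 0
  · subst ha
    simp
  · rw [val_apply ha, ← exp_zero, exp_lt_exp]
    have h1 := ord_eq_zero_iff ha
    rw [mem_maximalIdeal, mem_nonunits_iff, ← h1]
    omega

lemma val_eq_one_iff {a : A} : val A a = 1 ↔ IsUnit a := by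
  have h1 := val_lt_one_iff (a := a)
  have h2 := val_le_one a
  rw [mem_maximalIdeal, mem_nonunits_iff] at h1
  constructor
  · intro h
    by_contra hu
    exact absurd (h1.mpr hu) (by rw [h]; exact lt_irrefl _)
  · intro hu
    by_contra h
    exact (h1.mp (lt_of_le_of_ne h2 h)) hu

end reg

end Groth.Agent.Helper5.RLRVal
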