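import Mathlib
import Groth.Agent.Lib.Helper5.RLRVal2

/-! The order valuation ring of a regular local ring inside its fraction field. -/

set_option autoImplicit false
set_option linter.style.haveILetI false

namespace Groth.Agent.Helper5.RLRVal

open IsLocalRing GrReg WithZero

universe u

variable (A : Type u) [CommRing A] [IsRegularLocalRing A]
  (K : Type u) [Field K] [Algebra A K] [IsFractionRing A K]

variable {A} in
lemma nonZeroDivisors_le : nonZeroDivisors A ≤ (val A).supp.primeCompl := by
  haveI := Groth.Agent.Lead.RLR.isDomain A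
  intro a ha h
  rw [SetLike.mem_coe, Valuation.mem_supp_iff, val_eq_zero_iff] at h
  exact (mem_nonZeroDivisors_iff_ne_zero.mp ha) h

/-- the order valuation on the fraction field -/
noncomputable def valK : Valuation K ℤᵐ⁰ :=
  (val A).extendToLocalization nonZeroDivisors_le K

variable {A} in
@[simp]
lemma valK_algebraMap (a : A) : valK A K (algebraMap A K a) = val A a :=
  Valuation.extendToLocalization_apply_map_apply _ _ _ _

variable {A} in
lemma exists_div' (z : K) : ∃ a b : A, b ≠ 0 ∧ z = algebraMap A K a / algebraMap A K b := by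
  haveI := Groth.Agent.Lead.RLR.isDomain A
  obtain ⟨a, b, hb, h⟩ := IsFractionRing.div_surjective (A := A) z
  exact ⟨a, b, mem_nonZeroDivisors_iff_ne_zero.mp hb, h.symm⟩

variable {A} in
lemma valK_div (a b : A) :
    valK A K (algebraMap A K a / algebraMap A K b) = val A a / val A b := by
  rw [map_div₀, valK_algebraMap, valK_algebraMap]

variable {A} in
/-- nonzero elements have value `exp k` -/
lemma exists_valK_eq_exp {z : K} (hz : z ≠ 0) : ∃ k : ℤ, valK A K z = exp k := by
  obtain ⟨a, b, hb, rfl⟩ := exists_div' (A := A) K z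
  have ha : a ≠ 0 := by
    rintro rfl
    simp at hz
  refine ⟨(ord b : ℤ) - ord a, ?_⟩
  rw [valK_div, val_apply ha, val_apply hb, ← exp_sub]
  congr 1
  ring

/-- the valuation ring of the order valuation, as a subalgebra -/
noncomputable def VV : Subalgebra A K :=
  { (valK A K).integer with
    algebraMap_mem' := fun a => by
      change valK A K (algebraMap A K a) ≤ 1
      rw [valK_algebraMap]
      exact val_le_one a }

variable {A} in
lemma mem_VV {z : K} : z ∈ VV A K ↔ valK A K z ≤ 1 := Iff.rfl

variable {A} in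
lemma isUnit_VV_iff (z : VV A K) : IsUnit z ↔ valK A K (z : K) = 1 := by
  constructor
  · rintro ⟨⟨y, y', h1, h2⟩, rfl⟩
    have hy : valK A K (y : K) ≤ 1 := y.2
    have hy' : valK A K (y' : K) ≤ 1 := y'.2
    have h : valK A K (y : K) * valK A K (y' : K) = 1 := by
      rw [← map_mul, ← Subalgebra.coe_mul, h1, Subalgebra.coe_one, map_one]
    by_contra hne
    have hlt : valK A K (y : K) < 1 := lt_of_le_of_ne hy hne
    have : valK A K (y : K) * valK A K (y' : K) < 1 := by
      calc valK A K (y : K) * valK A K (y' : K) ≤ valK A K (y : K) * 1 := by gcongr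
        _ = valK A K (y : K) := mul_one _
        _ < 1 := hlt
    rw [h] at this
    exact lt_irrefl _ this
  · intro h
    have hz : (z : K) ≠ 0 := by
      intro h0
      rw [h0, map_zero] at h
      exact zero_ne_one h
    have hinv : (z : K)⁻¹ ∈ VV A K := by
      rw [mem_VV, map_inv₀, h, inv_one]
    refine ⟨⟨z, ⟨(z : K)⁻¹, hinv⟩, ?_, ?_⟩, rfl⟩
    · apply Subtype.ext
      simp [hz]
    · apply Subtype.ext
      simp [hz]

variable {A} in
theorem isDiscreteValuationRing_VV (π : A) (hπ : val A π = exp (-1 : ℤ)) :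
    IsDiscreteValuationRing (VV A K) := by
  set p : VV A K := algebraMap A (VV A K) π with hp
  have hpv : valK A K (p : K) = exp (-1 : ℤ) := by
    have : (p : K) = algebraMap A K π := rfl
    rw [this, valK_algebraMap, hπ]
  have hp0 : (p : K) ≠ 0 := by
    intro h
    rw [h, map_zero] at hpv
    exact exp_ne_zero hpv.symm
  apply IsDiscreteValuationRing.ofHasUnitMulPowIrreducibleFactorization
  refine ⟨p, ⟨?_, ?_⟩, ?_⟩
  · rw [isUnit_VV_iff, hpv]
    intro h
    rw [← exp_zero, exp_inj] at h
    omega
  · intro y z hyz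
    have hy0 : (y : K) ≠ 0 := by
      intro h
      apply hp0
      rw [hyz, Subalgebra.coe_mul, h, zero_mul]
    have hz0 : (z : K) ≠ 0 := by
      intro h
      apply hp0
      rw [hyz, Subalgebra.coe_mul, h, mul_zero]
    obtain ⟨i, hi⟩ := exists_valK_eq_exp (A := A) K hy0
    obtain ⟨j, hj⟩ := exists_valK_eq_exp (A := A) K hz0
    have hi' : i ≤ 0 := by
      have := y.2
      rw [mem_VV, hi, ← exp_zero, exp_le_exp] at this
      exact this
    have hj' : j ≤ 0 := by
      have := z.2
      rw [mem_VV, hj, ← exp_zero, exp_le_exp] at this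
      exact this
    have hij : i + j = -1 := by
      have := congrArg (fun t : VV A K => valK A K (t : K)) hyz
      simp only [Subalgebra.coe_mul, map_mul, hpv, hi, hj, ← exp_add] at this
      exact (exp_inj.mp this).symm
    rw [isUnit_VV_iff, isUnit_VV_iff, hi, hj, ← exp_zero, exp_inj, exp_inj]
    omega
  · intro z hz
    have hz0 : (z : K) ≠ 0 := fun h => hz (Subtype.ext h)
    obtain ⟨k, hk⟩ := exists_valK_eq_exp (A := A) K hz0
    have hk' : k ≤ 0 := by
      have := z.2
      rw [mem_VV, hk, ← exp_zero, exp_le_exp] at this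
      exact this
    obtain ⟨n, hn⟩ : ∃ n : ℕ, k = -(n : ℤ) := ⟨k.natAbs, by omega⟩
    refine ⟨n, ?_⟩
    have hu : valK A K ((z : K) / (p : K) ^ n) = 1 := by
      rw [map_div₀, map_pow, hpv, hk, hn, ← exp_nsmul, ← exp_sub, ← exp_zero]
      congr 1
      simp
    have hmem : (z : K) / (p : K) ^ n ∈ VV A K := by rw [mem_VV, hu]
    have hunit : IsUnit (⟨(z : K) / (p : K) ^ n, hmem⟩ : VV A K) := by
      rw [isUnit_VV_iff]
      exact hu
    obtain ⟨u, hu'⟩ := hunit
    refine ⟨u, ?_⟩
    apply Subtype.ext
    rw [hu', Subalgebra.coe_mul, Subalgebra.coe_pow]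
    field_simp

end Groth.Agent.Helper5.RLRVal
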