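import Mathlib
import Groth.Agent.Lib.Helper5.RLRVal3

/-! Homogeneous polynomials in the generators and the order valuation. -/

set_option autoImplicit false
set_option linter.style.haveILetI false

namespace Groth.Agent.Helper5.RLRVal

open IsLocalRing GrReg WithZero

universe u

section scaling

variable {R S : Type*} [CommRing R] [CommRing S] [Algebra R S] {r : ℕ}

/-- scaling the variables of a homogeneous polynomial -/
lemma aeval_mul_of_isHomogeneous {p : MvPolynomial (Fin r) R} {N : ℕ} (hp : p.IsHomogeneous N)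
    (c : S) (f : Fin r → S) :
    MvPolynomial.aeval (fun j => c * f j) p = c ^ N * MvPolynomial.aeval f p := by
  rw [MvPolynomial.aeval_def, MvPolynomial.aeval_def, MvPolynomial.eval₂_eq', MvPolynomial.eval₂_eq',
    Finset.mul_sum]
  apply Finset.sum_congr rfl
  intro γ hγ
  have hdeg : ∑ i, γ i = N := mem_D.mp (support_subset_D hp hγ)
  simp_rw [mul_pow]
  rw [Finset.prod_mul_distrib, Finset.prod_pow_eq_pow_sum, hdeg]
  ring

end scaling

variable {A : Type u} [CommRing A] [IsRegularLocalRing A]

lemma val_lt_exp_neg_iff {a : A} {n : ℕ} :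
    val A a < exp (-(n : ℤ)) ↔ a ∈ maximalIdeal A ^ (n + 1) := by
  by_cases ha : a = 0
  · subst ha
    simp [exp_pos]
  · rw [val_apply ha, exp_lt_exp, ← le_ord_iff ha]
    omega

variable (K : Type u) [Field K] [Algebra A K] [IsFractionRing A K]
  {d : ℕ} (x : Fin (d + 1) → A)

section gens

variable (hx : Ideal.span (Set.range x) = maximalIdeal A)

include hx in
lemma x_mem (j : Fin (d + 1)) : x j ∈ maximalIdeal A := by
  rw [← hx]
  exact Ideal.subset_span (Set.mem_range_self j)

include hx in
lemma val_x_le (j : Fin (d + 1)) : val A (x j) ≤ exp (-1 : ℤ) := by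
  have := (val_le_exp_neg_iff (a := x j) (n := 1)).mpr (by rw [pow_one]; exact x_mem x hx j)
  simpa using this

variable (hdim : ringKrullDim A = ((d + 1 : ℕ) : WithBot ℕ∞))

include hx hdim in
lemma val_x_zero : val A (x 0) = exp (-1 : ℤ) := by
  have hnot : x 0 ∉ maximalIdeal A ^ (1 + 1) := by
    intro h
    have hX : (MvPolynomial.X 0 : MvPolynomial (Fin (d + 1)) A).IsHomogeneous 1 :=
      MvPolynomial.isHomogeneous_X _ _
    have h1 : MvPolynomial.eval x (MvPolynomial.X 0 : MvPolynomial (Fin (d + 1)) A) ∈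
        maximalIdeal A ^ (1 + 1) := by rwa [MvPolynomial.eval_X]
    have := coeff_mem_of_eval_mem x hx hdim hX h1 (Finsupp.single 0 1)
    rw [MvPolynomial.coeff_X, if_pos rfl] at this
    exact (Ideal.ne_top_iff_one _).mp (Ideal.IsMaximal.ne_top inferInstance) this
  have h1 := (val_lt_exp_neg_iff (a := x 0) (n := 1)).not.mpr hnot
  push Not at h1
  exact le_antisymm (val_x_le x hx 0) (by simpa using h1)

/-- the elements `x j / x 0` of the fraction field -/
noncomputable def tauK (j : Fin (d + 1)) : K := algebraMap A K (x j) / algebraMap A K (x 0)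

include hx hdim in
lemma x_zero_ne_zero : algebraMap A K (x 0) ≠ 0 := by
  intro h
  have h1 : valK A K (algebraMap A K (x 0)) = 0 := by rw [h, map_zero]
  rw [valK_algebraMap, val_x_zero x hx hdim] at h1
  exact exp_ne_zero h1

include hx hdim in
lemma valK_x_zero : valK A K (algebraMap A K (x 0)) = exp (-1 : ℤ) := by
  rw [valK_algebraMap, val_x_zero x hx hdim]

include hx hdim in
lemma tauK_mem (j : Fin (d + 1)) : tauK K x j ∈ VV A K := by
  rw [mem_VV, tauK, valK_div, val_x_zero x hx hdim]
  exact div_le_one_of_le₀ (val_x_le x hx j) zero_le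

include hx hdim in
lemma tauK_zero : tauK K x 0 = 1 := div_self (x_zero_ne_zero K x hx hdim)

include hx hdim in
/-- (A1) -/
lemma algebraMap_eval_eq {P : MvPolynomial (Fin (d + 1)) A} {N : ℕ} (hP : P.IsHomogeneous N) :
    algebraMap A K (MvPolynomial.eval x P) =
      algebraMap A K (x 0) ^ N * MvPolynomial.aeval (tauK K x) P := by
  rw [← aeval_mul_of_isHomogeneous hP]
  have : (fun j => algebraMap A K (x 0) * tauK K x j) = fun j => algebraMap A K (x j) := by
    funext j
    rw [tauK, mul_div_cancel₀ _ (x_zero_ne_zero K x hx hdim)]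
  rw [this, ← MvPolynomial.coe_aeval_eq_eval]
  exact (MvPolynomial.aeval_algebraMap_apply (R := A) (A := A) (B := K) x P).symm

include hx hdim in
lemma valK_aeval_tauK {P : MvPolynomial (Fin (d + 1)) A} {N : ℕ} (hP : P.IsHomogeneous N) :
    valK A K (MvPolynomial.aeval (tauK K x) P) = val A (MvPolynomial.eval x P) * exp (N : ℤ) := by
  have h := congrArg (valK A K) (algebraMap_eval_eq K x hx hdim hP)
  rw [valK_algebraMap, map_mul, map_pow, valK_x_zero K x hx hdim] at h
  rw [h, mul_comm (exp (-1 : ℤ) ^ N), mul_assoc, ← exp_nsmul, ← exp_add]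
  simp

include hx hdim in
/-- (A2), first half -/
lemma valK_aeval_tauK_le_one {P : MvPolynomial (Fin (d + 1)) A} {N : ℕ} (hP : P.IsHomogeneous N) :
    valK A K (MvPolynomial.aeval (tauK K x) P) ≤ 1 := by
  rw [valK_aeval_tauK K x hx hdim hP]
  have h1 := (val_le_exp_neg_iff (n := N)).mpr (eval_mem_pow x hx hP)
  calc val A (MvPolynomial.eval x P) * exp (N : ℤ) ≤ exp (-(N : ℤ)) * exp (N : ℤ) := by gcongr
    _ = 1 := by rw [← exp_add]; simp

include hx hdim in
/-- (A2), second half -/
lemma valK_aeval_tauK_lt_one_iff {P : MvPolynomial (Fin (d + 1)) A} {N : ℕ}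
    (hP : P.IsHomogeneous N) :
    valK A K (MvPolynomial.aeval (tauK K x) P) < 1 ↔
      ∀ γ, MvPolynomial.coeff γ P ∈ maximalIdeal A := by
  rw [valK_aeval_tauK K x hx hdim hP]
  have h0 : val A (MvPolynomial.eval x P) * exp (N : ℤ) < 1 ↔
      val A (MvPolynomial.eval x P) < exp (-(N : ℤ)) := by
    have h1 : (1 : ℤᵐ⁰) = exp (-(N : ℤ)) * exp (N : ℤ) := by rw [← exp_add]; simp
    rw [h1, mul_lt_mul_iff_left₀ exp_pos]
  rw [h0, val_lt_exp_neg_iff]
  exact ⟨fun h => coeff_mem_of_eval_mem x hx hdim hP h, fun h => eval_mem_pow_succ x hx hP h⟩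

end gens

end Groth.Agent.Helper5.RLRVal
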