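import Mathlib
import Groth.Agent.Lib.Helper5.RLRVal4

/-! Homogenization; the residue field of the order valuation ring. -/

set_option autoImplicit false
set_option linter.style.haveILetI false

namespace Groth.Agent.Helper5.RLRVal

open IsLocalRing GrReg WithZero

universe u

section homogenize

variable {R : Type*} [CommRing R] {d : ℕ}

/-- homogenization of a polynomial in `d` variables with respect to a new variable `X 0` -/
noncomputable def hom (G : MvPolynomial (Fin d) R) : MvPolynomial (Fin (d + 1)) R :=
  ∑ k ∈ Finset.range (G.totalDegree + 1),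
    MvPolynomial.X 0 ^ (G.totalDegree - k) *
      MvPolynomial.rename Fin.succ (MvPolynomial.homogeneousComponent k G)

lemma hom_isHomogeneous (G : MvPolynomial (Fin d) R) : (hom G).IsHomogeneous G.totalDegree := by
  apply MvPolynomial.IsHomogeneous.sum
  intro k hk
  have hk' : k ≤ G.totalDegree := Nat.lt_succ_iff.mp (Finset.mem_range.mp hk)
  have := (MvPolynomial.isHomogeneous_X_pow (R := R) (0 : Fin (d + 1)) (G.totalDegree - k)).mul
    (MvPolynomial.IsHomogeneous.rename_isHomogeneous (f := Fin.succ)
      (MvPolynomial.homogeneousComponent_isHomogeneous k G))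
  rwa [Nat.sub_add_cancel hk'] at this

lemma aeval_hom {S : Type*} [CommRing S] [Algebra R S] (f : Fin (d + 1) → S) (hf : f 0 = 1)
    (G : MvPolynomial (Fin d) R) :
    MvPolynomial.aeval f (hom G) = MvPolynomial.aeval (f ∘ Fin.succ) G := by
  rw [hom, map_sum]
  simp only [map_mul, map_pow, MvPolynomial.aeval_X, hf, one_pow, one_mul,
    MvPolynomial.aeval_rename]
  rw [← map_sum, MvPolynomial.sum_homogeneousComponent]

lemma eq_zero_of_hom_eq_zero (G : MvPolynomial (Fin d) R) (h : hom G = 0) : G = 0 := by
  have := aeval_hom (S := MvPolynomial (Fin d) R)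
    (Fin.cons 1 MvPolynomial.X : Fin (d + 1) → MvPolynomial (Fin d) R) (by simp) G
  rw [h, map_zero] at this
  have h2 : ((Fin.cons 1 MvPolynomial.X : Fin (d + 1) → MvPolynomial (Fin d) R) ∘ Fin.succ) =
      MvPolynomial.X := by
    funext i
    simp
  rw [h2, MvPolynomial.aeval_X_left_apply] at this
  exact this.symm

/-- lifting homogeneous polynomials along a surjective ring homomorphism -/
lemma exists_lift_isHomogeneous {R' : Type*} [CommRing R'] (π : R →+* R')
    (hπ : Function.Surjective π) {r N : ℕ} {Q : MvPolynomial (Fin r) R'} (hQ : Q.IsHomogeneous N) :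
    ∃ P : MvPolynomial (Fin r) R, P.IsHomogeneous N ∧ MvPolynomial.map π P = Q := by
  choose lift hlift using hπ
  refine ⟨∑ γ ∈ Q.support, MvPolynomial.monomial γ (lift (MvPolynomial.coeff γ Q)), ?_, ?_⟩
  · apply MvPolynomial.IsHomogeneous.sum
    intro γ hγ
    apply MvPolynomial.isHomogeneous_monomial
    have := hQ (MvPolynomial.mem_support_iff.mp hγ)
    rw [← this, Finsupp.degree_eq_weight_one]
    rfl
  · rw [map_sum]
    simp only [MvPolynomial.map_monomial, hlift]
    exact MvPolynomial.support_sum_monomial_coeff Q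

end homogenize

variable (A : Type u) [CommRing A] [IsRegularLocalRing A]
  (K : Type u) [Field K] [Algebra A K] [IsFractionRing A K]

instance isLocalRing_VV : IsLocalRing (VV A K) := by
  apply IsLocalRing.of_nonunits_add
  intro a b ha hb
  rw [mem_nonunits_iff, isUnit_VV_iff] at ha hb ⊢
  have ha' : valK A K (a : K) < 1 := lt_of_le_of_ne a.2 ha
  have hb' : valK A K (b : K) < 1 := lt_of_le_of_ne b.2 hb
  have : valK A K ((a + b : VV A K) : K) < 1 := by
    rw [Subalgebra.coe_add]
    exact lt_of_le_of_lt (Valuation.map_add _ _ _) (max_lt ha' hb')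
  exact ne_of_lt this

variable {A K} in
lemma mem_maximalIdeal_VV (z : VV A K) : z ∈ maximalIdeal (VV A K) ↔ valK A K (z : K) < 1 := by
  rw [mem_maximalIdeal, mem_nonunits_iff, isUnit_VV_iff]
  exact ⟨fun h => lt_of_le_of_ne z.2 h, fun h => ne_of_lt h⟩

lemma coe_algebraMap_VV (a : A) : ((algebraMap A (VV A K) a : VV A K) : K) = algebraMap A K a := rfl

theorem comap_maximalIdeal_VV :
    (maximalIdeal (VV A K)).comap (algebraMap A (VV A K)) = maximalIdeal A := by
  ext a
  rw [Ideal.mem_comap, mem_maximalIdeal_VV, coe_algebraMap_VV, valK_algebraMap, val_lt_one_iff]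

theorem isLocalHom_algebraMap_VV : IsLocalHom (algebraMap A (VV A K)) := by
  constructor
  intro a ha
  rw [isUnit_VV_iff, coe_algebraMap_VV, valK_algebraMap, val_eq_one_iff] at ha
  exact ha

/-- the map on residue fields -/
noncomputable def phi : ResidueField A →+* ResidueField (VV A K) :=
  haveI := isLocalHom_algebraMap_VV A K
  ResidueField.map (algebraMap A (VV A K))

lemma phi_residue (a : A) : phi A K (residue A a) = residue (VV A K) (algebraMap A (VV A K) a) := by
  haveI := isLocalHom_algebraMap_VV A K
  exact ResidueField.map_residue _ a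

/-- the algebra structure on the residue field of the valuation ring -/
@[reducible] noncomputable def algInst : Algebra (ResidueField A) (ResidueField (VV A K)) :=
  (phi A K).toAlgebra

attribute [local instance] algInst

lemma algebraMap_residueField (c : ResidueField A) :
    algebraMap (ResidueField A) (ResidueField (VV A K)) c = phi A K c := rfl

variable {A K} {d : ℕ} (x : Fin (d + 1) → A)
  (hx : Ideal.span (Set.range x) = maximalIdeal A)
  (hdim : ringKrullDim A = ((d + 1 : ℕ) : WithBot ℕ∞))

/-- the elements `x j / x 0` of the valuation ring -/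
noncomputable def tau (j : Fin (d + 1)) : VV A K := ⟨tauK K x j, tauK_mem K x hx hdim j⟩

lemma coe_aeval_tau (P : MvPolynomial (Fin (d + 1)) A) :
    ((MvPolynomial.aeval (tau x hx hdim) P : VV A K) : K) = MvPolynomial.aeval (tauK K x) P := by
  have := MvPolynomial.comp_aeval_apply (f := tau (K := K) x hx hdim) (VV A K).val P
  exact this

/-- the residues of the `x j / x 0` -/
noncomputable def tbar (j : Fin (d + 1)) : ResidueField (VV A K) :=
  residue (VV A K) (tau x hx hdim j)

lemma tbar_zero : tbar (K := K) x hx hdim 0 = 1 := by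
  have : tau (K := K) x hx hdim 0 = 1 := Subtype.ext (tauK_zero K x hx hdim)
  rw [tbar, this, map_one]

/-- compatibility of evaluation and residues -/
lemma residue_aeval_tau (P : MvPolynomial (Fin (d + 1)) A) :
    residue (VV A K) (MvPolynomial.aeval (tau x hx hdim) P) =
      MvPolynomial.aeval (tbar (K := K) x hx hdim) (MvPolynomial.map (residue A) P) := by
  induction P using MvPolynomial.induction_on with
  | C a =>
    rw [MvPolynomial.aeval_C, MvPolynomial.map_C, MvPolynomial.aeval_C, algebraMap_residueField,
      phi_residue]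
  | add p q hp hq => rw [map_add, map_add, map_add, map_add, hp, hq]
  | mul_X p j hp =>
    rw [map_mul, map_mul, map_mul, map_mul, hp, MvPolynomial.aeval_X, MvPolynomial.map_X,
      MvPolynomial.aeval_X]
    rfl

include hx hdim in
/-- a homogeneous polynomial over the residue field which vanishes at the `tbar` is zero -/
lemma eq_zero_of_aeval_tbar_eq_zero {N : ℕ} {Q : MvPolynomial (Fin (d + 1)) (ResidueField A)}
    (hQ : Q.IsHomogeneous N) (h : MvPolynomial.aeval (tbar (K := K) x hx hdim) Q = 0) : Q = 0 := by
  obtain ⟨P, hP, rfl⟩ := exists_lift_isHomogeneous (residue A) (residue_surjective) hQ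
  rw [← residue_aeval_tau, residue_eq_zero_iff, mem_maximalIdeal_VV, coe_aeval_tau,
    valK_aeval_tauK_lt_one_iff K x hx hdim hP] at h
  ext γ
  rw [MvPolynomial.coeff_map, MvPolynomial.coeff_zero]
  exact (residue_eq_zero_iff _).mpr (h γ)

include hx hdim in
theorem algebraicIndependent_tbar :
    AlgebraicIndependent (ResidueField A) (fun i : Fin d => tbar (K := K) x hx hdim i.succ) := by
  rw [algebraicIndependent_iff]
  intro F hF
  apply eq_zero_of_hom_eq_zero
  apply eq_zero_of_aeval_tbar_eq_zero (K := K) x hx hdim (hom_isHomogeneous F)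
  rw [aeval_hom _ (tbar_zero x hx hdim)]
  exact hF

include hx hdim in
theorem adjoin_tbar_eq_top :
    IntermediateField.adjoin (ResidueField A)
      (Set.range (fun i : Fin d => tbar (K := K) x hx hdim i.succ)) = ⊤ := by
  rw [eq_top_iff]
  rintro ζ -
  set L := IntermediateField.adjoin (ResidueField A)
      (Set.range (fun i : Fin d => tbar (K := K) x hx hdim i.succ)) with hL
  have h1 : ∀ j, tbar (K := K) x hx hdim j ∈ L := by
    intro j
    induction j using Fin.cases with
    | zero => rw [tbar_zero]; exact one_mem _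
    | succ i => exact IntermediateField.subset_adjoin _ _ (Set.mem_range_self i)
  have h2 : ∀ Q : MvPolynomial (Fin (d + 1)) (ResidueField A),
      MvPolynomial.aeval (tbar (K := K) x hx hdim) Q ∈ L := by
    intro Q
    induction Q using MvPolynomial.induction_on with
    | C c => rw [MvPolynomial.aeval_C]; exact L.algebraMap_mem c
    | add p q hp hq => rw [map_add]; exact add_mem hp hq
    | mul_X p j hp => rw [map_mul, MvPolynomial.aeval_X]; exact mul_mem hp (h1 j)
  have h3 : ∀ P : MvPolynomial (Fin (d + 1)) A,
      residue (VV A K) (MvPolynomial.aeval (tau x hx hdim) P) ∈ L := by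
    intro P
    rw [residue_aeval_tau]
    exact h2 _
  obtain ⟨z, rfl⟩ := residue_surjective ζ
  by_cases hz : z ∈ maximalIdeal (VV A K)
  · rw [(residue_eq_zero_iff _).mpr hz]
    exact zero_mem _
  have hz1 : valK A K (z : K) = 1 := by
    rw [mem_maximalIdeal_VV] at hz
    exact le_antisymm z.2 (not_lt.mp hz)
  obtain ⟨a, b, hb, hzab⟩ := exists_div' (A := A) K (z : K)
  have ha : a ≠ 0 := by
    rintro rfl
    rw [hzab, map_zero, zero_div, map_zero] at hz1
    exact zero_ne_one hz1
  have hvab : val A a = val A b := by
    rw [hzab, valK_div] at hz1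
    have hvb : val A b ≠ 0 := fun h => hb (val_eq_zero_iff.mp h)
    rwa [div_eq_one_iff_eq hvb] at hz1
  have hord : ord a = ord b := by
    rw [val_apply ha, val_apply hb, exp_inj] at hvab
    omega
  have haN : a ∈ Ideal.span (Set.range x) ^ ord b := by
    rw [hx, ← hord]
    exact mem_pow_ord ha
  have hbN : b ∈ Ideal.span (Set.range x) ^ ord b := by
    rw [hx]
    exact mem_pow_ord hb
  obtain ⟨P, hP, rfl⟩ := (Ideal.mem_span_pow_iff_exists_isHomogeneous x _).mp haN
  obtain ⟨Q, hQ, hQb⟩ := (Ideal.mem_span_pow_iff_exists_isHomogeneous x _).mp hbN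
  have hx0 := x_zero_ne_zero K x hx hdim
  have hPK := algebraMap_eval_eq K x hx hdim hP
  have hQK := algebraMap_eval_eq K x hx hdim hQ
  rw [hQb] at hQK
  have hbK : algebraMap A K b ≠ 0 := by
    intro h
    have h1 : valK A K (algebraMap A K b) = 0 := by rw [h, map_zero]
    rw [valK_algebraMap, val_eq_zero_iff] at h1
    exact hb h1
  have hq0 : MvPolynomial.aeval (tauK K x) Q ≠ 0 := by
    intro h
    rw [h, mul_zero] at hQK
    exact hbK hQK
  have hzq : z * MvPolynomial.aeval (tau x hx hdim) Q = MvPolynomial.aeval (tau x hx hdim) P := by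
    apply Subtype.ext
    rw [Subalgebra.coe_mul, coe_aeval_tau, coe_aeval_tau, hzab, hPK, hQK]
    field_simp
  have hqunit : IsUnit (MvPolynomial.aeval (tau (K := K) x hx hdim) Q) := by
    rw [isUnit_VV_iff, coe_aeval_tau, valK_aeval_tauK K x hx hdim hQ, hQb, val_apply hb,
      ← exp_add]
    simp
  have hq' : residue (VV A K) (MvPolynomial.aeval (tau x hx hdim) Q) ≠ 0 := by
    intro h
    rw [residue_eq_zero_iff, mem_maximalIdeal, mem_nonunits_iff] at h
    exact h hqunit
  have := congrArg (residue (VV A K)) hzq
  rw [map_mul] at this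
  rw [eq_div_of_mul_eq hq' this]
  exact div_mem (h3 P) (h3 Q)

end Groth.Agent.Helper5.RLRVal
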