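import Mathlib
import Groth.Agent.Lib.Helper5.RLRVal5

/-! A discrete valuation ring dominating a regular local ring, with purely transcendental
residue field extension. -/

set_option autoImplicit false
set_option linter.style.haveILetI false

namespace Groth.Agent.Helper5.RLRVal

open IsLocalRing GrReg WithZero

universe u

variable (A : Type u) [CommRing A] [IsRegularLocalRing A]
  (K : Type u) [Field K] [Algebra A K] [IsFractionRing A K]

theorem isFractionRing_VV : IsFractionRing (VV A K) K := by
  apply IsFractionRing.of_field
  intro z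
  obtain ⟨a, b, -, h⟩ := exists_div' (A := A) K z
  exact ⟨algebraMap A (VV A K) a, algebraMap A (VV A K) b, h⟩

attribute [local instance] algInst

theorem exists_dvr (hA : ¬ IsField A) :
    ∃ (V : Subalgebra A K) (_ : IsDomain V) (_ : IsDiscreteValuationRing V), IsFractionRing V K ∧
      (maximalIdeal V).comap (algebraMap A V) = maximalIdeal A ∧
      ∃ (φ : ResidueField A →+* ResidueField V),
        φ.comp (residue A) = (residue V).comp (algebraMap A V) ∧
        letI := φ.toAlgebra
        ∃ (ι : Type u) (t : ι → ResidueField V), AlgebraicIndependent (ResidueField A) t ∧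
          IntermediateField.adjoin (ResidueField A) (Set.range t) = ⊤ := by
  obtain ⟨x₀, hx₀⟩ := Groth.Agent.Lead.Hom.exists_generators_maximalIdeal (R := A)
  have hdim₀ : ringKrullDim A = ((maximalIdeal A).spanFinrank : ℕ) :=
    (IsRegularLocalRing.spanFinrank_maximalIdeal (R := A)).symm
  have hr : (maximalIdeal A).spanFinrank ≠ 0 := by
    intro h
    apply hA
    rw [IsLocalRing.isField_iff_maximalIdeal_eq, ← hx₀]
    have : Set.range x₀ = ∅ := by
      rw [Set.range_eq_empty_iff, h]
      exact Fin.isEmpty'
    rw [this, Ideal.span_empty]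
  obtain ⟨d, hd⟩ := Nat.exists_eq_succ_of_ne_zero hr
  let x : Fin (d + 1) → A := x₀ ∘ (finCongr hd.symm)
  have hx : Ideal.span (Set.range x) = maximalIdeal A := by
    rw [← hx₀, (finCongr hd.symm).surjective.range_comp]
  have hdim : ringKrullDim A = ((d + 1 : ℕ) : WithBot ℕ∞) := by rw [hdim₀, hd]
  have hdvr : IsDiscreteValuationRing (VV A K) :=
    isDiscreteValuationRing_VV K (x 0) (val_x_zero x hx hdim)
  refine ⟨VV A K, inferInstance, hdvr, isFractionRing_VV A K, comap_maximalIdeal_VV A K,
    phi A K, RingHom.ext fun a => phi_residue A K a, ?_⟩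
  refine ⟨ULift.{u} (Fin d), fun i => tbar (K := K) x hx hdim i.down.succ, ?_, ?_⟩
  · exact (algebraicIndependent_tbar (K := K) x hx hdim).comp ULift.down ULift.down_injective
  · have h := adjoin_tbar_eq_top (K := K) x hx hdim
    have hrange : Set.range (fun i : ULift.{u} (Fin d) => tbar (K := K) x hx hdim i.down.succ) =
        Set.range (fun i : Fin d => tbar (K := K) x hx hdim i.succ) :=
      ULift.down_surjective.range_comp (fun i : Fin d => tbar (K := K) x hx hdim i.succ)
    rw [hrange]
    exact h

end Groth.Agent.Helper5.RLRVal
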