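import Groth.Agent.Lib.Helper11.TorLoc1

/-!
# Relative tor amplitude and flat extension of the algebra
-/

set_option autoImplicit false
set_option linter.unusedSectionVars false
set_option linter.unusedVariables false
set_option linter.style.haveILetI false

universe u

open CategoryTheory CategoryTheory.Limits MonoidalCategory HomologicalComplex
open scoped TensorProduct

attribute [local instance] HasDerivedCategory.standard

namespace Groth.Agent.Helper5.RTA

open Groth.Agent.Helper5.KF Groth.Agent.Helper11.DC Groth.Agent.Helper11.Tel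
  Groth.Agent.Helper11.TorGE Groth.Agent.Helper11

/-- the complex is exact outside `[a, b]` when it has tor amplitude in `[a, b]` -/
lemma exactAt_of_hasTorAmplitudeIn {A' C : Type u} [CommRing A'] [CommRing C]
    (ι : A' →+* C) (K : DRing.Cx C) (a b : ℤ)
    (hK : DRing.HasTorAmplitudeIn A' a b (DRing.toD ((rsC ι).obj K))) (i : ℤ)
    (hi : i < a ∨ b < i) : K.ExactAt i := by
  obtain ⟨EL, hEL, -, ⟨eL⟩⟩ := hK
  have h1 : IsZero ((DerivedCategory.homologyFunctor (ModuleCat.{u} A') i).obj
      (DRing.toD ((rsC ι).obj K))) := by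
    refine IsZero.of_iso ?_ ((DerivedCategory.homologyFunctor (ModuleCat.{u} A') i).mapIso eL.symm)
    refine IsZero.of_iso ?_ ((DerivedCategory.homologyFunctorFactors (ModuleCat.{u} A') i).app EL)
    exact (HomologicalComplex.ExactAt.of_isZero (hEL i hi)).isZero_homology
  rw [TA.isZero_homology_Q_iff_exactAt] at h1
  exact exactAt_of_rsC ι K i h1

/-- tor amplitude relative to `A'` is preserved by a flat extension `C → B'` of the algebra -/
theorem hasTorAmplitudeIn_extC_of_flat {A' C B' : Type u} [CommRing A'] [CommRing C] [CommRing B']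
    (ι : A' →+* C) (φ : C →+* B') (hφ : φ.Flat) (K : DRing.Cx C) (a b : ℤ)
    (hK : DRing.HasTorAmplitudeIn A' a b (DRing.toD ((rsC ι).obj K))) :
    DRing.HasTorAmplitudeIn A' a b (DRing.toD ((rsC (φ.comp ι)).obj ((extC φ).obj K))) := by
  have hKex := exactAt_of_hasTorAmplitudeIn ι K a b hK
  have hflatex : ∀ (W : DRing.Cx C) (i : ℤ), W.ExactAt i → ((extC φ).obj W).ExactAt i := by
    intro W i h1
    rw [HomologicalComplex.exactAt_iff_isZero_homology] at h1 ⊢
    exact ((TA.es φ).map_isZero h1).of_iso (TA.esHomologyIso φ hφ _ i)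
  let X : DRing.Cx A' := (rsC (φ.comp ι)).obj ((extC φ).obj K)
  have hXle : (DRing.toD X).IsLE b := by
    rw [DerivedCategory.isLE_iff]
    intro i hi
    rw [TA.isZero_homology_Q_iff_exactAt]
    exact exactAt_rsC (φ.comp ι) _ i (hflatex K i (hKex i (Or.inr hi)))
  obtain ⟨PX, cX, hPXb, hPXp, ⟨ePX⟩⟩ := PRT.hasProjRes_of_isLE (DRing.toD X) b hXle
  haveI : PX.IsKProjective := isKProjective_of_vanishesAbove PX cX hPXb hPXp
  obtain ⟨ψX, hψX⟩ := exists_lift_of_isKProjective PX X ePX.hom
  have hψXq : QuasiIso ψX := by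
    rw [← DerivedCategory.isIso_Q_map_iff_quasiIso, hψX]
    infer_instance
  obtain ⟨PK, cK, hPKb, hPKp, ⟨ePK⟩, hPKv⟩ := TA.torVan_of_hasTorAmplitudeIn hK
  haveI : PK.IsKProjective := isKProjective_of_vanishesAbove PK cK hPKb hPKp
  obtain ⟨ψK, hψK⟩ := exists_lift_of_isKProjective PK ((rsC ι).obj K) ePK.hom
  have hψKq : QuasiIso ψK := by
    rw [← DerivedCategory.isIso_Q_map_iff_quasiIso, hψK]
    infer_instance
  have hXtor : TA.TorVan a b (DRing.toD X) := by
    refine ⟨PX, cX, hPXb, hPXp, ⟨ePX⟩, ?_⟩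
    intro M i hi
    rw [TA.isZero_homology_Q_iff_exactAt]
    obtain ⟨hFb, hFp, -⟩ := TA.projRes_spec M
    let F : DRing.Cx A' := (projectiveResolution M).cochainComplex
    let π : F ⟶ (CochainComplex.singleFunctor (ModuleCat.{u} A') 0).obj M :=
      (projectiveResolution M).π'
    have hπ : QuasiIso π := inferInstance
    have hFf : ∀ j, Module.Flat A' (F.X j) := fun j => by
      haveI := hFp j
      infer_instance
    refine (exactAt_tens_iff_tensor X PX cX hPXb hPXp ψX hψXq M F 0 hFb hFf π hπ i).mpr ?_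
    refine (exactAt_rsC_tensor_iff (φ.comp ι) ((extC φ).obj K) F i).mpr ?_
    refine (_root_.exactAt_iff_of_quasiIsoAt
      ((extC φ).obj K ◁ (LocalPerf.esCCompIso ι φ F).hom) i).mpr ?_
    refine (exactAt_extC_tensor_iff φ K ((extC ι).obj F) i).mp ?_
    apply hflatex
    refine (exactAt_rsC_tensor_iff ι K F i).mp ?_
    refine (exactAt_tens_iff_tensor _ PK cK hPKb hPKp ψK hψKq M F 0 hFb hFf π hπ i).mp ?_
    rw [← TA.isZero_homology_Q_iff_exactAt]
    exact hPKv M i hi
  exact TA.hasTorAmplitudeIn_of_torVan hXtor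

end Groth.Agent.Helper5.RTA
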