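import Groth.Agent.Lib.Helper5.FPC3
import Groth.Agent.Lib.Helper5.RTA1

/-!
# Flatness of the cokernel of a bounded projective complex connected to a complex of finite
tor amplitude (ring level)
-/

set_option autoImplicit false
set_option linter.unusedSectionVars false
set_option linter.unusedVariables false
set_option linter.style.haveILetI false

universe u

open CategoryTheory CategoryTheory.Limits HomologicalComplex Pretriangulated

attribute [local instance] HasDerivedCategory.standard

namespace Groth.Agent.Helper5.RPF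

open DerivedCategory

section Generic

variable {𝒜 : Type (u + 1)} [Category.{u} 𝒜] [Abelian 𝒜]

/-- `α` induces isomorphisms on `H^i` for `i > m` and an epimorphism on `H^m` -/
def GConn (m : ℤ) {A B : DerivedCategory 𝒜} (α : A ⟶ B) : Prop :=
  (∀ i : ℤ, m < i → IsIso ((DerivedCategory.homologyFunctor 𝒜 i).map α)) ∧
    Epi ((DerivedCategory.homologyFunctor 𝒜 m).map α)

lemma GConn.comp_iso {m : ℤ} {A B B' : DerivedCategory 𝒜} {α : A ⟶ B} (h : GConn m α)
    (e : B ≅ B') : GConn m (α ≫ e.hom) := by
  refine ⟨fun i hi => ?_, ?_⟩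
  · haveI := h.1 i hi
    rw [Functor.map_comp]
    infer_instance
  · haveI := h.2
    rw [Functor.map_comp]
    infer_instance

theorem gconn_mor₁_iff (T : Triangle (DerivedCategory 𝒜)) (hT : T ∈ distTriang (DerivedCategory 𝒜))
    (m : ℤ) :
    GConn m T.mor₁ ↔
      ∀ i : ℤ, m ≤ i → IsZero ((DerivedCategory.homologyFunctor 𝒜 i).obj T.obj₃) := by
  constructor
  · rintro ⟨h1, h2⟩ i hi
    have hepi : Epi ((DerivedCategory.homologyFunctor 𝒜 i).map T.mor₁) := by
      rcases hi.lt_or_eq with h | rfl
      · haveI := h1 i h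
        infer_instance
      · exact h2
    haveI := h1 (i + 1) (by omega)
    have hmono : Mono ((DerivedCategory.homologyFunctor 𝒜 (i + 1)).map T.mor₁) := inferInstance
    have z1 := (HomologySequence.epi_homologyMap_mor₁_iff T hT i).mp hepi
    have z2 := (HomologySequence.mono_homologyMap_mor₁_iff T hT i (i + 1) rfl).mp hmono
    exact (HomologySequence.exact₃ T hT i (i + 1) rfl).isZero_of_both_zeros z1 z2
  · intro h
    have hepi : ∀ i : ℤ, m ≤ i → Epi ((DerivedCategory.homologyFunctor 𝒜 i).map T.mor₁) := by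
      intro i hi
      rw [HomologySequence.epi_homologyMap_mor₁_iff T hT i]
      exact (h i hi).eq_of_tgt _ _
    refine ⟨fun i hi => ?_, hepi m le_rfl⟩
    haveI := hepi i hi.le
    haveI : Mono ((DerivedCategory.homologyFunctor 𝒜 i).map T.mor₁) := by
      rw [HomologySequence.mono_homologyMap_mor₁_iff T hT (i - 1) i (by omega)]
      exact (h (i - 1) (by omega)).eq_of_src _ _
    exact isIso_of_mono_of_epi _

/-- connectivity of a chain map in terms of the exactness of the mapping cone -/
theorem gconn_Q_map_iff {P G : CochainComplex 𝒜 ℤ} (β : P ⟶ G) (m : ℤ) :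
    GConn m (DerivedCategory.Q.map β) ↔ ∀ i : ℤ, m ≤ i → (CochainComplex.mappingCone β).ExactAt i := by
  refine (gconn_mor₁_iff _ (DerivedCategory.mappingCone_triangle_distinguished β) m).trans ?_
  refine forall₂_congr (fun i _ => ?_)
  rw [HomologicalComplex.exactAt_iff_isZero_homology]
  exact ((DerivedCategory.homologyFunctorFactors 𝒜 i).app (CochainComplex.mappingCone β)).isZero_iff

end Generic

section Ring

open Groth.Agent.Helper11 Groth.Agent.Helper11.DC Groth.Agent.Helper5.FPC

variable {R : Type u} [CommRing R]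

lemma flat_biprod (M₁ M₂ : ModuleCat.{u} R) [Module.Flat R M₁] [Module.Flat R M₂] :
    Module.Flat R (M₁ ⊞ M₂ : ModuleCat.{u} R) := by
  haveI : Module.Flat R (M₁ × M₂) := Groth.Agent.Helper11.TA.flat_prod M₁ M₂
  exact Module.Flat.of_linearEquiv (ModuleCat.biprodIsoProd M₁ M₂).toLinearEquiv

theorem flat_cokernel_of_gconn (Pc Fx : DRing.Cx R) (β : Pc ⟶ Fx) (a b bP : ℤ)
    (hPb : ∀ i : ℤ, bP < i → IsZero (Pc.X i)) (hPp : ∀ i, Module.Projective R (Pc.X i))
    (hF : TA.TorVan a b (DRing.toD Fx)) (hβ : GConn (a - 1) (DerivedCategory.Q.map β)) :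
    Module.Flat R (Pc.X a ⧸ LinearMap.range (Pc.d (a - 1) a).hom) := by
  obtain ⟨G, hG, hGf, ⟨e⟩⟩ := TA.hasTorAmplitudeIn_of_torVan hF
  haveI : Pc.IsKProjective := isKProjective_of_vanishesAbove Pc bP hPb hPp
  obtain ⟨β', hβ'⟩ := exists_lift_of_isKProjective Pc G (DerivedCategory.Q.map β ≫ e.inv)
  have hβ'c : GConn (a - 1) (DerivedCategory.Q.map β') := by
    rw [hβ']
    exact hβ.comp_iso e.symm
  have hCex := (gconn_Q_map_iff β' (a - 1)).mp hβ'c
  have hCz : ∀ i, max bP b < i → IsZero ((CochainComplex.mappingCone β').X i) := by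
    intro i hi
    refine IsZero.of_iso ?_ (HomologicalComplex.homotopyCofiber.XIsoBiprod β' i (i + 1) rfl)
    rw [biprod_isZero_iff]
    exact ⟨hPb (i + 1) (by have := le_max_left bP b; omega),
      hG i (Or.inr (by have := le_max_right bP b; omega))⟩
  have hCfl : ∀ i, Module.Flat R ((CochainComplex.mappingCone β').X i) := by
    intro i
    haveI : Module.Flat R (Pc.X (i + 1)) := by
      haveI := hPp (i + 1)
      infer_instance
    haveI := hGf i
    haveI := flat_biprod (Pc.X (i + 1)) (G.X i)
    exact Module.Flat.of_linearEquiv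
      (HomologicalComplex.homotopyCofiber.XIsoBiprod β' i (i + 1) rfl).toLinearEquiv
  have h1 : Module.Flat R ((CochainComplex.mappingCone β').X (a - 1) ⧸
      LinearMap.range ((CochainComplex.mappingCone β').d (a - 1 - 1) (a - 1)).hom) :=
    flat_quot_range_of_exact_above (CochainComplex.mappingCone β') (a - 1) (max bP b) hCz
      (fun i _ => hCfl i) hCex (a - 1 - 1) (by omega)
  have e2 := cokernelConeIso β' (a - 1 - 1) (a - 1) a (by omega) (by omega)
    (hG _ (Or.inl (by omega))) (hG _ (Or.inl (by omega)))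
  have e3 := (ModuleCat.cokernelIsoRangeQuotient
      ((CochainComplex.mappingCone β').d (a - 1 - 1) (a - 1))).symm ≪≫ e2 ≪≫
    ModuleCat.cokernelIsoRangeQuotient (Pc.d (a - 1) a)
  exact Module.Flat.of_linearEquiv e3.toLinearEquiv.symm

end Ring

end Groth.Agent.Helper5.RPF
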