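import Groth.Agent.Lib.Helper5.RPF1
import Groth.Agent.Lib.Helper5.PRF2
import Groth.Agent.Lib.Helper5.FPC5
import Groth.Agent.Lib.Helper21.ModFlat1

/-!
# Pseudo-coherent complexes of stalkwise finite tor dimension: flatness of the truncation
-/

set_option autoImplicit false
set_option linter.unusedSectionVars false
set_option linter.unusedVariables false
set_option linter.style.haveILetI false

universe u

open CategoryTheory CategoryTheory.Limits HomologicalComplex Pretriangulated AlgebraicGeometry

attribute [local instance] HasDerivedCategory.standard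

namespace Groth.Agent.Helper5.RPF

open DerivedCategory CochainComplex Groth.Agent.Helper5.LDer Groth.Agent.Helper5.KRes
  Groth.Agent.Helper13.LocFree Groth.Agent.Helper5.RT Groth.Agent.Helper5.StalkCx
  Groth.Agent.Helper5.FPC Groth.Agent.Helper11

variable {X : Scheme.{u}}

/-- flatness at a point of a cokernel, tested on the stalk -/
lemma isFlatAt_cokernel_of_stalk {A B : X.Modules} (f : A ⟶ B) (x : X)
    (h : Module.Flat (X.presheaf.stalk x)
      (((DerSch.stalkFunctor X x).obj B) ⧸ LinearMap.range ((DerSch.stalkFunctor X x).map f).hom)) :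
    FlatMod.IsFlatAt (cokernel f) x := by
  haveI := h
  let e : (DerSch.stalkFunctor X x).obj (cokernel f) ≅
      ModuleCat.of _ (((DerSch.stalkFunctor X x).obj B) ⧸
        LinearMap.range ((DerSch.stalkFunctor X x).map f).hom) :=
    PreservesCokernel.iso (DerSch.stalkFunctor X x) f ≪≫ ModuleCat.cokernelIsoRangeQuotient _
  exact Module.Flat.of_linearEquiv e.toLinearEquiv

/-- the cokernel of `P^{a-1} ⟶ P^a` is flat at `x` when the strictly perfect complex `P` is
`(a-1)`-connected to a complex whose stalk at `x` has tor amplitude in `[a, b]` -/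
theorem isFlatAt_cokernel_of_conn {P F : CochainComplex X.Modules ℤ} (β : P ⟶ F) (a b aP bP : ℤ)
    (hvP : DCoh.VanishesOutside P aP bP) (hfP : ∀ i, FlatMod.IsFinLocFree (P.X i))
    (hβ : PC.IsConn (a - 1) (DerivedCategory.Q.map β)) (x : X)
    (hx : TA.TorVan a b (DRing.toD (stalkCx x F))) :
    FlatMod.IsFlatAt (cokernel (P.d (a - 1) a)) x := by
  apply isFlatAt_cokernel_of_stalk
  let βx : stalkCx x P ⟶ stalkCx x F :=
    ((DerSch.stalkFunctor X x).mapHomologicalComplex (ComplexShape.up ℤ)).map β
  have hCex : ∀ i, a - 1 ≤ i → (mappingCone β).ExactAt i := by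
    intro i hi
    have hz := (PC.isConn_mor₁_iff _ (DerivedCategory.mappingCone_triangle_distinguished β)
      (a - 1)).mp hβ i hi
    rw [HomologicalComplex.exactAt_iff_isZero_homology]
    exact IsZero.of_iso hz (HDQIso (mappingCone β) i).symm
  have hβx : GConn (a - 1) (DerivedCategory.Q.map βx) := by
    rw [gconn_Q_map_iff]
    intro i hi
    rw [HomologicalComplex.exactAt_iff_isZero_homology]
    refine IsZero.of_iso ?_ ((HomologicalComplex.homologyFunctor _ _ i).mapIso
      (mappingCone.mapHomologicalComplexIso β (DerSch.stalkFunctor X x))).symm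
    exact isZero_homology_stalk (mappingCone β) i
      ((HomologicalComplex.exactAt_iff_isZero_homology _ _).mp (hCex i hi)) x
  exact flat_cokernel_of_gconn (stalkCx x P) (stalkCx x F) βx a b bP
    (fun i hi => (DerSch.stalkFunctor X x).map_isZero (hvP i (Or.inr hi)))
    (fun i => by
      haveI := Groth.Agent.Helper5.FPC.isQuasicoherent_of_isFinLocFree _ (hfP i)
      haveI := free_stalk_of_isFinLocFree (P.X i) (hfP i) x
      exact (inferInstance : Module.Projective (X.presheaf.stalk x) ((P.X i).presheaf.stalk x)))
    hx hβx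

end Groth.Agent.Helper5.RPF
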