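import Groth.Agent.Lib.Helper5.RPF2
import Groth.Agent.Lib.Helper11.TorAmp8

/-!
# Pseudo-coherent complexes of stalkwise finite tor dimension: tor vanishing of the stalks,
openness of flatness, truncation model
-/

set_option autoImplicit false
set_option linter.unusedSectionVars false
set_option linter.unusedVariables false
set_option linter.style.haveILetI false

universe u

open CategoryTheory CategoryTheory.Limits HomologicalComplex Pretriangulated AlgebraicGeometry

attribute [local instance] HasDerivedCategory.standard

namespace Groth.Agent.Helper5.RPF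

open DerivedCategory CochainComplex Groth.Agent.Helper5.LDer Groth.Agent.Helper5.KRes
  Groth.Agent.Helper13.LocFree Groth.Agent.Helper5.RT Groth.Agent.Helper5.StalkCx
  Groth.Agent.Helper5.FPC Groth.Agent.Helper11

variable {X : Scheme.{u}}

/-- tor vanishing of the complex of stalks of a cohomologically bounded complex at a point where
every module has finite tor dimension -/
theorem torVan_stalk_of_finiteTorDim (x : X)
    (hX : ∀ (M : Type u) [AddCommGroup M] [Module (X.presheaf.stalk x) M],
      DRing.HasFiniteTorDim (X.presheaf.stalk x) M)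
    (F : CochainComplex X.Modules ℤ) (c d : ℤ)
    (hF : ∀ i : ℤ, (i < c ∨ d < i) → F.ExactAt i) :
    ∃ N : ℕ, TA.TorVan (c - N) d (DRing.toD (stalkCx x F)) := by
  set K := DRing.toD (stalkCx x F) with hKdef
  have hK : ∀ i : ℤ, (i < c ∨ d < i) →
      IsZero ((DerivedCategory.homologyFunctor (ModuleCat.{u} (X.presheaf.stalk x)) i).obj K) := by
    intro i hi
    rw [hKdef, TA.isZero_homology_Q_iff_exactAt, HomologicalComplex.exactAt_iff_isZero_homology]
    exact isZero_homology_stalk F i
      ((HomologicalComplex.exactAt_iff_isZero_homology _ _).mp (hF i hi)) x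
  choose n hn using fun i : ℤ =>
    hX ((DerivedCategory.homologyFunctor (ModuleCat.{u} (X.presheaf.stalk x)) i).obj K)
  refine ⟨(Finset.Icc c d).sup n, TA.torVan_of_homology K c d hK (fun i => ?_)⟩
  by_cases hi : c ≤ i ∧ i ≤ d
  · have h1 : TA.TorVan (-(n i : ℤ)) 0
        ((DerivedCategory.singleFunctor (ModuleCat.{u} (X.presheaf.stalk x)) 0).obj
          ((DerivedCategory.homologyFunctor (ModuleCat.{u} (X.presheaf.stalk x)) i).obj K)) := by
      rw [TA.torVan_single_iff]
      intro N' p hp
      haveI : Subsingleton ↑(((Tor (ModuleCat.{u} (X.presheaf.stalk x)) p).obj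
          ((DerivedCategory.homologyFunctor (ModuleCat.{u} (X.presheaf.stalk x)) i).obj K)).obj N') :=
        hn i N' p hp
      exact ModuleCat.isZero_of_subsingleton _
    have hle : n i ≤ (Finset.Icc c d).sup n := Finset.le_sup (f := n) (Finset.mem_Icc.mpr hi)
    exact h1.mono (by omega) (by omega)
  · refine TA.TorVan.zero _ _ _ (Functor.map_isZero _ (hK i ?_))
    omega

/-- flatness over the identity is flatness -/
lemma isFlatOverAt_id_iff (M : X.Modules) (y : X) :
    FlatMod.IsFlatOverAt (𝟙 X) M y ↔ FlatMod.IsFlatAt M y := by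
  have e : ((𝟙 X : X ⟶ X).stalkMap y).hom = RingHom.id (X.presheaf.stalk y) := by
    rw [Scheme.Hom.stalkMap_id]
    rfl
  have h : (FlatMod.moduleStalkOver (𝟙 X) M y :
      Module (X.presheaf.stalk y) (M.presheaf.stalk y)) = FlatMod.moduleStalk M y := by
    apply Module.ext'
    intro r m
    change (((𝟙 X : X ⟶ X).stalkMap y).hom r : X.presheaf.stalk y) • m =
      (show X.presheaf.stalk y from r) • m
    rw [e]
    rfl
  constructor
  · intro hfl
    have h1 : @Module.Flat (X.presheaf.stalk y) (M.presheaf.stalk y) _ _
        (FlatMod.moduleStalkOver (𝟙 X) M y) := hfl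
    rw [h] at h1
    exact h1
  · intro hfl
    have h1 : @Module.Flat (X.presheaf.stalk y) (M.presheaf.stalk y) _ _
        (FlatMod.moduleStalk M y) := hfl
    rw [← h] at h1
    exact h1

/-- a quasi-coherent module of finite presentation which is flat at a point is flat in a
neighbourhood of the point -/
theorem exists_open_isFlatAt (M : X.Modules) [M.IsQuasicoherent]
    [SheafOfModules.IsFinitePresentation (R := X.ringCatSheaf) M] (x : X)
    (h : FlatMod.IsFlatAt M x) : ∃ W : X.Opens, x ∈ W ∧ ∀ y ∈ W, FlatMod.IsFlatAt M y := by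
  have ho := Groth.Agent.Helper21.ModFlat.isOpen_flatLocus_module (𝟙 X) M
  exact ⟨⟨_, ho⟩, (isFlatOverAt_id_iff M x).mpr h, fun y hy => (isFlatOverAt_id_iff M y).mp hy⟩

end Groth.Agent.Helper5.RPF
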