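import Groth.Agent.Lib.Helper5.RPF3

/-!
# Pseudo-coherent complexes of stalkwise finite tor dimension are perfect
-/

set_option autoImplicit false
set_option linter.unusedSectionVars false
set_option linter.unusedVariables false
set_option linter.style.haveILetI false

universe u

open CategoryTheory CategoryTheory.Limits HomologicalComplex Pretriangulated AlgebraicGeometry

attribute [local instance] HasDerivedCategory.standard

namespace Groth.Agent.Helper5.RPF

open DerivedCategory CochainComplex Groth.Agent.Helper5.LDer Groth.Agent.Helper5.KRes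
  Groth.Agent.Helper13.LocFree Groth.Agent.Helper5.RT Groth.Agent.Helper5.StalkCx
  Groth.Agent.Helper5.FPC Groth.Agent.Helper11 Groth.Agent.Helper5.KF Groth.Agent.Helper11.DC

variable {X : Scheme.{u}}

/-- flat extension of scalars preserves the tor amplitude -/
theorem hasTorAmplitudeIn_extC_flat {R R' : Type u} [CommRing R] [CommRing R'] (φ : R →+* R')
    (hφ : φ.Flat) (K : DRing.Cx R) (a b : ℤ) (h : DRing.HasTorAmplitudeIn R a b (DRing.toD K)) :
    DRing.HasTorAmplitudeIn R' a b (DRing.toD ((extC φ).obj K)) := by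
  obtain ⟨E, hE, hEf, ⟨e⟩⟩ := h
  haveI := ModuleCat.preservesFiniteLimits_extendScalars_of_flat.{u} hφ
  have iso1 : DRing.toD ((extC φ).obj E) ≅ DRing.toD ((extC φ).obj K) :=
    ((ModuleCat.extendScalars.{u,u,u} φ).mapDerivedCategoryFactors.app E).symm ≪≫
      (ModuleCat.extendScalars.{u,u,u} φ).mapDerivedCategory.mapIso e ≪≫
      (ModuleCat.extendScalars.{u,u,u} φ).mapDerivedCategoryFactors.app _
  refine ⟨(extC φ).obj E, fun i hi => (ModuleCat.extendScalars.{u,u,u} φ).map_isZero (hE i hi),
    fun i => ?_, ⟨iso1⟩⟩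
  haveI := hEf i
  exact es_flat φ (E.X i)

section Restrict

variable {U : Scheme.{u}} (j : U ⟶ X) [IsOpenImmersion j]

/-- tor vanishing of the stalks is inherited by restrictions to opens -/
theorem torVan_stalk_restrict (F : CochainComplex X.Modules ℤ) (y : U) (a b : ℤ)
    (h : TA.TorVan a b (DRing.toD (stalkCx (j.base y) F))) :
    TA.TorVan a b (DRing.toD (stalkCx y ((rCx j).obj F))) := by
  have hfl : (Sky.φst j y).Flat := RingHom.Flat.of_bijective (bijective_φst j y)
  have h1 := hasTorAmplitudeIn_extC_flat (Sky.φst j y) hfl _ a b (TA.hasTorAmplitudeIn_of_torVan h)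
  let e := (NatIso.mapHomologicalComplex (restrictStalkIso j y) (ComplexShape.up ℤ)).app F
  obtain ⟨E, hE, hEf, ⟨eE⟩⟩ := h1
  exact TA.torVan_of_hasTorAmplitudeIn ⟨E, hE, hEf, ⟨eE ≪≫ DerivedCategory.Q.mapIso e.symm⟩⟩

/-- flatness at a point is inherited by restrictions to opens -/
theorem isFlatAt_restrict (M : X.Modules) (y : U) (h : FlatMod.IsFlatAt M (j.base y)) :
    FlatMod.IsFlatAt ((Scheme.Modules.restrictFunctor j).obj M) y := by
  haveI : Module.Flat (X.presheaf.stalk (j.base y)) ((DerSch.stalkFunctor X (j.base y)).obj M) := h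
  haveI h1 : Module.Flat (U.presheaf.stalk y)
      ((DerSch.stalkFunctor X (j.base y) ⋙ ModuleCat.extendScalars (Sky.φst j y)).obj M) :=
    es_flat (Sky.φst j y) _
  exact Module.Flat.of_linearEquiv ((restrictStalkIso j y).app M).toLinearEquiv

end Restrict

end Groth.Agent.Helper5.RPF
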