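import Groth.Agent.Lib.Helper5.RPF1
import Groth.Agent.Lib.Helper11.TorAmp8
import Groth.Agent.Lib.Helper11.DCStupid

/-!
# Flatness of the cokernel of a bounded above *flat* complex connected to a complex of finite
tor amplitude (ring level, relative version of `RPF.flat_cokernel_of_gconn`)
-/

set_option autoImplicit false
set_option linter.unusedSectionVars false
set_option linter.unusedVariables false
set_option linter.style.haveILetI false

universe u

open CategoryTheory CategoryTheory.Limits HomologicalComplex Pretriangulated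

attribute [local instance] HasDerivedCategory.standard

namespace Groth.Agent.Helper5.RPR

open DerivedCategory Groth.Agent.Helper11 Groth.Agent.Helper11.DC Groth.Agent.Helper5.RPF

variable {R : Type u} [CommRing R]

/-- a module `M` such that `M[0]` has tor amplitude in `[0, b]` is flat -/
theorem flat_of_torVan_single₀ (M : ModuleCat.{u} R) (b : ℤ)
    (h : TA.TorVan 0 b ((singleFunctor (ModuleCat.{u} R) 0).obj M)) : Module.Flat R M := by
  obtain ⟨h1, h2, ⟨e⟩⟩ := TA.projRes_spec M
  have hfl : ∀ i, Module.Flat R ((projectiveResolution M).cochainComplex.X i) := fun i => by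
    haveI := h2 i
    infer_instance
  have hv := TA.torVanCx_of_torVan h _ 0 h1 hfl e
  apply TA.flat_of_tor_one
  intro N
  rw [TA.isZero_tor_iff M N 0]
  exact hv N _ (Or.inl (by simp))

/-- a module `M` such that `M[-a]` has tor amplitude in `[a, b]` is flat -/
theorem flat_of_torVan_single (M : ModuleCat.{u} R) (a b : ℤ)
    (h : TA.TorVan a b ((singleFunctor (ModuleCat.{u} R) a).obj M)) : Module.Flat R M := by
  have h1 := h.shift a
  have h2 : TA.TorVan 0 (b - a) ((singleFunctor (ModuleCat.{u} R) 0).obj M) :=
    (h1.of_iso (((singleFunctors (ModuleCat.{u} R)).shiftIso a 0 a (by omega)).app M)).mono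
      (by omega) le_rfl
  exact flat_of_torVan_single₀ M _ h2

theorem flat_bottom_of_torVan_aux (a : ℤ) (n : ℕ) : ∀ (b : ℤ) (D : DRing.Cx R),
    (∀ i : ℤ, i < a → IsZero (D.X i)) → (∀ i : ℤ, a + n < i → IsZero (D.X i)) →
    (∀ i : ℤ, a < i → Module.Flat R (D.X i)) → TA.TorVan a b (Q.obj D) →
    Module.Flat R (D.X a) := by
  induction n with
  | zero =>
    intro b D hlo hhi hfl h
    have hb' : ∀ i : ℤ, a < i → IsZero (D.X i) := fun i hi => hhi i (by simpa using hi)
    have hS := topSC_shortExact D a hb'
    have hT := triangleOfSES_distinguished hS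
    have h3 : IsZero (Q.obj (topSC D a hb').X₃) := by
      apply Q.map_isZero
      rw [IsZero.iff_id_eq_zero]
      apply HomologicalComplex.hom_ext
      intro i
      by_cases hi : i = a
      · subst hi
        exact (topSC_X₃_isZero D i hb').eq_of_src _ _
      · have := topSC_g_isIso D a hb' i hi
        have hz : IsZero (D.X i) := by
          rcases lt_or_gt_of_ne hi with h | h
          · exact hlo i h
          · exact hb' i h
        exact (hz.of_iso (asIso ((topSC D a hb').g.f i)).symm).eq_of_src _ _
    have h2 : TA.TorVan (a - 1 + 1) (b - 1 + 1) (triangleOfSES hS).obj₂ :=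
      TA.TorVan.mono (by omega) (by omega) h
    have h1 := (TA.TorVan.two_of_three (a := a - 1) (b := b - 1) _ hT).2.2 h2
      (TA.TorVan.zero _ _ _ h3)
    have h1' : TA.TorVan a b ((singleFunctor (ModuleCat.{u} R) a).obj (D.X a)) :=
      TA.TorVan.mono (by omega) (by omega) h1
    exact flat_of_torVan_single (D.X a) a b h1'
  | succ n ih =>
    intro b D hlo hhi hfl h
    set c : ℤ := a + ((n + 1 : ℕ) : ℤ) with hc
    have hca : a < c := by rw [hc]; push_cast; omega
    have hb' : ∀ i : ℤ, c < i → IsZero (D.X i) := fun i hi => hhi i hi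
    have hS := topSC_shortExact D c hb'
    have hT := triangleOfSES_distinguished hS
    have hflc : Module.Flat R (D.X c) := hfl c hca
    have h1 : TA.TorVan (a + 1) (max b c + 1) (triangleOfSES hS).obj₁ := by
      apply TA.torVan_of_hasTorAmplitudeIn
      refine ⟨(HomologicalComplex.single _ _ c).obj (D.X c), ?_, ?_, ⟨Iso.refl _⟩⟩
      · intro i hi
        apply HomologicalComplex.isZero_single_obj_X
        have := le_max_right b c
        omega
      · intro i
        by_cases hi : i = c
        · rw [hi]
          exact Module.Flat.of_linearEquiv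
            (HomologicalComplex.singleObjXSelf (ComplexShape.up ℤ) c (D.X c)).toLinearEquiv
        · have hz : IsZero (((HomologicalComplex.single (ModuleCat.{u} R) (ComplexShape.up ℤ) c).obj
            (D.X c)).X i) := HomologicalComplex.isZero_single_obj_X _ _ _ _ hi
          haveI := ModuleCat.subsingleton_of_isZero hz
          infer_instance
    have h2 : TA.TorVan a (max b c) (triangleOfSES hS).obj₂ := h.mono le_rfl (le_max_left _ _)
    have h3 := (TA.TorVan.two_of_three _ hT).1 h1 h2
    have hfa := ih (max b c) (topSC D c hb').X₃ ?_ ?_ ?_ h3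
    · have hac : a ≠ c := by omega
      have := topSC_g_isIso D c hb' a hac
      haveI := hfa
      exact Module.Flat.of_linearEquiv (asIso ((topSC D c hb').g.f a)).toLinearEquiv
    · intro i hi
      have hic : i ≠ c := by omega
      have := topSC_g_isIso D c hb' i hic
      exact (hlo i hi).of_iso (asIso ((topSC D c hb').g.f i)).symm
    · intro i hi
      by_cases hic : i = c
      · subst hic
        exact topSC_X₃_isZero D _ hb'
      · have := topSC_g_isIso D c hb' i hic
        refine (hhi i ?_).of_iso (asIso ((topSC D c hb').g.f i)).symm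
        have : (a : ℤ) + ((n + 1 : ℕ) : ℤ) = a + n + 1 := by push_cast; ring
        omega
    · intro i hi
      by_cases hic : i = c
      · subst hic
        haveI := ModuleCat.subsingleton_of_isZero (topSC_X₃_isZero D _ hb')
        infer_instance
      · have := topSC_g_isIso D c hb' i hic
        haveI : Module.Flat R ((topSC D c hb').X₂.X i) := hfl i hi
        exact Module.Flat.of_linearEquiv (asIso ((topSC D c hb').g.f i)).toLinearEquiv.symm

/-- the bottom term of a bounded complex of tor amplitude in `[a, b]` whose other terms are flat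
is flat -/
theorem flat_bottom_of_torVan (D : DRing.Cx R) (a b c : ℤ)
    (hlo : ∀ i : ℤ, i < a → IsZero (D.X i)) (hhi : ∀ i : ℤ, c < i → IsZero (D.X i))
    (hfl : ∀ i : ℤ, a < i → Module.Flat R (D.X i)) (h : TA.TorVan a b (Q.obj D)) :
    Module.Flat R (D.X a) :=
  flat_bottom_of_torVan_aux a (c - a).toNat b D hlo (fun i hi => hhi i (by omega)) hfl h

/-- relative version of `RPF.flat_cokernel_of_gconn`: the terms of `Pc` are only assumed flat -/
theorem flat_cokernel_of_gconn_flat (Pc Fx : DRing.Cx R) (β : Pc ⟶ Fx) (a b bP : ℤ)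
    (hPb : ∀ i : ℤ, bP < i → IsZero (Pc.X i)) (hPf : ∀ i, Module.Flat R (Pc.X i))
    (hF : TA.TorVan a b (DRing.toD Fx)) (hβ : GConn (a - 1) (DerivedCategory.Q.map β)) :
    Module.Flat R (Pc.X a ⧸ LinearMap.range (Pc.d (a - 1) a).hom) := by
  have hFex : ∀ i : ℤ, i < a → Fx.ExactAt i := by
    intro i hi
    obtain ⟨P', c, hc, hp, ⟨e⟩, hv⟩ := hF
    rw [← TA.isZero_homology_Q_iff_exactAt]
    exact IsZero.of_iso (TA.isZero_homology_of_torVanCx P' hv i (Or.inl hi))
      ((homologyFunctor (ModuleCat.{u} R) i).mapIso e.symm)
  haveI : Fx.IsGE a := by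
    rw [CochainComplex.isGE_iff]
    exact hFex
  haveI : QuasiIso (Fx.πTruncGE a) := (CochainComplex.quasiIso_πTruncGE_iff Fx a).mpr inferInstance
  haveI : QuasiIso (CochainComplex.truncGEMap β a) := by
    rw [CochainComplex.quasiIso_truncGEMap_iff]
    intro i hi
    rw [quasiIsoAt_iff_isIso_homologyMap]
    have h1 := hβ.1 i (by omega)
    exact (NatIso.isIso_map_iff (DerivedCategory.homologyFunctorFactors (ModuleCat.{u} R) i) β).mp h1
  have e : Q.obj (Pc.truncGE a) ≅ Q.obj Fx :=
    asIso (Q.map (CochainComplex.truncGEMap β a)) ≪≫ (asIso (Q.map (Fx.πTruncGE a))).symm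
  have hD : TA.TorVan a b (Q.obj (Pc.truncGE a)) := hF.of_iso e.symm
  have hfl := flat_bottom_of_torVan (Pc.truncGE a) a b (max a bP)
    (fun i hi => (Pc.truncGE a).isZero_of_isStrictlyGE a i hi)
    (fun i hi => by
      have hai : a < i := by have := le_max_left a bP; omega
      exact IsZero.of_iso (hPb i (by have := le_max_right a bP; omega)) (Pc.truncGEXIso a i hai))
    (fun i hi => by
      haveI := hPf i
      exact Module.Flat.of_linearEquiv (Pc.truncGEXIso a i hi).toLinearEquiv) hD
  haveI := hfl
  exact Module.Flat.of_linearEquiv (TA.truncGEXIsoQuot Pc a).toLinearEquiv.symm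

end Groth.Agent.Helper5.RPR
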