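import Groth.Agent.Lib.Helper5.RPR1
import Groth.Agent.Lib.Helper5.RPF2
import Groth.Agent.Lib.Helper5.RTA3
import Groth.Agent.Lib.Helper5.BCF3

/-!
# Relative version of `RPF2`: flatness over the base of the cokernel of a strictly perfect complex
connected to a complex of stalkwise finite relative tor amplitude
-/

set_option autoImplicit false
set_option linter.unusedSectionVars false
set_option linter.unusedVariables false
set_option linter.style.haveILetI false

universe u

open CategoryTheory CategoryTheory.Limits HomologicalComplex Pretriangulated AlgebraicGeometry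

attribute [local instance] HasDerivedCategory.standard

namespace Groth.Agent.Helper5.RPR

open DerivedCategory CochainComplex Groth.Agent.Helper5.LDer Groth.Agent.Helper5.KRes
  Groth.Agent.Helper13.LocFree Groth.Agent.Helper5.RT Groth.Agent.Helper5.StalkCx
  Groth.Agent.Helper5.FPC Groth.Agent.Helper11 Groth.Agent.Helper5.RPF

variable {X S : Scheme.{u}} (f : X ⟶ S)

lemma isFlatOverAt_iff (M : X.Modules) (x : X) :
    FlatMod.IsFlatOverAt f M x ↔
      Module.Flat (S.presheaf.stalk (f.base x)) ((DerSch.stalkOver f x).obj M) := Iff.rfl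

/-- exactness is preserved by the relative stalk functor -/
lemma exactAt_stalkCxOver (C : CochainComplex X.Modules ℤ) (i : ℤ) (h : C.ExactAt i) (x : X) :
    ((DerSch.stalkCxOver f x).obj C).ExactAt i := by
  rw [HomologicalComplex.exactAt_iff_isZero_homology] at h ⊢
  exact IsZero.of_iso ((DerSch.stalkOver f x).map_isZero h)
    ((C.sc i).mapHomologyIso (DerSch.stalkOver f x))

/-- flatness over the base at a point of a cokernel, tested on the stalk -/
lemma isFlatOverAt_cokernel_of_stalk {A B : X.Modules} (φ : A ⟶ B) (x : X)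
    (h : Module.Flat (S.presheaf.stalk (f.base x))
      (((DerSch.stalkOver f x).obj B) ⧸ LinearMap.range ((DerSch.stalkOver f x).map φ).hom)) :
    FlatMod.IsFlatOverAt f (cokernel φ) x := by
  rw [isFlatOverAt_iff]
  haveI := h
  let e : (DerSch.stalkOver f x).obj (cokernel φ) ≅
      ModuleCat.of _ (((DerSch.stalkOver f x).obj B) ⧸
        LinearMap.range ((DerSch.stalkOver f x).map φ).hom) :=
    PreservesCokernel.iso (DerSch.stalkOver f x) φ ≪≫ ModuleCat.cokernelIsoRangeQuotient _
  exact Module.Flat.of_linearEquiv e.toLinearEquiv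

/-- a finite locally free module is flat over the base of a flat morphism -/
lemma flat_stalkOver_of_isFinLocFree [Flat f] (M : X.Modules) (hM : FlatMod.IsFinLocFree M) (x : X) :
    Module.Flat (S.presheaf.stalk (f.base x)) ((DerSch.stalkOver f x).obj M) := by
  rw [← isFlatOverAt_iff]
  refine Groth.Agent.Helper5.BCF.isFlatOver_of_isFlat M ?_ x
  intro y
  haveI := Groth.Agent.Helper5.FPC.isQuasicoherent_of_isFinLocFree _ hM
  haveI := free_stalk_of_isFinLocFree M hM y
  exact (inferInstance : Module.Flat (X.presheaf.stalk y) (M.presheaf.stalk y))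

/-- relative version of `RPF.isFlatAt_cokernel_of_conn` -/
theorem isFlatOverAt_cokernel_of_conn [Flat f] {P F : CochainComplex X.Modules ℤ} (β : P ⟶ F)
    (a b aP bP : ℤ)
    (hvP : DCoh.VanishesOutside P aP bP) (hfP : ∀ i, FlatMod.IsFinLocFree (P.X i))
    (hβ : PC.IsConn (a - 1) (DerivedCategory.Q.map β)) (x : X)
    (hx : TA.TorVan a b (DRing.toD ((DerSch.stalkCxOver f x).obj F))) :
    FlatMod.IsFlatOverAt f (cokernel (P.d (a - 1) a)) x := by
  apply isFlatOverAt_cokernel_of_stalk
  let βx : (DerSch.stalkCxOver f x).obj P ⟶ (DerSch.stalkCxOver f x).obj F :=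
    (DerSch.stalkCxOver f x).map β
  have hCex : ∀ i, a - 1 ≤ i → (mappingCone β).ExactAt i := by
    intro i hi
    have hz := (PC.isConn_mor₁_iff _ (DerivedCategory.mappingCone_triangle_distinguished β)
      (a - 1)).mp hβ i hi
    rw [HomologicalComplex.exactAt_iff_isZero_homology]
    exact IsZero.of_iso hz (HDQIso (mappingCone β) i).symm
  have hβx : GConn (a - 1) (DerivedCategory.Q.map βx) := by
    rw [gconn_Q_map_iff]
    intro i hi
    have h1 := exactAt_stalkCxOver f (mappingCone β) i (hCex i hi) x
    rw [HomologicalComplex.exactAt_iff_isZero_homology] at h1 ⊢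
    exact IsZero.of_iso h1 ((HomologicalComplex.homologyFunctor _ _ i).mapIso
      (mappingCone.mapHomologicalComplexIso β (DerSch.stalkOver f x))).symm
  exact flat_cokernel_of_gconn_flat ((DerSch.stalkCxOver f x).obj P)
    ((DerSch.stalkCxOver f x).obj F) βx a b bP
    (fun i hi => (DerSch.stalkOver f x).map_isZero (hvP i (Or.inr hi)))
    (fun i => flat_stalkOver_of_isFinLocFree f (P.X i) (hfP i) x)
    hx hβx

end Groth.Agent.Helper5.RPR
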