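import Groth.Agent.Lib.Helper5.RPR3

/-!
# The relative stalk complex under restriction to opens
-/

set_option autoImplicit false
set_option linter.unusedSectionVars false
set_option linter.unusedVariables false
set_option linter.style.haveILetI false

universe u

open CategoryTheory CategoryTheory.Limits HomologicalComplex Pretriangulated AlgebraicGeometry

attribute [local instance] HasDerivedCategory.standard

namespace Groth.Agent.Helper5.RPR

open DerivedCategory CochainComplex Groth.Agent.Helper5.LDer Groth.Agent.Helper5.KRes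
  Groth.Agent.Helper13.LocFree Groth.Agent.Helper5.RT Groth.Agent.Helper5.StalkCx
  Groth.Agent.Helper5.FPC Groth.Agent.Helper11 Groth.Agent.Helper5.RPF Groth.Agent.Helper5.KF
  Groth.Agent.Helper5.PC

section Ring

open TensorProduct

open scoped ChangeOfRings

variable {R B B' : Type u} [CommRing R] [CommRing B] [CommRing B']

/-- `N ≃ B' ⊗[B] N` over `R`, for a bijective `φ : B →+* B'` -/
noncomputable def rsEsEquiv (ψ₀ : R →+* B) (φ : B →+* B') (hφ : Function.Bijective φ)
    (ψ' : R →+* B') (hψ' : ∀ r, ψ' r = φ (ψ₀ r)) (N : ModuleCat.{u} B) :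
    ((ModuleCat.restrictScalars ψ₀).obj N) ≃ₗ[R]
      ((ModuleCat.restrictScalars ψ').obj ((ModuleCat.extendScalars φ).obj N)) := by
  letI := φ.toAlgebra
  let e₀ : B ≃ₗ[B] B' := LinearEquiv.ofBijective (Algebra.linearMap B B') hφ
  let e₁ : N ≃ₗ[B] B' ⊗[B] N :=
    (TensorProduct.lid B N).symm ≪≫ₗ TensorProduct.congr e₀ (LinearEquiv.refl B N)
  have hsm : ∀ (b : B) (t : B' ⊗[B] N),
      b • t = ((φ b : B') • (show ((ModuleCat.extendScalars φ).obj N) from t) :
        ((ModuleCat.extendScalars φ).obj N)) := by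
    intro b t
    induction t using TensorProduct.induction_on with
    | zero =>
      rw [smul_zero]
      exact (smul_zero _).symm
    | tmul b' n =>
      rw [TensorProduct.smul_tmul']
      erw [ModuleCat.ExtendScalars.smul_tmul]
      rw [Algebra.smul_def]
      rfl
    | add t₁ t₂ h₁ h₂ =>
      rw [smul_add, h₁, h₂]
      exact (smul_add _ _ _).symm
  exact
    { toFun := fun n => e₁ n
      invFun := fun t => e₁.symm t
      left_inv := fun n => e₁.symm_apply_apply n
      right_inv := fun t => e₁.apply_symm_apply t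
      map_add' := fun n₁ n₂ => e₁.map_add n₁ n₂
      map_smul' := fun r n => by
        change e₁ (ψ₀ r • (show N from n)) = (ψ' r : B') • (show ((ModuleCat.extendScalars φ).obj N)
          from e₁ n)
        rw [e₁.map_smul, hsm, hψ'] }

lemma rsEsEquiv_apply (ψ₀ : R →+* B) (φ : B →+* B') (hφ : Function.Bijective φ)
    (ψ' : R →+* B') (hψ' : ∀ r, ψ' r = φ (ψ₀ r)) (N : ModuleCat.{u} B) (n : N) :
    rsEsEquiv ψ₀ φ hφ ψ' hψ' N n = ((1 : B') ⊗ₜ[B,φ] n : (ModuleCat.extendScalars φ).obj N) := by
  letI := φ.toAlgebra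
  change (TensorProduct.congr (LinearEquiv.ofBijective (Algebra.linearMap B B') hφ)
    (LinearEquiv.refl B N)) ((TensorProduct.lid B N).symm n) = _
  rw [TensorProduct.lid_symm_apply, TensorProduct.congr_tmul]
  congr 1
  exact map_one (algebraMap B B')

/-- the natural isomorphism `res_{ψ₀} ≅ ext_φ ⋙ res_{ψ'}` for a bijective `φ` with `ψ' = φ ∘ ψ₀` -/
noncomputable def rsEsNatIso (ψ₀ : R →+* B) (φ : B →+* B') (hφ : Function.Bijective φ)
    (ψ' : R →+* B') (hψ' : ∀ r, ψ' r = φ (ψ₀ r)) :
    ModuleCat.restrictScalars.{u} ψ₀ ≅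
      ModuleCat.extendScalars.{u, u, u} φ ⋙ ModuleCat.restrictScalars.{u} ψ' :=
  NatIso.ofComponents (fun N => (rsEsEquiv ψ₀ φ hφ ψ' hψ' N).toModuleIso) (by
    intro N N' h
    ext n
    have h1 := rsEsEquiv_apply ψ₀ φ hφ ψ' hψ' N n
    have h2 := rsEsEquiv_apply ψ₀ φ hφ ψ' hψ' N' (h.hom n)
    change rsEsEquiv ψ₀ φ hφ ψ' hψ' N' (h.hom n) =
      ((ModuleCat.extendScalars φ).map h).hom (rsEsEquiv ψ₀ φ hφ ψ' hψ' N n)
    refine h2.trans ?_
    refine Eq.trans ?_ (congrArg ((ModuleCat.extendScalars φ).map h).hom h1.symm)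
    exact (ModuleCat.ExtendScalars.map_tmul φ h (1 : B') n).symm)

end Ring

section Sch

variable {X S : Scheme.{u}} (f : X ⟶ S) {U : Scheme.{u}} (j : U ⟶ X) [IsOpenImmersion j]

/-- the relative stalk of a restriction -/
noncomputable def stalkOverRestrictIso (y : U) :
    Scheme.Modules.restrictFunctor j ⋙ DerSch.stalkOver (j ≫ f) y ≅
      DerSch.stalkOver f (j.base y) :=
  (Functor.associator _ _ _).symm ≪≫
    Functor.isoWhiskerRight (restrictStalkIso j y)
      (ModuleCat.restrictScalars ((j ≫ f).stalkMap y).hom) ≪≫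
    Functor.associator _ _ _ ≪≫
    Functor.isoWhiskerLeft (DerSch.stalkFunctor X (j.base y))
      (rsEsNatIso (f.stalkMap (j.base y)).hom (Sky.φst j y) (bijective_φst j y)
        ((j ≫ f).stalkMap y).hom (fun r => by
          rw [Scheme.Hom.stalkMap_comp]
          rfl)).symm

/-- the relative stalk complex of a restriction -/
noncomputable def stalkCxOverRestrictIso (F : CochainComplex X.Modules ℤ) (y : U) :
    (DerSch.stalkCxOver (j ≫ f) y).obj ((rCx j).obj F) ≅
      (DerSch.stalkCxOver f (j.base y)).obj F := by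
  haveI i1 : (DerSch.stalkOver f (j.base y)).PreservesZeroMorphisms := inferInstance
  haveI i2 : (Scheme.Modules.restrictFunctor j ⋙
    DerSch.stalkOver (j ≫ f) y).PreservesZeroMorphisms := inferInstance
  exact (@NatIso.mapHomologicalComplex _ _ _ _ _ _ _ _ _ i2 i1
    (stalkOverRestrictIso f j y) (ComplexShape.up ℤ)).app F

theorem torVan_stalkCxOver_restrict (F : CochainComplex X.Modules ℤ) (y : U) (a b : ℤ)
    (h : TA.TorVan a b (DRing.toD ((DerSch.stalkCxOver f (j.base y)).obj F))) :
    TA.TorVan a b (DRing.toD ((DerSch.stalkCxOver (j ≫ f) y).obj ((rCx j).obj F))) :=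
  h.of_iso (DerivedCategory.Q.mapIso (stalkCxOverRestrictIso f j F y)).symm

theorem torVan_stalkCxOver_of_restrict (F : CochainComplex X.Modules ℤ) (y : U) (a b : ℤ)
    (h : TA.TorVan a b (DRing.toD ((DerSch.stalkCxOver (j ≫ f) y).obj ((rCx j).obj F)))) :
    TA.TorVan a b (DRing.toD ((DerSch.stalkCxOver f (j.base y)).obj F)) :=
  h.of_iso (DerivedCategory.Q.mapIso (stalkCxOverRestrictIso f j F y))

end Sch

end Groth.Agent.Helper5.RPR
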