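import Groth.Agent.Lib.Helper5.RPR5
import Groth.Agent.Lib.Helper11.TorAmp6

/-!
# Locally finite stalkwise relative tor amplitude: closure properties, and the comparison with
the flat-representative form for pseudo-coherent objects
-/

set_option autoImplicit false
set_option linter.unusedSectionVars false
set_option linter.unusedVariables false
set_option linter.style.haveILetI false

universe u

open CategoryTheory CategoryTheory.Limits HomologicalComplex Pretriangulated AlgebraicGeometry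

attribute [local instance] HasDerivedCategory.standard

namespace Groth.Agent.Helper5.RPR

open DerivedCategory CochainComplex Groth.Agent.Helper5.LDer Groth.Agent.Helper5.KRes
  Groth.Agent.Helper13.LocFree Groth.Agent.Helper5.RT Groth.Agent.Helper5.StalkCx
  Groth.Agent.Helper5.FPC Groth.Agent.Helper11 Groth.Agent.Helper5.RPF Groth.Agent.Helper5.KF
  Groth.Agent.Helper5.PC Groth.Agent.Helper5.PCT Groth.Agent.Helper5.RTA

section Generic

variable {C : Type*} [Category C] [HasZeroObject C] [HasShift C ℤ] [Preadditive C]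
  [∀ n : ℤ, (CategoryTheory.shiftFunctor C n).Additive] [Pretriangulated C]

/-- in a pretriangulated category a retract is a direct summand -/
lemma exists_iso_biprod_of_retract {K L : C} (h : Retract K L) :
    ∃ Z : C, Nonempty (L ≅ K ⊞ Z) := by
  obtain ⟨Z, g, k, hT⟩ := distinguished_cocone_triangle h.i
  haveI : IsSplitMono h.i := ⟨⟨⟨h.r, h.retract⟩⟩⟩
  have zero := Triangle.mor₃_eq_zero_of_mono₁ _ hT (inferInstance : Mono h.i)
  obtain ⟨e, -, -⟩ := exists_iso_binaryBiproduct_of_distTriang _ hT zero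
  exact ⟨Z, ⟨e⟩⟩

end Generic

section Ring

variable {R : Type u} [CommRing R]

theorem torVan_of_retract {a b : ℤ} {K L : Dual.D R} (h : Retract K L) (hL : TA.TorVan a b L) :
    TA.TorVan a b K := by
  obtain ⟨Z, ⟨e⟩⟩ := exists_iso_biprod_of_retract h
  exact (TA.TorVan.biprod_both K Z (hL.of_iso e)).1

end Ring

variable {X S : Scheme.{u}} (f : X ⟶ S)

/-- the relative stalk functor on derived categories -/
noncomputable abbrev stalkD (y : X) : DCoh.D X ⥤ Dual.D (S.presheaf.stalk (f.base y)) :=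
  (DerSch.stalkOver f y).mapDerivedCategory

/-- the relative stalk of an object in terms of a representative -/
noncomputable def stalkDIso (y : X) {K : DCoh.D X} (F : CochainComplex X.Modules ℤ)
    (e : DCoh.toD X F ≅ K) :
    (stalkD f y).obj K ≅ DRing.toD ((DerSch.stalkCxOver f y).obj F) :=
  (stalkD f y).mapIso e.symm ≪≫ (DerSch.stalkOver f y).mapDerivedCategoryFactors.app F

/-- locally finite stalkwise relative tor amplitude -/
def LocTorVan (K : DCoh.D X) : Prop :=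
  ∀ x : X, ∃ (V : X.Opens) (a b : ℤ), x ∈ V ∧ ∀ y : X, y ∈ V → TA.TorVan a b ((stalkD f y).obj K)

lemma torVan_of_hasRelFlatAmplitudeIn (G : CochainComplex X.Modules ℤ) (a b : ℤ)
    (h : DCoh.HasRelFlatAmplitudeIn f a b (DerivedCategory.Q.obj G)) (y : X) :
    TA.TorVan a b (DRing.toD ((DerSch.stalkCxOver f y).obj G)) := by
  obtain ⟨E, hE, hEf, ⟨e⟩⟩ := h
  refine TA.torVan_of_hasTorAmplitudeIn ⟨(DerSch.stalkCxOver f y).obj E,
    fun i hi => (DerSch.stalkOver f y).map_isZero (hE i hi),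
    fun i => (isFlatOverAt_iff f (E.X i) y).mp (hEf i y), ⟨stalkCxOverDIso f y e⟩⟩

theorem locTorVan_of_locHasFiniteRelTorDim (K : DCoh.D X) (hK : DCoh.LocHasFiniteRelTorDim f K) :
    LocTorVan f K := by
  intro x
  obtain ⟨V, a, b, hxV, hV⟩ := hK x
  obtain ⟨F, ⟨eF⟩⟩ : ∃ F : CochainComplex X.Modules ℤ, Nonempty (DCoh.toD X F ≅ K) :=
    ⟨_, ⟨(DerivedCategory.Q.objObjPreimageIso K)⟩⟩
  refine ⟨V, a, b, hxV, fun y hy => ?_⟩
  have h1 := torVan_of_hasRelFlatAmplitudeIn (V.ι ≫ f) _ a b (hV F ⟨eF⟩) ⟨y, hy⟩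
  have h2 := torVan_stalkCxOver_of_restrict f V.ι F ⟨y, hy⟩ a b h1
  exact h2.of_iso (stalkDIso f y F eF).symm

theorem locHasFiniteRelTorDim_of_locTorVan [Flat f] (K : DCoh.D X)
    (hpc : ∀ m : ℤ, DCoh.IsPseudoCoherentD m K) (hK : LocTorVan f K) :
    DCoh.LocHasFiniteRelTorDim f K := by
  intro x
  obtain ⟨V₀, a, b, hxV₀, hV₀⟩ := hK x
  obtain ⟨F, ⟨eF⟩⟩ : ∃ F : CochainComplex X.Modules ℤ, Nonempty (DCoh.toD X F ≅ K) :=
    ⟨_, ⟨(DerivedCategory.Q.objObjPreimageIso K)⟩⟩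
  have hpc' : PCAt (a - 1) (DerivedCategory.Q.obj F) x :=
    pcAt_of_iso eF.symm ((isPseudoCoherentD_iff_forall_pcAt (a - 1) K).mp (hpc (a - 1)) x)
  obtain ⟨W, b', hxW, hWV, hW⟩ := exists_relFlatAmplitude_of_pcAt f F a b x hpc' V₀ hxV₀
    (fun y hy => (hV₀ y hy).of_iso (stalkDIso f y F eF))
  refine ⟨W, a, b', hxW, ?_⟩
  rintro F' ⟨eF'⟩
  exact Groth.Agent.Helper5.BCF.hasRelFlatAmplitudeIn_of_iso
    (restrictQIso W.ι (eF ≪≫ eF'.symm)) hW

section Closure

theorem locTorVan_of_isZero (K : DCoh.D X) (hK : IsZero K) : LocTorVan f K := fun x =>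
  ⟨⊤, 0, 0, trivial, fun y _ => TA.TorVan.zero _ _ _ ((stalkD f y).map_isZero hK)⟩

theorem locTorVan_shift (K : DCoh.D X) (n : ℤ) (hK : LocTorVan f K) : LocTorVan f (K⟦n⟧) := by
  intro x
  obtain ⟨V, a, b, hxV, hV⟩ := hK x
  refine ⟨V, a - n, b - n, hxV, fun y hy => ?_⟩
  exact ((hV y hy).shift n).of_iso (((stalkD f y).commShiftIso n).app K).symm

theorem locTorVan_obj₂ (T : Triangle (DCoh.D X)) (hT : T ∈ distTriang (DCoh.D X))
    (h₁ : LocTorVan f T.obj₁) (h₃ : LocTorVan f T.obj₃) : LocTorVan f T.obj₂ := by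
  intro x
  obtain ⟨V₁, a₁, b₁, hxV₁, hV₁⟩ := h₁ x
  obtain ⟨V₃, a₃, b₃, hxV₃, hV₃⟩ := h₃ x
  refine ⟨V₁ ⊓ V₃, min a₁ a₃, max b₁ b₃, ⟨hxV₁, hxV₃⟩, fun y hy => ?_⟩
  have hT' := (stalkD f y).map_distinguished _ hT
  exact (TA.TorVan.two_of_three _ hT').2.1
    ((hV₁ y hy.1).mono (min_le_left _ _) (le_max_left _ _))
    ((hV₃ y hy.2).mono (min_le_right _ _) (le_max_right _ _))

theorem locTorVan_of_retract {K L : DCoh.D X} (h : Retract K L) (hL : LocTorVan f L) :
    LocTorVan f K := by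
  intro x
  obtain ⟨V, a, b, hxV, hV⟩ := hL x
  exact ⟨V, a, b, hxV, fun y hy => torVan_of_retract (h.map (stalkD f y)) (hV y hy)⟩

end Closure

end Groth.Agent.Helper5.RPR
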