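import Groth.Agent.Lib.Helper5.KRes6
import Groth.Agent.Lib.Helper5.KRes2

/-!
# Functorial K-flat resolutions of complexes of modules over a ring
-/

set_option autoImplicit false
set_option linter.unusedSectionVars false
set_option linter.unusedVariables false
set_option linter.style.haveILetI false

universe u

open CategoryTheory CategoryTheory.Limits HomologicalComplex ZeroObject

namespace Groth.Agent.Helper5.RRes

open Groth.Agent.Helper5.KRes Groth.Agent.Helper5.KF

variable (A : Type u) [CommRing A]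

/-- the functorial free cover on `A`-modules -/
noncomputable def covAF : CovF (ModuleCat.{u} A) :=
  ⟨CategoryTheory.forget (ModuleCat.{u} A) ⋙ ModuleCat.free A, (ModuleCat.adj A).counit,
    fun M => inferInstance⟩

instance flat_covAF (M : ModuleCat.{u} A) : Module.Flat A ((covAF A).toCov.obj M) :=
  inferInstanceAs (Module.Flat A (((CategoryTheory.forget (ModuleCat.{u} A)).obj M) →₀ A))

/-- the initial functorial stage: the zero functor -/
noncomputable def fs₀ : FStage (ModuleCat.{u} A) :=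
  ⟨(Functor.const _).obj 0, 0⟩

variable {A}

lemma KFl_cellCx {L M : DRing.Cx A} (g : L ⟶ M) : KFl (cellCx (covAF A).toCov g) :=
  KFl.of_d_eq_zero _ (fun i j => rfl) (fun i => flat_covAF A _)

lemma KFl_stepL {L M : DRing.Cx A} (g : L ⟶ M) (hL : KFl L) : KFl (stepL (covAF A).toCov g) :=
  KFl.cone _ (KFl_cellCx g) hL

theorem fstage_KFl (C : DRing.Cx A) :
    ∀ k : ℕ, KFl ((fstage (covAF A) (fs₀ A) k).P.obj C)
  | 0 => KFl.zero
  | k + 1 => KFl_stepL _ (fstage_KFl C k)

variable (A) in
theorem exists_functorial_KFl_resolution :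
    ∃ (P : DRing.Cx A ⥤ DRing.Cx A) (ψ : P ⟶ 𝟭 (DRing.Cx A)),
      ∀ C : DRing.Cx A, KFl (P.obj C) ∧ QuasiIso (ψ.app C) := by
  refine ⟨resP (covAF A) (fs₀ A), resψ (covAF A) (fs₀ A), fun C => ⟨?_, ?_⟩⟩
  · exact G.KFl.of_isColimit (seqAt (covAF A) (fs₀ A) C) (coconeAt (covAF A) (fs₀ A) C)
      (isColimitAt (covAF A) (fs₀ A) C) (fstage_KFl C)
  · rw [← desc_at]
    refine quasiIso_of_kill (seqAt (covAF A) (fs₀ A) C) (coconeAt (covAF A) (fs₀ A) C)
      (isColimitAt (covAF A) (fs₀ A) C) C (fun k => (targetAt (covAF A) (fs₀ A) C).ι.app k) _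
      (fun k => (isColimitAt (covAF A) (fs₀ A) C).fac _ k) ?_
    intro k n n' hn x' m hx hm
    obtain ⟨y, hy1, hy2⟩ := kill' (covAF A).toCov ((fstage (covAF A) (fs₀ A) k).γ.app C)
      (𝟭 (ModuleCat.{u} A)) n n' hn x' m hx hm
    refine ⟨y, ?_, hy2⟩
    refine hy1.trans ?_
    rw [seqAt_map_succ]
    rfl

end Groth.Agent.Helper5.RRes
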