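import Groth.Agent.Lib.Helper5.RTA9
import Groth.Agent.Lib.Helper5.PDZ6

/-!
# Relative stalkwise tor amplitude is stable under restriction of the morphism to an open of the
target (S6241)
-/

set_option autoImplicit false
set_option linter.unusedSectionVars false
set_option linter.unusedVariables false
set_option linter.style.haveILetI false
set_option maxHeartbeats 400000

universe u

open CategoryTheory CategoryTheory.Limits AlgebraicGeometry TopologicalSpace

attribute [local instance] HasDerivedCategory.standard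

namespace Groth.Agent.Helper5.RTA

open Groth.Agent.Helper5.TB Groth.Agent.Helper5.RPR Groth.Agent.Helper11
  Groth.Agent.Helper5.TBA Groth.Agent.Helper5.RT Groth.Agent.Helper5.PCT Groth.Agent.Helper5.TT
  Groth.Agent.Helper5.KF Groth.Agent.Helper11.TA Groth.Agent.Helper5.CHP

variable {X Y : Scheme.{u}}

theorem hasTorAmplitude_morphismRestrict (f : X ⟶ Y) (F : CochainComplex X.Modules ℤ) (m n : ℤ)
    (hF : DerSch.HasTorAmplitude f m n F) (V : Y.Opens) :
    DerSch.HasTorAmplitude (f ∣_ V) m n ((DCoh.restrictCx (f ⁻¹ᵁ V)).obj F) := by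
  rw [PDZ.hasTorAmplitude_iff_torVan] at hF ⊢
  intro y
  rw [← TBA.torVan_postcomp_iff (f ∣_ V) V.ι]
  rw [PDZ.torVan_stalkD_congr (morphismRestrict_ι f V)]
  have e1 : DCoh.toD _ ((DCoh.restrictCx (f ⁻¹ᵁ V)).obj F) ≅
      (DCoh.restrictD (f ⁻¹ᵁ V).ι).obj (DCoh.toD X F) :=
    ((Scheme.Modules.restrictFunctor (f ⁻¹ᵁ V).ι).mapDerivedCategoryFactors.app F).symm
  refine TA.TorVan.of_iso ((stalkD ((f ⁻¹ᵁ V).ι ≫ f) y).mapIso e1).symm ?_
  rw [TBA.torVan_stalkD_restrict_iff]
  exact hF _

end Groth.Agent.Helper5.RTA
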