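import Groth.Agent.Lib.Helper5.RTA1
import Groth.Agent.Lib.Helper5.BCF1

/-!
# Flat base change of relative tor amplitude (ring level)
-/

set_option autoImplicit false
set_option linter.unusedSectionVars false
set_option linter.unusedVariables false
set_option linter.style.haveILetI false

universe u

open CategoryTheory CategoryTheory.Limits MonoidalCategory HomologicalComplex
open scoped TensorProduct ChangeOfRings

attribute [local instance] HasDerivedCategory.standard

namespace Groth.Agent.Helper5.RTA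

open Groth.Agent.Helper5.KF Groth.Agent.Helper11.DC Groth.Agent.Helper11.Tel
  Groth.Agent.Helper11.TorGE Groth.Agent.Helper11 Groth.Agent.Helper5.BCF

attribute [local instance] Algebra.TensorProduct.rightAlgebra

section BC

variable {A A' B : Type u} [CommRing A] [CommRing A'] [CommRing B] (α : A →+* B) (γ : A →+* A')

/-- the base change isomorphism `A' ⊗[A] M ≅ (A' ⊗[A] B) ⊗[B] M`, as `A'`-modules -/
noncomputable def bcIso (M : ModuleCat.{u} B) :
    letI := γ.toAlgebra; letI := α.toAlgebra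
    (ModuleCat.extendScalars.{u,u,u} γ).obj ((ModuleCat.restrictScalars α).obj M) ≅
    (ModuleCat.restrictScalars (algebraMap A' (A' ⊗[A] B))).obj
      ((ModuleCat.extendScalars.{u,u,u} (algebraMap B (A' ⊗[A] B))).obj M) := by
  letI := γ.toAlgebra; letI := α.toAlgebra
  letI : Module A M := Module.compHom M α
  haveI : IsScalarTower A B M := IsScalarTower.of_algebraMap_smul fun r x => rfl
  let e : A' ⊗[A] M ≃ₗ[A'] (A' ⊗[A] B) ⊗[B] M :=
    (Algebra.IsPushout.cancelBaseChange A A' B (A' ⊗[A] B) M).symm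
  let e' : ((ModuleCat.extendScalars.{u,u,u} γ).obj
      ((ModuleCat.restrictScalars α).obj M)) ≃ₗ[A']
    ((ModuleCat.restrictScalars (algebraMap A' (A' ⊗[A] B))).obj
      ((ModuleCat.extendScalars.{u,u,u} (algebraMap B (A' ⊗[A] B))).obj M)) :=
    { toFun := fun x => e x
      invFun := fun y => e.symm y
      left_inv := fun x => e.symm_apply_apply x
      right_inv := fun y => e.apply_symm_apply y
      map_add' := fun x y => e.map_add x y
      map_smul' := fun a' x => by
        have h1 : e (a' • x) = a' • e x := e.map_smul a' x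
        have h2 : a' • e x = (algebraMap A' (A' ⊗[A] B) a') • e x :=
          (algebraMap_smul (A' ⊗[A] B) a' (e x)).symm
        exact h1.trans h2 }
  exact e'.toModuleIso

lemma bcIso_hom_tmul (M : ModuleCat.{u} B) (m : M) :
    letI := γ.toAlgebra; letI := α.toAlgebra
    (bcIso α γ M).hom.hom ((1 : A') ⊗ₜ[A,γ] m) =
      ((1 : A' ⊗[A] B) ⊗ₜ[B, algebraMap B (A' ⊗[A] B)] m :
        (ModuleCat.extendScalars.{u,u,u} (algebraMap B (A' ⊗[A] B))).obj M) := by
  letI := γ.toAlgebra; letI := α.toAlgebra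
  letI : Module A M := Module.compHom M α
  haveI : IsScalarTower A B M := IsScalarTower.of_algebraMap_smul fun r x => rfl
  have h := Algebra.IsPushout.cancelBaseChange_symm_tmul A A' B (A' ⊗[A] B) M (1 : A') m
  rw [map_one] at h
  exact h

lemma bcIso_naturality {M N : ModuleCat.{u} B} (u : M ⟶ N) :
    letI := γ.toAlgebra; letI := α.toAlgebra
    (ModuleCat.extendScalars.{u,u,u} γ).map ((ModuleCat.restrictScalars α).map u) ≫
        (bcIso α γ N).hom =
      (bcIso α γ M).hom ≫ (ModuleCat.restrictScalars (algebraMap A' (A' ⊗[A] B))).map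
        ((ModuleCat.extendScalars.{u,u,u} (algebraMap B (A' ⊗[A] B))).map u) := by
  letI := γ.toAlgebra; letI := α.toAlgebra
  apply ModuleCat.ExtendScalars.hom_ext
  intro m
  change (bcIso α γ N).hom.hom ((1 : A') ⊗ₜ[A,γ] (u.hom m)) =
    ((ModuleCat.extendScalars.{u,u,u} (algebraMap B (A' ⊗[A] B))).map u).hom
      ((bcIso α γ M).hom.hom ((1 : A') ⊗ₜ[A,γ] m))
  rw [bcIso_hom_tmul α γ M m]
  exact bcIso_hom_tmul α γ N (u.hom m)

/-- the base change natural isomorphism -/
noncomputable def bcNatIso :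
    letI := γ.toAlgebra; letI := α.toAlgebra
    ModuleCat.restrictScalars α ⋙ ModuleCat.extendScalars.{u,u,u} γ ≅
      ModuleCat.extendScalars.{u,u,u} (algebraMap B (A' ⊗[A] B)) ⋙
        ModuleCat.restrictScalars (algebraMap A' (A' ⊗[A] B)) :=
  NatIso.ofComponents (fun M => bcIso α γ M) (fun u => bcIso_naturality α γ u)

/-- flat base change of relative tor amplitude -/
theorem hasTorAmplitudeIn_baseChange (hγ : γ.Flat) (K : DRing.Cx B) (a b : ℤ)
    (hK : DRing.HasTorAmplitudeIn A a b (DRing.toD ((rsC α).obj K))) :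
    letI := γ.toAlgebra; letI := α.toAlgebra
    DRing.HasTorAmplitudeIn A' a b (DRing.toD ((rsC (algebraMap A' (A' ⊗[A] B))).obj
      ((extC (algebraMap B (A' ⊗[A] B))).obj K))) := by
  letI := γ.toAlgebra; letI := α.toAlgebra
  obtain ⟨E, hE, hEf, ⟨e⟩⟩ := hK
  haveI := ModuleCat.preservesFiniteLimits_extendScalars_of_flat.{u} hγ
  have iso1 : DRing.toD ((extC γ).obj E) ≅ DRing.toD ((extC γ).obj ((rsC α).obj K)) :=
    ((ModuleCat.extendScalars.{u,u,u} γ).mapDerivedCategoryFactors.app E).symm ≪≫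
      (ModuleCat.extendScalars.{u,u,u} γ).mapDerivedCategory.mapIso e ≪≫
      (ModuleCat.extendScalars.{u,u,u} γ).mapDerivedCategoryFactors.app _
  have iso2 : (extC γ).obj ((rsC α).obj K) ≅ (rsC (algebraMap A' (A' ⊗[A] B))).obj
      ((extC (algebraMap B (A' ⊗[A] B))).obj K) :=
    (NatIso.mapHomologicalComplex (bcNatIso α γ) (ComplexShape.up ℤ)).app K
  refine ⟨(extC γ).obj E, fun i hi => (ModuleCat.extendScalars.{u,u,u} γ).map_isZero (hE i hi),
    fun i => ?_, ⟨iso1 ≪≫ DerivedCategory.Q.mapIso iso2⟩⟩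
  haveI := hEf i
  exact es_flat γ (E.X i)

/-- relative tor amplitude is preserved along a square whose pushout comparison is flat,
the base change `A → A'` being flat -/
theorem hasTorAmplitudeIn_of_pushoutFlat {B' : Type u} [CommRing B'] (β' : A' →+* B')
    (γ' : B →+* B') (hγ : γ.Flat)
    (hflat : letI := γ.toAlgebra; letI := α.toAlgebra
      ∃ φ : A' ⊗[A] B →+* B', (∀ a b, φ (a ⊗ₜ b) = β' a * γ' b) ∧ φ.Flat)
    (K : DRing.Cx B) (a b : ℤ)
    (hK : DRing.HasTorAmplitudeIn A a b (DRing.toD ((rsC α).obj K))) :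
    DRing.HasTorAmplitudeIn A' a b (DRing.toD ((rsC β').obj ((extC γ').obj K))) := by
  letI := γ.toAlgebra; letI := α.toAlgebra
  obtain ⟨φ, hφ, hφflat⟩ := hflat
  have h1 := hasTorAmplitudeIn_baseChange α γ hγ K a b hK
  have h2 := hasTorAmplitudeIn_extC_of_flat (algebraMap A' (A' ⊗[A] B)) φ hφflat _ a b h1
  have e1 : φ.comp (algebraMap A' (A' ⊗[A] B)) = β' := by
    ext r
    change φ (r ⊗ₜ 1) = _
    rw [hφ, map_one, mul_one]
  have e2 : φ.comp (algebraMap B (A' ⊗[A] B)) = γ' := by
    ext r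
    change φ (1 ⊗ₜ r) = _
    rw [hφ, map_one, one_mul]
  rw [e1] at h2
  have iso : (extC φ).obj ((extC (algebraMap B (A' ⊗[A] B))).obj K) ≅ (extC γ').obj K :=
    (LocalPerf.esCCompIso _ φ K).symm ≪≫ eqToIso (by rw [e2])
  obtain ⟨E, hE, hEf, ⟨e⟩⟩ := h2
  exact ⟨E, hE, hEf, ⟨e ≪≫ DerivedCategory.Q.mapIso ((rsC β').mapIso iso)⟩⟩

end BC

end Groth.Agent.Helper5.RTA
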