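import Groth.Agent.Lib.Helper5.RTA6
import Groth.Agent.Lib.Helper5.CXB2

/-!
# Relative tor amplitude of `Lf^* G ⊗^L F` (S6240)
-/

set_option autoImplicit false
set_option linter.unusedSectionVars false
set_option linter.unusedVariables false
set_option linter.style.haveILetI false

universe u

open CategoryTheory CategoryTheory.Limits MonoidalCategory HomologicalComplex AlgebraicGeometry
open scoped TensorProduct

attribute [local instance] HasDerivedCategory.standard

namespace Groth.Agent.Helper5.RTA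

open Groth.Agent.Helper5.KF Groth.Agent.Helper5.StalkCx Groth.Agent.Helper5.Sky
  Groth.Agent.Helper5.LDer Groth.Agent.Helper5.CXB

variable {X Y Z : Scheme.{u}}

theorem hasTorAmplitudeD_LTensorCx_Lpull (f : X ⟶ Y) (g : Y ⟶ Z)
    (F : CochainComplex X.Modules ℤ) (a b : ℤ) (hF : DerSch.HasTorAmplitude f a b F)
    (G : CochainComplex Y.Modules ℤ) (c d : ℤ) (hG : DerSch.HasTorAmplitude g c d G)
    [DCoh.HasLpull f] [DCoh.HasLTensorCx F] :
    DerSch.HasTorAmplitudeD (f ≫ g) (a + c) (b + d)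
      ((DCoh.LTensorCx F).obj ((DCoh.Lpull f).obj (DCoh.toD Y G))) := by
  rintro G' ⟨eG'⟩ x
  obtain ⟨P, q, hP, -, hq, -⟩ := KRes.exists_kFlat_resolution G
  haveI := hq
  set A : CochainComplex X.Modules ℤ :=
    ((Scheme.Modules.pullback f).mapHomologicalComplex (ComplexShape.up ℤ)).obj P with hAdef
  have hA : DCoh.IsKFlat A := Sky.isKFlat_pullback f P hP
  have e0 : (DCoh.Lpull f).obj (DCoh.toD Y G) ≅ DerivedCategory.Q.obj A :=
    (DCoh.Lpull f).mapIso (asIso (DerivedCategory.Q.map q)).symm ≪≫ LpullObjIso f P hP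
  haveI := isIso_counit_tensorCxQ F A hA
  have e1 : DerivedCategory.Q.obj G' ≅ DerivedCategory.Q.obj ((DCoh.tensorCx.obj F).obj A) :=
    eG' ≪≫ (DCoh.LTensorCx F).mapIso e0 ≪≫
      asIso (((DCoh.tensorCxQ F).totalLeftDerivedCounit DerivedCategory.Q
        (HomologicalComplex.quasiIso X.Modules (ComplexShape.up ℤ))).app A) ≪≫
      DerivedCategory.Q.mapIso (braidCx A F)
  -- the stalk of `P` over `Z`
  have hPy : DRing.HasTorAmplitudeIn (Z.presheaf.stalk (g.base (f.base x))) c d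
      (DRing.toD ((rsC (g.stalkMap (f.base x)).hom).obj (stalkCx (f.base x) P))) := by
    obtain ⟨E, hE, hEf, ⟨eE⟩⟩ := hG (f.base x)
    exact ⟨E, hE, hEf,
      ⟨eE ≪≫ (stalkCxOverDIso g (f.base x) (asIso (DerivedCategory.Q.map q))).symm⟩⟩
  have hPk : KFl (stalkCx (f.base x) P) := isKFlat_stalk (f.base x) P hP
  have hL : DRing.HasTorAmplitudeIn (Y.presheaf.stalk (f.base x)) a b
      (DRing.toD ((rsC (φst f x)).obj (stalkCx x F))) := hF x
  obtain ⟨E, hE, hEf, ⟨eE⟩⟩ := hasTorAmplitudeIn_rsC_tensor_extC (g.stalkMap (f.base x)).hom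
    (φst f x) a b (stalkCx x F) hL (stalkCx (f.base x) P) hPk c d hPy
  let e2 : stalkCx x A ≅ (extC (φst f x)).obj (stalkCx (f.base x) P) :=
    (NatIso.mapHomologicalComplex (pullbackStalkIso f x) (ComplexShape.up ℤ)).app P
  have e3 : DRing.toD ((DerSch.stalkCxOver (f ≫ g) x).obj G') ≅
      DRing.toD ((rsC (g.stalkMap (f.base x)).hom).obj ((rsC (φst f x)).obj
        (stalkCx x F ⊗ (extC (φst f x)).obj (stalkCx (f.base x) P)))) :=
    stalkCxOverDIso (f ≫ g) x e1 ≪≫
      DerivedCategory.Q.mapIso (Groth.Agent.Helper9.TorComp.stalkCxCompIso f g x _) ≪≫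
      DerivedCategory.Q.mapIso ((rsC (g.stalkMap (f.base x)).hom).mapIso
        ((rsC (φst f x)).mapIso ((stalkTensIso x F A).symm ≪≫
          whiskerLeftIso (stalkCx x F) e2)))
  exact ⟨E, hE, hEf, ⟨eE ≪≫ e3.symm⟩⟩

end Groth.Agent.Helper5.RTA
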