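import Groth.Agent.Lib.Helper5.RTA7

/-!
# Exactness of `L ⊗ ext P` outside the tor amplitude interval: the ring-level statement behind S6241
-/

set_option autoImplicit false
set_option linter.unusedSectionVars false
set_option linter.unusedVariables false
set_option linter.style.haveILetI false

universe u

open CategoryTheory CategoryTheory.Limits MonoidalCategory HomologicalComplex
open scoped TensorProduct

attribute [local instance] HasDerivedCategory.standard

namespace Groth.Agent.Helper5.RTA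

open Groth.Agent.Helper5.KF Groth.Agent.Helper11.DC Groth.Agent.Helper11.Tel
  Groth.Agent.Helper11.TorGE Groth.Agent.Helper11

/-- `L` a complex over `C` of tor amplitude `[m, n]` over `B`, `P` a K-flat complex over `B` exact
outside `[c, d]`: then `L ⊗_C (C ⊗_B P)` is exact outside `[m + c, n + d]` -/
theorem exactAt_tensor_extC_of_torAmp {B C : Type u} [CommRing B] [CommRing C] (φ : B →+* C)
    (m n : ℤ) (L : DRing.Cx C)
    (hC : DRing.HasTorAmplitudeIn B m n (DRing.toD ((rsC φ).obj L)))
    (P : DRing.Cx B) (hPk : KFl P) (c d : ℤ)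
    (hPex : ∀ j : ℤ, (j < c ∨ d < j) → P.ExactAt j) (i : ℤ) (hi : i < m + c ∨ n + d < i) :
    (L ⊗ (extC φ).obj P).ExactAt i := by
  obtain ⟨PK, cK, hPKb, hPKp, ⟨ePK⟩⟩ := (TA.torVan_of_hasTorAmplitudeIn hC).hasProjRes
  obtain ⟨E, hE, hEf, ⟨eE⟩⟩ := hC
  haveI : PK.IsKProjective := isKProjective_of_vanishesAbove PK cK hPKb hPKp
  obtain ⟨fE, hfE⟩ := exists_lift_of_isKProjective PK E (ePK.hom ≫ eE.inv)
  have hfEq : QuasiIso fE := by
    rw [← DerivedCategory.isIso_Q_map_iff_quasiIso, hfE]
    infer_instance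
  obtain ⟨fC, hfC⟩ := exists_lift_of_isKProjective PK ((rsC φ).obj L) ePK.hom
  have hfCq : QuasiIso fC := by
    rw [← DerivedCategory.isIso_Q_map_iff_quasiIso, hfC]
    infer_instance
  haveI h1 : QuasiIso (fC ▷ P) := hPk.quasiIso_whiskerRight fC hfCq
  haveI h2 : QuasiIso (fE ▷ P) := hPk.quasiIso_whiskerRight fE hfEq
  refine (exactAt_rsC_tensor_iff φ L P i).mp ?_
  refine ((_root_.exactAt_iff_of_quasiIsoAt (fC ▷ P) i).symm.trans
    (_root_.exactAt_iff_of_quasiIsoAt (fE ▷ P) i)).mpr ?_
  exact exactAt_tensor_of_bounds E P m n c d hE hEf hPex i hi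

end Groth.Agent.Helper5.RTA
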