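import Groth.Agent.Lib.Helper5.RTA8
import Groth.Agent.Lib.Helper5.LTen9

/-!
# Cohomology of `Lf^* M ⊗^L F` vanishes outside the relative tor amplitude interval of `F` (S6241)
-/

set_option autoImplicit false
set_option linter.unusedSectionVars false
set_option linter.unusedVariables false
set_option linter.style.haveILetI false

universe u

open CategoryTheory CategoryTheory.Limits MonoidalCategory HomologicalComplex AlgebraicGeometry
open scoped TensorProduct

attribute [local instance] HasDerivedCategory.standard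

namespace Groth.Agent.Helper5.RTA

open Groth.Agent.Helper5.KF Groth.Agent.Helper5.StalkCx Groth.Agent.Helper5.Sky
  Groth.Agent.Helper5.LDer Groth.Agent.Helper5.CXB

variable {U V : Scheme.{u}}

theorem isZero_HD_LTensorCx_Lpull_single (f' : U ⟶ V) (F' : CochainComplex U.Modules ℤ)
    (m n : ℤ) (hF' : DerSch.HasTorAmplitude f' m n F') (M : V.Modules)
    [DCoh.HasLpull f'] [DCoh.HasLTensorCx F'] (i : ℤ) (hi : i < m ∨ n < i) :
    IsZero (DCoh.HD ((DCoh.LTensorCx F').obj ((DCoh.Lpull f').obj (DCoh.inD V M))) i) := by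
  set G : CochainComplex V.Modules ℤ := (CochainComplex.singleFunctor V.Modules 0).obj M with hG
  obtain ⟨P, q, hP, -, hq, -⟩ := KRes.exists_kFlat_resolution G
  haveI := hq
  set A : CochainComplex U.Modules ℤ :=
    ((Scheme.Modules.pullback f').mapHomologicalComplex (ComplexShape.up ℤ)).obj P with hAdef
  have hA : DCoh.IsKFlat A := Sky.isKFlat_pullback f' P hP
  have e0 : (DCoh.Lpull f').obj (DCoh.inD V M) ≅ DerivedCategory.Q.obj A :=
    (DCoh.Lpull f').mapIso (inDIso M ≪≫ (asIso (DerivedCategory.Q.map q)).symm) ≪≫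
      LpullObjIso f' P hP
  haveI := isIso_counit_tensorCxQ F' A hA
  have e1 : (DCoh.LTensorCx F').obj ((DCoh.Lpull f').obj (DCoh.inD V M)) ≅
      DerivedCategory.Q.obj ((DCoh.tensorCx.obj F').obj A) :=
    (DCoh.LTensorCx F').mapIso e0 ≪≫
      asIso (((DCoh.tensorCxQ F').totalLeftDerivedCounit DerivedCategory.Q
        (HomologicalComplex.quasiIso U.Modules (ComplexShape.up ℤ))).app A) ≪≫
      DerivedCategory.Q.mapIso (braidCx A F')
  refine IsZero.of_iso ?_ ((DerivedCategory.homologyFunctor U.Modules i).mapIso e1 ≪≫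
    (DerivedCategory.homologyFunctorFactors U.Modules i).app _)
  show IsZero (((DCoh.tensorCx.obj F').obj A).homology i)
  apply isZero_homology_of_stalks
  intro x
  have hL : DRing.HasTorAmplitudeIn (V.presheaf.stalk (f'.base x)) m n
      (DRing.toD ((rsC (φst f' x)).obj (stalkCx x F'))) := hF' x
  have hPk : KFl (stalkCx (f'.base x) P) := isKFlat_stalk (f'.base x) P hP
  have hPex : ∀ j : ℤ, (j < 0 ∨ 0 < j) → (stalkCx (f'.base x) P).ExactAt j := by
    intro j hj
    have hj0 : j ≠ 0 := by omega
    have h1 : G.ExactAt j := HomologicalComplex.exactAt_single_obj (ComplexShape.up ℤ) 0 M j hj0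
    have h2 : P.ExactAt j := (_root_.exactAt_iff_of_quasiIsoAt q j).mpr h1
    rw [HomologicalComplex.exactAt_iff_isZero_homology] at h2 ⊢
    exact isZero_homology_stalk P j h2 (f'.base x)
  have key := exactAt_tensor_extC_of_torAmp (φst f' x) m n (stalkCx x F') hL
    (stalkCx (f'.base x) P) hPk 0 0 hPex i (by simpa using hi)
  let e2 : stalkCx x A ≅ (extC (φst f' x)).obj (stalkCx (f'.base x) P) :=
    (NatIso.mapHomologicalComplex (pullbackStalkIso f' x) (ComplexShape.up ℤ)).app P
  let e3 : stalkCx x ((DCoh.tensorCx.obj F').obj A) ≅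
      stalkCx x F' ⊗ (extC (φst f' x)).obj (stalkCx (f'.base x) P) :=
    (stalkTensIso x F' A).symm ≪≫ whiskerLeftIso (stalkCx x F') e2
  rw [← HomologicalComplex.exactAt_iff_isZero_homology]
  exact (_root_.exactAt_iff_of_quasiIsoAt e3.hom i).mpr key

end Groth.Agent.Helper5.RTA
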