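import Mathlib
import Groth.Agent.Lib.Lead.Depth15

/-! Kaplansky, Theorem 129 (module form): over a Noetherian local ring, if an ideal `I ⊆ 𝔪` is
generated (modulo the annihilator of `M`) by `n` elements and `depth_I M ≥ n`, then these elements
form an `M`-regular sequence. -/

set_option autoImplicit false
set_option linter.style.haveILetI false
universe u v
open RingTheory.Sequence LocCoh Pointwise IsLocalRing

namespace Groth.Agent.Helper5.RegGen

open Groth.Agent.Lead.Depth

section General

variable {R : Type u} [CommRing R]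

theorem isWeaklyRegular_of_subsingleton : ∀ (rs : List R) (M : Type v) [AddCommGroup M]
    [Module R M] [Subsingleton M], IsWeaklyRegular M rs := by
  intro rs
  induction rs with
  | nil => intro M _ _ _; exact IsWeaklyRegular.nil R M
  | cons r rs ih =>
    intro M _ _ _
    rw [isWeaklyRegular_cons_iff]
    refine ⟨fun a b _ => Subsingleton.elim a b, ?_⟩
    haveI : Subsingleton (QuotSMulTop r M) := (Submodule.Quotient.mk_surjective _).subsingleton
    exact ih _

theorem ofList_mono_of_perm {l l' : List R} (h : l.Perm l') : Ideal.ofList l = Ideal.ofList l' :=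
  congrArg Ideal.span (Set.ext fun _ => h.mem_iff)

theorem smul_quot_eq_zero {M : Type v} [AddCommGroup M] [Module R M] (J : Ideal R) {y : R}
    (hy : y ∈ J) (q : M ⧸ (J • ⊤ : Submodule R M)) : y • q = 0 := by
  obtain ⟨m, rfl⟩ := Submodule.Quotient.mk_surjective _ q
  rw [← Submodule.Quotient.mk_smul, Submodule.Quotient.mk_eq_zero]
  exact Submodule.smul_mem_smul hy Submodule.mem_top

end General

variable {R : Type u} [CommRing R] [IsLocalRing R]

/-- An element of `span bs` outside `𝔪 • span bs` involves some generator with unit coefficient. -/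
theorem exists_unit_coeff : ∀ (bs : List R) (x : R), x ∈ Ideal.ofList bs →
    x ∉ maximalIdeal R • Ideal.ofList bs →
    ∃ (b0 : R) (t : List R) (c y : R), bs.Perm (b0 :: t) ∧ IsUnit c ∧ y ∈ Ideal.ofList t ∧
      x = c * b0 + y := by
  intro bs
  induction bs with
  | nil =>
    intro x hx hx'
    exfalso
    rw [Ideal.ofList_nil, Ideal.mem_bot] at hx
    exact hx' (hx ▸ Submodule.zero_mem _)
  | cons a t ih =>
    intro x hx hx'
    rw [Ideal.ofList_cons, Submodule.mem_sup] at hx
    obtain ⟨p, hp, z, hz, rfl⟩ := hx
    obtain ⟨c, rfl⟩ := Ideal.mem_span_singleton'.mp hp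
    by_cases hc : IsUnit c
    · exact ⟨a, t, c, z, List.Perm.refl _, hc, hz, rfl⟩
    · have hcm : c ∈ maximalIdeal R := (IsLocalRing.mem_maximalIdeal c).mpr hc
      have hle : maximalIdeal R • Ideal.ofList t ≤ maximalIdeal R • Ideal.ofList (a :: t) := by
        apply Ideal.mul_mono_right
        rw [Ideal.ofList_cons]
        exact le_sup_right
      have hz' : z ∉ maximalIdeal R • Ideal.ofList t := by
        intro hzm
        apply hx'
        refine Submodule.add_mem _ ?_ (hle hzm)
        refine Submodule.smul_mem_smul hcm ?_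
        exact Ideal.subset_span (by simp)
      obtain ⟨b0, t', c', y, hperm, hc', hy, rfl⟩ := ih z hz hz'
      refine ⟨b0, a :: t', c', c * a + y, ?_, hc', ?_, by ring⟩
      · exact (List.Perm.cons a hperm).trans (List.Perm.swap b0 a t')
      · rw [Ideal.ofList_cons]
        refine Submodule.add_mem _ ?_ (Ideal.mem_sup_right hy)
        exact Ideal.mem_sup_left (Ideal.mem_span_singleton'.mpr ⟨c, rfl⟩)

variable [IsNoetherianRing R]

theorem isWeaklyRegular_of_le_idealDepth (I : Ideal R) (hI : I ≠ ⊤) : ∀ (n : ℕ) (M : Type u)
    [AddCommGroup M] [Module R M] [Module.Finite R M] (bs : List R), bs.length = n →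
    Ideal.ofList bs ≤ I → I ≤ Ideal.ofList bs ⊔ Module.annihilator R M →
    (n : ℕ∞) ≤ idealDepth I M → IsWeaklyRegular M bs := by
  have hIm : I ≤ maximalIdeal R := IsLocalRing.le_maximalIdeal hI
  intro n
  induction n with
  | zero =>
    intro M _ _ _ bs hlen _ _ _
    rw [List.length_eq_zero_iff] at hlen
    subst hlen
    exact IsWeaklyRegular.nil R M
  | succ n ih =>
    intro M _ _ _ bs hlen hbsI hIbs hdepth
    rcases subsingleton_or_nontrivial M with hM | hM
    · exact isWeaklyRegular_of_subsingleton bs M
    have htop : I • (⊤ : Submodule R M) ≠ ⊤ := smul_top_ne_top_of_ne_top M I hI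
    -- a regular element in `I`
    obtain ⟨r, hrI, hrreg⟩ : ∃ r ∈ I, IsSMulRegular M r := by
      have h1 : ((1 : ℕ) : ℕ∞) ≤ idealDepth I M :=
        le_trans (by exact_mod_cast Nat.succ_le_succ (Nat.zero_le n)) hdepth
      obtain ⟨rs, hl, hreg, hmem⟩ := exists_of_le_idealDepth I M htop 1 h1
      obtain ⟨r, rfl⟩ := List.length_eq_one_iff.mp hl
      exact ⟨r, hmem r (by simp), ((isWeaklyRegular_cons_iff M r []).mp hreg).1⟩
    set J := Ideal.ofList bs with hJ
    -- `J` is not contained in an associated prime
    have hJass : ∀ P ∈ associatedPrimes R M, ¬ J ≤ P := by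
      intro P hP hJP
      have hIP : I ≤ P := hIbs.trans (sup_le hJP (annihilator_le_of_mem_associatedPrimes M P hP))
      have hr : r ∈ ⋃ p ∈ associatedPrimes R M, (p : Set R) := by
        simp only [Set.mem_iUnion]
        exact ⟨P, hP, hIP hrI⟩
      rw [biUnion_associatedPrimes_eq_compl_regular R M] at hr
      exact hr hrreg
    -- `J ≠ 𝔪 J`
    have hJm : ¬ J ≤ maximalIdeal R • J := by
      intro hle
      have hbot : J = ⊥ := Submodule.eq_bot_of_le_smul_of_le_jacobson_bot (maximalIdeal R) J
        (IsNoetherian.noetherian J) hle (IsLocalRing.maximalIdeal_le_jacobson _)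
      have hrann : r ∈ Module.annihilator R M := by
        have := hIbs hrI
        rwa [hbot, bot_sup_eq] at this
      obtain ⟨m, hm⟩ := exists_ne (0 : M)
      apply hm
      apply hrreg
      simp only [smul_zero]
      exact Module.mem_annihilator.mp hrann m
    -- prime avoidance
    obtain ⟨x, hxJ, hxm, hxass⟩ : ∃ x ∈ J, x ∉ maximalIdeal R • J ∧
        ∀ P ∈ associatedPrimes R M, x ∉ P := by
      have hfin : (insert (maximalIdeal R • J) (associatedPrimes R M)).Finite :=
        (associatedPrimes.finite R M).insert _
      have key := (J.subset_union_prime_finite hfin (f := id) (maximalIdeal R • J)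
        (maximalIdeal R • J) (fun P hP h1 _ => by
          rcases hP with rfl | hP
          · exact absurd rfl h1
          · exact hP.isPrime))
      have hnot : ¬ ∃ P ∈ insert (maximalIdeal R • J) (associatedPrimes R M), J ≤ id P := by
        rintro ⟨P, hP, hle⟩
        rcases hP with rfl | hP
        · exact hJm hle
        · exact hJass P hP hle
      rw [← key, Set.not_subset] at hnot
      obtain ⟨x, hxJ, hx⟩ := hnot
      simp only [Set.mem_iUnion, not_exists] at hx
      refine ⟨x, hxJ, fun h => hx _ (Set.mem_insert _ _) h, fun P hP h => ?_⟩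
      exact hx P (Set.mem_insert_of_mem _ hP) h
    have hxreg : IsSMulRegular M x := by
      by_contra hcon
      have : x ∈ ({r : R | IsSMulRegular M r}ᶜ : Set R) := hcon
      rw [← biUnion_associatedPrimes_eq_compl_regular R M] at this
      simp only [Set.mem_iUnion] at this
      obtain ⟨P, hP, hxP⟩ := this
      exact hxass P hP hxP
    obtain ⟨b0, t, c, y, hperm, hc, hy, hxeq⟩ := exists_unit_coeff bs x hxJ hxm
    have hJeq : J = Ideal.ofList (b0 :: t) := ofList_mono_of_perm hperm
    have htlen : t.length = n := by
      have := hperm.length_eq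
      rw [hlen, List.length_cons] at this
      omega
    have hxI : x ∈ I := hbsI hxJ
    have htJ : Ideal.ofList t ≤ J := by
      rw [hJeq, Ideal.ofList_cons]
      exact le_sup_right
    -- apply the induction hypothesis to `M ⧸ xM`
    have hxann : x ∈ Module.annihilator R (QuotSMulTop x M) := by
      rw [Module.mem_annihilator]
      intro q
      obtain ⟨m, rfl⟩ := Submodule.Quotient.mk_surjective _ q
      rw [← Submodule.Quotient.mk_smul, Submodule.Quotient.mk_eq_zero]
      exact Submodule.smul_mem_pointwise_smul m x ⊤ Submodule.mem_top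
    have hannle : Module.annihilator R M ≤ Module.annihilator R (QuotSMulTop x M) :=
      LinearMap.annihilator_le_of_surjective _ (Submodule.mkQ_surjective _)
    have hb0 : b0 ∈ Ideal.ofList t ⊔ Module.annihilator R (QuotSMulTop x M) := by
      obtain ⟨c', hc'⟩ := hc.exists_left_inv
      have : b0 = c' * x - c' * y := by
        rw [hxeq]; linear_combination (-b0) * hc'
      rw [this]
      refine Submodule.sub_mem _ ?_ ?_
      · exact Ideal.mem_sup_right (Ideal.mul_mem_left _ _ hxann)
      · exact Ideal.mem_sup_left (Ideal.mul_mem_left _ _ hy)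
    have hIt : I ≤ Ideal.ofList t ⊔ Module.annihilator R (QuotSMulTop x M) := by
      refine hIbs.trans (sup_le ?_ (hannle.trans le_sup_right))
      rw [hJeq, Ideal.ofList_cons]
      refine sup_le ?_ le_sup_left
      rw [Ideal.span_singleton_le_iff_mem]
      exact hb0
    have hdepth' : (n : ℕ∞) ≤ idealDepth I (QuotSMulTop x M) := by
      have := idealDepth_quotSMulTop_add_one I M htop x hxI hxreg
      rw [← this] at hdepth
      have h2 : ((n : ℕ∞) + 1) ≤ idealDepth I (QuotSMulTop x M) + 1 := by exact_mod_cast hdepth
      exact (ENat.add_le_add_iff_right (by simp)).mp h2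
    have hreg' : IsWeaklyRegular (QuotSMulTop x M) t :=
      ih (QuotSMulTop x M) t htlen (htJ.trans hbsI) hIt hdepth'
    have h1 : IsWeaklyRegular M (x :: t) := (isWeaklyRegular_cons_iff M x t).mpr ⟨hxreg, hreg'⟩
    have hmem : ∀ r ∈ x :: t, r ∈ maximalIdeal R := by
      intro r hr
      rcases List.mem_cons.mp hr with rfl | hr
      · exact hIm hxI
      · exact hIm (hbsI (htJ (Ideal.subset_span hr)))
    have h2 : IsWeaklyRegular M (t ++ [x]) :=
      IsLocalRing.isWeaklyRegular_of_perm_of_subset_maximalIdeal h1
        (List.perm_append_singleton x t).symm hmem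
    have h3 : IsWeaklyRegular M (t ++ [b0]) := by
      rw [isWeaklyRegular_append_iff] at h2 ⊢
      refine ⟨h2.1, ?_⟩
      have h4 := h2.2
      rw [isWeaklyRegular_cons_iff] at h4 ⊢
      refine ⟨?_, IsWeaklyRegular.nil R _⟩
      have hx4 := h4.1
      intro q1 q2 hq
      apply hx4
      have hq' : b0 • q1 = b0 • q2 := hq
      show x • q1 = x • q2
      rw [hxeq, add_smul, add_smul, smul_quot_eq_zero _ hy, smul_quot_eq_zero _ hy, mul_smul,
        mul_smul, hq']
    have hb0m : b0 ∈ maximalIdeal R := by
      apply hIm; apply hbsI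
      rw [hJeq, Ideal.ofList_cons]
      exact Ideal.mem_sup_left (Ideal.mem_span_singleton_self b0)
    refine IsLocalRing.isWeaklyRegular_of_perm_of_subset_maximalIdeal h3
      ((List.perm_append_singleton b0 t).trans hperm.symm) ?_
    intro r hr
    rcases List.mem_append.mp hr with hr | hr
    · exact hmem r (List.mem_cons_of_mem _ hr)
    · rw [List.mem_singleton] at hr
      rw [hr]; exact hb0m

end Groth.Agent.Helper5.RegGen
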