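import Mathlib.RingTheory.Regular.RegularSequence
import Mathlib.RingTheory.KrullDimension.Regular
import Mathlib.RingTheory.Ideal.KrullsHeightTheorem
import Mathlib.RingTheory.Nakayama
import Mathlib.Data.List.Chain
import Mathlib.Data.Set.List

/-!
# Regular sequences generating the same ideal in a Noetherian local ring
-/

open RingTheory.Sequence Ideal

namespace Groth.Agent.Helper5.RSC

variable {A : Type*} [CommRing A] [IsLocalRing A] [IsNoetherianRing A]

theorem ofList_perm {l l' : List A} (h : l.Perm l') : ofList l = ofList l' := by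
  have : {r | r ∈ l} = {r | r ∈ l'} := Set.ext fun x => h.mem_iff
  show Ideal.span {r | r ∈ l} = Ideal.span {r | r ∈ l'}
  rw [this]

theorem ofList_ne_top {w : List A} (hw : IsRegular A w) : ofList w ≠ ⊤ := by
  intro h
  apply hw.top_ne_smul
  rw [h, Submodule.top_smul]

theorem ofList_le_maximalIdeal {w : List A} (hw : IsRegular A w) :
    ofList w ≤ IsLocalRing.maximalIdeal A :=
  IsLocalRing.le_maximalIdeal (ofList_ne_top hw)

theorem ringKrullDim_quot_congr {I J : Ideal A} (h : I = J) :
    ringKrullDim (A ⧸ I) = ringKrullDim (A ⧸ J) := by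
  subst h
  rfl

theorem jacobson_eq : Ring.jacobson A = IsLocalRing.maximalIdeal A := by
  rw [← Ideal.jacobson_bot, IsLocalRing.jacobson_eq_maximalIdeal ⊥ bot_ne_top]

theorem length_le_of_ofList_eq {w w' : List A} (hw : IsRegular A w) (h : ofList w' = ofList w) :
    w.length ≤ w'.length := by
  classical
  have h1 := ringKrullDim_add_length_eq_ringKrullDim_of_isRegular w hw
  have hspan : Ideal.span ((w'.toFinset : Finset A) : Set A) = ofList w := by
    rw [List.coe_toFinset]
    exact h
  have hsub : ((w'.toFinset : Finset A) : Set A) ⊆ Ring.jacobson A := by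
    rw [jacobson_eq]
    intro r hr
    rw [List.coe_toFinset] at hr
    exact ofList_le_maximalIdeal hw (h ▸ Ideal.subset_span hr)
  have h2 := ringKrullDim_le_ringKrullDim_quotient_add_card (w'.toFinset) hsub
  rw [ringKrullDim_quot_congr hspan, ← h1] at h2
  have hcard : w'.toFinset.card ≤ w'.length := List.toFinset_card_le w'
  have hnt : Nontrivial (A ⧸ ofList w) := Ideal.Quotient.nontrivial_iff.mpr (ofList_ne_top hw)
  have hnonneg : (0 : WithBot ℕ∞) ≤ ringKrullDim (A ⧸ ofList w) := ringKrullDim_nonneg_of_nontrivial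
  have hfin : ringKrullDim (A ⧸ ofList w) ≠ ⊤ := by
    intro htop
    have := ringKrullDim_quotient_le (ofList w)
    rw [htop, top_le_iff] at this
    exact ringKrullDim_ne_top this
  have hbot : ringKrullDim (A ⧸ ofList w) ≠ ⊥ := by
    intro hb
    rw [hb] at hnonneg
    exact absurd hnonneg (by simp)
  obtain ⟨e, he⟩ := WithBot.ne_bot_iff_exists.mp hbot
  have he' : e ≠ ⊤ := by
    intro het
    apply hfin
    rw [← he, het]
    rfl
  obtain ⟨k, hk⟩ := ENat.ne_top_iff_exists.mp he'
  rw [← he, ← hk] at h2
  have h3 : k + w.length ≤ k + w'.toFinset.card := by exact_mod_cast h2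
  omega

theorem isRegular_concat_of_ofList_eq {z : List A} {x y : A} (hw : IsRegular A (z ++ [x]))
    (h : ofList (z ++ [y]) = ofList (z ++ [x])) : IsRegular A (z ++ [y]) := by
  have hz := (isWeaklyRegular_append_iff A z [x]).mp hw.toIsWeaklyRegular
  have hxreg : IsSMulRegular (A ⧸ (ofList z • ⊤ : Submodule A A)) x :=
    (isWeaklyRegular_singleton_iff _ x).mp hz.2
  have hy : y ∈ ofList z ⊔ Ideal.span {x} := by
    have : y ∈ ofList (z ++ [y]) := Ideal.subset_span (by simp)
    rw [h, ofList_append, ofList_singleton] at this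
    exact this
  have hx : x ∈ ofList z ⊔ Ideal.span {y} := by
    have : x ∈ ofList (z ++ [x]) := Ideal.subset_span (by simp)
    rw [← h, ofList_append, ofList_singleton] at this
    exact this
  obtain ⟨t, ht, y', hy', hyt⟩ := Submodule.mem_sup.mp hy
  obtain ⟨a, rfl⟩ := Ideal.mem_span_singleton'.mp hy'
  obtain ⟨s, hs, x', hx', hxs⟩ := Submodule.mem_sup.mp hx
  obtain ⟨c, rfl⟩ := Ideal.mem_span_singleton'.mp hx'
  have hNmem : ∀ t ∈ ofList z, ∀ r : A, t * r ∈ (ofList z • ⊤ : Submodule A A) :=
    fun t ht r => Submodule.smul_mem_smul ht (Submodule.mem_top (x := r))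
  have hNle : (ofList z • ⊤ : Submodule A A) ≤ IsLocalRing.maximalIdeal A := by
    rw [Submodule.smul_le]
    intro r hr n _
    have hr' : r ∈ IsLocalRing.maximalIdeal A := by
      apply ofList_le_maximalIdeal hw
      rw [ofList_append]
      exact Submodule.mem_sup_left hr
    exact Ideal.mul_mem_right n _ hr'
  have hyact : ∀ m : A ⧸ (ofList z • ⊤ : Submodule A A), y • m = a • (x • m) := by
    intro m
    induction m using Submodule.Quotient.induction_on with
    | H r =>
      rw [← Submodule.Quotient.mk_smul, ← Submodule.Quotient.mk_smul,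
        ← Submodule.Quotient.mk_smul, Submodule.Quotient.eq]
      have : y • r - a • x • r = t * r := by
        rw [← hyt]
        simp only [smul_eq_mul]
        ring
      rw [this]
      exact hNmem t ht r
  have hxact : ∀ m : A ⧸ (ofList z • ⊤ : Submodule A A), x • m = c • (y • m) := by
    intro m
    induction m using Submodule.Quotient.induction_on with
    | H r =>
      rw [← Submodule.Quotient.mk_smul, ← Submodule.Quotient.mk_smul,
        ← Submodule.Quotient.mk_smul, Submodule.Quotient.eq]
      have : x • r - c • y • r = s * r := by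
        rw [← hxs]
        simp only [smul_eq_mul]
        ring
      rw [this]
      exact hNmem s hs r
  -- `c * a` is congruent to `1`
  have hca : IsUnit (c * a) := by
    have h1 : x • (Submodule.Quotient.mk (1 : A) : A ⧸ (ofList z • ⊤ : Submodule A A)) =
        x • ((c * a) • (Submodule.Quotient.mk (1 : A) : A ⧸ (ofList z • ⊤ : Submodule A A))) := by
      conv_lhs => rw [hxact, hyact]
      rw [smul_smul, smul_smul, smul_smul, mul_comm x (c * a)]
    have h2 := hxreg h1
    rw [← Submodule.Quotient.mk_smul, Submodule.Quotient.eq] at h2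
    have h3 : (1 : A) - (c * a) • (1 : A) ∈ IsLocalRing.maximalIdeal A := hNle h2
    rw [smul_eq_mul, mul_one] at h3
    have := IsLocalRing.isUnit_one_sub_self_of_mem_nonunits _
      ((IsLocalRing.mem_maximalIdeal _).mp h3)
    rwa [sub_sub_cancel] at this
  have ha : IsUnit a := isUnit_of_mul_isUnit_right hca
  have hyreg : IsSMulRegular (A ⧸ (ofList z • ⊤ : Submodule A A)) y := by
    intro m₁ m₂ hm
    simp only [hyact] at hm
    exact hxreg (ha.smul_left_cancel.mp hm)
  refine ⟨(isWeaklyRegular_append_iff A z [y]).mpr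
    ⟨hz.1, (isWeaklyRegular_singleton_iff _ y).mpr hyreg⟩, ?_⟩
  rw [h]
  exact hw.top_ne_smul

theorem exists_exchange {p q : List A} {I : Ideal A} (hI : ofList (p ++ q) = I) {y : A}
    (hyI : y ∈ I) (hy : y ∉ ofList p ⊔ IsLocalRing.maximalIdeal A • I) :
    ∃ i₀ : ℕ, ∃ _ : i₀ < q.length, ofList (p ++ q.eraseIdx i₀ ++ [y]) = I := by
  classical
  have hpI : ∀ r ∈ p, r ∈ I := fun r hr => hI ▸ Ideal.subset_span (List.mem_append_left _ hr)
  have hqI : ∀ r ∈ q, r ∈ I := fun r hr => hI ▸ Ideal.subset_span (List.mem_append_right _ hr)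
  have hyI' : y ∈ ofList p ⊔ ofList q := by
    rw [← ofList_append, hI]
    exact hyI
  obtain ⟨s, hs, t, ht, hst⟩ := Submodule.mem_sup.mp hyI'
  have ht' : t ∈ Ideal.span (Set.range q.get) := by
    rw [Set.range_list_get]
    exact ht
  obtain ⟨c, hc⟩ := Ideal.mem_span_range_iff_exists_fun.mp ht'
  by_cases hunit : ∃ i, IsUnit (c i)
  · obtain ⟨i₀, hi₀⟩ := hunit
    refine ⟨i₀.1, i₀.2, ?_⟩
    apply le_antisymm
    · rw [Ideal.span_le]
      intro r hr
      simp only [Set.mem_setOf_eq, List.mem_append, List.mem_singleton] at hr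
      rcases hr with (hr | hr) | rfl
      · exact hpI r hr
      · exact hqI r (List.mem_of_mem_eraseIdx hr)
      · exact hyI
    · rw [← hI, Ideal.span_le]
      intro r hr
      simp only [Set.mem_setOf_eq, List.mem_append] at hr
      have hpH : ∀ r ∈ p, r ∈ ofList (p ++ q.eraseIdx i₀ ++ [y]) := fun r hr =>
        Ideal.subset_span (by simp [hr])
      have hqH : ∀ (i : ℕ) (hi : i < q.length), i ≠ i₀.1 →
          q[i] ∈ ofList (p ++ q.eraseIdx i₀ ++ [y]) := fun i hi hii =>
        Ideal.subset_span (by
          simp only [Set.mem_setOf_eq, List.mem_append, List.mem_singleton]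
          exact Or.inl (Or.inr (List.mem_eraseIdx_iff_getElem.mpr ⟨i, hi, hii, rfl⟩)))
      have hyH : y ∈ ofList (p ++ q.eraseIdx i₀ ++ [y]) := Ideal.subset_span (by simp)
      rcases hr with hr | hr
      · exact hpH r hr
      · obtain ⟨i, hi, rfl⟩ := List.mem_iff_getElem.mp hr
        by_cases hii : i = i₀.1
        · have hsH : s ∈ ofList (p ++ q.eraseIdx i₀ ++ [y]) := by
            have : ofList p ≤ ofList (p ++ q.eraseIdx i₀ ++ [y]) :=
              Ideal.span_le.mpr fun r hr => hpH r hr
            exact this hs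
          have hsum : c i₀ * q.get i₀ =
              y - s - ∑ i ∈ Finset.univ.erase i₀, c i * q.get i := by
            rw [← hst, ← hc, ← Finset.add_sum_erase _ _ (Finset.mem_univ i₀)]
            ring
          have hmem : c i₀ * q.get i₀ ∈ ofList (p ++ q.eraseIdx i₀ ++ [y]) := by
            rw [hsum]
            refine sub_mem (sub_mem hyH hsH) (sum_mem fun i hi => Ideal.mul_mem_left _ _ ?_)
            have hne : i ≠ i₀ := Finset.ne_of_mem_erase hi
            exact hqH i.1 i.2 (fun h => hne (Fin.ext h))
          have := (Ideal.unit_mul_mem_iff_mem _ hi₀).mp hmem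
          subst hii
          exact this
        · exact hqH i hi hii
  · exfalso
    apply hy
    push Not at hunit
    rw [← hst]
    refine add_mem (Submodule.mem_sup_left hs) (Submodule.mem_sup_right ?_)
    rw [← hc]
    refine sum_mem fun i _ => ?_
    exact Submodule.smul_mem_smul ((IsLocalRing.mem_maximalIdeal _).mpr (hunit i))
      (hqI _ (List.get_mem _ _))

theorem not_mem_of_isRegular {v : List A} (hv : IsRegular A v) {t : ℕ} (ht : t < v.length) :
    v[t] ∉ ofList (v.take t) ⊔ IsLocalRing.maximalIdeal A • ofList v := by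
  intro hmem
  have hle : ofList v ≤ ofList (v.eraseIdx t) ⊔ IsLocalRing.maximalIdeal A • ofList v := by
    rw [Ideal.span_le]
    intro r hr
    obtain ⟨i, hi, rfl⟩ := List.mem_iff_getElem.mp hr
    by_cases hit : i = t
    · subst hit
      have hmono : ofList (v.take i) ≤ ofList (v.eraseIdx i) := by
        apply Ideal.span_mono
        intro r hr
        rw [List.eraseIdx_eq_take_drop_succ]
        exact List.mem_append_left _ hr
      have hle2 : ofList (v.take i) ⊔ IsLocalRing.maximalIdeal A • ofList v ≤
          ofList (v.eraseIdx i) ⊔ IsLocalRing.maximalIdeal A • ofList v :=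
        sup_le_sup_right hmono _
      exact hle2 hmem
    · exact Submodule.mem_sup_left
        (Ideal.subset_span (List.mem_eraseIdx_iff_getElem.mpr ⟨i, hi, hit, rfl⟩))
  have hNak : ofList v ≤ ofList (v.eraseIdx t) :=
    Submodule.le_of_le_smul_of_le_jacobson_bot (IsNoetherian.noetherian _)
      (by rw [IsLocalRing.jacobson_eq_maximalIdeal ⊥ bot_ne_top]) hle
  have heq : ofList (v.eraseIdx t) = ofList v :=
    le_antisymm (Ideal.span_mono fun r hr => List.mem_of_mem_eraseIdx hr) hNak
  have := length_le_of_ofList_eq hv heq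
  rw [List.length_eraseIdx_of_lt ht] at this
  omega

variable (A) in
/-- a regular sequence generating `I` -/
def Good (I : Ideal A) (w : List A) : Prop := IsRegular A w ∧ ofList w = I

/-- an elementary step -/
def Step (w w' : List A) : Prop :=
  w.Perm w' ∨ (w.length = w'.length ∧ w.dropLast = w'.dropLast)

/-- an elementary step between good sequences -/
def T (I : Ideal A) (w w' : List A) : Prop := Step w w' ∧ Good A I w ∧ Good A I w'

theorem good_perm {I : Ideal A} {w w' : List A} (h : Good A I w) (hp : w.Perm w') :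
    Good A I w' :=
  ⟨IsLocalRing.isRegular_of_perm h.1 hp, (ofList_perm hp).symm.trans h.2⟩

theorem steinitz {I : Ideal A} {u v : List A} (hu : Good A I u) (hv : Good A I v) :
    ∀ t, t ≤ v.length →
      ∃ q, Good A I (v.take t ++ q) ∧ Relation.ReflTransGen (T I) u (v.take t ++ q) := by
  intro t
  induction t with
  | zero =>
    intro _
    exact ⟨u, by simpa using hu, by simpa using Relation.ReflTransGen.refl⟩
  | succ t ih =>
    intro ht
    obtain ⟨q, hq, hchain⟩ := ih (by omega)
    have ht' : t < v.length := by omega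
    have hyI : v[t] ∈ I := hv.2 ▸ Ideal.subset_span (List.getElem_mem ht')
    have hynot : v[t] ∉ ofList (v.take t) ⊔ IsLocalRing.maximalIdeal A • I := by
      rw [← hv.2]
      exact not_mem_of_isRegular hv.1 ht'
    obtain ⟨i₀, hi₀, hex⟩ := exists_exchange hq.2 hyI hynot
    have hperm1 : (v.take t ++ q).Perm ((v.take t ++ q.eraseIdx i₀) ++ [q[i₀]]) := by
      have h1 : q.Perm (q.eraseIdx i₀ ++ [q[i₀]]) :=
        (List.getElem_cons_eraseIdx_perm hi₀).symm.trans (List.perm_append_singleton _ _).symm
      simpa [List.append_assoc] using h1.append_left (v.take t)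
    have hg1 : Good A I ((v.take t ++ q.eraseIdx i₀) ++ [q[i₀]]) := good_perm hq hperm1
    have hg2 : Good A I ((v.take t ++ q.eraseIdx i₀) ++ [v[t]]) :=
      ⟨isRegular_concat_of_ofList_eq hg1.1 (hex.trans hg1.2.symm), hex⟩
    have hperm3 : ((v.take t ++ q.eraseIdx i₀) ++ [v[t]]).Perm
        ((v.take t ++ [v[t]]) ++ q.eraseIdx i₀) := by
      simp only [List.append_assoc]
      exact List.Perm.append_left _ List.perm_append_comm
    have hg3 := good_perm hg2 hperm3
    refine ⟨q.eraseIdx i₀, ?_, ?_⟩
    · rw [List.take_succ_eq_append_getElem ht']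
      exact hg3
    · rw [List.take_succ_eq_append_getElem ht']
      exact ((hchain.tail ⟨Or.inl hperm1, hq, hg1⟩).tail
        ⟨Or.inr ⟨by simp, by simp⟩, hg1, hg2⟩).tail ⟨Or.inl hperm3, hg2, hg3⟩

theorem chain_exists (u v : List A) (hu : IsRegular A u) (hv : IsRegular A v)
    (huv : ofList u = ofList v) :
    ∃ ws : List (List A), ws.head? = some u ∧ ws.getLast? = some v ∧
      (∀ w ∈ ws, IsRegular A w ∧ ofList w = ofList u) ∧ List.IsChain Step ws := by
  have hgu : Good A (ofList u) u := ⟨hu, rfl⟩
  have hgv : Good A (ofList u) v := ⟨hv, huv.symm⟩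
  obtain ⟨q, hq, hchain⟩ := steinitz hgu hgv v.length le_rfl
  rw [List.take_length] at hq hchain
  have hqnil : q = [] := by
    have h1 := length_le_of_ofList_eq hq.1 (hgv.2.trans hq.2.symm)
    rw [List.length_append] at h1
    exact List.eq_nil_of_length_eq_zero (by omega)
  subst hqnil
  rw [List.append_nil] at hchain
  obtain ⟨l, hl, hlast⟩ := List.exists_isChain_cons_of_relationReflTransGen hchain
  have hall : ∀ (l : List (List A)) (a : List A), Good A (ofList u) a →
      List.IsChain (T (ofList u)) (a :: l) → ∀ w ∈ a :: l, Good A (ofList u) w := by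
    intro l
    induction l with
    | nil =>
      intro a ha _ w hw
      simp only [List.mem_singleton] at hw
      exact hw ▸ ha
    | cons b l ih =>
      intro a ha hc w hw
      rw [List.isChain_cons_cons] at hc
      rcases List.mem_cons.mp hw with rfl | hw
      · exact ha
      · exact ih b hc.1.2.2 hc.2 w hw
  refine ⟨u :: l, rfl, ?_, fun w hw => hall l u hgu hl w hw, hl.imp (fun _ _ h => h.1)⟩
  rw [List.getLast?_eq_some_getLast (List.cons_ne_nil _ _), hlast]

end Groth.Agent.Helper5.RSC
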