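import Mathlib.LinearAlgebra.RootSystem.Base
import Mathlib.LinearAlgebra.RootSystem.WeylGroup

set_option autoImplicit false

namespace Groth.Agent.Helper5.RD

open RootPairing

variable {ι R M N : Type*} [CommRing R] [AddCommGroup M] [Module R M]
  [AddCommGroup N] [Module R N] (P : RootPairing ι R M N)

/-- conjugation formula for reflections, at the level of automorphisms -/
theorem reflection_reflectionPerm (i j : ι) :
    Equiv.reflection P (P.reflectionPerm j i) =
      Equiv.reflection P j * Equiv.reflection P i * Equiv.reflection P j := by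
  apply Equiv.weightHom_injective P
  rw [map_mul, map_mul]
  change (Equiv.reflection P _).weightEquiv = (Equiv.reflection P _).weightEquiv *
    (Equiv.reflection P _).weightEquiv * (Equiv.reflection P _).weightEquiv
  rw [Equiv.reflection_weightEquiv, Equiv.reflection_weightEquiv, Equiv.reflection_weightEquiv,
    P.reflection_reflectionPerm]

theorem reflection_smul_index (i j : ι) : Equiv.reflection P j • i = P.reflectionPerm j i := rfl

/-- the subgroup generated by the simple reflections -/
noncomputable def simpleSub (b : P.Base) : Subgroup P.Aut :=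
  Subgroup.closure ((fun i : ι => Equiv.reflection P i) '' (b.support : Set ι))

variable {P}

theorem reflection_mem_simpleSub (b : P.Base) {j : ι} (hj : j ∈ b.support) :
    Equiv.reflection P j ∈ simpleSub P b :=
  Subgroup.subset_closure ⟨j, hj, rfl⟩

theorem simpleSub_le (b : P.Base) : simpleSub P b ≤ P.weylGroup :=
  Subgroup.closure_mono (by rintro _ ⟨i, _, rfl⟩; exact ⟨i, rfl⟩)

variable [CharZero R] [IsDomain R] [Finite ι] [P.IsCrystallographic] [P.IsReduced]

/-- every reflection lies in the subgroup generated by the simple reflections, and every root is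
conjugate to a simple root under that subgroup -/
theorem reflection_mem_and_exists_smul_eq (b : P.Base) (i : ι) :
    Equiv.reflection P i ∈ simpleSub P b ∧
      ∃ g ∈ simpleSub P b, ∃ j ∈ b.support, g • j = i := by
  have step : ∀ (i k : ι), Equiv.reflection P k ∈ simpleSub P b →
      (Equiv.reflection P i ∈ simpleSub P b ∧
        ∃ g ∈ simpleSub P b, ∃ j ∈ b.support, g • j = i) →
      (Equiv.reflection P (P.reflectionPerm k i) ∈ simpleSub P b ∧
        ∃ g ∈ simpleSub P b, ∃ j ∈ b.support, g • j = P.reflectionPerm k i) := by
    rintro i k hk ⟨hi, g, hg, j, hj, hgj⟩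
    refine ⟨?_, Equiv.reflection P k * g, mul_mem hk hg, j, hj, ?_⟩
    · rw [reflection_reflectionPerm]
      exact mul_mem (mul_mem hk hi) hk
    · rw [mul_smul, hgj, reflection_smul_index]
  refine b.induction_reflect i (p := fun i => Equiv.reflection P i ∈ simpleSub P b ∧
      ∃ g ∈ simpleSub P b, ∃ j ∈ b.support, g • j = i) ?_ ?_ ?_
  · intro i hi
    exact step i i hi.1 hi
  · intro i hi
    exact ⟨reflection_mem_simpleSub b hi, 1, one_mem _, i, hi, one_smul _ _⟩
  · intro i j hi hj
    exact step i j (reflection_mem_simpleSub b hj) hi

theorem simpleSub_eq_weylGroup (b : P.Base) : simpleSub P b = P.weylGroup := by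
  apply le_antisymm (simpleSub_le b)
  rw [weylGroup, Subgroup.closure_le]
  rintro _ ⟨i, rfl⟩
  exact (reflection_mem_and_exists_smul_eq b i).1

end Groth.Agent.Helper5.RD
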