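import Groth.Agent.Lib.Helper5.RootD

set_option autoImplicit false

namespace Groth.Agent.Helper5.RD

open RootPairing

variable {ι R M N : Type*} [CommRing R] [AddCommGroup M] [Module R M]
  [AddCommGroup N] [Module R N] {P : RootPairing ι R M N}

/-- the product of the simple reflections along a word -/
noncomputable def wprod (P : RootPairing ι R M N) (l : List ι) : P.Aut :=
  (l.map (fun i => Equiv.reflection P i)).prod

@[simp] theorem wprod_nil : wprod P [] = 1 := rfl

@[simp] theorem wprod_cons (a : ι) (l : List ι) :
    wprod P (a :: l) = Equiv.reflection P a * wprod P l := by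
  simp [wprod]

theorem wprod_append (l₁ l₂ : List ι) : wprod P (l₁ ++ l₂) = wprod P l₁ * wprod P l₂ := by
  simp [wprod]

theorem reflection_mul_self (i : ι) : Equiv.reflection P i * Equiv.reflection P i = 1 := by
  have := Equiv.reflection_inv P i
  nth_rewrite 1 [← this]
  rw [inv_mul_cancel]

theorem wprod_inv (l : List ι) : (wprod P l)⁻¹ = wprod P l.reverse := by
  induction l with
  | nil => simp
  | cons a l ih =>
    rw [wprod_cons, mul_inv_rev, ih, Equiv.reflection_inv, List.reverse_cons, wprod_append,
      wprod_cons, wprod_nil, mul_one]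

/-- conjugation formula along a word -/
theorem reflection_wprod_smul (l : List ι) (i : ι) :
    Equiv.reflection P (wprod P l • i) = wprod P l * Equiv.reflection P i * (wprod P l)⁻¹ := by
  induction l with
  | nil => simp
  | cons a l ih =>
    rw [wprod_cons, mul_smul, reflection_smul_index, reflection_reflectionPerm, ih, mul_inv_rev,
      Equiv.reflection_inv]
    simp only [mul_assoc]

theorem root_smul_index (g : P.Aut) (i : ι) : P.root (g • i) = g • P.root i :=
  Equiv.root_indexEquiv_eq_smul (P := P) i g

/-- automorphisms commute with negation of indices -/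
theorem smul_reflectionPerm_self (g : P.Aut) (i : ι) :
    g • (P.reflectionPerm i i) = P.reflectionPerm (g • i) (g • i) := by
  apply P.root.injective
  rw [root_smul_index, P.root_reflectionPerm, P.reflection_apply_self, P.root_reflectionPerm,
    P.reflection_apply_self, root_smul_index, smul_neg]

section Base

variable [CharZero R] [IsDomain R] [Finite ι] [P.IsCrystallographic] [P.IsReduced] (b : P.Base)

omit [IsDomain R] [Finite ι] [P.IsCrystallographic] [P.IsReduced] in
theorem isPos_reflectionPerm_self_iff (i : ι) :
    b.IsPos (P.reflectionPerm i i) ↔ ¬ b.IsPos i :=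
  RootPairing.Base.IsPos.neg_iff_not b i

/-- a positive root made negative by a simple reflection is the simple root itself -/
theorem eq_of_isPos_of_not_isPos_reflectionPerm {i a : ι} (ha : a ∈ b.support) (hi : b.IsPos i)
    (h : ¬ b.IsPos (P.reflectionPerm a i)) : i = a := by
  by_contra hne
  exact h (hi.reflectionPerm ha hne)

/-- exchange lemma -/
theorem exists_shorter_word (l : List ι) (hl : ∀ a ∈ l, a ∈ b.support) {j : ι}
    (hj : j ∈ b.support) (hneg : ¬ b.IsPos (wprod P l • j)) :
    ∃ l' : List ι, (∀ a ∈ l', a ∈ b.support) ∧ l'.length + 1 = l.length ∧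
      wprod P l * Equiv.reflection P j = wprod P l' := by
  induction l with
  | nil =>
    exfalso
    apply hneg
    rw [wprod_nil, one_smul]
    exact RootPairing.Base.isPos_of_mem_support hj
  | cons a t ih =>
    have ha : a ∈ b.support := hl a (List.mem_cons_self ..)
    have ht : ∀ c ∈ t, c ∈ b.support := fun c hc => hl c (List.mem_cons_of_mem _ hc)
    by_cases hβ : b.IsPos (wprod P t • j)
    · -- the simple reflection `a` makes `β` negative, so `β = a`
      rw [wprod_cons, mul_smul, reflection_smul_index] at hneg
      have hβa := eq_of_isPos_of_not_isPos_reflectionPerm b ha hβ hneg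
      refine ⟨t, ht, rfl, ?_⟩
      have h1 := reflection_wprod_smul (P := P) t j
      rw [hβa] at h1
      rw [wprod_cons, h1]
      simp only [mul_assoc, inv_mul_cancel_left, reflection_mul_self, mul_one]
    · obtain ⟨t', ht', hlen, hprod⟩ := ih ht hβ
      refine ⟨a :: t', ?_, ?_, ?_⟩
      · intro c hc
        rcases List.mem_cons.mp hc with rfl | hc
        · exact ha
        · exact ht' c hc
      · simp only [List.length_cons, hlen]
      · rw [wprod_cons, mul_assoc, hprod, wprod_cons]

/-- every element of the Weyl group is a product of simple reflections -/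
theorem exists_word_of_mem_weylGroup {g : P.Aut} (hg : g ∈ P.weylGroup) :
    ∃ l : List ι, (∀ a ∈ l, a ∈ b.support) ∧ wprod P l = g := by
  rw [← simpleSub_eq_weylGroup b, simpleSub] at hg
  induction hg using Subgroup.closure_induction with
  | mem x hx =>
    obtain ⟨i, hi, rfl⟩ := hx
    exact ⟨[i], by simpa using hi, by simp⟩
  | one => exact ⟨[], by simp, rfl⟩
  | mul x y _ _ hx hy =>
    obtain ⟨l₁, h₁, rfl⟩ := hx
    obtain ⟨l₂, h₂, rfl⟩ := hy
    refine ⟨l₁ ++ l₂, ?_, wprod_append l₁ l₂⟩
    intro a ha
    rcases List.mem_append.mp ha with ha | ha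
    · exact h₁ a ha
    · exact h₂ a ha
  | inv x _ hx =>
    obtain ⟨l, h, rfl⟩ := hx
    exact ⟨l.reverse, fun a ha => h a (List.mem_reverse.mp ha), (wprod_inv l).symm⟩

/-- an element of the Weyl group preserving positivity is trivial -/
theorem eq_one_of_forall_isPos {g : P.Aut} (hg : g ∈ P.weylGroup)
    (hpos : ∀ i, b.IsPos i → b.IsPos (g • i)) : g = 1 := by
  classical
  have hex : ∃ n : ℕ, ∃ l : List ι, (∀ a ∈ l, a ∈ b.support) ∧ l.length = n ∧ wprod P l = g := by
    obtain ⟨l, hl, hlg⟩ := exists_word_of_mem_weylGroup b hg
    exact ⟨l.length, l, hl, rfl, hlg⟩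
  obtain ⟨l, hl, hlen, hlg⟩ := Nat.find_spec hex
  have hmin : ∀ l' : List ι, (∀ a ∈ l', a ∈ b.support) → wprod P l' = g →
      Nat.find hex ≤ l'.length := fun l' hl' hg' => Nat.find_min' hex ⟨l', hl', rfl, hg'⟩
  -- decompose the word at its last letter
  rcases List.eq_nil_or_concat l with rfl | ⟨t, j, rfl⟩
  · rw [← hlg, wprod_nil]
  · exfalso
    have hj : j ∈ b.support := hl j (by simp)
    have ht : ∀ c ∈ t, c ∈ b.support := fun c hc => hl c (by simp [hc])
    have hgj : g = wprod P t * Equiv.reflection P j := by
      rw [← hlg, List.concat_eq_append, wprod_append, wprod_cons, wprod_nil, mul_one]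
    -- `g • j` is positive, hence `wprod t • j` is negative
    have h1 : b.IsPos (g • j) := hpos j (RootPairing.Base.isPos_of_mem_support hj)
    rw [hgj, mul_smul, reflection_smul_index, smul_reflectionPerm_self,
      isPos_reflectionPerm_self_iff] at h1
    obtain ⟨t', ht', hlen', hprod⟩ := exists_shorter_word b t ht hj h1
    have := hmin t' ht' (by rw [← hprod, ← hgj])
    rw [← hlen, List.concat_eq_append, List.length_append, List.length_singleton] at this
    omega

end Base

end Groth.Agent.Helper5.RD
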