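import Groth.Agent.Lib.Helper11.PerfHom
import Groth.Agent.Lib.Helper14.SmoothReg

/-!
# Perfection relative to a smooth base, part 1: the fibre rings of a smooth algebra have bounded
global dimension
-/

set_option autoImplicit false
set_option linter.unusedSectionVars false
set_option linter.unusedVariables false
set_option linter.style.haveILetI false

universe u

open CategoryTheory CategoryTheory.Limits TensorProduct

namespace Groth.Agent.Helper5.SPF

/-- the fibre rings of a smooth algebra have uniformly bounded global dimension -/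
theorem hgl_smooth (R C : Type u) [CommRing R] [CommRing C] [Algebra R C] [Algebra.Smooth R C] :
    ∃ d : ℕ, ∀ (p : PrimeSpectrum R) (M : Type u) [AddCommGroup M]
      [Module (TensorProduct R p.asIdeal.ResidueField C) M],
      HasProjectiveDimensionLT (ModuleCat.of (TensorProduct R p.asIdeal.ResidueField C) M)
        (d + 1) := by
  obtain ⟨n, f, hf⟩ := Algebra.FiniteType.iff_quotient_mvPolynomial''.mp
    (inferInstance : Algebra.FiniteType R C)
  refine ⟨n, fun p M _ _ => ?_⟩
  set κ := p.asIdeal.ResidueField with hκ
  haveI : IsRegularRing (κ ⊗[R] C) :=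
    Groth.Agent.Helper14.SmoothReg.isRegularRing_of_smooth κ (κ ⊗[R] C)
  -- a surjection from a polynomial ring over the residue field
  let g : κ ⊗[R] MvPolynomial (Fin n) R →ₐ[κ] κ ⊗[R] C :=
    Algebra.TensorProduct.map (AlgHom.id κ κ) f
  have hg : Function.Surjective g := by
    have h1 : Function.Surjective (TensorProduct.map (LinearMap.id : κ →ₗ[R] κ) f.toLinearMap) :=
      TensorProduct.map_surjective Function.surjective_id hf
    intro x
    obtain ⟨y, hy⟩ := h1 x
    exact ⟨y, hy⟩
  let e := (MvPolynomial.algebraTensorAlgEquiv (σ := Fin n) R κ).symm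
  have hsurj : Function.Surjective ((g : κ ⊗[R] MvPolynomial (Fin n) R →+* κ ⊗[R] C).comp
      (e : MvPolynomial (Fin n) κ →+* κ ⊗[R] MvPolynomial (Fin n) R)) :=
    hg.comp e.surjective
  have hdim : ringKrullDim (κ ⊗[R] C) ≤ n := by
    refine (ringKrullDim_le_of_surjective _ hsurj).trans ?_
    rw [MvPolynomial.ringKrullDim_of_isNoetherianRing, ringKrullDim_eq_zero_of_field, Nat.card_fin,
      zero_add]
  by_cases htriv : Subsingleton (κ ⊗[R] C)
  · haveI : Subsingleton M := Module.subsingleton (κ ⊗[R] C) M
    haveI := (ModuleCat.isZero_of_subsingleton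
      (ModuleCat.of (κ ⊗[R] C) M)).hasProjectiveDimensionLT_zero
    exact hasProjectiveDimensionLT_of_ge _ 0 (n + 1) (Nat.zero_le _)
  · haveI : Nontrivial (κ ⊗[R] C) := not_subsingleton_iff_nontrivial.mp htriv
    obtain ⟨d, hd⟩ : ∃ d : ℕ, ringKrullDim (κ ⊗[R] C) = d := by
      have h0 : 0 ≤ ringKrullDim (κ ⊗[R] C) := ringKrullDim_nonneg_of_nontrivial
      generalize ringKrullDim (κ ⊗[R] C) = x at h0 hdim
      induction x using WithBot.recBotCoe with
      | bot => exact absurd h0 (by simp)
      | coe y =>
        induction y using ENat.recTopCoe with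
        | top =>
          exfalso
          have : ((⊤ : ℕ∞) : WithBot ℕ∞) ≤ ((n : ℕ∞) : WithBot ℕ∞) := hdim
          rw [WithBot.coe_le_coe] at this
          exact absurd this (by simp)
        | coe k => exact ⟨k, rfl⟩
    have hdn : d ≤ n := by
      rw [hd] at hdim
      exact_mod_cast hdim
    haveI := Groth.Agent.Helper11.DC.glDim_of_isRegularRing d hd (ModuleCat.of (κ ⊗[R] C) M)
    exact hasProjectiveDimensionLT_of_ge _ (d + 1) (n + 1) (by omega)

end Groth.Agent.Helper5.SPF
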