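import Groth.Agent.Lib.Helper5.SPF1
import Groth.Agent.Lib.Helper5.PCI3
import Groth.Agent.Lib.Helper5.OBC13
import Groth.Agent.Lib.Helper5.PRF1
import Groth.Agent.Lib.Helper5.TB5

/-!
# Perfection relative to a smooth base, part 2: perfectness on affine charts
-/

set_option autoImplicit false
set_option linter.unusedSectionVars false
set_option linter.unusedVariables false
set_option linter.style.haveILetI false

universe u

open CategoryTheory CategoryTheory.Limits AlgebraicGeometry TopologicalSpace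

attribute [local instance] HasDerivedCategory.standard

namespace Groth.Agent.Helper5.SPF

open Groth.Agent.Helper5.TB Groth.Agent.Helper5.RPR Groth.Agent.Helper11
  Groth.Agent.Helper5.TBA Groth.Agent.Helper5.RT Groth.Agent.Helper5.PCT Groth.Agent.Helper5.TT
  Groth.Agent.Helper5.KF Groth.Agent.Helper9.RelPC Groth.Agent.Helper5.CHP
  Groth.Agent.Helper5.PRF Groth.Agent.Helper5.OBC Groth.Agent.Helper5.LDer

variable {X : Scheme.{u}}

/-- perfectness near a point restricts to open subschemes -/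
theorem perfAt_restrictD {U : Scheme.{u}} (j : U ⟶ X) [IsOpenImmersion j] (K : DCoh.D X)
    (y : U) (h : PerfAt K (j.base y)) : PerfAt ((DCoh.restrictD j).obj K) y := by
  obtain ⟨V, hyV, hV⟩ := h
  set F₀ := DerivedCategory.Q.objPreimage K with hF₀
  have e₀ : DerivedCategory.Q.obj F₀ ≅ K := DerivedCategory.Q.objObjPreimageIso K
  have e₁ : DerivedCategory.Q.obj ((rCx j).obj F₀) ≅ (DCoh.restrictD j).obj K :=
    ((Scheme.Modules.restrictFunctor j).mapDerivedCategoryFactors.app F₀).symm ≪≫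
      (DCoh.restrictD j).mapIso e₀
  obtain ⟨P, hP, ⟨e⟩⟩ := hV F₀ ⟨e₀⟩
  refine ⟨j ⁻¹ᵁ V, hyV, fun F' ⟨eF'⟩ => ?_⟩
  have hsq : (j ⁻¹ᵁ V).ι ≫ j = (j ∣_ V) ≫ V.ι := (morphismRestrict_ι j V).symm
  refine ⟨(rCx (j ∣_ V)).obj P, isStrictlyPerfect_restrict _ P hP, ⟨?_⟩⟩
  exact restrictQIso (j ⁻¹ᵁ V).ι (eF' ≪≫ e₁.symm) ≪≫
    DerivedCategory.Q.mapIso (rCxCompIso (j ⁻¹ᵁ V).ι j F₀ ≪≫ rCxCongrIso hsq F₀ ≪≫
      (rCxCompIso (j ∣_ V) V.ι F₀).symm) ≪≫
    restrictQIso (j ∣_ V) e

/-- perfectness passes to charts -/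
theorem isPerfect_chart (E : DCoh.D X) (hE : DCoh.IsPerfect E) {W : X.Opens}
    (hW : IsAffineOpen W) : DCoh.IsPerfect (chart E hW) := by
  intro z
  refine perfAt_restrictD hW.isoSpec.inv _ z (perfAt_restrictD W.ι E _ ?_)
  exact hE _

/-- perfectness at the points of an affine open can be checked on the chart -/
theorem perfAt_of_chart (E : DCoh.D X) {W : X.Opens} (hW : IsAffineOpen W)
    (h : DCoh.IsPerfect (chart E hW)) (x : X) (hx : x ∈ W) : PerfAt E x := by
  have hx' : x ∈ W.ι.opensRange := by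
    rw [Scheme.Opens.opensRange_ι]
    exact hx
  obtain ⟨x₁, rfl⟩ := hx'
  obtain ⟨z, rfl⟩ := (ConcreteCategory.bijective_of_isIso hW.isoSpec.inv.base).2 x₁
  exact perfAt_of_openImmersion W.ι E _ (perfAt_of_openImmersion hW.isoSpec.inv _ z (h z))

end Groth.Agent.Helper5.SPF
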