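import Groth.Agent.Lib.Helper5.SPF2
import Groth.Agent.Lib.Helper5.PDZ6
import Groth.Agent.S7211
import Groth.Agent.S0914
import Groth.Agent.S6954

/-!
# Perfection relative to a smooth base, part 3: for a closed immersion `i : X ⟶ Y` into a scheme
smooth over `S`, a complex on `X` is perfect relative to `X ⟶ S` iff its direct image is perfect
-/

set_option autoImplicit false
set_option linter.unusedSectionVars false
set_option linter.unusedVariables false
set_option linter.style.haveILetI false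

universe u

open CategoryTheory CategoryTheory.Limits AlgebraicGeometry TopologicalSpace

attribute [local instance] HasDerivedCategory.standard

namespace Groth.Agent.Helper5.SPF

open Groth.Agent.Helper5.TB Groth.Agent.Helper5.RPR Groth.Agent.Helper11
  Groth.Agent.Helper5.TBA Groth.Agent.Helper5.RT Groth.Agent.Helper5.PCT Groth.Agent.Helper5.TT
  Groth.Agent.Helper5.KF Groth.Agent.Helper9.RelPC Groth.Agent.Helper5.CHP
  Groth.Agent.Helper5.PRF Groth.Agent.Helper5.OBC Groth.Agent.Helper5.LDer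
  Groth.Agent.Helper5.PCI Groth.Agent.Helper5.PDZ Groth.Agent.Helper5.BP

section Ring

variable {R C : Type u} [CommRing R] [CommRing C] [Algebra R C] [Algebra.Smooth R C]

/-- over a smooth algebra, a pseudo-coherent complex is perfect iff it has finite tor dimension over
the base -/
theorem isPerfect_iff_finiteTor (N : Dual.D C) (hN : DRing.IsPseudoCoherent' C N) :
    DRing.IsPerfect C N ↔ ∃ a b : ℤ,
      DRing.HasTorAmplitudeIn R a b ((DRing.restrictD (algebraMap R C)).obj N) := by
  haveI : Module.Flat R C := inferInstance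
  constructor
  · intro h
    obtain ⟨_, ⟨a, b, h2⟩⟩ := (Groth.Agent.S6954.result C N).mp h
    exact ⟨a, b, Groth.Agent.Helper11.TA.hasTorAmplitudeIn_restrict_of_flat N a b h2⟩
  · rintro ⟨a, b, h⟩
    obtain ⟨d, hgl⟩ := hgl_smooth R C
    exact (Groth.Agent.Helper11.PerfHom.isPerfect_of_flat_fibres d hgl a b N hN h).1

end Ring

variable {X Y S : Scheme.{u}}

/-- pointwise form of `hasTorAmplitude_iff_torVan` -/
theorem hasTorAmplitudeAt_iff_torVan (f : X ⟶ S) (F : CochainComplex X.Modules ℤ) (a b : ℤ)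
    (y : X) :
    DerSch.HasTorAmplitudeAt f a b F y ↔
      Groth.Agent.Helper11.TA.TorVan a b ((stalkD f y).obj (DCoh.toD X F)) := by
  constructor
  · intro h
    exact (Groth.Agent.Helper11.TA.torVan_of_hasTorAmplitudeIn h).of_iso
      (stalkDIso f y F (Iso.refl _)).symm
  · intro h
    exact Groth.Agent.Helper11.TA.hasTorAmplitudeIn_of_torVan
      (h.of_iso (stalkDIso f y F (Iso.refl _)))

variable (i : X ⟶ Y) [IsClosedImmersion i] (g : Y ⟶ S) [Smooth g]

/-- the chart form: on an affine open `V` of `Y` lying over an affine open of `S`, the direct image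
is perfect iff the complex has bounded stalkwise tor amplitude over `S` on the preimage of `V` -/
theorem chart_main (F : CochainComplex X.Modules ℤ)
    (hpc : ∀ m : ℤ, DCoh.IsPseudoCoherentD m (DCoh.toD Y ((DerSch.pushCx i).obj F)))
    {W : S.Opens} (hW : IsAffineOpen W) {V : Y.Opens} (hV : IsAffineOpen V)
    (hVW : V ≤ g ⁻¹ᵁ W) :
    DCoh.IsPerfect (chart (DCoh.toD Y ((DerSch.pushCx i).obj F)) hV) ↔
      ∃ a b : ℤ, ∀ x ∈ i ⁻¹ᵁ V, DerSch.HasTorAmplitudeAt (i ≫ g) a b F x := by
  have hq : DCoh.IsQCohD (DCoh.toD X F) := isQCohD_of_push i F hpc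
  have hU : IsAffineOpen (i ⁻¹ᵁ V) := hV.preimage i
  have hUW : i ⁻¹ᵁ V ≤ (i ≫ g) ⁻¹ᵁ W := fun y hy => hVW hy
  obtain ⟨M, ⟨e⟩⟩ := exists_model (DCoh.toD X F) hq hU
  have eN := pushChartIso i hV hU F M e
  letI algRC : Algebra Γ(S, W) Γ(Y, V) := (g.appLE W V hVW).hom.toAlgebra
  haveI : Algebra.Smooth Γ(S, W) Γ(Y, V) := Smooth.smooth_appLE g hW hV hVW
  set N := (DRing.restrictD (i.app V).hom).obj M with hNdef
  have hN : DRing.IsPseudoCoherent' Γ(Y, V) N :=
    Groth.Agent.Helper11.MPC.pc'_of_forall_mpc (fun m =>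
      mpc_of_tilde _ _ m (isPseudoCoherentD_of_iso eN (pc_chart _ m (hpc m) hV)))
  have step1 : DCoh.IsPerfect (chart (DCoh.toD Y ((DerSch.pushCx i).obj F)) hV) ↔
      DRing.IsPerfect Γ(Y, V) N :=
    ⟨fun h => (tilde_isPerfect_iff _ N).mp (isPerfect_of_iso eN h),
      fun h => isPerfect_of_iso eN.symm ((tilde_isPerfect_iff _ N).mpr h)⟩
  have hφ : ((i ≫ g).appLE W (i ⁻¹ᵁ V) hUW).hom =
      (i.app V).hom.comp (g.appLE W V hVW).hom := by
    have h := Scheme.Hom.appLE_comp_appLE i g W V (i ⁻¹ᵁ V) hVW le_rfl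
    rw [← Scheme.Hom.app_eq_appLE] at h
    rw [← h]
    rfl
  have step3 : ∀ a b : ℤ,
      DRing.HasTorAmplitudeIn Γ(S, W) a b
        ((DRing.restrictD (algebraMap Γ(S, W) Γ(Y, V))).obj N) ↔
      ∀ x ∈ i ⁻¹ᵁ V, DerSch.HasTorAmplitudeAt (i ≫ g) a b F x := by
    intro a b
    have key := torAmp_chart_iff (i ≫ g) (DCoh.toD X F) hU hW hUW M e a b
    rw [hφ] at key
    obtain ⟨ec⟩ := Groth.Agent.Helper11.MPC.nonempty_restrictCompIso
      (g.appLE W V hVW).hom (i.app V).hom M
    constructor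
    · intro h x hx
      rw [hasTorAmplitudeAt_iff_torVan]
      exact key.mpr (hasTorAmplitudeIn_of_iso ec.symm a b h) x hx
    · intro h
      refine hasTorAmplitudeIn_of_iso ec a b (key.mp (fun x hx => ?_))
      exact (hasTorAmplitudeAt_iff_torVan (i ≫ g) F a b x).mp (h x hx)
  rw [step1, isPerfect_iff_finiteTor (R := Γ(S, W)) N hN]
  exact exists_congr (fun a => exists_congr (fun b => step3 a b))

end Groth.Agent.Helper5.SPF
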