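import Groth.Agent.Lib.Helper5.SPF3

/-!
# Perfection relative to a smooth base, part 4: the main theorem (S6217)
-/

set_option autoImplicit false
set_option linter.unusedSectionVars false
set_option linter.unusedVariables false
set_option linter.style.haveILetI false

universe u

open CategoryTheory CategoryTheory.Limits AlgebraicGeometry TopologicalSpace

attribute [local instance] HasDerivedCategory.standard

namespace Groth.Agent.Helper5.SPF

open Groth.Agent.Helper5.PRF Groth.Agent.Helper5.TBA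

variable {X Y S : Scheme.{u}} (i : X ⟶ Y) [IsClosedImmersion i] (g : Y ⟶ S) [Smooth g]

/-- an affine chart of `Y` over an affine open of `S` around a point, inside a given open -/
lemma exists_chart_pair (y : Y) (T : Y.Opens) (hyT : y ∈ T) :
    ∃ (W : S.Opens) (V : Y.Opens), IsAffineOpen W ∧ IsAffineOpen V ∧ y ∈ V ∧ V ≤ g ⁻¹ᵁ W ∧
      V ≤ T := by
  obtain ⟨W, hW, hyW, -⟩ := (Opens.isBasis_iff_nbhd.mp S.isBasis_affineOpens)
    (show g.base y ∈ (⊤ : S.Opens) from trivial)
  obtain ⟨V, hV, hyV, hVle⟩ := (Opens.isBasis_iff_nbhd.mp Y.isBasis_affineOpens)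
    (show y ∈ g ⁻¹ᵁ W ⊓ T from ⟨hyW, hyT⟩)
  exact ⟨W, V, hW, hV, hyV, hVle.trans inf_le_left, hVle.trans inf_le_right⟩

/-- S6217 -/
theorem main (F : CochainComplex X.Modules ℤ) :
    DerSch.IsPerfectRel (i ≫ g) F ↔
      DCoh.IsPerfect (DCoh.toD Y ((DerSch.pushCx i).obj F)) := by
  haveI : Flat g := inferInstance
  haveI : LocallyOfFinitePresentation g := inferInstance
  constructor
  · rintro ⟨hrel, hloc⟩
    have hpc : ∀ m : ℤ, DCoh.IsPseudoCoherentD m (DCoh.toD Y ((DerSch.pushCx i).obj F)) :=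
      fun m => ((Groth.Agent.S7211.result i g m F).1).mp (hrel m)
    intro y
    -- an open neighbourhood of `y` over whose preimage the tor amplitude is bounded
    have hT : ∃ (T : Y.Opens) (a b : ℤ), y ∈ T ∧
        ∀ x ∈ i ⁻¹ᵁ T, DerSch.HasTorAmplitudeAt (i ≫ g) a b F x := by
      by_cases hy : y ∈ Set.range i.base
      · obtain ⟨x, rfl⟩ := hy
        obtain ⟨V₀, a, b, hxV₀, hV₀⟩ := hloc x
        obtain ⟨t, ht, hteq⟩ := i.isClosedEmbedding.isInducing.isOpen_iff.mp V₀.isOpen
        refine ⟨⟨t, ht⟩, a, b, ?_, fun x' hx' => hV₀ x' ?_⟩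
        · show i.base x ∈ t
          have : x ∈ i.base ⁻¹' t := by
            rw [hteq]
            exact hxV₀
          exact this
        · have : x' ∈ i.base ⁻¹' t := hx'
          rw [hteq] at this
          exact this
      · refine ⟨⟨(Set.range i.base)ᶜ, i.isClosedEmbedding.isClosed_range.isOpen_compl⟩, 0, 0, hy,
          fun x' hx' => ?_⟩
        exact absurd ⟨x', rfl⟩ hx'
    obtain ⟨T, a, b, hyT, hTab⟩ := hT
    obtain ⟨W, V, hW, hV, hyV, hVW, hVT⟩ := exists_chart_pair g y T hyT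
    have h1 : DCoh.IsPerfect (chart (DCoh.toD Y ((DerSch.pushCx i).obj F)) hV) :=
      (chart_main i g F hpc hW hV hVW).mpr ⟨a, b, fun x hx => hTab x (hVT hx)⟩
    exact perfAt_of_chart _ hV h1 y hyV
  · intro h
    have hpc : ∀ m : ℤ, DCoh.IsPseudoCoherentD m (DCoh.toD Y ((DerSch.pushCx i).obj F)) :=
      ((Groth.Agent.S0914.result _).mp h).1
    refine ⟨fun m => ((Groth.Agent.S7211.result i g m F).1).mpr (hpc m), fun x => ?_⟩
    obtain ⟨W, V, hW, hV, hyV, hVW, -⟩ := exists_chart_pair g (i.base x) ⊤ trivial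
    obtain ⟨a, b, hab⟩ := (chart_main i g F hpc hW hV hVW).mp (isPerfect_chart _ h hV)
    exact ⟨i ⁻¹ᵁ V, a, b, hyV, fun x' hx' => hab x' hx'⟩

end Groth.Agent.Helper5.SPF
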