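import Groth.Agent.Lib.Helper5.SPF4
import Groth.Agent.Lib.Helper9.PushPerf
import Groth.Agent.Lib.Helper13.QCohPush

/-!
# Perfection relative to a smooth base, part 5: the direct image of the structure sheaf along an
affine morphism, flat over the base, into a scheme smooth over the base (S7872)
-/

set_option autoImplicit false
set_option linter.unusedSectionVars false
set_option linter.unusedVariables false
set_option linter.style.haveILetI false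

universe u

open CategoryTheory CategoryTheory.Limits AlgebraicGeometry TopologicalSpace

attribute [local instance] HasDerivedCategory.standard

namespace Groth.Agent.Helper5.SPF

open Groth.Agent.Helper5.PRF Groth.Agent.Helper5.TBA Groth.Agent.Helper9.RelPC
  Groth.Agent.Helper9.PushPerf Groth.Agent.Helper5.TB Groth.Agent.Helper5.BP
  Groth.Agent.Helper5.PCT Groth.Agent.Helper5.PDZ

variable {X Y S : Scheme.{u}} (f : X ⟶ Y) [IsAffineHom f] (g : Y ⟶ S) [Smooth g]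

instance isQuasicoherent_pushUnit' : (pushUnit f).IsQuasicoherent := by
  haveI : (SheafOfModules.unit X.ringCatSheaf).IsQuasicoherent :=
    Groth.Agent.Helper13.QCoh.isQuasicoherent_unit X
  exact Groth.Agent.Helper13.QCohPush.isQuasicoherent_pushforward f _

/-- `(f_* O_X)|_{Spec Γ(Y,V)} ≅ (Γ(X, f⁻¹V))~` for an affine morphism `f` -/
noncomputable def restrictIsoAff {V : Y.Opens} (hV : IsAffineOpen V) :
    letI : Algebra Γ(Y, V) Γ(X, f ⁻¹ᵁ V) := (f.app V).hom.toAlgebra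
    (pushUnit f).restrict hV.fromSpec ≅
      (tilde.functor Γ(Y, V)).obj (ModuleCat.of Γ(Y, V) Γ(X, f ⁻¹ᵁ V)) :=
  letI : Algebra Γ(Y, V) Γ(X, f ⁻¹ᵁ V) := (f.app V).hom.toAlgebra
  (asIso ((pushUnit f).restrict hV.fromSpec).fromTildeΓ).symm ≪≫
    (tilde.functor Γ(Y, V)).mapIso ((psi f hV).toModuleIso).symm

/-- S7872 -/
theorem main7872 [Flat (f ≫ g)]
    (hpc : ∀ m : ℤ, DCoh.IsPseudoCoherentD m (DCoh.inD Y (pushUnit f))) :
    DCoh.IsPerfect (DCoh.inD Y (pushUnit f)) := by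
  intro y
  obtain ⟨W, V, hW, hV, hyV, hVW, -⟩ := exists_chart_pair g y ⊤ trivial
  have hU : IsAffineOpen (f ⁻¹ᵁ V) := hV.preimage f
  have hUW : f ⁻¹ᵁ V ≤ (f ≫ g) ⁻¹ᵁ W := fun x hx => hVW hx
  letI algRC : Algebra Γ(S, W) Γ(Y, V) := (g.appLE W V hVW).hom.toAlgebra
  letI algCA : Algebra Γ(Y, V) Γ(X, f ⁻¹ᵁ V) := (f.app V).hom.toAlgebra
  letI algRA : Algebra Γ(S, W) Γ(X, f ⁻¹ᵁ V) := ((f ≫ g).appLE W (f ⁻¹ᵁ V) hUW).hom.toAlgebra
  haveI : IsScalarTower Γ(S, W) Γ(Y, V) Γ(X, f ⁻¹ᵁ V) := by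
    refine IsScalarTower.of_algebraMap_eq' ?_
    have h := Scheme.Hom.appLE_comp_appLE f g W V (f ⁻¹ᵁ V) hVW le_rfl
    rw [← Scheme.Hom.app_eq_appLE] at h
    exact (congrArg CommRingCat.Hom.hom h).symm
  haveI : Algebra.Smooth Γ(S, W) Γ(Y, V) := Smooth.smooth_appLE g hW hV hVW
  haveI : Module.Flat Γ(S, W) Γ(X, f ⁻¹ᵁ V) := Flat.flat_appLE (f ≫ g) hW hU hUW
  -- the chart of `f_* O_X`
  have e5 := ((tilde.functor (CommRingCat.of Γ(Y, V))).mapDerivedCategorySingleFunctor 0).app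
    (ModuleCat.of Γ(Y, V) Γ(X, f ⁻¹ᵁ V))
  have e4 := (DerivedCategory.singleFunctor (Spec Γ(Y, V)).Modules 0).mapIso (restrictIsoAff f hV)
  have e3 := ((Scheme.Modules.restrictFunctor hV.fromSpec).mapDerivedCategorySingleFunctor 0).app
    (pushUnit f)
  have eT : (DCoh.tildeD (CommRingCat.of Γ(Y, V))).obj (Dual.inD Γ(Y, V) Γ(X, f ⁻¹ᵁ V)) ≅
      (DCoh.restrictD hV.fromSpec).obj (DCoh.inD Y (pushUnit f)) := e5 ≪≫ e4.symm ≪≫ e3.symm
  -- pseudo-coherence over `Γ(Y, V)`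
  have hpcA : DRing.IsPseudoCoherent' Γ(Y, V) (Dual.inD Γ(Y, V) Γ(X, f ⁻¹ᵁ V)) := by
    refine Groth.Agent.Helper11.MPC.pc'_of_forall_mpc (fun m => mpc_of_tilde _ _ m ?_)
    refine isPseudoCoherentD_of_iso eT.symm ?_
    exact (isPseudoCoherentD_iff_forall_pcAt m _).mpr (fun z =>
      (pcAt_restrictD_iff hV.fromSpec _ m z).mpr
        ((isPseudoCoherentD_iff_forall_pcAt m _).mp (hpc m) _))
  -- finite tor dimension over `Γ(S, W)`
  obtain ⟨d, hd⟩ := Groth.Agent.Helper11.PerfHom.hasFiniteTorDim_iff.mp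
    (Groth.Agent.Helper11.PerfMor.ftd_of_flat (A := Γ(S, W)) (B := Γ(X, f ⁻¹ᵁ V)))
  have h1 : DRing.HasTorAmplitudeIn Γ(S, W) (-(d : ℤ)) 0 (Dual.inD Γ(S, W) Γ(X, f ⁻¹ᵁ V)) :=
    Groth.Agent.Helper11.TA.hasTorAmplitudeIn_of_torVan hd
  have h2 : DRing.HasTorAmplitudeIn Γ(S, W) (-(d : ℤ)) 0
      ((DRing.restrictD (algebraMap Γ(S, W) Γ(Y, V))).obj
        (Dual.inD Γ(Y, V) Γ(X, f ⁻¹ᵁ V))) :=
    hasTorAmplitudeIn_of_iso
      (Groth.Agent.Helper11.PerfHom.restrictInD (A := Γ(S, W)) (P := Γ(Y, V))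
        (B := Γ(X, f ⁻¹ᵁ V))).symm _ _ h1
  have hperf : DRing.IsPerfect Γ(Y, V) (Dual.inD Γ(Y, V) Γ(X, f ⁻¹ᵁ V)) :=
    (isPerfect_iff_finiteTor (R := Γ(S, W)) _ hpcA).mpr ⟨-(d : ℤ), 0, h2⟩
  have hP2 : DCoh.IsPerfect ((DCoh.restrictD hV.fromSpec).obj (DCoh.inD Y (pushUnit f))) :=
    isPerfect_of_iso eT (tilde_isPerfect _ _ hperf)
  obtain ⟨z, rfl⟩ := exists_fromSpec_eq hV y hyV
  exact perfAt_of_openImmersion hV.fromSpec _ z (hP2 z)

end Groth.Agent.Helper5.SPF
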