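import Groth.Agent.Lib.Helper5.SPF4
import Groth.Agent.Lib.Helper14.SmoothDim

/-!
# Perfection relative to a smooth base, part 6: the fibre rings of a standard smooth algebra of
relative dimension `n` have global dimension `≤ n`
-/

set_option autoImplicit false
set_option linter.unusedSectionVars false
set_option linter.unusedVariables false
set_option linter.style.haveILetI false

universe u

open CategoryTheory CategoryTheory.Limits TensorProduct

namespace Groth.Agent.Helper5.SPF

/-- the fibre rings of a standard smooth algebra of relative dimension `n` have global dimension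
at most `n` -/
theorem hgl_stdSmooth (R C : Type u) [CommRing R] [CommRing C] [Algebra R C] (n : ℕ)
    [Algebra.IsStandardSmoothOfRelativeDimension n R C] :
    ∀ (p : PrimeSpectrum R) (M : Type u) [AddCommGroup M]
      [Module (TensorProduct R p.asIdeal.ResidueField C) M],
      HasProjectiveDimensionLT (ModuleCat.of (TensorProduct R p.asIdeal.ResidueField C) M)
        (n + 1) := by
  intro p M _ _
  set κ := p.asIdeal.ResidueField with hκ
  haveI : Algebra.IsStandardSmoothOfRelativeDimension n κ (κ ⊗[R] C) := inferInstance
  haveI : Algebra.IsStandardSmooth κ (κ ⊗[R] C) :=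
    Algebra.IsStandardSmoothOfRelativeDimension.isStandardSmooth n
  haveI : Algebra.Smooth κ (κ ⊗[R] C) := inferInstance
  haveI : IsRegularRing (κ ⊗[R] C) :=
    Groth.Agent.Helper14.SmoothReg.isRegularRing_of_smooth κ (κ ⊗[R] C)
  by_cases htriv : Subsingleton (κ ⊗[R] C)
  · haveI : Subsingleton M := Module.subsingleton (κ ⊗[R] C) M
    haveI := (ModuleCat.isZero_of_subsingleton
      (ModuleCat.of (κ ⊗[R] C) M)).hasProjectiveDimensionLT_zero
    exact hasProjectiveDimensionLT_of_ge _ 0 (n + 1) (Nat.zero_le _)
  · haveI : Nontrivial (κ ⊗[R] C) := not_subsingleton_iff_nontrivial.mp htriv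
    obtain ⟨φ, hφ⟩ :=
      Algebra.IsStandardSmoothOfRelativeDimension.exists_etale_mvPolynomial n κ (κ ⊗[R] C)
    have hd : ringKrullDim (κ ⊗[R] C) = n := by
      letI := φ.toRingHom.toAlgebra
      haveI : Algebra.Etale (MvPolynomial (Fin n) κ) (κ ⊗[R] C) :=
        RingHom.etale_algebraMap.mp hφ
      exact Groth.Agent.Helper14.SmoothDim.ringKrullDim_eq_of_etale κ n (κ ⊗[R] C)
    exact Groth.Agent.Helper11.DC.glDim_of_isRegularRing n hd (ModuleCat.of (κ ⊗[R] C) M)

end Groth.Agent.Helper5.SPF
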