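import Groth.Agent.Lib.Helper5.TBA5
import Groth.Agent.Lib.Helper13.FinPresLocal

/-!
# Relative perfectness in terms of bounded complexes of finitely presented modules flat over the
base, part 1: existence of such local models
-/

set_option autoImplicit false
set_option linter.unusedSectionVars false
set_option linter.unusedVariables false
set_option linter.style.haveILetI false

universe u

open CategoryTheory CategoryTheory.Limits HomologicalComplex Pretriangulated AlgebraicGeometry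

attribute [local instance] HasDerivedCategory.standard

namespace Groth.Agent.Helper5.TBB

open DerivedCategory CochainComplex Groth.Agent.Helper5.LDer Groth.Agent.Helper5.KRes
  Groth.Agent.Helper13.LocFree Groth.Agent.Helper5.RT Groth.Agent.Helper5.StalkCx
  Groth.Agent.Helper5.FPC Groth.Agent.Helper11 Groth.Agent.Helper5.RPF Groth.Agent.Helper5.KF
  Groth.Agent.Helper5.PC Groth.Agent.Helper5.PCT Groth.Agent.Helper5.RPR

section FP

variable {X : Scheme.{u}}

lemma isFP_of_iso {M N : X.Modules} (e : M ≅ N) (h : CohB1.IsFP M) : CohB1.IsFP N :=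
  (SheafOfModules.isFinitePresentation X.ringCatSheaf).prop_of_iso e h

lemma isFinLocFree_of_isZero {M : X.Modules} (h : IsZero M) : FlatMod.IsFinLocFree M := by
  intro x
  refine ⟨⊤, 0, trivial, ⟨?_⟩⟩
  exact (IsZero.iso ((Scheme.Modules.restrictFunctor (⊤ : X.Opens).ι).map_isZero h)
    (isZero_freeMod_zero _))

lemma isFP_of_isFinLocFree {M : X.Modules} (h : FlatMod.IsFinLocFree M) : CohB1.IsFP M := by
  haveI := isQuasicoherent_of_isFinLocFree M h
  exact isFinitePresentation_of_isFinLocFree M h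

lemma isFP_of_isZero {M : X.Modules} (h : IsZero M) : CohB1.IsFP M :=
  isFP_of_isFinLocFree (isFinLocFree_of_isZero h)

end FP

section Model

variable {Y : Scheme.{u}}

/-- the truncation model with a general termwise property -/
theorem truncGE_model_pred (Pr : Y.Modules → Prop) (hiso : ∀ {M N : Y.Modules}, (M ≅ N) → Pr M → Pr N)
    (hzero : ∀ {M : Y.Modules}, IsZero M → Pr M)
    {P F : CochainComplex Y.Modules ℤ} (β : P ⟶ F) (a : ℤ)
    (aP bP : ℤ) (hvP : DCoh.VanishesOutside P aP bP) (hfP : ∀ i, Pr (P.X i))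
    (hfl2 : Pr (cokernel (P.d (a - 1) a)))
    (hF : ∀ i : ℤ, i < a → F.ExactAt i)
    (hβ : PC.IsConn (a - 1) (DerivedCategory.Q.map β)) :
    ∃ G : CochainComplex Y.Modules ℤ, DCoh.VanishesOutside G a (max a bP) ∧ (∀ i, Pr (G.X i)) ∧
      Nonempty (DerivedCategory.Q.obj G ≅ DerivedCategory.Q.obj F) := by
  have hvT : DCoh.VanishesOutside (P.truncGE a) a (max a bP) := by
    intro i hi
    rcases hi with hi | hi
    · exact (P.truncGE a).isZero_of_isStrictlyGE a i hi
    · have hai : a < i := by have := le_max_left a bP; omega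
      exact IsZero.of_iso (hvP i (Or.inr (by have := le_max_right a bP; omega)))
        (P.truncGEXIso a i hai)
  have hT : ∀ i, Pr ((P.truncGE a).X i) := by
    intro i
    rcases lt_trichotomy i a with hi | hi | hi
    · exact hzero ((P.truncGE a).isZero_of_isStrictlyGE a i hi)
    · subst hi
      exact hiso ((P.truncGEXIsoOpcycles i ≪≫
        P.opcyclesIsoSc' (i - 1) i (i + 1) (by simp) (by simp) ≪≫
        (P.sc' (i - 1) i (i + 1)).opcyclesIsoCokernel)).symm hfl2
    · exact hiso (P.truncGEXIso a i hi).symm (hfP i)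
  haveI : F.IsGE a := by
    rw [CochainComplex.isGE_iff]
    exact hF
  haveI : QuasiIso (F.πTruncGE a) := (CochainComplex.quasiIso_πTruncGE_iff F a).mpr inferInstance
  haveI : QuasiIso (truncGEMap β a) := by
    rw [CochainComplex.quasiIso_truncGEMap_iff]
    intro i hi
    rw [quasiIsoAt_iff_isIso_homologyMap]
    have h1 := hβ.1 i (by omega)
    exact (NatIso.isIso_map_iff (DerivedCategory.homologyFunctorFactors Y.Modules i) β).mp h1
  exact ⟨P.truncGE a, hvT, hT, ⟨asIso (DerivedCategory.Q.map (truncGEMap β a)) ≪≫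
    (asIso (DerivedCategory.Q.map (F.πTruncGE a))).symm⟩⟩

end Model

section Main

variable {X S : Scheme.{u}} (f : X ⟶ S)

/-- a complex which is `(a-1)`-pseudo-coherent near `x` with stalkwise tor amplitude in `[a, b]`
near `x` is, near `x`, a bounded complex of finitely presented modules flat over the base -/
theorem exists_fp_flat_model_of_pcAt [Flat f] (F : CochainComplex X.Modules ℤ) (a b : ℤ) (x : X)
    (hpc : PCAt (a - 1) (DerivedCategory.Q.obj F) x) (V₀ : X.Opens) (hxV₀ : x ∈ V₀)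
    (hT : ∀ y : X, y ∈ V₀ → TA.TorVan a b (DRing.toD ((DerSch.stalkCxOver f y).obj F))) :
    ∃ (W : X.Opens) (b' : ℤ), x ∈ W ∧ W ≤ V₀ ∧
      ∃ G : CochainComplex (W : Scheme.{u}).Modules ℤ, DCoh.VanishesOutside G a b' ∧
        (∀ i, CohB1.IsFP (G.X i) ∧ FlatMod.IsFlatOver (W.ι ≫ f) (G.X i)) ∧
        Nonempty (DerivedCategory.Q.obj G ≅ DerivedCategory.Q.obj ((DCoh.restrictCx W).obj F)) := by
  obtain ⟨V, hxV, P, α, ⟨⟨aP, bP, hvP⟩, hfP⟩, hα⟩ := exists_chain_model_at F (a - 1) x hpc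
  have hWV : V ⊓ V₀ ≤ V := inf_le_left
  set W : X.Opens := V ⊓ V₀ with hW
  set β : (rCx (X.homOfLE hWV)).obj P ⟶ (DCoh.restrictCx W).obj F :=
    (rCx (X.homOfLE hWV)).map α ≫ (restrictCxCompIso hWV F).inv with hβdef
  have hβ : PC.IsConn (a - 1) (DerivedCategory.Q.map β) := isConn_restrict_chain hWV F α (a - 1) hα
  have hTW : ∀ y : (W : Scheme.{u}), TA.TorVan a b
      (DRing.toD ((DerSch.stalkCxOver (W.ι ≫ f) y).obj ((DCoh.restrictCx W).obj F))) := fun y =>
    torVan_stalkCxOver_restrict f W.ι F y a b (hT _ y.2.2)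
  have hFex : ∀ i : ℤ, i < a → ((DCoh.restrictCx W).obj F).ExactAt i := fun i hi =>
    exactAt_of_torVan_stalkCxOver (W.ι ≫ f) _ a b hTW i (Or.inl hi)
  have hvP' : DCoh.VanishesOutside ((rCx (X.homOfLE hWV)).obj P) aP bP := fun i hi =>
    (Scheme.Modules.restrictFunctor (X.homOfLE hWV)).map_isZero (hvP i hi)
  have hfP' : ∀ i, FlatMod.IsFinLocFree (((rCx (X.homOfLE hWV)).obj P).X i) := fun i =>
    isFinLocFree_restrict (X.homOfLE hWV) _ (hfP i)
  have hfl2 : FlatMod.IsFlatOver (W.ι ≫ f)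
      (cokernel (((rCx (X.homOfLE hWV)).obj P).d (a - 1) a)) := fun y =>
    isFlatOverAt_cokernel_of_conn (W.ι ≫ f) β a b aP bP hvP' hfP' hβ y (hTW y)
  have hflP : ∀ i, FlatMod.IsFlatOver (W.ι ≫ f) (((rCx (X.homOfLE hWV)).obj P).X i) := fun i y =>
    (isFlatOverAt_iff (W.ι ≫ f) _ y).mpr (flat_stalkOver_of_isFinLocFree (W.ι ≫ f) _ (hfP' i) y)
  obtain ⟨G, hG1, hG2, hG3⟩ := truncGE_model_pred
    (fun M : (W : Scheme.{u}).Modules => CohB1.IsFP M ∧ FlatMod.IsFlatOver (W.ι ≫ f) M)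
    (fun e h => ⟨isFP_of_iso e h.1, isFlatOver_of_iso (W.ι ≫ f) e h.2⟩)
    (fun h => ⟨isFP_of_isZero h, isFlatOver_of_isZero (W.ι ≫ f) h⟩)
    β a aP bP hvP' (fun i => ⟨isFP_of_isFinLocFree (hfP' i), hflP i⟩)
    ⟨isFinitePresentation_cokernel _ (hfP' _) (hfP' _), hfl2⟩ hFex hβ
  exact ⟨W, max a bP, ⟨hxV, hxV₀⟩, inf_le_right, G, hG1, hG2, hG3⟩

/-- relatively perfect objects have local models by bounded complexes of finitely presented
modules flat over the base -/
theorem exists_local_fp_flat_models [Flat f] (E : DCoh.D X)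
    (hpc : ∀ m : ℤ, DCoh.IsPseudoCoherentD m E) (hloc : DCoh.LocHasFiniteRelTorDim f E) (x : X) :
    ∃ V : X.Opens, x ∈ V ∧ ∀ F : CochainComplex X.Modules ℤ, Nonempty (DCoh.toD X F ≅ E) →
      ∃ (G : CochainComplex (V : Scheme.{u}).Modules ℤ) (a b : ℤ), DCoh.VanishesOutside G a b ∧
        (∀ i : ℤ, CohB1.IsFP (G.X i) ∧ FlatMod.IsFlatOver (V.ι ≫ f) (G.X i)) ∧
        Nonempty (DerivedCategory.Q.obj ((DCoh.restrictCx V).obj F) ≅ DerivedCategory.Q.obj G) := by
  obtain ⟨V₀, a, b, hxV₀, hV₀⟩ := locTorVan_of_locHasFiniteRelTorDim f E hloc x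
  obtain ⟨F₀, ⟨eF₀⟩⟩ : ∃ F : CochainComplex X.Modules ℤ, Nonempty (DCoh.toD X F ≅ E) :=
    ⟨_, ⟨(DerivedCategory.Q.objObjPreimageIso E)⟩⟩
  have hpc' : PCAt (a - 1) (DerivedCategory.Q.obj F₀) x :=
    pcAt_of_iso eF₀.symm ((isPseudoCoherentD_iff_forall_pcAt (a - 1) E).mp (hpc (a - 1)) x)
  obtain ⟨W, b', hxW, hWV, G, hG1, hG2, ⟨hG3⟩⟩ := exists_fp_flat_model_of_pcAt f F₀ a b x hpc' V₀ hxV₀
    (fun y hy => (hV₀ y hy).of_iso (stalkDIso f y F₀ eF₀))
  refine ⟨W, hxW, ?_⟩
  rintro F ⟨eF⟩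
  exact ⟨G, a, b', hG1, hG2, ⟨restrictQIso W.ι (eF ≪≫ eF₀.symm) ≪≫ hG3.symm⟩⟩

end Main

end Groth.Agent.Helper5.TBB
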