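import Groth.Agent.Lib.Helper5.ZLF1
import Groth.Agent.Lib.Helper5.FPC3

/-!
# Cycles of a complex of finite locally free modules which is exact above; top truncation
-/

set_option autoImplicit false
set_option linter.unusedSectionVars false
set_option linter.unusedVariables false
set_option linter.style.haveILetI false

universe u

open CategoryTheory CategoryTheory.Limits AlgebraicGeometry HomologicalComplex

attribute [local instance] HasDerivedCategory.standard

namespace Groth.Agent.Helper5.FPC

open Groth.Agent.Helper5.RT Groth.Agent.Helper13.LocFree Groth.Agent.Helper5.LDer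

variable {X : Scheme.{u}}

section

variable (P : CochainComplex X.Modules ℤ) (c n : ℤ)
  (hc : ∀ i : ℤ, c < i → IsZero (P.X i))
  (hf : ∀ i : ℤ, n ≤ i → FlatMod.IsFinLocFree (P.X i))
  (hex : ∀ i : ℤ, n < i → P.ExactAt i)

include hc hf hex in
theorem isFinLocFree_kernel_d_aux (k : ℕ) : ∀ (j : ℤ), n ≤ j → c + 1 - k ≤ j →
    FlatMod.IsFinLocFree (kernel (P.d j (j + 1))) := by
  induction k with
  | zero =>
    intro j _ hj
    exact isFinLocFree_of_isZero (IsZero.of_mono (kernel.ι (P.d j (j + 1))) (hc j (by omega)))
  | succ k ih =>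
    intro j hnj hj
    have h1 := ih (j + 1) (by omega) (by omega)
    have hex1 : (ShortComplex.mk (P.d j (j + 1)) (P.d (j + 1) (j + 1 + 1))
        (P.d_comp_d _ _ _)).Exact :=
      (P.exactAt_iff' j (j + 1) (j + 1 + 1) (by simp) (by simp)).mp (hex (j + 1) (by omega))
    haveI hepi : Epi (kernel.lift (P.d (j + 1) (j + 1 + 1)) (P.d j (j + 1)) (P.d_comp_d _ _ _)) :=
      (ShortComplex.exact_iff_epi_kernel_lift _).mp hex1
    have h2 := isFinLocFree_kernel_of_epi
      (kernel.lift (P.d (j + 1) (j + 1 + 1)) (P.d j (j + 1)) (P.d_comp_d _ _ _)) (hf j hnj) h1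
    have e : kernel (kernel.lift (P.d (j + 1) (j + 1 + 1)) (P.d j (j + 1)) (P.d_comp_d _ _ _)) ≅
        kernel (P.d j (j + 1)) :=
      (kernelCompMono _ (kernel.ι (P.d (j + 1) (j + 1 + 1)))).symm ≪≫
        kernelIsoOfEq (kernel.lift_ι _ _ _)
    exact isFinLocFree_of_iso e h2

include hc hf hex in
/-- the cycles of a bounded above complex of finite locally free modules are finite locally free
in the range where the complex is exact above -/
theorem isFinLocFree_cycles_of_exact_above (j : ℤ) (hj : n ≤ j) :
    FlatMod.IsFinLocFree (P.cycles j) := by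
  have h1 := isFinLocFree_kernel_d_aux P c n hc hf hex (c + 1 - j).toNat j hj (by omega)
  have e : P.cycles j ≅ kernel (P.d j (j + 1)) :=
    IsLimit.conePointUniqueUpToIso (P.cyclesIsKernel j (j + 1) (by simp))
      (limit.isLimit _)
  exact isFinLocFree_of_iso e.symm h1

end

/-- top truncation of a complex of finite locally free modules isomorphic in the derived category
to a complex vanishing above `n` -/
theorem truncLE_model (P G : CochainComplex X.Modules ℤ) (m n c : ℤ)
    (hvP : DCoh.VanishesOutside P m c) (hfP : ∀ i, FlatMod.IsFinLocFree (P.X i))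
    (hG : ∀ i : ℤ, n < i → IsZero (G.X i))
    (e : DerivedCategory.Q.obj G ≅ DerivedCategory.Q.obj P) :
    DCoh.VanishesOutside (P.truncLE n) m n ∧ (∀ i, FlatMod.IsFinLocFree ((P.truncLE n).X i)) ∧
      Nonempty (DerivedCategory.Q.obj G ≅ DerivedCategory.Q.obj (P.truncLE n)) := by
  have hex : ∀ i : ℤ, n < i → P.ExactAt i := by
    intro i hi
    rw [HomologicalComplex.exactAt_iff_isZero_homology]
    refine IsZero.of_iso ?_ (HDQIso P i).symm
    exact IsZero.of_iso (isZero_HD_Q_of_isZero_X G i (hG i hi))
      ((DerivedCategory.homologyFunctor X.Modules i).mapIso e.symm)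
  haveI : P.IsLE n := by
    rw [CochainComplex.isLE_iff]
    exact hex
  refine ⟨?_, ?_, ⟨e ≪≫ (asIso (DerivedCategory.Q.map (P.ιTruncLE n))).symm⟩⟩
  · intro i hi
    rcases hi with hi | hi
    · rcases lt_or_ge i n with hin | hin
      · exact IsZero.of_iso (hvP i (Or.inl hi)) (P.truncLEXIso n i hin)
      · rcases hin.lt_or_eq with h | h
        · exact (P.truncLE n).isZero_of_isStrictlyLE n i h
        · subst h
          exact IsZero.of_iso (IsZero.of_mono (P.iCycles n) (hvP n (Or.inl hi)))
            (P.truncLEXIsoCycles n)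
    · exact (P.truncLE n).isZero_of_isStrictlyLE n i hi
  · intro i
    rcases lt_trichotomy i n with hi | hi | hi
    · exact isFinLocFree_of_iso (P.truncLEXIso n i hi).symm (hfP i)
    · subst hi
      exact isFinLocFree_of_iso (P.truncLEXIsoCycles i).symm
        (isFinLocFree_cycles_of_exact_above P c i (fun k hk => hvP k (Or.inr hk))
          (fun k _ => hfP k) hex i le_rfl)
    · exact isFinLocFree_of_isZero ((P.truncLE n).isZero_of_isStrictlyLE n i hi)

end Groth.Agent.Helper5.FPC
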