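import Groth.Agent.Lib.Helper5.SPF6
import Groth.Agent.Lib.Helper5.OBC10
import Groth.Agent.Lib.Helper5.TBB1
import Groth.Agent.S4275
import Groth.Agent.S7243

/-!
# Perfection relative to a smooth base, part 7: perfect amplitude near a point, and charts
-/

set_option autoImplicit false
set_option linter.unusedSectionVars false
set_option linter.unusedVariables false
set_option linter.style.haveILetI false

universe u

open CategoryTheory CategoryTheory.Limits AlgebraicGeometry TopologicalSpace ZeroObject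

attribute [local instance] HasDerivedCategory.standard

namespace Groth.Agent.Helper5.SPF

open Groth.Agent.Helper5.TB Groth.Agent.Helper5.RPR Groth.Agent.Helper11
  Groth.Agent.Helper5.TBA Groth.Agent.Helper5.RT Groth.Agent.Helper5.PCT Groth.Agent.Helper5.TT
  Groth.Agent.Helper5.KF Groth.Agent.Helper9.RelPC Groth.Agent.Helper5.CHP
  Groth.Agent.Helper5.PRF Groth.Agent.Helper5.OBC Groth.Agent.Helper5.LDer

variable {X : Scheme.{u}}

/-- `K` has perfect amplitude in `[m, n]` near `x` -/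
def PerfAmpAt (m n : ℤ) (K : DCoh.D X) (x : X) : Prop :=
  ∃ (V : X.Opens), x ∈ V ∧ ∀ (F : CochainComplex X.Modules ℤ), Nonempty (DCoh.toD X F ≅ K) →
    ∃ E : CochainComplex (V : Scheme.{u}).Modules ℤ, DCoh.VanishesOutside E m n ∧
      (∀ i : ℤ, FlatMod.IsFinLocFree (E.X i)) ∧
      Nonempty (DerivedCategory.Q.obj ((DCoh.restrictCx V).obj F) ≅ DerivedCategory.Q.obj E)

lemma hasPerfectAmplitudeIn_iff_forall (m n : ℤ) (K : DCoh.D X) :
    KSix.HasPerfectAmplitudeIn m n K ↔ ∀ x : X, PerfAmpAt m n K x := Iff.rfl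

/-- perfect amplitude near a point can be checked on an open subscheme -/
theorem perfAmpAt_of_openImmersion {U : Scheme.{u}} (j : U ⟶ X) [IsOpenImmersion j] (m n : ℤ)
    (K : DCoh.D X) (y : U) (h : PerfAmpAt m n ((DCoh.restrictD j).obj K) y) :
    PerfAmpAt m n K (j.base y) := by
  obtain ⟨W, hyW, hW⟩ := h
  set F₀ := DerivedCategory.Q.objPreimage K with hF₀
  have e₀ : DerivedCategory.Q.obj F₀ ≅ K := DerivedCategory.Q.objObjPreimageIso K
  have e₁ : DerivedCategory.Q.obj ((rCx j).obj F₀) ≅ (DCoh.restrictD j).obj K :=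
    ((Scheme.Modules.restrictFunctor j).mapDerivedCategoryFactors.app F₀).symm ≪≫
      (DCoh.restrictD j).mapIso e₀
  obtain ⟨P, hPv, hPf, ⟨e⟩⟩ := hW _ ⟨e₁⟩
  refine ⟨(W.ι ≫ j).opensRange, ⟨⟨y, hyW⟩, rfl⟩, fun F ⟨eF⟩ => ?_⟩
  have e2 : DerivedCategory.Q.obj ((rCx (W.ι ≫ j)).obj F) ≅ DerivedCategory.Q.obj P :=
    restrictQIso (W.ι ≫ j) (eF ≪≫ e₀.symm) ≪≫
      DerivedCategory.Q.mapIso ((NatIso.mapHomologicalComplex
        (Scheme.Modules.restrictFunctorComp W.ι j) (ComplexShape.up ℤ)).app F₀) ≪≫ e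
  exact ⟨(rCx (W.ι ≫ j).isoOpensRange.inv).obj P,
    fun i hi => (Scheme.Modules.restrictFunctor _).map_isZero (hPv i hi),
    fun i => isFinLocFree_restrict _ _ (hPf i), ⟨transferIso (W.ι ≫ j) e2⟩⟩

/-- perfect amplitude at the points of an affine open can be checked on the chart -/
theorem perfAmpAt_of_chart (m n : ℤ) (E : DCoh.D X) {W : X.Opens} (hW : IsAffineOpen W)
    (h : KSix.HasPerfectAmplitudeIn m n (chart E hW)) (x : X) (hx : x ∈ W) :
    PerfAmpAt m n E x := by
  have hx' : x ∈ W.ι.opensRange := by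
    rw [Scheme.Opens.opensRange_ι]
    exact hx
  obtain ⟨x₁, rfl⟩ := hx'
  obtain ⟨z, rfl⟩ := (ConcreteCategory.bijective_of_isIso hW.isoSpec.inv.base).2 x₁
  exact perfAmpAt_of_openImmersion W.ι m n E _
    (perfAmpAt_of_openImmersion hW.isoSpec.inv m n _ z (h z))

lemma perfAmpAt_of_iso {m n : ℤ} {K K' : DCoh.D X} {x : X} (e : K ≅ K')
    (h : PerfAmpAt m n K x) : PerfAmpAt m n K' x := by
  obtain ⟨V, hxV, hV⟩ := h
  exact ⟨V, hxV, fun F ⟨eF⟩ => hV F ⟨eF ≪≫ e.symm⟩⟩

/-- the zero object has perfect amplitude in any interval -/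
theorem hasPerfectAmplitudeIn_of_isZero (m n : ℤ) (K : DCoh.D X) (hK : IsZero K) :
    KSix.HasPerfectAmplitudeIn m n K := by
  intro x
  have hz : ∀ i : ℤ, IsZero ((0 : CochainComplex X.Modules ℤ).X i) := fun i =>
    (HomologicalComplex.eval X.Modules (ComplexShape.up ℤ) i).map_isZero (isZero_zero _)
  have hQ0 : IsZero (DerivedCategory.Q.obj (0 : CochainComplex X.Modules ℤ)) :=
    (DerivedCategory.Q (C := X.Modules)).map_isZero (isZero_zero _)
  refine ⟨⊤, trivial, fun F ⟨eF⟩ => ⟨(rCx (⊤ : X.Opens).ι).obj 0, fun i _ => ?_, fun i => ?_, ⟨?_⟩⟩⟩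
  · exact (Scheme.Modules.restrictFunctor _).map_isZero (hz i)
  · exact Groth.Agent.Helper5.TBB.isFinLocFree_of_isZero
      ((Scheme.Modules.restrictFunctor _).map_isZero (hz i))
  · exact restrictQIso (⊤ : X.Opens).ι (eF ≪≫ hK.iso hQ0)

section Affine

variable (A : Type u) [CommRing A]

/-- on an affine scheme, a pseudo-coherent object of tor amplitude in `[m, n]` has perfect amplitude
in `[m, n]` -/
theorem hasPerfectAmplitudeIn_tilde (N : Dual.D A) (hN : DRing.IsPseudoCoherent' A N) (m n : ℤ)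
    (h : DRing.HasTorAmplitudeIn A m n N) :
    KSix.HasPerfectAmplitudeIn m n ((DCoh.tildeD (CommRingCat.of A)).obj N) := by
  by_cases hmn : m ≤ n
  · rw [Groth.Agent.S4275.result _ _ m n hmn]
    exact ⟨tilde_mpc A N (m - 1) (Groth.Agent.Helper11.MPC.mpc_of_pc' hN (m - 1)),
      (Groth.Agent.S7243.result A N m n).mpr h⟩
  · obtain ⟨E, hE, -, ⟨e⟩⟩ := h
    have hEz : IsZero E := by
      rw [IsZero.iff_id_eq_zero]
      ext i : 1
      exact (hE i (by omega)).eq_of_src _ _
    apply hasPerfectAmplitudeIn_of_isZero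
    exact Functor.map_isZero _ (IsZero.of_iso
      ((DerivedCategory.Q (C := ModuleCat.{u} A)).map_isZero hEz) e.symm)

end Affine

end Groth.Agent.Helper5.SPF
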