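import Groth.Agent.Lib.Helper5.SPF7

/-!
# Perfection relative to a smooth base, part 8: perfect amplitude of the direct image along a
closed immersion into a scheme smooth of relative dimension `≤ d` (S6219)
-/

set_option autoImplicit false
set_option linter.unusedSectionVars false
set_option linter.unusedVariables false
set_option linter.style.haveILetI false

universe u

open CategoryTheory CategoryTheory.Limits AlgebraicGeometry TopologicalSpace

attribute [local instance] HasDerivedCategory.standard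

namespace Groth.Agent.Helper5.SPF

open Groth.Agent.Helper5.TB Groth.Agent.Helper5.RPR Groth.Agent.Helper11
  Groth.Agent.Helper5.TBA Groth.Agent.Helper5.RT Groth.Agent.Helper5.PCT Groth.Agent.Helper5.TT
  Groth.Agent.Helper5.KF Groth.Agent.Helper9.RelPC Groth.Agent.Helper5.CHP
  Groth.Agent.Helper5.PRF Groth.Agent.Helper5.OBC Groth.Agent.Helper5.LDer
  Groth.Agent.Helper5.PCI Groth.Agent.Helper5.PDZ Groth.Agent.Helper5.BP

variable {X Y S : Scheme.{u}}

lemma perfAmpAt_mono {m n m' n' : ℤ} (hm : m' ≤ m) (hn : n ≤ n') {K : DCoh.D X} {x : X}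
    (h : PerfAmpAt m n K x) : PerfAmpAt m' n' K x := by
  obtain ⟨V, hxV, hV⟩ := h
  refine ⟨V, hxV, fun F hF => ?_⟩
  obtain ⟨E, hv, hf, he⟩ := hV F hF
  exact ⟨E, fun i hi => hv i (by omega), hf, he⟩

/-- a standard smooth chart of relative dimension `n` around a point of an open on which the
morphism is smooth of relative dimension `n` -/
theorem exists_stdSmooth_chart (g : Y ⟶ S) (n : ℕ) (T : Y.Opens)
    (hT : SmoothOfRelativeDimension n (T.ι ≫ g)) (y : Y) (hy : y ∈ T) :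
    ∃ (W : S.Opens) (V : Y.Opens) (hW : IsAffineOpen W) (hV : IsAffineOpen V) (hyV : y ∈ V)
      (hVW : V ≤ g ⁻¹ᵁ W),
      RingHom.IsStandardSmoothOfRelativeDimension n (g.appLE W V hVW).hom := by
  obtain ⟨W, hW, V₁, hV₁, hx, e, hf⟩ := hT.exists_isStandardSmoothOfRelativeDimension ⟨y, hy⟩
  refine ⟨W, T.ι ''ᵁ V₁, hW, hV₁.image_of_isOpenImmersion T.ι, ⟨⟨y, hy⟩, hx, rfl⟩,
    image_le_of_le T.ι g W e, ?_⟩
  have h1 := θj_comp_appLE T.ι g W e
  let ε : Γ(↑T, V₁) ≃+* Γ(Y, T.ι ''ᵁ V₁) := (T.ι.appIso V₁).symm.commRingCatIsoToRingEquiv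
  have h2 : (g.appLE W (T.ι ''ᵁ V₁) (image_le_of_le T.ι g W e)).hom =
      ε.toRingHom.comp ((T.ι ≫ g).appLE W V₁ e).hom := by
    rw [← h1, ← RingHom.comp_assoc]
    have h3 : ε.toRingHom.comp (θj T.ι (W := V₁)) = RingHom.id _ := by
      have := (T.ι.appIso V₁).hom_inv_id
      exact congrArg CommRingCat.Hom.hom this
    rw [h3, RingHom.id_comp]
  rw [h2]
  exact (RingHom.isStandardSmoothOfRelativeDimension_respectsIso (n := n)).1 _ ε hf

variable (i : X ⟶ Y) [IsClosedImmersion i] (g : Y ⟶ S) [Smooth g]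

/-- the chart form with amplitude: on an affine open `V` of `Y` standard smooth of relative
dimension `n` over an affine open of `S`, tor amplitude `[a, b]` over `S` gives perfect amplitude
`[a - n, b]` of the direct image -/
theorem chart_amp (F : CochainComplex X.Modules ℤ)
    (hpc : ∀ m : ℤ, DCoh.IsPseudoCoherentD m (DCoh.toD Y ((DerSch.pushCx i).obj F)))
    {W : S.Opens} (hW : IsAffineOpen W) {V : Y.Opens} (hV : IsAffineOpen V)
    (hVW : V ≤ g ⁻¹ᵁ W) (n : ℕ)
    (hn : RingHom.IsStandardSmoothOfRelativeDimension n (g.appLE W V hVW).hom) (a b : ℤ)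
    (hab : ∀ x ∈ i ⁻¹ᵁ V, DerSch.HasTorAmplitudeAt (i ≫ g) a b F x) :
    KSix.HasPerfectAmplitudeIn (a - n) b (chart (DCoh.toD Y ((DerSch.pushCx i).obj F)) hV) := by
  have hq : DCoh.IsQCohD (DCoh.toD X F) := isQCohD_of_push i F hpc
  have hU : IsAffineOpen (i ⁻¹ᵁ V) := hV.preimage i
  have hUW : i ⁻¹ᵁ V ≤ (i ≫ g) ⁻¹ᵁ W := fun y hy => hVW hy
  obtain ⟨M, ⟨e⟩⟩ := exists_model (DCoh.toD X F) hq hU
  have eN := pushChartIso i hV hU F M e
  letI algRC : Algebra Γ(S, W) Γ(Y, V) := (g.appLE W V hVW).hom.toAlgebra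
  haveI hsm : Algebra.IsStandardSmoothOfRelativeDimension n Γ(S, W) Γ(Y, V) := hn.toAlgebra
  haveI : Algebra.IsStandardSmooth Γ(S, W) Γ(Y, V) :=
    Algebra.IsStandardSmoothOfRelativeDimension.isStandardSmooth n
  haveI : Algebra.Smooth Γ(S, W) Γ(Y, V) := inferInstance
  haveI : Module.Flat Γ(S, W) Γ(Y, V) := inferInstance
  set N := (DRing.restrictD (i.app V).hom).obj M with hNdef
  have hN : DRing.IsPseudoCoherent' Γ(Y, V) N :=
    Groth.Agent.Helper11.MPC.pc'_of_forall_mpc (fun m =>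
      mpc_of_tilde _ _ m (isPseudoCoherentD_of_iso eN (pc_chart _ m (hpc m) hV)))
  have hφ : ((i ≫ g).appLE W (i ⁻¹ᵁ V) hUW).hom =
      (i.app V).hom.comp (g.appLE W V hVW).hom := by
    have h := Scheme.Hom.appLE_comp_appLE i g W V (i ⁻¹ᵁ V) hVW le_rfl
    rw [← Scheme.Hom.app_eq_appLE] at h
    rw [← h]
    rfl
  have hT : DRing.HasTorAmplitudeIn Γ(S, W) a b
      ((DRing.restrictD (algebraMap Γ(S, W) Γ(Y, V))).obj N) := by
    have key := torAmp_chart_iff (i ≫ g) (DCoh.toD X F) hU hW hUW M e a b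
    rw [hφ] at key
    obtain ⟨ec⟩ := Groth.Agent.Helper11.MPC.nonempty_restrictCompIso
      (g.appLE W V hVW).hom (i.app V).hom M
    refine hasTorAmplitudeIn_of_iso ec a b (key.mp (fun x hx => ?_))
    exact (hasTorAmplitudeAt_iff_torVan (i ≫ g) F a b x).mp (hab x hx)
  have key2 : DRing.HasTorAmplitudeIn Γ(Y, V) (a - n) b N :=
    (Groth.Agent.Helper11.PerfHom.isPerfect_of_flat_fibres n
      (hgl_stdSmooth Γ(S, W) Γ(Y, V) n) a b N hN hT).2
  have h3 := hasPerfectAmplitudeIn_tilde Γ(Y, V) N hN (a - n) b key2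
  intro z
  exact perfAmpAt_of_iso eN.symm (h3 z)

/-- S6219 -/
theorem main6219 (d : ℕ)
    (hd : ∀ y : Y, ∃ (n : ℕ) (V : Y.Opens), n ≤ d ∧ y ∈ V ∧
      SmoothOfRelativeDimension n (V.ι ≫ g))
    (a b : ℤ) (F : CochainComplex X.Modules ℤ)
    (hF : DerSch.HasPerfAmplitudeRel (i ≫ g) a b F) :
    KSix.HasPerfectAmplitudeIn (a - d) b (DCoh.toD Y ((DerSch.pushCx i).obj F)) := by
  have hpc : ∀ m : ℤ, DCoh.IsPseudoCoherentD m (DCoh.toD Y ((DerSch.pushCx i).obj F)) :=
    fun m => ((Groth.Agent.S7211.result i g m F).1).mp (hF.1 m)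
  intro y
  obtain ⟨n, T, hnd, hyT, hT⟩ := hd y
  obtain ⟨W, V, hW, hV, hyV, hVW, hn⟩ := exists_stdSmooth_chart g n T hT y hyT
  have h1 := chart_amp i g F hpc hW hV hVW n hn a b (fun x _ => hF.2 x)
  exact perfAmpAt_mono (by omega) le_rfl (perfAmpAt_of_chart _ _ _ hV h1 y hyV)

end Groth.Agent.Helper5.SPF
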