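import Groth.Agent.Lib.Helper5.KFlat6

/-!
# Spreading out perfect complexes, part 1: complexes of finite free modules given by matrices, and
their extension of scalars
-/

set_option autoImplicit false
set_option linter.unusedSectionVars false
set_option linter.unusedVariables false
set_option linter.style.haveILetI false

universe u

open CategoryTheory CategoryTheory.Limits
open scoped TensorProduct ChangeOfRings

namespace Groth.Agent.Helper5.SPO

open Groth.Agent.Helper5.KF

section Mat

variable {R : Type u} [CommRing R]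

/-- the complex of finite free modules defined by a family of matrices -/
noncomputable def matCx (n : ℤ → ℕ) (M : ∀ i : ℤ, Matrix (Fin (n (i + 1))) (Fin (n i)) R)
    (h : ∀ i, M (i + 1) * M i = 0) : DRing.Cx R :=
  CochainComplex.of (fun i => ModuleCat.of R (Fin (n i) → R))
    (fun i => ModuleCat.ofHom (Matrix.toLin' (M i)))
    (fun i => by
      rw [← ModuleCat.ofHom_comp, ← Matrix.toLin'_mul, h, map_zero]
      rfl)

lemma matCx_d (n : ℤ → ℕ) (M : ∀ i : ℤ, Matrix (Fin (n (i + 1))) (Fin (n i)) R)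
    (h : ∀ i, M (i + 1) * M i = 0) (i : ℤ) :
    (matCx n M h).d i (i + 1) = ModuleCat.ofHom (Matrix.toLin' (M i)) := by
  exact CochainComplex.of_d (fun i => ModuleCat.of R (Fin (n i) → R))
    (fun i => ModuleCat.ofHom (Matrix.toLin' (M i))) i

lemma matCx_congr (n : ℤ → ℕ) (M M' : ∀ i : ℤ, Matrix (Fin (n (i + 1))) (Fin (n i)) R)
    (h : ∀ i, M (i + 1) * M i = 0) (hM : M = M') :
    ∃ h', matCx n M h = matCx n M' h' := by
  subst hM
  exact ⟨h, rfl⟩

lemma matCx_termwiseFiniteFree (n : ℤ → ℕ) (M : ∀ i : ℤ, Matrix (Fin (n (i + 1))) (Fin (n i)) R)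
    (h : ∀ i, M (i + 1) * M i = 0) : DRing.TermwiseFiniteFree (matCx n M h) := by
  intro i
  change Module.Finite R (Fin (n i) → R) ∧ Module.Free R (Fin (n i) → R)
  exact ⟨inferInstance, inferInstance⟩

lemma matCx_isZero (n : ℤ → ℕ) (M : ∀ i : ℤ, Matrix (Fin (n (i + 1))) (Fin (n i)) R)
    (h : ∀ i, M (i + 1) * M i = 0) (i : ℤ) (hi : n i = 0) : IsZero ((matCx n M h).X i) := by
  change IsZero (ModuleCat.of R (Fin (n i) → R))
  haveI : IsEmpty (Fin (n i)) := by
    rw [hi]
    infer_instance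
  exact ModuleCat.isZero_of_subsingleton _

end Mat

section Ext

variable {R A : Type u} [CommRing R] [CommRing A] (g : R →+* A)

/-- `A ⊗[R] R^n ≃ A^n` -/
noncomputable def extPiEquiv (n : ℕ) :
    ((ModuleCat.extendScalars g).obj (ModuleCat.of R (Fin n → R))) ≃ₗ[A] (Fin n → A) := by
  letI := g.toAlgebra
  let e₁ : A ⊗[R] (Fin n → R) ≃ₗ[A] (Fin n → A) := TensorProduct.piScalarRight R A A (Fin n)
  have hsm : ∀ (a : A) (t : A ⊗[R] (Fin n → R)),
      a • t = ((a : A) • (show ((ModuleCat.extendScalars g).obj (ModuleCat.of R (Fin n → R)))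
        from t) : ((ModuleCat.extendScalars g).obj (ModuleCat.of R (Fin n → R)))) := by
    intro a t
    induction t using TensorProduct.induction_on with
    | zero =>
      rw [smul_zero]
      exact (smul_zero _).symm
    | tmul b' v =>
      rw [TensorProduct.smul_tmul']
      erw [ModuleCat.ExtendScalars.smul_tmul]
      rfl
    | add t₁ t₂ h₁ h₂ =>
      rw [smul_add, h₁, h₂]
      exact (smul_add _ _ _).symm
  exact
    { toFun := fun t => e₁ t
      invFun := fun v => e₁.symm v
      left_inv := fun t => e₁.symm_apply_apply t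
      right_inv := fun v => e₁.apply_symm_apply v
      map_add' := fun t₁ t₂ => e₁.map_add t₁ t₂
      map_smul' := fun a t => by
        change e₁ ((a : A) • (show ((ModuleCat.extendScalars g).obj
          (ModuleCat.of R (Fin n → R))) from t)) = a • e₁ t
        rw [← hsm, e₁.map_smul] }

lemma extPiEquiv_tmul (n : ℕ) (s : A) (v : Fin n → R) :
    extPiEquiv g n (s ⊗ₜ[R,g] v) = fun j => g (v j) * s := by
  letI := g.toAlgebra
  change TensorProduct.piScalarRight R A A (Fin n) (s ⊗ₜ[R] v) = _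
  rw [TensorProduct.piScalarRight_apply, TensorProduct.piScalarRightHom_tmul]
  funext j
  rw [Algebra.smul_def]
  rfl

/-- the extension of scalars of a complex given by matrices -/
noncomputable def extMatIso (n : ℤ → ℕ) (M : ∀ i : ℤ, Matrix (Fin (n (i + 1))) (Fin (n i)) R)
    (h : ∀ i, M (i + 1) * M i = 0)
    (h' : ∀ i, (M (i + 1)).map g * (M i).map g = 0) :
    (extC g).obj (matCx n M h) ≅ matCx n (fun i => (M i).map g) h' :=
  HomologicalComplex.Hom.isoOfComponents (fun i => (extPiEquiv g (n i)).toModuleIso) (by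
    rintro i _ rfl
    change _ ≫ (matCx n (fun i => (M i).map g) h').d i (i + 1) =
      (ModuleCat.extendScalars g).map ((matCx n M h).d i (i + 1)) ≫ _
    rw [matCx_d, matCx_d]
    apply ModuleCat.ExtendScalars.hom_ext
    intro v
    let w : Fin (n i) → R := v
    have h1 : extPiEquiv g (n i) ((1 : A) ⊗ₜ[R,g] w) = fun j => g (w j) * 1 :=
      extPiEquiv_tmul g _ _ _
    have h2 : extPiEquiv g (n (i + 1)) ((1 : A) ⊗ₜ[R,g] (Matrix.toLin' (M i) w)) =
        fun j => g (Matrix.toLin' (M i) w j) * 1 := extPiEquiv_tmul g _ _ _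
    change Matrix.toLin' ((M i).map g) (extPiEquiv g (n i) ((1 : A) ⊗ₜ[R,g] w)) =
      extPiEquiv g (n (i + 1)) ((1 : A) ⊗ₜ[R,g] (Matrix.toLin' (M i) w))
    rw [h1, h2]
    funext j
    rw [Matrix.toLin'_apply, Matrix.toLin'_apply, mul_one]
    simp only [Matrix.mulVec, dotProduct, Matrix.map_apply, mul_one, map_sum, map_mul])

end Ext

section Repr

variable {A : Type u} [CommRing A] [Nontrivial A]

lemma exists_equiv_pi (N : ModuleCat.{u} A) (hN : Module.Finite A N ∧ Module.Free A N) :
    ∃ k : ℕ, (IsZero N → k = 0) ∧ Nonempty (N ≃ₗ[A] (Fin k → A)) := by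
  haveI := hN.1
  haveI := hN.2
  refine ⟨Module.finrank A N, fun hz => ?_, ⟨(Module.finBasis A N).equivFun⟩⟩
  haveI : Subsingleton N := ModuleCat.subsingleton_of_isZero hz
  exact Module.finrank_zero_of_subsingleton

/-- a complex of finite free modules is isomorphic to a complex given by matrices -/
theorem exists_iso_matCx (E : DRing.Cx A) (hE : DRing.TermwiseFiniteFree E) :
    ∃ (n : ℤ → ℕ) (M : ∀ i : ℤ, Matrix (Fin (n (i + 1))) (Fin (n i)) A)
      (h : ∀ i, M (i + 1) * M i = 0), (∀ i, IsZero (E.X i) → n i = 0) ∧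
        Nonempty (E ≅ matCx n M h) := by
  choose n hn e using fun i => exists_equiv_pi (E.X i) (hE i)
  let e' : ∀ i, E.X i ≃ₗ[A] (Fin (n i) → A) := fun i => (e i).some
  let f : ∀ i, (Fin (n i) → A) →ₗ[A] (Fin (n (i + 1)) → A) := fun i =>
    (e' (i + 1)).toLinearMap ∘ₗ (E.d i (i + 1)).hom ∘ₗ (e' i).symm.toLinearMap
  have hf : ∀ i, f (i + 1) ∘ₗ f i = 0 := by
    intro i
    refine LinearMap.ext fun v => ?_
    change e' (i + 1 + 1) ((E.d (i + 1) (i + 1 + 1)).hom ((e' (i + 1)).symm (e' (i + 1)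
      ((E.d i (i + 1)).hom ((e' i).symm v))))) = 0
    rw [LinearEquiv.symm_apply_apply]
    have h0 : (E.d (i + 1) (i + 1 + 1)).hom ((E.d i (i + 1)).hom ((e' i).symm v)) = 0 := by
      have := E.d_comp_d i (i + 1) (i + 1 + 1)
      exact congr($this ((e' i).symm v))
    rw [h0, map_zero]
  let M : ∀ i : ℤ, Matrix (Fin (n (i + 1))) (Fin (n i)) A := fun i => LinearMap.toMatrix' (f i)
  have hM : ∀ i, M (i + 1) * M i = 0 := by
    intro i
    change LinearMap.toMatrix' (f (i + 1)) * LinearMap.toMatrix' (f i) = 0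
    rw [← LinearMap.toMatrix'_comp, hf, map_zero]
  refine ⟨n, M, hM, hn, ⟨HomologicalComplex.Hom.isoOfComponents
    (fun i => (e' i).toModuleIso) ?_⟩⟩
  rintro i _ rfl
  change _ ≫ (matCx n M hM).d i (i + 1) = _
  rw [matCx_d]
  ext v
  change Matrix.toLin' (LinearMap.toMatrix' (f i)) (e' i v) = e' (i + 1) ((E.d i (i + 1)).hom v)
  rw [Matrix.toLin'_toMatrix']
  change e' (i + 1) ((E.d i (i + 1)).hom ((e' i).symm (e' i v))) = _
  rw [LinearEquiv.symm_apply_apply]

end Repr

end Groth.Agent.Helper5.SPO
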