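import Groth.Agent.Lib.Helper5.SPO1

/-!
# Spreading out perfect complexes, part 2: lifting a bounded complex of finite free modules along a
directed system of rings
-/

set_option autoImplicit false
set_option linter.unusedSectionVars false
set_option linter.unusedVariables false
set_option linter.style.haveILetI false

universe u w

open CategoryTheory CategoryTheory.Limits

namespace Groth.Agent.Helper5.SPO

open Groth.Agent.Helper5.KF

section Lift

variable {A : Type u} [CommRing A] {ι : Type w} (R : ι → Type u) [∀ i, CommRing (R i)]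
  (g : ∀ i, R i →+* A)

/-- `A` behaves like the directed colimit of the rings `R i` -/
structure IsGermSys : Prop where
  nonempty : Nonempty ι
  directed : ∀ i j, ∃ (k : ι) (ri : R i →+* R k) (rj : R j →+* R k),
    (g k).comp ri = g i ∧ (g k).comp rj = g j
  surj : ∀ a : A, ∃ (i : ι) (s : R i), g i s = a
  inj : ∀ (i : ι) (s : R i), g i s = 0 → ∃ (k : ι) (r : R i →+* R k),
    (g k).comp r = g i ∧ r s = 0

variable {R g}

lemma IsGermSys.lift_finset (hs : IsGermSys R g) (T : Finset A) :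
    ∃ i, ∀ t ∈ T, ∃ s : R i, g i s = t := by
  classical
  induction T using Finset.induction_on with
  | empty =>
    obtain ⟨i⟩ := hs.nonempty
    exact ⟨i, fun t ht => absurd ht (Finset.notMem_empty t)⟩
  | insert a T ha ih =>
    obtain ⟨i, hi⟩ := ih
    obtain ⟨j, s0, hs0⟩ := hs.surj a
    obtain ⟨k, ri, rj, hri, hrj⟩ := hs.directed i j
    refine ⟨k, fun t ht => ?_⟩
    rcases Finset.mem_insert.mp ht with rfl | ht
    · exact ⟨rj s0, by rw [← hs0, ← hrj]; rfl⟩
    · obtain ⟨s, hs'⟩ := hi t ht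
      exact ⟨ri s, by rw [← hs', ← hri]; rfl⟩

lemma IsGermSys.kill_finset (hs : IsGermSys R g) (i : ι) (Z : Finset (R i))
    (hZ : ∀ z ∈ Z, g i z = 0) :
    ∃ (k : ι) (r : R i →+* R k), (g k).comp r = g i ∧ ∀ z ∈ Z, r z = 0 := by
  classical
  induction Z using Finset.induction_on with
  | empty => exact ⟨i, RingHom.id _, RingHom.comp_id _, fun z hz => absurd hz (Finset.notMem_empty z)⟩
  | insert z Z hz ih =>
    obtain ⟨k1, r1, hr1, hk1⟩ := ih (fun z' hz' => hZ z' (Finset.mem_insert_of_mem hz'))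
    have h0 : g k1 (r1 z) = 0 := by
      have := hZ z (Finset.mem_insert_self z Z)
      rw [← hr1] at this
      exact this
    obtain ⟨k2, r2, hr2, hk2⟩ := hs.inj k1 (r1 z) h0
    refine ⟨k2, r2.comp r1, ?_, fun z' hz' => ?_⟩
    · rw [← RingHom.comp_assoc, hr2, hr1]
    · rcases Finset.mem_insert.mp hz' with rfl | hz'
      · exact hk2
      · change r2 (r1 z') = 0
        rw [hk1 z' hz', map_zero]

/-- lifting a bounded complex of finite free modules along a directed system of rings -/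
theorem IsGermSys.exists_lift (hs : IsGermSys R g) [Nontrivial A] (E : DRing.Cx A) (a b : ℤ)
    (hv : DRing.VanishesOutside E a b) (hf : DRing.TermwiseFiniteFree E) :
    ∃ (i : ι) (E' : DRing.Cx (R i)), DRing.VanishesOutside E' a b ∧
      DRing.TermwiseFiniteFree E' ∧ Nonempty ((extC (g i)).obj E' ≅ E) := by
  classical
  obtain ⟨n, M, hM, hn0, ⟨eE⟩⟩ := exists_iso_matCx E hf
  have hn : ∀ i : ℤ, ¬ (a ≤ i ∧ i ≤ b) → n i = 0 := by
    intro i hi
    refine hn0 i (hv i ?_)
    by_contra hc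
    exact hi ⟨by by_contra h; exact hc (Or.inl (lt_of_not_ge h)),
      by by_contra h; exact hc (Or.inr (lt_of_not_ge h))⟩
  -- the entries
  let T : Finset A := (Finset.Icc a b).biUnion (fun i => Finset.univ.image
    (fun jk : Fin (n (i + 1)) × Fin (n i) => M i jk.1 jk.2))
  obtain ⟨i₁, hi₁⟩ := hs.lift_finset T
  have hmem : ∀ (i : ℤ) (hi : a ≤ i ∧ i ≤ b) (j : Fin (n (i + 1))) (k : Fin (n i)),
      M i j k ∈ T := by
    intro i hi j k
    exact Finset.mem_biUnion.mpr ⟨i, Finset.mem_Icc.mpr hi,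
      Finset.mem_image.mpr ⟨(j, k), Finset.mem_univ _, rfl⟩⟩
  let M1 : ∀ i : ℤ, Matrix (Fin (n (i + 1))) (Fin (n i)) (R i₁) := fun i =>
    if hi : a ≤ i ∧ i ≤ b then Matrix.of (fun j k => (hi₁ _ (hmem i hi j k)).choose) else 0
  have hM1 : ∀ i, (M1 i).map (g i₁) = M i := by
    intro i
    ext j k
    by_cases hi : a ≤ i ∧ i ≤ b
    · simp only [M1, dif_pos hi, Matrix.map_apply, Matrix.of_apply]
      exact (hi₁ _ (hmem i hi j k)).choose_spec
    · exfalso
      have hk := k.2
      have h0 := hn i hi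
      omega
  -- the products
  let P : ∀ i : ℤ, Matrix (Fin (n (i + 1 + 1))) (Fin (n i)) (R i₁) := fun i => M1 (i + 1) * M1 i
  have hP : ∀ i, (P i).map (g i₁) = 0 := by
    intro i
    change (M1 (i + 1) * M1 i).map (g i₁) = 0
    rw [Matrix.map_mul, hM1, hM1, hM]
  let Z : Finset (R i₁) := (Finset.Icc a b).biUnion (fun i => Finset.univ.image
    (fun jk : Fin (n (i + 1 + 1)) × Fin (n i) => P i jk.1 jk.2))
  have hZ : ∀ z ∈ Z, g i₁ z = 0 := by
    intro z hz
    obtain ⟨i, -, hz⟩ := Finset.mem_biUnion.mp hz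
    obtain ⟨jk, -, rfl⟩ := Finset.mem_image.mp hz
    have := congrFun (congrFun (hP i) jk.1) jk.2
    exact this
  obtain ⟨k', r, hr, hk'⟩ := hs.kill_finset i₁ Z hZ
  let M2 : ∀ i : ℤ, Matrix (Fin (n (i + 1))) (Fin (n i)) (R k') := fun i => (M1 i).map r
  have hM2 : ∀ i, M2 (i + 1) * M2 i = 0 := by
    intro i
    change (M1 (i + 1)).map r * (M1 i).map r = 0
    rw [← Matrix.map_mul]
    ext j k
    by_cases hi : a ≤ i ∧ i ≤ b
    · change r (P i j k) = 0
      exact hk' _ (Finset.mem_biUnion.mpr ⟨i, Finset.mem_Icc.mpr hi,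
        Finset.mem_image.mpr ⟨(j, k), Finset.mem_univ _, rfl⟩⟩)
    · exfalso
      have hk := k.2
      have h0 := hn i hi
      omega
  have hM2g : (fun i => (M2 i).map (g k')) = M := by
    funext i
    change ((M1 i).map r).map (g k') = M i
    rw [Matrix.map_map, ← hM1 i, ← hr]
    rfl
  have hM2' : ∀ i, (M2 (i + 1)).map (g k') * (M2 i).map (g k') = 0 := by
    intro i
    have h1 := congrFun hM2g (i + 1)
    have h2 := congrFun hM2g i
    rw [h1, h2, hM]
  refine ⟨k', matCx n M2 hM2, ?_, matCx_termwiseFiniteFree n M2 hM2, ?_⟩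
  · intro i hi
    refine matCx_isZero n M2 hM2 i (hn i ?_)
    rintro ⟨h1, h2⟩
    rcases hi with hi | hi <;> omega
  · obtain ⟨h'', e⟩ := matCx_congr n (fun i => (M2 i).map (g k')) M hM2' hM2g
    exact ⟨extMatIso (g k') n M2 hM2 hM2' ≪≫ eqToIso e ≪≫ eE.symm⟩

end Lift

end Groth.Agent.Helper5.SPO
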