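import Groth.Agent.Lib.Helper5.SPO2

/-!
# Spreading out perfect complexes, part 3: the stalk of a scheme at a point as the directed union
of the rings of sections over the affine open neighbourhoods
-/

set_option autoImplicit false
set_option linter.unusedSectionVars false
set_option linter.unusedVariables false
set_option linter.style.haveILetI false

universe u

open CategoryTheory CategoryTheory.Limits AlgebraicGeometry Opposite TopologicalSpace

namespace Groth.Agent.Helper5.SPO

variable (X : Scheme.{u}) (x : X)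

/-- affine open neighbourhoods of `x` -/
abbrev AffNhd : Type u := {U : X.Opens // IsAffineOpen U ∧ x ∈ U}

/-- the germ map at `x` on the sections over an affine open neighbourhood -/
noncomputable abbrev germHom (U : AffNhd X x) : Γ(X, U.1) →+* X.presheaf.stalk x :=
  (X.presheaf.germ U.1 x U.2.2).hom

lemma exists_affNhd_le (V : X.Opens) (hx : x ∈ V) : ∃ W : AffNhd X x, W.1 ≤ V := by
  obtain ⟨W, hW, hxW, hWV⟩ := (Opens.isBasis_iff_nbhd.mp X.isBasis_affineOpens) hx
  exact ⟨⟨W, hW, hxW⟩, hWV⟩

lemma germHom_res (U W : AffNhd X x) (h : W.1 ≤ U.1) :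
    (germHom X x W).comp (X.presheaf.map (homOfLE h).op).hom = germHom X x U := by
  ext s
  exact X.presheaf.germ_res_apply (homOfLE h) x W.2.2 s

theorem isGermSys : IsGermSys (fun U : AffNhd X x => (Γ(X, U.1) : Type u)) (germHom X x) where
  nonempty := by
    obtain ⟨W, -⟩ := exists_affNhd_le X x ⊤ trivial
    exact ⟨W⟩
  directed U V := by
    obtain ⟨W, hW⟩ := exists_affNhd_le X x (U.1 ⊓ V.1) ⟨U.2.2, V.2.2⟩
    exact ⟨W, (X.presheaf.map (homOfLE (hW.trans inf_le_left)).op).hom,
      (X.presheaf.map (homOfLE (hW.trans inf_le_right)).op).hom,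
      germHom_res X x U W _, germHom_res X x V W _⟩
  surj a := by
    obtain ⟨V, hxV, s, hs⟩ := X.presheaf.exists_germ_eq a
    obtain ⟨W, hW⟩ := exists_affNhd_le X x V hxV
    refine ⟨W, (X.presheaf.map (homOfLE hW).op).hom s, ?_⟩
    rw [← hs]
    exact X.presheaf.germ_res_apply (homOfLE hW) x W.2.2 s
  inj U s hs := by
    have h0 : X.presheaf.germ U.1 x U.2.2 s = X.presheaf.germ U.1 x U.2.2 0 := by
      rw [map_zero]
      exact hs
    obtain ⟨V, hxV, iU, iV, hV⟩ := X.presheaf.germ_eq x U.2.2 U.2.2 s 0 h0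
    obtain ⟨W, hW⟩ := exists_affNhd_le X x V hxV
    refine ⟨W, (X.presheaf.map (homOfLE (hW.trans iU.le)).op).hom, germHom_res X x U W _, ?_⟩
    have h1 : (homOfLE (hW.trans iU.le)).op = iU.op ≫ (homOfLE hW).op := rfl
    rw [h1, X.presheaf.map_comp]
    change (X.presheaf.map (homOfLE hW).op).hom ((X.presheaf.map iU.op).hom s) = 0
    have h2 : (X.presheaf.map iU.op).hom s = 0 := by
      refine hV.trans ?_
      exact map_zero _
    rw [h2, map_zero]

end Groth.Agent.Helper5.SPO
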