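import Groth.Agent.Lib.Helper5.SPO4

/-!
# Spreading out perfect complexes, part 5: a perfect complex over the local ring of a scheme at a
point is the complex of stalks of a complex which is perfect near the point
-/

set_option autoImplicit false
set_option linter.unusedSectionVars false
set_option linter.unusedVariables false
set_option linter.style.haveILetI false

universe u

open CategoryTheory CategoryTheory.Limits AlgebraicGeometry Opposite TopologicalSpace

attribute [local instance] HasDerivedCategory.standard

namespace Groth.Agent.Helper5.SPO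

open Groth.Agent.Helper5.KF Groth.Agent.Helper5.TBA

theorem main {X : Scheme.{u}} (x : X) (P : Dual.D ((X.presheaf.stalk x) : Type u))
    (hP : DRing.IsPerfect ((X.presheaf.stalk x) : Type u) P) :
    ∃ (U : X.Opens) (F' : CochainComplex X.Modules ℤ), x ∈ U ∧
      DCoh.IsPerfect (DerivedCategory.Q.obj ((DCoh.restrictCx U).obj F')) ∧
      Nonempty (DRing.toD (((DerSch.stalkFunctor X x).mapHomologicalComplex
        (ComplexShape.up ℤ)).obj F') ≅ P) := by
  obtain ⟨E, a, b, hv, hproj, ⟨eP⟩⟩ := hP
  have hfree : DRing.TermwiseFiniteFree E := by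
    intro i
    haveI := (hproj i).1
    haveI := (hproj i).2
    exact ⟨inferInstance, Module.free_of_flat_of_isLocalRing⟩
  obtain ⟨⟨U, hU, hx⟩, E', hv', hf', ⟨e⟩⟩ := (isGermSys X x).exists_lift E a b hv hfree
  obtain ⟨z, hz⟩ := exists_fromSpec_eq hU x hx
  subst hz
  refine ⟨U, spread hU E', hx, isPerfect_restrict_spread hU E' a b hv' hf', ⟨?_⟩⟩
  exact DerivedCategory.Q.mapIso (stalkSpreadIso hU z E' ≪≫ e) ≪≫ eP

end Groth.Agent.Helper5.SPO
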