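import Mathlib
import Groth.Prelude.Def_KFlatSite
import Groth.Agent.Lib.Helper29.KFS5
import Groth.Agent.Lib.Helper29.KFS3
import Groth.Agent.Lib.Helper17.MT5
import Groth.Agent.Lib.Helper17.MT3

/-!
# Ringed sites: derived tensor product with a K-flat complex, flat amplitudes add
-/

set_option autoImplicit false
set_option linter.unusedSectionVars false
set_option linter.unusedVariables false
set_option linter.style.haveILetI false

universe u

open CategoryTheory CategoryTheory.Limits

attribute [local instance] HasDerivedCategory.standard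

namespace Groth.Agent.Helper5.SiteT

open Groth.Agent.Helper5.KFA Groth.Agent.Helper29.KFS Groth.Agent.Helper17.MT

variable {C : Type u} [SmallCategory C] {J : GrothendieckTopology C} {O : Sheaf J CommRingCat.{u}}

/-- tensoring with a K-flat complex on the right inverts quasi-isomorphisms (ringed sites) -/
theorem tensorCxQ_inverts (L : CochainComplex (ModSite.Mod O) ℤ) (hL : ModSite.IsKFlat L) :
    (HomologicalComplex.quasiIso (ModSite.Mod O) (ComplexShape.up ℤ)).IsInvertedBy
      (ModSite.tensorCxQ L) := by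
  intro A B f hf
  have hq : QuasiIso f := (HomologicalComplex.mem_quasiIso_iff f).mp hf
  have h : QuasiIso (((ModSite.tensorCx O).map f).app L) :=
    IsKFl.quasiIso_tensR (T := ModSite.tensorBi O) (K := L) hL f hq
  change IsIso (DerivedCategory.Q.map (((ModSite.tensorCx O).map f).app L))
  rw [DerivedCategory.isIso_Q_map_iff_quasiIso]
  exact h

/-- `(Q G) ⊗^L L ≅ Q (G ⊗ L)` for `L` K-flat (ringed sites) -/
noncomputable def LTensorCxObjIso (L : CochainComplex (ModSite.Mod O) ℤ) (hL : ModSite.IsKFlat L)
    [ModSite.HasLTensorCx L] (G : CochainComplex (ModSite.Mod O) ℤ) :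
    (ModSite.LTensorCx L).obj (DerivedCategory.Q.obj G) ≅
      DerivedCategory.Q.obj (((ModSite.tensorCx O).obj G).obj L) :=
  haveI : IsIso ((ModSite.tensorCxQ L).totalLeftDerivedCounit DerivedCategory.Q
      (HomologicalComplex.quasiIso (ModSite.Mod O) (ComplexShape.up ℤ))) :=
    Functor.isIso_of_isLeftDerivedFunctor_of_inverts (ModSite.LTensorCx L) _
      (tensorCxQ_inverts L hL)
  asIso (((ModSite.tensorCxQ L).totalLeftDerivedCounit DerivedCategory.Q
    (HomologicalComplex.quasiIso (ModSite.Mod O) (ComplexShape.up ℤ))).app G)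

/-- coproducts (indexed by a type in universe `0`) of flat modules are flat -/
theorem isFlat_of_cofan {ι : Type} (F : ι → ModSite.Mod O) (hF : ∀ i, ModSite.IsFlat (F i))
    (c : Cofan F) (hc : IsColimit c) : ModSite.IsFlat c.pt := by
  let c' : Cofan (fun i : ULift.{u} ι => F i.down) := Cofan.mk c.pt (fun i => c.inj i.down)
  have hc' : IsColimit c' :=
    Cofan.IsColimit.mk _ (fun s => Cofan.IsColimit.desc hc (fun i => s.inj ⟨i⟩))
      (fun s i => by
        change c.inj i.down ≫ _ = _
        rw [Cofan.IsColimit.fac])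
      (fun s m hm => by
        apply Cofan.IsColimit.hom_ext hc
        intro i
        rw [Cofan.IsColimit.fac]
        exact hm ⟨i⟩)
  exact main9084 O (fun i : ULift.{u} ι => F i.down) (fun i => hF i.down) c' hc'

/-- the prelude's tensor product of complexes is the abstract one -/
theorem tens_eq (P F : CochainComplex (ModSite.Mod O) ℤ) :
    ((ModSite.tensorCx O).obj P).obj F = tens (ModSite.tensorBi O) P F := rfl

/-- the terms of the tensor product of two complexes of flat modules are flat -/
theorem isFlat_tens_X (P F : CochainComplex (ModSite.Mod O) ℤ)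
    (hP : ∀ i : ℤ, ModSite.IsFlat (P.X i)) (hF : ∀ i : ℤ, ModSite.IsFlat (F.X i)) (k : ℤ) :
    ModSite.IsFlat ((tens (ModSite.tensorBi O) P F).X k) :=
  isFlat_of_cofan (fun i : Idx k => ((ModSite.tensorBi O).obj (P.X i.1.1)).obj (F.X i.1.2))
    (fun i => main9085 O _ _ (hP i.1.1) (hF i.1.2))
    (cofanTens (ModSite.tensorBi O) P F k) (isColimitCofanTens (ModSite.tensorBi O) P F k)

/-- vanishing of the terms of the tensor product of two bounded complexes -/
theorem isZero_tens_X (P F : CochainComplex (ModSite.Mod O) ℤ) (k : ℤ)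
    (h : ∀ i j : ℤ, i + j = k → IsZero (P.X i) ∨ IsZero (F.X j)) :
    IsZero ((tens (ModSite.tensorBi O) P F).X k) := by
  refine isZero_of_isColimit_of_isZero (cofanTens (ModSite.tensorBi O) P F k)
    (isColimitCofanTens (ModSite.tensorBi O) P F k) (fun j => ?_)
  obtain ⟨⟨⟨p, q⟩, hpq⟩⟩ := j
  change IsZero (((ModSite.tensorBi O).obj (P.X p)).obj (F.X q))
  rcases h p q hpq with h1 | h1
  · exact (Functor.isZero_iff _).1 ((ModSite.tensorBi O).map_isZero h1) _
  · exact ((ModSite.tensorBi O).obj (P.X p)).map_isZero h1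

/-- flat amplitudes add under the derived tensor product (ringed sites) -/
theorem flat_amplitude_tensor (E P : CochainComplex (ModSite.Mod O) ℤ)
    (m n : ℤ) (hP : ∀ i : ℤ, ModSite.IsFlat (P.X i)) (hPb : ∀ i : ℤ, i < m ∨ n < i → IsZero (P.X i))
    (eP : DerivedCategory.Q.obj P ≅ DerivedCategory.Q.obj E) (F : CochainComplex (ModSite.Mod O) ℤ)
    (m' n' : ℤ) (hF : ∀ i : ℤ, ModSite.IsFlat (F.X i))
    (hFb : ∀ i : ℤ, i < m' ∨ n' < i → IsZero (F.X i))
    [ModSite.HasLTensorCx F] :
    ∃ G : CochainComplex (ModSite.Mod O) ℤ, (∀ i : ℤ, ModSite.IsFlat (G.X i)) ∧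
      (∀ i : ℤ, i < m + m' ∨ n + n' < i → IsZero (G.X i)) ∧
      Nonempty (DerivedCategory.Q.obj G ≅ (ModSite.LTensorCx F).obj (DerivedCategory.Q.obj E)) := by
  have hFK : ModSite.IsKFlat F := by
    haveI : F.IsStrictlyLE n' := by
      rw [CochainComplex.isStrictlyLE_iff]
      intro i hi
      exact hFb i (Or.inr hi)
    exact main9058 F n' inferInstance hF
  refine ⟨tens (ModSite.tensorBi O) P F, isFlat_tens_X P F hP hF, ?_, ?_⟩
  · intro k hk
    apply isZero_tens_X
    intro i j hij
    by_cases h1 : i < m ∨ n < i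
    · exact Or.inl (hPb i h1)
    · refine Or.inr (hFb j ?_)
      omega
  · have e := (LTensorCxObjIso F hFK P).symm ≪≫ (ModSite.LTensorCx F).mapIso eP
    rw [tens_eq] at e
    exact ⟨e⟩

end Groth.Agent.Helper5.SiteT
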