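import Mathlib

/-!
# A formally smooth, essentially of finite type local algebra over a Noetherian ring is a
localization of a smooth algebra at a prime
-/

set_option autoImplicit false
set_option linter.style.haveILetI false

universe u

open IsLocalRing

namespace Groth.Agent.Helper5.SmLoc

theorem exists_smooth_localization (A B : Type u) [CommRing A] [CommRing B] [Algebra A B]
    [IsNoetherianRing A] [IsLocalRing B] [Algebra.EssFiniteType A B] [Algebra.FormallySmooth A B] :
    ∃ (C : Type u) (_ : CommRing C) (_ : Algebra A C) (_ : Algebra C B) (_ : IsScalarTower A C B)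
      (q : Ideal C) (_ : q.IsPrime), Algebra.Smooth A C ∧ IsLocalization.AtPrime B q := by
  classical
  set P := Algebra.EssFiniteType.subalgebra A B with hP
  haveI : Algebra.FiniteType A P := inferInstance
  haveI : Algebra.FinitePresentation A P := Algebra.FinitePresentation.of_finiteType.mp inferInstance
  set q0 : Ideal P := (maximalIdeal B).comap (algebraMap P B) with hq0
  haveI hq0p : q0.IsPrime := Ideal.comap_isPrime _ _
  have hM : Algebra.EssFiniteType.submonoid A B = q0.primeCompl := by
    ext x
    simp only [Algebra.EssFiniteType.submonoid, Submonoid.mem_comap, IsUnit.mem_submonoid_iff,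
      Ideal.mem_primeCompl_iff, hq0, Ideal.mem_comap, mem_maximalIdeal, mem_nonunits_iff, not_not]
    exact Iff.rfl
  haveI hloc : IsLocalization.AtPrime B q0 := by
    change IsLocalization (Ideal.primeCompl _) B
    rw [← hM]
    infer_instance
  let e : Localization.AtPrime q0 ≃ₐ[P] B := IsLocalization.algEquiv q0.primeCompl _ _
  haveI : Algebra.IsSmoothAt A q0 :=
    Algebra.FormallySmooth.of_equiv (e.symm.restrictScalars A)
  obtain ⟨f, hf, hsm⟩ := Algebra.IsSmoothAt.exists_notMem_smooth A q0
  have hfu : IsUnit (algebraMap P B f) := by
    by_contra h
    exact hf (show algebraMap P B f ∈ maximalIdeal B from h)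
  let φ : Localization.Away f →+* B := IsLocalization.Away.lift f hfu
  have hφ : φ.comp (algebraMap P (Localization.Away f)) = algebraMap P B :=
    IsLocalization.Away.lift_comp f hfu
  letI algCB : Algebra (Localization.Away f) B := φ.toAlgebra
  haveI tPCB : IsScalarTower P (Localization.Away f) B :=
    IsScalarTower.of_algebraMap_eq' hφ.symm
  haveI tACB : IsScalarTower A (Localization.Away f) B := by
    refine IsScalarTower.of_algebraMap_eq' ?_
    rw [IsScalarTower.algebraMap_eq A P B, IsScalarTower.algebraMap_eq A P (Localization.Away f),
      ← RingHom.comp_assoc]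
    congr 1
    exact hφ.symm
  set q : Ideal (Localization.Away f) :=
    (maximalIdeal B).comap (algebraMap (Localization.Away f) B) with hq
  haveI hqp : q.IsPrime := Ideal.comap_isPrime _ _
  refine ⟨Localization.Away f, inferInstance, inferInstance, algCB, tACB, q, hqp, hsm, ?_⟩
  have hle : Submonoid.powers f ≤ q0.primeCompl := by
    rintro _ ⟨n, rfl⟩
    exact q0.primeCompl.pow_mem hf n
  haveI h1 : IsLocalization (q0.primeCompl.map (algebraMap P (Localization.Away f))) B :=
    IsLocalization.isLocalization_of_submonoid_le (Localization.Away f) B (Submonoid.powers f)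
      q0.primeCompl hle
  change IsLocalization q.primeCompl B
  refine IsLocalization.of_le (q0.primeCompl.map (algebraMap P (Localization.Away f)))
    q.primeCompl ?_ ?_
  · rintro _ ⟨x, hx, rfl⟩
    show (algebraMap P (Localization.Away f)) x ∉ q
    intro hxq
    apply hx
    have : algebraMap (Localization.Away f) B (algebraMap P (Localization.Away f) x) ∈
        maximalIdeal B := hxq
    rw [← IsScalarTower.algebraMap_apply P (Localization.Away f) B] at this
    exact this
  · intro r hr
    by_contra h
    exact hr (show algebraMap (Localization.Away f) B r ∈ maximalIdeal B from h)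

end Groth.Agent.Helper5.SmLoc
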