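import Mathlib

/-!
# Henselian local rings are stable under filtered colimits along local homomorphisms
(abstract formulation for a "filtered system" of rings mapping to `L`)
-/

set_option autoImplicit false
set_option linter.style.haveILetI false
set_option linter.unusedSectionVars false

namespace Groth.Agent.Helper5.SysHens

open Polynomial IsLocalRing

universe u v

variable {J : Type v} [Nonempty J] (G : J → Type u) [∀ j, CommRing (G j)]
  {L : Type u} [CommRing L] (φ : ∀ j, G j →+* L)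

/-- The data of a filtered system of local rings with local transition maps and "colimit" `L`. -/
structure IsSys [∀ j, IsLocalRing (G j)] : Prop where
  surj : ∀ a : L, ∃ j x, φ j x = a
  dir : ∀ i j, ∃ (k : J) (s : G i →+* G k) (t : G j →+* G k), IsLocalHom s ∧ IsLocalHom t ∧
    (∀ x, φ k (s x) = φ i x) ∧ (∀ x, φ k (t x) = φ j x)
  zero : ∀ i (x : G i), φ i x = 0 → ∃ (k : J) (s : G i →+* G k), IsLocalHom s ∧
    (∀ y, φ k (s y) = φ i y) ∧ s x = 0

variable {G φ}

theorem isUnit_of_isUnit_of [∀ j, IsLocalRing (G j)] (h : IsSys G φ) (i : J) (x : G i)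
    (hx : IsUnit (φ i x)) : IsUnit x := by
  obtain ⟨y, hy⟩ := hx.exists_right_inv
  obtain ⟨j, y', rfl⟩ := h.surj y
  obtain ⟨k, s, t, hs, ht, hsφ, htφ⟩ := h.dir i j
  have h1 : φ k (s x * t y' - 1) = 0 := by
    rw [map_sub, map_mul, hsφ, htφ, hy, map_one, sub_self]
  obtain ⟨l, r, hr, hrφ, h2⟩ := h.zero k _ h1
  rw [map_sub, map_mul, map_one, sub_eq_zero] at h2
  have h3 : IsUnit (r (s x)) := IsUnit.of_mul_eq_one _ h2
  exact isUnit_of_map_unit s x (isUnit_of_map_unit r (s x) h3)

theorem isLocalRing [∀ j, IsLocalRing (G j)] (h : IsSys G φ) : IsLocalRing L := by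
  haveI : Nontrivial L := by
    refine ⟨⟨0, 1, fun H => ?_⟩⟩
    obtain ⟨i⟩ := ‹Nonempty J›
    have h1 : φ i 1 = 0 := by rw [map_one]; exact H.symm
    obtain ⟨k, s, -, -, h2⟩ := h.zero i 1 h1
    rw [map_one] at h2
    exact one_ne_zero h2
  apply IsLocalRing.of_isUnit_or_isUnit_one_sub_self
  intro a
  obtain ⟨i, x, rfl⟩ := h.surj a
  rcases IsLocalRing.isUnit_or_isUnit_one_sub_self x with h' | h'
  · exact Or.inl (h'.map _)
  · right
    have := h'.map (φ i)
    rwa [map_sub, map_one] at this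

theorem exists_poly_of [∀ j, IsLocalRing (G j)] (h : IsSys G φ) (P : L[X]) :
    ∃ (k : J) (Q : (G k)[X]), Q.map (φ k) = P := by
  induction P using Polynomial.induction_on with
  | C a =>
    obtain ⟨j, x, rfl⟩ := h.surj a
    exact ⟨j, C x, by rw [map_C]⟩
  | add p q hp hq =>
    obtain ⟨i, p', rfl⟩ := hp
    obtain ⟨j, q', rfl⟩ := hq
    obtain ⟨k, s, t, -, -, hsφ, htφ⟩ := h.dir i j
    refine ⟨k, p'.map s + q'.map t, ?_⟩
    rw [Polynomial.map_add, Polynomial.map_map, Polynomial.map_map]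
    congr 2 <;> ext x <;> simp [hsφ, htφ]
  | monomial n a _ =>
    obtain ⟨j, x, rfl⟩ := h.surj a
    exact ⟨j, C x * X ^ (n + 1), by rw [Polynomial.map_mul, map_C, Polynomial.map_pow, map_X]⟩

theorem exists_monic_of [∀ j, IsLocalRing (G j)] (h : IsSys G φ) (P : L[X]) (hP : P.Monic)
    (a : L) : ∃ (k : J) (Q : (G k)[X]) (b : G k), Q.Monic ∧ Q.map (φ k) = P ∧ φ k b = a := by
  obtain ⟨i, p, hp⟩ := exists_poly_of h P
  obtain ⟨j, a', ha'⟩ := h.surj a
  obtain ⟨k, s, t, -, -, hsφ, htφ⟩ := h.dir i j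
  set pk := p.map s with hpk
  have hpkmap : pk.map (φ k) = P := by
    rw [hpk, Polynomial.map_map, ← hp]
    congr 1
    ext x
    simp [hsφ]
  have hc : ∀ m : ℕ, φ k (pk.coeff m) = P.coeff m := fun m => by rw [← coeff_map, hpkmap]
  refine ⟨k, X ^ P.natDegree + ∑ m : Fin P.natDegree, C (pk.coeff m) * X ^ (m : ℕ),
    t a', ?_, ?_, ?_⟩
  · exact monic_X_pow_add (degree_sum_fin_lt _)
  · rw [Polynomial.map_add, Polynomial.map_pow, map_X, Polynomial.map_sum]
    conv_rhs => rw [hP.as_sum]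
    congr 1
    rw [Finset.sum_range]
    refine Finset.sum_congr rfl fun m _ => ?_
    rw [Polynomial.map_mul, map_C, Polynomial.map_pow, map_X, hc]
  · rw [htφ, ha']

theorem henselianLocalRing [∀ j, HenselianLocalRing (G j)] (h : IsSys G φ) :
    HenselianLocalRing L := by
  haveI hloc : IsLocalRing L := isLocalRing h
  refine { toIsLocalRing := hloc, is_henselian := ?_ }
  intro P hP a₀ h₁ h₂
  obtain ⟨k, Q, b, hQm, hQP, hb⟩ := exists_monic_of h P hP a₀
  have hevalQ : φ k (Q.eval b) = P.eval a₀ := by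
    rw [← hQP, ← hb, eval_map, eval₂_at_apply]
  have hevalQ' : φ k (Q.derivative.eval b) = P.derivative.eval a₀ := by
    rw [← hQP, ← hb, derivative_map, eval_map, eval₂_at_apply]
  have h1 : Q.eval b ∈ maximalIdeal (G k) := by
    rw [mem_maximalIdeal, mem_nonunits_iff]
    intro hu
    have := hu.map (φ k)
    rw [hevalQ] at this
    exact (mem_maximalIdeal _).mp h₁ this
  have h2 : IsUnit (Q.derivative.eval b) := by
    apply isUnit_of_isUnit_of h k
    rw [hevalQ']
    exact h₂
  obtain ⟨a, haroot, hab⟩ := HenselianLocalRing.is_henselian Q hQm b h1 h2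
  refine ⟨φ k a, ?_, ?_⟩
  · rw [IsRoot.def, ← hQP, eval_map, eval₂_at_apply, haroot.eq_zero, map_zero]
  · rw [← hb, ← map_sub, mem_maximalIdeal, mem_nonunits_iff]
    intro hu
    exact (mem_maximalIdeal _).mp hab (isUnit_of_isUnit_of h k _ hu)

end Groth.Agent.Helper5.SysHens
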