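import Mathlib
import Groth.Agent.Lib.Lead.Hom3

/-! Syzygies: in an exact sequence `0 → M₀ → M₁ → ⋯ → M_{n+1}` with `M₁, …, M_{n+1}` projective,
the projective dimension of `M₀` is `n + 1` less than that of `coker (M_n → M_{n+1})`. -/

namespace Groth.Agent.Helper5.SyzFree

open CategoryTheory Abelian Module

universe u
variable {R : Type u} [CommRing R]

/-- The short exact sequence `0 → P → X → X ⧸ P → 0`. -/
noncomputable def subShortComplex {X : Type u} [AddCommGroup X] [Module R X] (P : Submodule R X) :
    ShortComplex (ModuleCat.{u} R) :=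
  ModuleCat.shortComplexOfCompEqZero (P.subtype : P →ₗ[R] X) (Submodule.mkQ P)
    (by ext x; simp)

theorem subShortComplex_shortExact {X : Type u} [AddCommGroup X] [Module R X]
    (P : Submodule R X) : (subShortComplex P).ShortExact := by
  refine ModuleCat.shortComplex_shortExact _ ?_ P.injective_subtype (Submodule.mkQ_surjective P)
  intro x
  constructor
  · intro hx
    have hx' : (Submodule.mkQ P) x = 0 := hx
    rw [Submodule.mkQ_apply, Submodule.Quotient.mk_eq_zero] at hx'
    exact ⟨⟨x, hx'⟩, rfl⟩
  · rintro ⟨y, rfl⟩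
    have hy : ((P.subtype : P →ₗ[R] X) y) ∈ P := (y : P).2
    show (Submodule.mkQ P) ((P.subtype : P →ₗ[R] X) y) = 0
    rw [Submodule.mkQ_apply, Submodule.Quotient.mk_eq_zero]
    exact hy

theorem pd_sub {X : Type u} [AddCommGroup X] [Module R X] (P : Submodule R X) (n : ℕ)
    (h₂ : HasProjectiveDimensionLT (ModuleCat.of R X) n)
    (h₃ : HasProjectiveDimensionLT (ModuleCat.of R (X ⧸ P)) (n + 1)) :
    HasProjectiveDimensionLT (ModuleCat.of R P) n :=
  (subShortComplex_shortExact P).hasProjectiveDimensionLT_X₁ n h₂ h₃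

theorem pd_of_linearEquiv {X Y : Type u} [AddCommGroup X] [Module R X] [AddCommGroup Y]
    [Module R Y] (e : X ≃ₗ[R] Y) (n : ℕ)
    (h : HasProjectiveDimensionLT (ModuleCat.of R X) n) :
    HasProjectiveDimensionLT (ModuleCat.of R Y) n :=
  hasProjectiveDimensionLT_of_iso e.toModuleIso n

theorem pd_of_projective {X : Type u} [AddCommGroup X] [Module R X] [Module.Projective R X]
    (n : ℕ) (hn : 1 ≤ n) : HasProjectiveDimensionLT (ModuleCat.of R X) n := by
  haveI : Projective (ModuleCat.of R X) := by
    rw [← IsProjective.iff_projective]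
    infer_instance
  exact hasProjectiveDimensionLT_of_ge _ 1 n hn

theorem pd_syzygy (M : ℕ → Type u) [∀ i, AddCommGroup (M i)] [∀ i, Module R (M i)]
    (d : ∀ i, M i →ₗ[R] M (i + 1)) (hinj : Function.Injective (d 0)) :
    ∀ n : ℕ, (∀ i, 1 ≤ i → i ≤ n + 1 → Module.Projective R (M i)) →
      (∀ i, i < n → LinearMap.range (d i) = LinearMap.ker (d (i + 1))) →
      ∀ m : ℕ, 1 ≤ m →
        HasProjectiveDimensionLT (ModuleCat.of R (M (n + 1) ⧸ LinearMap.range (d n))) (m + (n + 1)) →
        HasProjectiveDimensionLT (ModuleCat.of R (M 0)) m := by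
  intro n
  induction n with
  | zero =>
    intro hproj _ m hm h
    haveI := hproj 1 le_rfl le_rfl
    have h1 := pd_sub (LinearMap.range (d 0)) m (pd_of_projective m hm) h
    exact pd_of_linearEquiv (LinearEquiv.ofInjective (d 0) hinj).symm m h1
  | succ n ih =>
    intro hproj hex m hm h
    haveI := hproj (n + 2) (by omega) le_rfl
    have h1 := pd_sub (LinearMap.range (d (n + 1))) (m + (n + 1))
      (pd_of_projective _ (by omega)) h
    have h2 := pd_of_linearEquiv (LinearMap.quotKerEquivRange (d (n + 1))).symm _ h1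
    have h3 := pd_of_linearEquiv
      (Submodule.quotEquivOfEq _ _ (hex n (Nat.lt_succ_self n)).symm) _ h2
    exact ih (fun i h1 h2 => hproj i h1 (by omega)) (fun i hi => hex i (by omega)) m hm h3

end Groth.Agent.Helper5.SyzFree
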