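import Groth.Agent.Lib.Helper5.TT2
import Groth.Agent.Lib.Helper5.PCT7
import Groth.Agent.Lib.Helper11.MPC8
import Groth.Agent.S6954

/-!
# Tilde bridge, part 1: ring-level lemmas on `m`-pseudo-coherence
-/

set_option autoImplicit false
set_option linter.unusedSectionVars false
set_option linter.unusedVariables false
set_option linter.style.haveILetI false

universe u

open CategoryTheory CategoryTheory.Limits AlgebraicGeometry Pretriangulated

attribute [local instance] HasDerivedCategory.standard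

namespace Groth.Agent.Helper5.TB

open Groth.Agent.Helper11.MPC Groth.Agent.Helper11.DC DerivedCategory

variable {R : Type u} [CommRing R]

/-- `α` induces isomorphisms on `H^i` for `i > m` and an epimorphism on `H^m` (ring level) -/
def IsConnR (m : ℤ) {X K : Dual.D R} (α : X ⟶ K) : Prop :=
  (∀ i : ℤ, m < i → IsIso ((homologyFunctor (ModuleCat.{u} R) i).map α)) ∧
    Epi ((homologyFunctor (ModuleCat.{u} R) m).map α)

theorem mpc_of_conn {m : ℤ} {X K : Dual.D R} (α : X ⟶ K) (hα : IsConnR m α)
    (hX : ∀ m' : ℤ, DRing.IsPseudoCoherent R m' X) : DRing.IsPseudoCoherent R m K := by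
  obtain ⟨Z, g, h, hT⟩ := distinguished_cocone_triangle α
  haveI : Z.IsLE (m - 1) := cone_isLE α g h hT hα.1 hα.2
  have hZ : DRing.IsPseudoCoherent R m Z :=
    mpc_of_isZero_homology Z (fun i hi => (isLE_iff Z (m - 1)).mp inferInstance i (by omega))
  exact (mpc_two_of_three _ hT m).2.1 (hX m) hZ

theorem mpc_of_perfect_conn {m : ℤ} {X K : Dual.D R} (α : X ⟶ K) (hα : IsConnR m α)
    (hX : DRing.IsPerfect R X) : DRing.IsPseudoCoherent R m K :=
  mpc_of_conn α hα (fun m' => mpc_of_pc' ((Groth.Agent.S6954.result R X).mp hX).1 m')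

lemma isConnR_Q_map_iff {E L : DRing.Cx R} (b : E ⟶ L) (m : ℤ) :
    IsConnR m (Q.map b) ↔
      (∀ i : ℤ, m < i → IsIso (HomologicalComplex.homologyMap b i)) ∧
        Epi (HomologicalComplex.homologyMap b m) := by
  have h1 : ∀ i : ℤ, IsIso ((homologyFunctor (ModuleCat.{u} R) i).map (Q.map b)) ↔
      IsIso (HomologicalComplex.homologyMap b i) := fun i =>
    isIso_map_iff_of_natIso (homologyFunctorFactors (ModuleCat.{u} R) i) b
  have h2 : ∀ i : ℤ, Epi ((homologyFunctor (ModuleCat.{u} R) i).map (Q.map b)) ↔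
      Epi (HomologicalComplex.homologyMap b i) := fun i =>
    epi_map_iff_of_natIso (homologyFunctorFactors (ModuleCat.{u} R) i) b
  constructor
  · intro h
    exact ⟨fun i hi => (h1 i).mp (h.1 i hi), (h2 m).mp h.2⟩
  · intro h
    exact ⟨fun i hi => (h1 i).mpr (h.1 i hi), (h2 m).mpr h.2⟩

/-- a bounded complex of finite projective modules receiving... is perfect -/
lemma isPerfect_Q_of_bounded (E : DRing.Cx R) (a b : ℤ) (hE : DRing.VanishesOutside E a b)
    (hp : DRing.TermwiseFiniteProjective E) : DRing.IsPerfect R (Q.obj E) :=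
  ⟨E, a, b, hE, hp, ⟨Iso.refl _⟩⟩

theorem mpc_of_chain_model {E L : DRing.Cx R} (b : E ⟶ L) (m : ℤ) (a c : ℤ)
    (hE : DRing.VanishesOutside E a c) (hp : DRing.TermwiseFiniteProjective E)
    (h : (∀ i : ℤ, m < i → IsIso (HomologicalComplex.homologyMap b i)) ∧
        Epi (HomologicalComplex.homologyMap b m)) :
    DRing.IsPseudoCoherent R m (Q.obj L) :=
  mpc_of_perfect_conn (Q.map b) ((isConnR_Q_map_iff b m).mpr h) (isPerfect_Q_of_bounded E a c hE hp)

end Groth.Agent.Helper5.TB
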