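import Groth.Agent.Lib.Helper5.TB9
import Groth.Agent.Lib.Helper5.RPR6
import Groth.Prelude.Def_DualSh

/-!
# Tilde bridge, part 10: `M~` is perfect relative to `Spec R` iff `M` is `R`-perfect
-/

set_option autoImplicit false
set_option linter.unusedSectionVars false
set_option linter.unusedVariables false
set_option linter.style.haveILetI false

universe u

open CategoryTheory CategoryTheory.Limits AlgebraicGeometry
open scoped TensorProduct ChangeOfRings

attribute [local instance] HasDerivedCategory.standard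

namespace Groth.Agent.Helper5.TB

open Groth.Agent.Helper5.KF Groth.Agent.Helper5.RPR Groth.Agent.Helper5.TT
  Groth.Agent.Helper5.TildeSt Groth.Agent.Helper5.RTA Groth.Agent.Helper11
  Groth.Agent.Helper11.MPC

section Compact

variable {X S : Scheme.{u}} (f : X ⟶ S)

/-- on a quasi-compact scheme, locally finite stalkwise tor amplitude is uniform -/
theorem exists_uniform_torVan [CompactSpace X] (K : DCoh.D X) (h : LocTorVan f K) :
    ∃ a b : ℤ, ∀ y : X, TA.TorVan a b ((stalkD f y).obj K) := by
  choose V a b hx hV using h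
  obtain ⟨t, ht⟩ := isCompact_univ.elim_finite_subcover (fun x => ((V x : X.Opens) : Set X))
    (fun x => (V x).isOpen) (fun y _ => Set.mem_iUnion.2 ⟨y, hx y⟩)
  set N : ℤ := ∑ x ∈ t, (|a x| + |b x|) with hN
  have hle : ∀ x ∈ t, |a x| + |b x| ≤ N := fun x hxt =>
    Finset.single_le_sum (f := fun x => |a x| + |b x|) (fun y _ => by positivity) hxt
  refine ⟨-N, N, fun y => ?_⟩
  obtain ⟨x, hxt, hyx⟩ : ∃ x ∈ t, y ∈ (V x : Set X) := by
    have := ht (Set.mem_univ y)
    simpa using this
  refine (hV x y hyx).mono ?_ ?_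
  · have := hle x hxt
    have h1 := neg_abs_le (a x)
    have h2 := abs_nonneg (b x)
    omega
  · have := hle x hxt
    have h1 := le_abs_self (b x)
    have h2 := abs_nonneg (a x)
    omega

end Compact

section Main

variable (R A : Type u) [CommRing R] [CommRing A] [Algebra R A]
  [PreservesFiniteLimits (tilde.functor (CommRingCat.of A))]

theorem hasFiniteTorDimCx_of_locHasFiniteRelTorDim (M : Dual.D A)
    (h : DCoh.LocHasFiniteRelTorDim (Spec.map (CommRingCat.ofHom (algebraMap R A)))
      ((DCoh.tildeD (CommRingCat.of A)).obj M)) :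
    DRing.HasFiniteTorDimCx R ((DRing.restrictD (algebraMap R A)).obj M) := by
  set f := Spec.map (CommRingCat.ofHom (algebraMap R A)) with hf
  set E := (DCoh.tildeD (CommRingCat.of A)).obj M with hE
  obtain ⟨a, b, hab⟩ := exists_uniform_torVan f E (locTorVan_of_locHasFiniteRelTorDim f E h)
  let F := (DerivedCategory.Q (C := (Spec (CommRingCat.of A)).Modules)).objPreimage E
  let eF : DCoh.toD _ F ≅ E :=
    (DerivedCategory.Q (C := (Spec (CommRingCat.of A)).Modules)).objObjPreimageIso E
  refine ⟨a, b, (hasTorAmplitude_tilde_iff (algebraMap R A) M F ⟨eF⟩ a b).mp (fun y => ?_)⟩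
  exact TA.hasTorAmplitudeIn_of_torVan ((hab y).of_iso (stalkDIso f y F eF))

theorem locTorVan_of_hasFiniteTorDimCx (M : Dual.D A)
    (h : DRing.HasFiniteTorDimCx R ((DRing.restrictD (algebraMap R A)).obj M)) :
    LocTorVan (Spec.map (CommRingCat.ofHom (algebraMap R A)))
      ((DCoh.tildeD (CommRingCat.of A)).obj M) := by
  set f := Spec.map (CommRingCat.ofHom (algebraMap R A)) with hf
  set E := (DCoh.tildeD (CommRingCat.of A)).obj M with hE
  obtain ⟨a, b, hab⟩ := h
  let F := (DerivedCategory.Q (C := (Spec (CommRingCat.of A)).Modules)).objPreimage E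
  let eF : DCoh.toD _ F ≅ E :=
    (DerivedCategory.Q (C := (Spec (CommRingCat.of A)).Modules)).objObjPreimageIso E
  have h1 := (hasTorAmplitude_tilde_iff (algebraMap R A) M F ⟨eF⟩ a b).mpr hab
  intro x
  refine ⟨⊤, a, b, trivial, fun y _ => ?_⟩
  exact (TA.torVan_of_hasTorAmplitudeIn (h1 y)).of_iso (stalkDIso f y F eF).symm

theorem relPerfect_tilde_iff [Module.Flat R A] (M : Dual.D A) :
    ((∀ m : ℤ, DCoh.IsPseudoCoherentD m ((DCoh.tildeD (CommRingCat.of A)).obj M)) ∧
      DCoh.LocHasFiniteRelTorDim (Spec.map (CommRingCat.ofHom (algebraMap R A)))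
        ((DCoh.tildeD (CommRingCat.of A)).obj M)) ↔
    Dual2.IsRelPerfect R A M := by
  haveI : Flat (Spec.map (CommRingCat.ofHom (algebraMap R A))) := by
    rw [AlgebraicGeometry.Flat.SpecMap_iff]
    exact (RingHom.flat_algebraMap_iff).mpr inferInstance
  constructor
  · rintro ⟨hpc, hloc⟩
    exact ⟨pc'_of_forall_mpc (fun m => mpc_of_tilde A M m (hpc m)),
      hasFiniteTorDimCx_of_locHasFiniteRelTorDim R A M hloc⟩
  · rintro ⟨hpc, hft⟩
    have h1 : ∀ m : ℤ, DCoh.IsPseudoCoherentD m ((DCoh.tildeD (CommRingCat.of A)).obj M) :=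
      fun m => tilde_mpc A M m (mpc_of_pc' hpc m)
    exact ⟨h1, locHasFiniteRelTorDim_of_locTorVan _ _ h1 (locTorVan_of_hasFiniteTorDimCx R A M hft)⟩

end Main

end Groth.Agent.Helper5.TB
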