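import Groth.Agent.Lib.Helper5.TB1
import Groth.Agent.S12451
import Groth.Agent.Lib.Helper5.FPC1
import Groth.Agent.Lib.Helper13.LocFree4

/-!
# Tilde bridge, part 2: a chain-level model on an affine scheme gives `m`-pseudo-coherence
-/

set_option autoImplicit false
set_option linter.unusedSectionVars false
set_option linter.unusedVariables false
set_option linter.style.haveILetI false

universe u

open CategoryTheory CategoryTheory.Limits AlgebraicGeometry Pretriangulated

attribute [local instance] HasDerivedCategory.standard

namespace Groth.Agent.Helper5.TB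

open Groth.Agent.Helper11.MPC Groth.Agent.Helper11.DC Groth.Agent.Helper5.PC
  Groth.Agent.Helper5.PCT Groth.Agent.Helper5.TT

variable (B : Type u) [CommRing B] [PreservesFiniteLimits (tilde.functor (CommRingCat.of B))]

instance : (tilde.functor (CommRingCat.of B)).Full :=
  (tilde.fullyFaithfulFunctor (R := CommRingCat.of B)).full

instance : (tilde.functor (CommRingCat.of B)).Faithful :=
  (tilde.fullyFaithfulFunctor (R := CommRingCat.of B)).faithful

/-- global sections on `Spec B` -/
noncomputable abbrev Γf : (Spec (CommRingCat.of B)).Modules ⥤ ModuleCat.{u} B :=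
  moduleSpecΓFunctor (R := CommRingCat.of B)

instance : (Γf B).Additive := (tilde.adjunction (R := CommRingCat.of B)).right_adjoint_additive

/-- termwise global sections of complexes -/
noncomputable abbrev ΓC : CochainComplex (Spec (CommRingCat.of B)).Modules ℤ ⥤ DRing.Cx B :=
  (Γf B).mapHomologicalComplex (ComplexShape.up ℤ)

/-- the counit `(ΓP)~ ⟶ P` on complexes -/
noncomputable def counitCx (P : CochainComplex (Spec (CommRingCat.of B)).Modules ℤ) :
    (tildeC B).obj ((ΓC B).obj P) ⟶ P where
  f i := (tilde.adjunction (R := CommRingCat.of B)).counit.app (P.X i)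
  comm' i j _ := ((tilde.adjunction (R := CommRingCat.of B)).counit.naturality (P.d i j)).symm

lemma isIso_counitCx (P : CochainComplex (Spec (CommRingCat.of B)).Modules ℤ)
    (hP : ∀ i, (P.X i).IsQuasicoherent) : IsIso (counitCx B P) := by
  haveI : ∀ i, IsIso ((counitCx B P).f i) := fun i => by
    haveI := hP i
    exact Scheme.Modules.isIso_fromTildeΓ_of_isQuasicoherent (R := CommRingCat.of B) (P.X i)
  exact HomologicalComplex.Hom.isIso_of_components _

/-- the components of a morphism between tildes of complexes -/
def fI {E L : DRing.Cx B} (g : (tildeC B).obj E ⟶ (tildeC B).obj L) (i : ℤ) :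
    (tilde.functor (CommRingCat.of B)).obj (E.X i) ⟶ (tilde.functor (CommRingCat.of B)).obj (L.X i) :=
  g.f i

lemma fI_comm {E L : DRing.Cx B} (g : (tildeC B).obj E ⟶ (tildeC B).obj L) (i j : ℤ) :
    fI B g i ≫ (tilde.functor (CommRingCat.of B)).map (L.d i j) =
      (tilde.functor (CommRingCat.of B)).map (E.d i j) ≫ fI B g j :=
  g.comm i j

/-- tilde is full on complexes -/
noncomputable def preimageCx {E L : DRing.Cx B} (g : (tildeC B).obj E ⟶ (tildeC B).obj L) :
    E ⟶ L where
  f i := (tilde.functor (CommRingCat.of B)).preimage (fI B g i)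
  comm' i j _ := by
    apply (tilde.functor (CommRingCat.of B)).map_injective
    rw [Functor.map_comp, Functor.map_comp, Functor.map_preimage, Functor.map_preimage]
    exact fI_comm B g i j

lemma map_preimageCx {E L : DRing.Cx B} (g : (tildeC B).obj E ⟶ (tildeC B).obj L) :
    (tildeC B).map (preimageCx B g) = g := by
  ext i : 1
  exact (tilde.functor (CommRingCat.of B)).map_preimage (fI B g i)

/-- tilde commutes with homology, naturally -/
noncomputable def tildeHomologyNatIso (i : ℤ) :
    tildeC B ⋙ HomologicalComplex.homologyFunctor (Spec (CommRingCat.of B)).Modules _ i ≅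
      HomologicalComplex.homologyFunctor (ModuleCat.{u} B) _ i ⋙
        tilde.functor (CommRingCat.of B) :=
  NatIso.ofComponents (fun K => (K.sc i).mapHomologyIso (tilde.functor (CommRingCat.of B)))
    (fun f => ShortComplex.mapHomologyIso_hom_naturality
      ((HomologicalComplex.shortComplexFunctor (ModuleCat.{u} B) _ i).map f)
      (tilde.functor (CommRingCat.of B)))

lemma isIso_homologyMap_of_tilde {E L : DRing.Cx B} (b : E ⟶ L) (i : ℤ)
    (h : IsIso (HomologicalComplex.homologyMap ((tildeC B).map b) i)) :
    IsIso (HomologicalComplex.homologyMap b i) := by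
  have h1 : IsIso ((tilde.functor (CommRingCat.of B)).map (HomologicalComplex.homologyMap b i)) :=
    (isIso_map_iff_of_natIso (tildeHomologyNatIso B i) b).mp h
  exact isIso_of_fully_faithful (tilde.functor (CommRingCat.of B)) _

lemma epi_homologyMap_of_tilde {E L : DRing.Cx B} (b : E ⟶ L) (i : ℤ)
    (h : Epi (HomologicalComplex.homologyMap ((tildeC B).map b) i)) :
    Epi (HomologicalComplex.homologyMap b i) := by
  have h1 : Epi ((tilde.functor (CommRingCat.of B)).map (HomologicalComplex.homologyMap b i)) :=
    (epi_map_iff_of_natIso (tildeHomologyNatIso B i) b).mp h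
  exact (tilde.functor (CommRingCat.of B)).epi_of_epi_map h1

lemma isIso_homologyMap_tilde {E L : DRing.Cx B} (b : E ⟶ L) (i : ℤ)
    (h : IsIso (HomologicalComplex.homologyMap b i)) :
    IsIso (HomologicalComplex.homologyMap ((tildeC B).map b) i) := by
  refine (isIso_map_iff_of_natIso (tildeHomologyNatIso B i) b).mpr ?_
  change IsIso ((tilde.functor (CommRingCat.of B)).map (HomologicalComplex.homologyMap b i))
  infer_instance

lemma epi_homologyMap_tilde {E L : DRing.Cx B} (b : E ⟶ L) (i : ℤ)
    (h : Epi (HomologicalComplex.homologyMap b i)) :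
    Epi (HomologicalComplex.homologyMap ((tildeC B).map b) i) := by
  refine (epi_map_iff_of_natIso (tildeHomologyNatIso B i) b).mpr ?_
  change Epi ((tilde.functor (CommRingCat.of B)).map (HomologicalComplex.homologyMap b i))
  infer_instance

/-- a chain level model on `Spec B` of `L~` shows that `L` is `m`-pseudo-coherent -/
theorem mpc_of_affine_model (L : DRing.Cx B) (m : ℤ)
    (P : CochainComplex (Spec (CommRingCat.of B)).Modules ℤ) (hP : DCoh.IsStrictlyPerfect P)
    (a : P ⟶ (tildeC B).obj L) (ha : IsConn m (DerivedCategory.Q.map a)) :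
    DRing.IsPseudoCoherent B m (DerivedCategory.Q.obj L) := by
  have hq : ∀ i, (P.X i).IsQuasicoherent := fun i =>
    Groth.Agent.Helper5.FPC.isQuasicoherent_of_isFinLocFree _ (hP.2 i)
  haveI := isIso_counitCx B P hq
  set g := counitCx B P ≫ a with hg
  have hgc : IsConn m (DerivedCategory.Q.map g) := by
    rw [hg, Functor.map_comp]
    exact IsConn.comp (isConn_of_isIso _) ha
  have hb := map_preimageCx B g
  rw [← hb, isConn_Q_map_iff] at hgc
  obtain ⟨a', b', hab⟩ := hP.1
  refine mpc_of_chain_model (preimageCx B g) m a' b' (fun i hi => ?_) (fun i => ?_)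
    ⟨fun i hi => isIso_homologyMap_of_tilde B _ i (hgc.1 i hi),
      epi_homologyMap_of_tilde B _ m hgc.2⟩
  · exact (Γf B).map_isZero (hab i hi)
  · haveI : IsIso ((tilde.adjunction (R := CommRingCat.of B)).counit.app (P.X i)) := by
      haveI := hq i
      exact Scheme.Modules.isIso_fromTildeΓ_of_isQuasicoherent (R := CommRingCat.of B) (P.X i)
    have h1 : FlatMod.IsFinLocFree (tilde (R := CommRingCat.of B) ((Γf B).obj (P.X i))) :=
      Groth.Agent.Helper13.LocFree.isFinLocFree_of_iso
        (asIso ((tilde.adjunction (R := CommRingCat.of B)).counit.app (P.X i))).symm (hP.2 i)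
    exact (Groth.Agent.S12451.result (R := CommRingCat.of B) ((Γf B).obj (P.X i))).mp h1

end Groth.Agent.Helper5.TB
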