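import Groth.Agent.Lib.Helper5.TB2
import Groth.Agent.Lib.Helper13.PullbackTilde
import Groth.Agent.Lib.Helper11.TorAmp10

/-!
# Tilde bridge, part 3: localising a chain-level model to a principal open
-/

set_option autoImplicit false
set_option linter.unusedSectionVars false
set_option linter.unusedVariables false
set_option linter.style.haveILetI false

universe u

open CategoryTheory CategoryTheory.Limits AlgebraicGeometry Pretriangulated

attribute [local instance] HasDerivedCategory.standard

namespace Groth.Agent.Helper5.TB

open Groth.Agent.Helper11.MPC Groth.Agent.Helper11.DC Groth.Agent.Helper5.PC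
  Groth.Agent.Helper5.PCT Groth.Agent.Helper5.TT Groth.Agent.Helper5.RT
  Groth.Agent.Helper11.TA

section Transfer

variable {X U : Scheme.{u}}

/-- transfer of a chain-level model on an open `V` along an open immersion with range in `V` -/
theorem exists_chain_model_on (j : U ⟶ X) [IsOpenImmersion j] (F : CochainComplex X.Modules ℤ)
    (m : ℤ) (V : X.Opens) (hjV : Set.range j ⊆ (V : Set X))
    (P : CochainComplex (V : Scheme.{u}).Modules ℤ) (hP : DCoh.IsStrictlyPerfect P)
    (a : P ⟶ (DCoh.restrictCx V).obj F) (ha : IsConn m (DerivedCategory.Q.map a)) :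
    ∃ (P' : CochainComplex U.Modules ℤ) (a' : P' ⟶ (rCx j).obj F),
      DCoh.IsStrictlyPerfect P' ∧ IsConn m (DerivedCategory.Q.map a') := by
  have hr : Set.range j ⊆ Set.range V.ι := by
    rw [Scheme.Opens.range_ι]
    exact hjV
  set l := IsOpenImmersion.lift V.ι j hr with hl_def
  have hl : l ≫ V.ι = j := IsOpenImmersion.lift_fac V.ι j hr
  haveI : IsOpenImmersion (l ≫ V.ι) := by
    rw [hl]
    infer_instance
  haveI : IsOpenImmersion l := IsOpenImmersion.of_comp l V.ι
  let c : (rCx l).obj ((DCoh.restrictCx V).obj F) ≅ (rCx j).obj F :=
    ((NatIso.mapHomologicalComplex (Scheme.Modules.restrictFunctorComp l V.ι)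
      (ComplexShape.up ℤ)).app F).symm ≪≫
    (NatIso.mapHomologicalComplex (Scheme.Modules.restrictFunctorCongr hl)
      (ComplexShape.up ℤ)).app F
  refine ⟨(rCx l).obj P, (rCx l).map a ≫ c.hom, isStrictlyPerfect_restrict l P hP, ?_⟩
  rw [Functor.map_comp]
  refine IsConn.comp ?_ (isConn_of_isIso _)
  rw [← rQ_Q_map]
  exact isConn_rQ _ _ m ha

end Transfer

section Loc

variable (A : Type u) [CommRing A]

/-- the open immersion `Spec A_f ⟶ Spec A` -/
noncomputable abbrev jf (f : A) :
    Spec (CommRingCat.of (Localization.Away f)) ⟶ Spec (CommRingCat.of A) :=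
  Spec.map (CommRingCat.ofHom (algebraMap A (Localization.Away f)))

/-- restriction of tilde to a principal open is tilde of the localisation, on modules -/
noncomputable def restrictTildeNatIso (f : A) :
    tilde.functor (CommRingCat.of A) ⋙ Scheme.Modules.restrictFunctor (jf A f) ≅
      es (algebraMap A (Localization.Away f)) ⋙
        tilde.functor (CommRingCat.of (Localization.Away f)) :=
  Functor.isoWhiskerLeft _ (Scheme.Modules.restrictFunctorIsoPullback (jf A f)) ≪≫
    Groth.Agent.Helper13.Pullback.tildePullbackIso
      (CommRingCat.ofHom (algebraMap A (Localization.Away f)))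

instance (f : A) : (tilde.functor (CommRingCat.of (Localization.Away f))).Additive :=
  TBC.additive_tilde _

/-- restriction of tilde to a principal open is tilde of the localisation, on complexes -/
noncomputable def restrictTildeCxIso
    [PreservesFiniteLimits (tilde.functor (CommRingCat.of A))] (f : A)
    [PreservesFiniteLimits (tilde.functor (CommRingCat.of (Localization.Away f)))]
    (K : DRing.Cx A) :
    (rCx (jf A f)).obj ((tildeC A).obj K) ≅
      (tildeC (Localization.Away f)).obj ((esC (algebraMap A (Localization.Away f))).obj K) :=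
  (Functor.mapHomologicalComplexCompIso (restrictTildeNatIso A f) (ComplexShape.up ℤ)).app K ≪≫
    ((Functor.mapHomologicalComplexCompIso (Iso.refl (es (algebraMap A (Localization.Away f)) ⋙
        tilde.functor (CommRingCat.of (Localization.Away f)))) (ComplexShape.up ℤ)).app K).symm

end Loc

end Groth.Agent.Helper5.TB
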