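import Groth.Agent.Lib.Helper5.TB3
import Groth.Agent.Lib.Helper14.TildeExact

/-!
# Tilde bridge, part 4: `M~` is `m`-pseudo-coherent iff `M` is
-/

set_option autoImplicit false
set_option linter.unusedSectionVars false
set_option linter.unusedVariables false
set_option linter.style.haveILetI false

universe u

open CategoryTheory CategoryTheory.Limits AlgebraicGeometry Pretriangulated

attribute [local instance] HasDerivedCategory.standard

namespace Groth.Agent.Helper5.TB

open Groth.Agent.Helper11.MPC Groth.Agent.Helper11.DC Groth.Agent.Helper5.PC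
  Groth.Agent.Helper5.PCT Groth.Agent.Helper5.TT Groth.Agent.Helper5.RT
  Groth.Agent.Helper11.TA Groth.Agent.Helper5.LDer

section Global

variable {X : Scheme.{u}}

/-- a global chain-level model shows `m`-pseudo-coherence -/
theorem isPseudoCoherentD_of_global_model (F P : CochainComplex X.Modules ℤ)
    (hP : DCoh.IsStrictlyPerfect P) (a : P ⟶ F) (m : ℤ)
    (ha : IsConn m (DerivedCategory.Q.map a)) :
    DCoh.IsPseudoCoherentD m (DerivedCategory.Q.obj F) := by
  intro x
  refine ⟨⊤, trivial, fun F' ⟨e⟩ => ?_⟩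
  have h1 : IsConn m (DerivedCategory.Q.map ((DCoh.restrictCx (⊤ : X.Opens)).map a)) := by
    rw [← rQ_Q_map]
    exact isConn_rQ _ _ m ha
  have h2 : IsConn m (DerivedCategory.Q.map ((DCoh.restrictCx (⊤ : X.Opens)).map a) ≫
      (restrictQIso (⊤ : X.Opens).ι e).inv) := IsConn.comp h1 (isConn_iso_inv _ m)
  exact ⟨(DCoh.restrictCx (⊤ : X.Opens)).obj P, _,
    isStrictlyPerfect_restrict _ P hP, h2.1, h2.2⟩

end Global

section Cover

/-- finite principal subcovers -/
theorem exists_finite_cover (A : Type u) [CommRing A] (p : A → Prop)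
    (h : ∀ x : PrimeSpectrum A, ∃ f : A, x ∈ PrimeSpectrum.basicOpen f ∧ p f) :
    ∃ (r : ℕ) (f : Fin r → A), Ideal.span (Set.range f) = ⊤ ∧ ∀ i, p (f i) := by
  have hs : Ideal.span {f : A | p f} = ⊤ := by
    by_contra hne
    obtain ⟨M, hM, hle⟩ := Ideal.exists_le_maximal _ hne
    obtain ⟨f, hxf, hpf⟩ := h ⟨M, hM.isPrime⟩
    exact hxf (hle (Ideal.subset_span hpf))
  obtain ⟨s, hsub, hs'⟩ := (Ideal.span_eq_top_iff_finite _).mp hs
  refine ⟨s.card, fun i => (s.equivFin.symm i : A), ?_, fun i => hsub (s.equivFin.symm i).2⟩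
  have : Set.range (fun i => (s.equivFin.symm i : A)) = (s : Set A) := by
    ext y
    constructor
    · rintro ⟨i, rfl⟩
      exact (s.equivFin.symm i).2
    · intro hy
      exact ⟨s.equivFin ⟨y, hy⟩, by simp⟩
  rw [this]
  exact hs'

end Cover

section Main

variable (A : Type u) [CommRing A] [PreservesFiniteLimits (tilde.functor (CommRingCat.of A))]

/-- the local step: around every point there is a principal open over which the localisation is
`m`-pseudo-coherent -/
theorem local_step (K : DRing.Cx A) (m : ℤ)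
    (h : DCoh.IsPseudoCoherentD m (DerivedCategory.Q.obj ((tildeC A).obj K)))
    (x : PrimeSpectrum A) :
    ∃ f : A, x ∈ PrimeSpectrum.basicOpen f ∧
      DRing.IsPseudoCoherent (Localization.Away f) m
        (DerivedCategory.Q.obj ((esC (algebraMap A (Localization.Away f))).obj K)) := by
  obtain ⟨V, hxV, P, a, hP, ha⟩ :=
    exists_chain_model (X := Spec (CommRingCat.of A)) ((tildeC A).obj K) m h x
  obtain ⟨_, ⟨f, rfl⟩, hxf, hfV⟩ :=
    (TopologicalSpace.Opens.isBasis_iff_nbhd.mp
      (PrimeSpectrum.isBasis_basic_opens (R := A))) hxV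
  haveI : PreservesFiniteLimits (tilde.functor (CommRingCat.of (Localization.Away f))) :=
    Groth.Agent.Helper14.tilde_preservesFiniteLimits
  have hr : Set.range (jf A f) ⊆ (V : Set (Spec (CommRingCat.of A))) := by
    have h1 := Scheme.Hom.opensRange_localizationAway (R := CommRingCat.of A) f
    intro y hy
    apply hfV
    have h2 : y ∈ (jf A f).opensRange := hy
    rw [h1] at h2
    exact h2
  obtain ⟨P', a', hP', ha'⟩ := exists_chain_model_on (jf A f) _ m V hr P hP a ha
  refine ⟨f, hxf, mpc_of_affine_model (Localization.Away f) _ m P' hP'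
    (a' ≫ (restrictTildeCxIso A f K).hom) ?_⟩
  rw [Functor.map_comp]
  exact IsConn.comp ha' (isConn_of_isIso _)

/-- `M~` `m`-pseudo-coherent implies `M` `m`-pseudo-coherent -/
theorem mpc_of_tilde (M : Dual.D A) (m : ℤ)
    (h : DCoh.IsPseudoCoherentD m ((DCoh.tildeD (CommRingCat.of A)).obj M)) :
    DRing.IsPseudoCoherent A m M := by
  let K₀ := (DerivedCategory.Q (C := ModuleCat.{u} A)).objPreimage M
  let e₀ : DerivedCategory.Q.obj K₀ ≅ M :=
    (DerivedCategory.Q (C := ModuleCat.{u} A)).objObjPreimageIso M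
  have h' : DCoh.IsPseudoCoherentD m (DerivedCategory.Q.obj ((tildeC A).obj K₀)) :=
    isPseudoCoherentD_of_iso
      ((DCoh.tildeD (CommRingCat.of A)).mapIso e₀.symm ≪≫ (QtildeIso A K₀).symm) h
  obtain ⟨r, f, hf, hp⟩ := exists_finite_cover A
    (fun f => DRing.IsPseudoCoherent (Localization.Away f) m
      (DerivedCategory.Q.obj ((esC (algebraMap A (Localization.Away f))).obj K₀)))
    (fun x => local_step A K₀ m h' x)
  exact mpc_of_iso e₀ (mpc_descent_away f hf m K₀ hp)

/-- `M` `m`-pseudo-coherent implies `M~` `m`-pseudo-coherent -/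
theorem tilde_mpc (M : Dual.D A) (m : ℤ) (h : DRing.IsPseudoCoherent A m M) :
    DCoh.IsPseudoCoherentD m ((DCoh.tildeD (CommRingCat.of A)).obj M) := by
  obtain ⟨E, a, b, α, hE, hff, hiso, hepi⟩ := h
  let K₀ := (DerivedCategory.Q (C := ModuleCat.{u} A)).objPreimage M
  let e₀ : DerivedCategory.Q.obj K₀ ≅ M :=
    (DerivedCategory.Q (C := ModuleCat.{u} A)).objObjPreimageIso M
  have hproj : ∀ i, Module.Projective A (E.X i) := fun i => by
    haveI := (hff i).2
    infer_instance
  haveI : E.IsKProjective :=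
    isKProjective_of_vanishesAbove E b (fun i hi => hE i (Or.inr hi)) hproj
  obtain ⟨φ, hφ⟩ := exists_lift_of_isKProjective E K₀ (α ≫ e₀.inv)
  have hc : IsConnR m (DerivedCategory.Q.map φ) := by
    rw [hφ]
    refine ⟨fun i hi => ?_, ?_⟩
    · haveI := hiso i hi
      rw [Functor.map_comp]
      infer_instance
    · haveI := hepi
      rw [Functor.map_comp]
      infer_instance
  rw [isConnR_Q_map_iff] at hc
  have hP : DCoh.IsStrictlyPerfect ((tildeC A).obj E) := by
    refine ⟨⟨a, b, fun i hi => (tilde.functor (CommRingCat.of A)).map_isZero (hE i hi)⟩,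
      fun i => ?_⟩
    haveI := (hff i).1
    exact (Groth.Agent.S12451.result (R := CommRingCat.of A) (E.X i)).mpr
      ⟨inferInstance, hproj i⟩
  have hconn : IsConn m (DerivedCategory.Q.map ((tildeC A).map φ)) := by
    rw [isConn_Q_map_iff]
    exact ⟨fun i hi => isIso_homologyMap_tilde A φ i (hc.1 i hi),
      epi_homologyMap_tilde A φ m hc.2⟩
  have h1 := isPseudoCoherentD_of_global_model _ _ hP ((tildeC A).map φ) m hconn
  exact isPseudoCoherentD_of_iso
    (QtildeIso A K₀ ≪≫ (DCoh.tildeD (CommRingCat.of A)).mapIso e₀) h1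

theorem tilde_mpc_iff (M : Dual.D A) (m : ℤ) :
    DCoh.IsPseudoCoherentD m ((DCoh.tildeD (CommRingCat.of A)).obj M) ↔
      DRing.IsPseudoCoherent A m M :=
  ⟨mpc_of_tilde A M m, tilde_mpc A M m⟩

end Main

end Groth.Agent.Helper5.TB
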