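import Groth.Agent.Lib.Helper5.RTA2
import Groth.Agent.Lib.Helper5.RPR4
import Groth.Agent.Lib.Helper11.TorLoc1

/-!
# Tilde bridge, part 6: ring-level lemmas on relative tor amplitude and localisation
-/

set_option autoImplicit false
set_option linter.unusedSectionVars false
set_option linter.unusedVariables false
set_option linter.style.haveILetI false

universe u

open CategoryTheory CategoryTheory.Limits
open scoped TensorProduct ChangeOfRings

attribute [local instance] HasDerivedCategory.standard

namespace Groth.Agent.Helper5.TB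

open Groth.Agent.Helper5.KF Groth.Agent.Helper5.RPR

section Bij

variable {R₁ R₂ : Type u} [CommRing R₁] [CommRing R₂]

/-- flatness ascends along restriction of scalars through a bijective ring homomorphism -/
theorem flat_restrictScalars_of_bijective (e : R₁ →+* R₂) (he : Function.Bijective e)
    (N : ModuleCat.{u} R₂) (h : Module.Flat R₂ N) :
    Module.Flat R₁ ((ModuleCat.restrictScalars e).obj N) := by
  letI := e.toAlgebra
  letI : Module R₁ N := Module.compHom N e
  haveI : IsScalarTower R₁ R₂ N := IsScalarTower.of_algebraMap_smul (fun _ _ => rfl)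
  let e' : R₁ ≃ₐ[R₁] R₂ := AlgEquiv.ofBijective (Algebra.ofId R₁ R₂) he
  haveI : IsLocalization (⊥ : Submonoid R₁) R₁ := IsLocalization.self (by
    intro r hr
    rw [Submonoid.mem_bot] at hr
    rw [hr]
    exact isUnit_one)
  haveI : IsLocalization (⊥ : Submonoid R₁) R₂ := IsLocalization.isLocalization_of_algEquiv _ e'
  exact (Module.flat_iff_of_isLocalization R₂ (⊥ : Submonoid R₁) N).mp h

/-- tor amplitude is transported by restriction of scalars along a bijective ring homomorphism -/
theorem hasTorAmplitudeIn_rsC_of_bijective (e : R₁ →+* R₂) (he : Function.Bijective e)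
    (L : DRing.Cx R₂) (a b : ℤ) (h : DRing.HasTorAmplitudeIn R₂ a b (DRing.toD L)) :
    DRing.HasTorAmplitudeIn R₁ a b (DRing.toD ((rsC e).obj L)) := by
  obtain ⟨E, hE, hfl, ⟨i⟩⟩ := h
  refine ⟨(rsC e).obj E, fun j hj => (ModuleCat.restrictScalars e).map_isZero (hE j hj),
    fun j => flat_restrictScalars_of_bijective e he _ (hfl j), ⟨?_⟩⟩
  exact ((ModuleCat.restrictScalars.{u} e).mapDerivedCategoryFactors.app E).symm ≪≫
    (DRing.restrictD e).mapIso i ≪≫
    (ModuleCat.restrictScalars.{u} e).mapDerivedCategoryFactors.app L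

end Bij

section Flat

variable {R A R' A' : Type u} [CommRing R] [CommRing A] [CommRing R'] [CommRing A']

/-- the comparison map from the base change of a localisation to a further localisation is flat -/
theorem exists_flat_comparison (α : R →+* A) (γ : R →+* R') (β' : R' →+* A') (γ' : A →+* A')
    (hsq : ∀ r, β' (γ r) = γ' (α r)) (M : Submonoid R) (N : Submonoid A)
    (hM : @IsLocalization R _ M R' _ γ.toAlgebra) (hN : @IsLocalization A _ N A' _ γ'.toAlgebra)
    (hMN : M.map α ≤ N) :
    letI := γ.toAlgebra; letI := α.toAlgebra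
    ∃ ψ : R' ⊗[R] A →+* A', (∀ a b, ψ (a ⊗ₜ b) = β' a * γ' b) ∧ ψ.Flat := by
  letI := γ.toAlgebra
  letI := α.toAlgebra
  letI : Algebra A A' := γ'.toAlgebra
  letI : Algebra R' A' := β'.toAlgebra
  letI : Algebra R A' := (γ'.comp α).toAlgebra
  haveI : IsScalarTower R A A' := IsScalarTower.of_algebraMap_eq (fun _ => rfl)
  haveI : IsScalarTower R R' A' := IsScalarTower.of_algebraMap_eq (fun r => (hsq r).symm)
  let ψ : R' ⊗[R] A →ₐ[R] A' :=
    Algebra.TensorProduct.productMap (IsScalarTower.toAlgHom R R' A') (IsScalarTower.toAlgHom R A A')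
  have hψ : ∀ a b, ψ (a ⊗ₜ b) = β' a * γ' b := fun a b =>
    Algebra.TensorProduct.productMap_apply_tmul _ _ a b
  refine ⟨ψ.toRingHom, hψ, ?_⟩
  letI : Algebra A (R' ⊗[R] A) := Algebra.TensorProduct.rightAlgebra
  haveI hloc1 : IsLocalization (Algebra.algebraMapSubmonoid A M) (R' ⊗[R] A) :=
    IsLocalization.tensorRight (R := R) (S := A) R' M
  letI : Algebra (R' ⊗[R] A) A' := ψ.toRingHom.toAlgebra
  haveI : IsScalarTower A (R' ⊗[R] A) A' := IsScalarTower.of_algebraMap_eq (fun x => by
    change γ' x = ψ ((1 : R') ⊗ₜ x)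
    rw [hψ, map_one, one_mul])
  haveI hloc2 : IsLocalization (N.map (algebraMap A (R' ⊗[R] A))) A' :=
    IsLocalization.isLocalization_of_submonoid_le (R' ⊗[R] A) A'
      (Algebra.algebraMapSubmonoid A M) N hMN
  exact IsLocalization.flat A' (N.map (algebraMap A (R' ⊗[R] A)))

end Flat

end Groth.Agent.Helper5.TB
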