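import Groth.Agent.Lib.Helper5.TB6

/-!
# Tilde bridge, part 7: transport of relative tor amplitude along a square of ring isomorphisms
-/

set_option autoImplicit false
set_option linter.unusedSectionVars false
set_option linter.unusedVariables false
set_option linter.style.haveILetI false

universe u

open CategoryTheory CategoryTheory.Limits
open scoped TensorProduct ChangeOfRings

attribute [local instance] HasDerivedCategory.standard

namespace Groth.Agent.Helper5.TB

open Groth.Agent.Helper5.KF Groth.Agent.Helper5.RPR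

variable {A R₁ R₂ A₁ A₂ : Type u} [CommRing A] [CommRing R₁] [CommRing R₂] [CommRing A₁]
  [CommRing A₂]

/-- the functor isomorphism behind the transport -/
noncomputable def squareNatIso (lam : R₁ →+* A₁) (μ : R₂ →+* A₂) (e : R₁ →+* R₂)
    (e' : A₁ →+* A₂) (he' : Function.Bijective e') (hsq : e'.comp lam = μ.comp e)
    (g₁ : A →+* A₁) :
    ModuleCat.extendScalars.{u, u, u} (e'.comp g₁) ⋙ ModuleCat.restrictScalars.{u} μ ⋙
        ModuleCat.restrictScalars.{u} e ≅
      ModuleCat.extendScalars.{u, u, u} g₁ ⋙ ModuleCat.restrictScalars.{u} lam :=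
  Functor.isoWhiskerRight (ModuleCat.extendScalarsComp.{u} g₁ e') _ ≪≫ Functor.associator _ _ _ ≪≫
    Functor.isoWhiskerLeft (ModuleCat.extendScalars.{u, u, u} g₁)
      (Functor.isoWhiskerLeft (ModuleCat.extendScalars.{u, u, u} e')
          (ModuleCat.restrictScalarsComp'.{u} e μ (e'.comp lam) hsq).symm ≪≫
        (rsEsNatIso lam e' he' (e'.comp lam) (fun _ => rfl)).symm)

/-- transport of relative tor amplitude along a square of ring isomorphisms -/
theorem hasTorAmplitudeIn_of_square (lam : R₁ →+* A₁) (μ : R₂ →+* A₂) (e : R₁ →+* R₂)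
    (he : Function.Bijective e) (e' : A₁ →+* A₂) (he' : Function.Bijective e')
    (hsq : e'.comp lam = μ.comp e) (g₁ : A →+* A₁) (g₂ : A →+* A₂) (hg : g₂ = e'.comp g₁)
    (K : DRing.Cx A) (a b : ℤ)
    (h : DRing.HasTorAmplitudeIn R₂ a b (DRing.toD ((rsC μ).obj ((extC g₂).obj K)))) :
    DRing.HasTorAmplitudeIn R₁ a b (DRing.toD ((rsC lam).obj ((extC g₁).obj K))) := by
  subst hg
  have h1 := hasTorAmplitudeIn_rsC_of_bijective e he _ a b h
  obtain ⟨E, hE, hfl, ⟨i⟩⟩ := h1
  let c : (rsC e).obj ((rsC μ).obj ((extC (e'.comp g₁)).obj K)) ≅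
      (rsC lam).obj ((extC g₁).obj K) :=
    (NatIso.mapHomologicalComplex (squareNatIso lam μ e e' he' hsq g₁) (ComplexShape.up ℤ)).app K
  exact ⟨E, hE, hfl, ⟨i ≪≫ DerivedCategory.Q.mapIso c⟩⟩

end Groth.Agent.Helper5.TB
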