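import Groth.Agent.Lib.Helper5.TB8

/-!
# Tilde bridge, part 9: stalkwise relative tor amplitude of `M~` iff tor amplitude of `M` over the base
-/

set_option autoImplicit false
set_option linter.unusedSectionVars false
set_option linter.unusedVariables false
set_option linter.style.haveILetI false

universe u

open CategoryTheory CategoryTheory.Limits AlgebraicGeometry
open scoped TensorProduct ChangeOfRings

attribute [local instance] HasDerivedCategory.standard

namespace Groth.Agent.Helper5.TB

open Groth.Agent.Helper5.KF Groth.Agent.Helper5.RPR Groth.Agent.Helper5.TT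
  Groth.Agent.Helper5.TildeSt Groth.Agent.Helper5.RTA

variable {R A : Type u} [CommRing R] [CommRing A] (φ : R →+* A)
  [PreservesFiniteLimits (tilde.functor (CommRingCat.of A))]

/-- the relative stalk of a representative of `(Q K)~` -/
noncomputable def stalkReprIso (K : DRing.Cx A)
    (F : CochainComplex (Spec (CommRingCat.of A)).Modules ℤ)
    (eF : DerivedCategory.Q.obj F ≅ DerivedCategory.Q.obj ((tildeC A).obj K))
    (x : Spec (CommRingCat.of A)) :
    DRing.toD ((DerSch.stalkCxOver (fφ φ) x).obj F) ≅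
      DRing.toD ((rsC (μx φ x)).obj ((extC (φx (CommRingCat.of A) x)).obj K)) :=
  stalkCxOverDIso (fφ φ) x eF ≪≫ DerivedCategory.Q.mapIso (stalkCxOverTildeIso φ x K)

theorem hasTorAmplitude_iff_of_repr (K : DRing.Cx A)
    (F : CochainComplex (Spec (CommRingCat.of A)).Modules ℤ)
    (eF : DerivedCategory.Q.obj F ≅ DerivedCategory.Q.obj ((tildeC A).obj K)) (a b : ℤ) :
    DerSch.HasTorAmplitude (fφ φ) a b F ↔
      DRing.HasTorAmplitudeIn R a b (DRing.toD ((rsC φ).obj K)) := by
  constructor
  · intro h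
    exact hasTorAmplitudeIn_global_of_stalks φ K a b
      (fun x => hasTorAmplitudeIn_of_iso (stalkReprIso φ K F eF x) (h x))
  · intro h x
    exact hasTorAmplitudeIn_of_iso (stalkReprIso φ K F eF x).symm
      (hasTorAmplitudeIn_stalk_of_global φ K a b h x)

theorem hasTorAmplitude_tilde_iff (M : Dual.D A)
    (F : CochainComplex (Spec (CommRingCat.of A)).Modules ℤ)
    (hF : Nonempty (DCoh.toD (Spec (CommRingCat.of A)) F ≅
      (DCoh.tildeD (CommRingCat.of A)).obj M)) (a b : ℤ) :
    DerSch.HasTorAmplitude (Spec.map (CommRingCat.ofHom φ)) a b F ↔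
      DRing.HasTorAmplitudeIn R a b ((DRing.restrictD φ).obj M) := by
  obtain ⟨e⟩ := hF
  let K₀ := (DerivedCategory.Q (C := ModuleCat.{u} A)).objPreimage M
  let e₀ : DerivedCategory.Q.obj K₀ ≅ M :=
    (DerivedCategory.Q (C := ModuleCat.{u} A)).objObjPreimageIso M
  let eF : DerivedCategory.Q.obj F ≅ DerivedCategory.Q.obj ((tildeC A).obj K₀) :=
    e ≪≫ (DCoh.tildeD (CommRingCat.of A)).mapIso e₀.symm ≪≫ (QtildeIso A K₀).symm
  let eG : (DRing.restrictD φ).obj M ≅ DRing.toD ((rsC φ).obj K₀) :=
    (DRing.restrictD φ).mapIso e₀.symm ≪≫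
      (ModuleCat.restrictScalars.{u} φ).mapDerivedCategoryFactors.app K₀
  rw [hasTorAmplitude_iff_of_repr φ K₀ F eF a b]
  exact ⟨hasTorAmplitudeIn_of_iso eG.symm, hasTorAmplitudeIn_of_iso eG⟩

end Groth.Agent.Helper5.TB
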