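import Groth.Agent.Lib.Helper5.TBA1

/-!
# Affine-local transport, part 2: stalkwise tor vanishing is insensitive to composing the
base morphism with an open immersion
-/

set_option autoImplicit false
set_option linter.unusedSectionVars false
set_option linter.unusedVariables false
set_option linter.style.haveILetI false

universe u

open CategoryTheory CategoryTheory.Limits AlgebraicGeometry

attribute [local instance] HasDerivedCategory.standard

namespace Groth.Agent.Helper5.TBA

open Groth.Agent.Helper5.KF Groth.Agent.Helper5.RPR Groth.Agent.Helper5.TB Groth.Agent.Helper11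

section Ring

variable {R₁ R₂ : Type u} [CommRing R₁] [CommRing R₂]

/-- restricting scalars back and forth along a bijection -/
noncomputable def rsCRoundIso (e : R₁ →+* R₂) (e' : R₂ →+* R₁) (h : RingHom.id R₂ = e.comp e')
    (L : DRing.Cx R₂) : (rsC e').obj ((rsC e).obj L) ≅ L := by
  haveI i1 : (ModuleCat.restrictScalars.{u} (RingHom.id R₂)).PreservesZeroMorphisms := inferInstance
  haveI i2 : (ModuleCat.restrictScalars.{u} e ⋙
    ModuleCat.restrictScalars.{u} e').PreservesZeroMorphisms := inferInstance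
  haveI i3 : (𝟭 (ModuleCat.{u} R₂)).PreservesZeroMorphisms := inferInstance
  exact ((@NatIso.mapHomologicalComplex _ _ _ _ _ _ _ _ _ i1 i2
    (ModuleCat.restrictScalarsComp'.{u} e' e (RingHom.id R₂) h) (ComplexShape.up ℤ)).app L).symm ≪≫
    (@NatIso.mapHomologicalComplex _ _ _ _ _ _ _ _ _ i1 i3
    (ModuleCat.restrictScalarsId'.{u} (RingHom.id R₂) rfl) (ComplexShape.up ℤ)).app L ≪≫
    (Functor.mapHomologicalComplexIdIso _ _).app L

/-- tor amplitude is reflected by restriction of scalars along a bijective ring homomorphism -/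
theorem hasTorAmplitudeIn_of_rsC_bijective (e : R₁ →+* R₂) (he : Function.Bijective e)
    (L : DRing.Cx R₂) (a b : ℤ)
    (h : DRing.HasTorAmplitudeIn R₁ a b (DRing.toD ((rsC e).obj L))) :
    DRing.HasTorAmplitudeIn R₂ a b (DRing.toD L) := by
  let ε := RingEquiv.ofBijective e he
  let e' : R₂ →+* R₁ := ε.symm.toRingHom
  have he' : Function.Bijective e' := ε.symm.bijective
  have h1 := hasTorAmplitudeIn_rsC_of_bijective e' he' ((rsC e).obj L) a b h
  have hcomp : RingHom.id R₂ = e.comp e' := by
    ext x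
    exact (ε.apply_symm_apply x).symm
  exact hasTorAmplitudeIn_of_iso (DerivedCategory.Q.mapIso (rsCRoundIso e e' hcomp L)) h1

theorem hasTorAmplitudeIn_rsC_iff (e : R₁ →+* R₂) (he : Function.Bijective e)
    (L : DRing.Cx R₂) (a b : ℤ) :
    DRing.HasTorAmplitudeIn R₁ a b (DRing.toD ((rsC e).obj L)) ↔
      DRing.HasTorAmplitudeIn R₂ a b (DRing.toD L) :=
  ⟨hasTorAmplitudeIn_of_rsC_bijective e he L a b, hasTorAmplitudeIn_rsC_of_bijective e he L a b⟩

end Ring

section Sch

variable {Y S' S : Scheme.{u}} (g : Y ⟶ S') (i : S' ⟶ S) [IsOpenImmersion i]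

/-- the relative stalk with respect to a composite -/
noncomputable def stalkOverPostcompIso (y : Y) :
    DerSch.stalkOver (g ≫ i) y ≅
      DerSch.stalkOver g y ⋙ ModuleCat.restrictScalars (i.stalkMap (g.base y)).hom :=
  Functor.isoWhiskerLeft (DerSch.stalkFunctor Y y)
    (ModuleCat.restrictScalarsComp' (i.stalkMap (g.base y)).hom (g.stalkMap y).hom
      ((g ≫ i).stalkMap y).hom (by
        rw [Scheme.Hom.stalkMap_comp]
        rfl)) ≪≫ (Functor.associator _ _ _).symm

/-- the relative stalk complex with respect to a composite -/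
noncomputable def stalkCxOverPostcompIso (F : CochainComplex Y.Modules ℤ) (y : Y) :
    (DerSch.stalkCxOver (g ≫ i) y).obj F ≅
      (rsC (i.stalkMap (g.base y)).hom).obj ((DerSch.stalkCxOver g y).obj F) := by
  haveI i1 : (DerSch.stalkOver (g ≫ i) y).PreservesZeroMorphisms := inferInstance
  haveI i2 : (DerSch.stalkOver g y ⋙
    ModuleCat.restrictScalars (i.stalkMap (g.base y)).hom).PreservesZeroMorphisms := inferInstance
  exact (@NatIso.mapHomologicalComplex _ _ _ _ _ _ _ _ _ i1 i2
    (stalkOverPostcompIso g i y) (ComplexShape.up ℤ)).app F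

theorem torVan_postcomp_iff (K : DCoh.D Y) (y : Y) (a b : ℤ) :
    TA.TorVan a b ((stalkD (g ≫ i) y).obj K) ↔ TA.TorVan a b ((stalkD g y).obj K) := by
  set F₀ := DerivedCategory.Q.objPreimage K with hF₀
  have e₀ : DerivedCategory.Q.obj F₀ ≅ K := DerivedCategory.Q.objObjPreimageIso K
  have hbij : Function.Bijective (i.stalkMap (g.base y)).hom :=
    ConcreteCategory.bijective_of_isIso (i.stalkMap (g.base y))
  constructor
  · intro h
    have h1 := TA.hasTorAmplitudeIn_of_torVan (h.of_iso (stalkDIso (g ≫ i) y F₀ e₀))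
    have h2 := hasTorAmplitudeIn_of_iso
      (DerivedCategory.Q.mapIso (stalkCxOverPostcompIso g i F₀ y)) h1
    have h3 := hasTorAmplitudeIn_of_rsC_bijective _ hbij _ a b h2
    exact (TA.torVan_of_hasTorAmplitudeIn h3).of_iso (stalkDIso g y F₀ e₀).symm
  · intro h
    have h1 := TA.hasTorAmplitudeIn_of_torVan (h.of_iso (stalkDIso g y F₀ e₀))
    have h2 := hasTorAmplitudeIn_rsC_of_bijective _ hbij _ a b h1
    have h3 := hasTorAmplitudeIn_of_iso
      (DerivedCategory.Q.mapIso (stalkCxOverPostcompIso g i F₀ y)).symm h2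
    exact (TA.torVan_of_hasTorAmplitudeIn h3).of_iso (stalkDIso (g ≫ i) y F₀ e₀).symm

theorem torVanNear_postcomp_iff (K : DCoh.D Y) (y : Y) :
    TorVanNear (g ≫ i) K y ↔ TorVanNear g K y := by
  constructor
  · rintro ⟨V, a, b, hyV, hV⟩
    exact ⟨V, a, b, hyV, fun y' hy' => (torVan_postcomp_iff g i K y' a b).mp (hV y' hy')⟩
  · rintro ⟨V, a, b, hyV, hV⟩
    exact ⟨V, a, b, hyV, fun y' hy' => (torVan_postcomp_iff g i K y' a b).mpr (hV y' hy')⟩

end Sch

end Groth.Agent.Helper5.TBA
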