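import Groth.Agent.Lib.Helper5.TBA2
import Groth.Agent.Lib.Helper9.OpenAdj2
import Groth.Agent.Lib.Helper29.QcD

/-!
# Affine-local transport, part 3: relative perfectness of `E` near the points of an affine open
in terms of the module-level relative perfectness of `RΓ(U, E)`
-/

set_option autoImplicit false
set_option linter.unusedSectionVars false
set_option linter.unusedVariables false
set_option linter.style.haveILetI false

universe u

open CategoryTheory CategoryTheory.Limits AlgebraicGeometry

attribute [local instance] HasDerivedCategory.standard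

namespace Groth.Agent.Helper5.TBA

open Groth.Agent.Helper5.KF Groth.Agent.Helper5.RPR Groth.Agent.Helper5.TB Groth.Agent.Helper11
  Groth.Agent.Helper5.PCT

variable {X S : Scheme.{u}} (f : X ⟶ S)

/-- the affine chart of `E` on the affine open `U`, an object of `D(Spec Γ(U, O_X))` -/
noncomputable abbrev chart (E : DCoh.D X) {U : X.Opens} (hU : IsAffineOpen U) :
    DCoh.D (Spec Γ(X, U)) :=
  (DCoh.restrictD hU.isoSpec.inv).obj ((DCoh.restrictD U.ι).obj E)

lemma pcAt_chart_iff (E : DCoh.D X) {U : X.Opens} (hU : IsAffineOpen U) (m : ℤ)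
    (z : Spec Γ(X, U)) : PCAt m (chart E hU) z ↔ PCAt m E (hU.fromSpec.base z) :=
  (pcAt_restrictD_iff hU.isoSpec.inv _ m z).trans
    (pcAt_restrictD_iff U.ι E m (hU.isoSpec.inv.base z))

lemma torVanNear_chart_iff (E : DCoh.D X) {U : X.Opens} (hU : IsAffineOpen U)
    (z : Spec Γ(X, U)) :
    TorVanNear (hU.isoSpec.inv ≫ U.ι ≫ f) (chart E hU) z ↔ TorVanNear f E (hU.fromSpec.base z) :=
  (torVanNear_restrict_iff (U.ι ≫ f) hU.isoSpec.inv _ z).trans
    (torVanNear_restrict_iff f U.ι E (hU.isoSpec.inv.base z))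

lemma exists_fromSpec_eq {U : X.Opens} (hU : IsAffineOpen U) (y : X) (hy : y ∈ U) :
    ∃ z : Spec Γ(X, U), hU.fromSpec.base z = y := by
  have h : y ∈ Set.range hU.fromSpec := by
    rw [hU.range_fromSpec]
    exact hy
  exact h

lemma fromSpec_mem {U : X.Opens} (hU : IsAffineOpen U) (z : Spec Γ(X, U)) :
    hU.fromSpec.base z ∈ U := by
  have h : hU.fromSpec.base z ∈ Set.range hU.fromSpec := ⟨z, rfl⟩
  rw [hU.range_fromSpec] at h
  exact h

end Groth.Agent.Helper5.TBA
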