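import Groth.Agent.Lib.Helper5.TBA3

/-!
# Affine-local transport, part 4: the core equivalence on an affine pair
-/

set_option autoImplicit false
set_option linter.unusedSectionVars false
set_option linter.unusedVariables false
set_option linter.style.haveILetI false

universe u

open CategoryTheory CategoryTheory.Limits AlgebraicGeometry

attribute [local instance] HasDerivedCategory.standard

namespace Groth.Agent.Helper5.TBA

open Groth.Agent.Helper5.KF Groth.Agent.Helper5.RPR Groth.Agent.Helper5.TB Groth.Agent.Helper11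
  Groth.Agent.Helper5.PCT

variable {X S : Scheme.{u}} (f : X ⟶ S) [Flat f]
  [∀ R : CommRingCat.{u}, PreservesFiniteLimits (tilde.functor R)]

theorem core (E : DCoh.D X) {U : X.Opens} (hU : IsAffineOpen U) {V : S.Opens}
    (hV : IsAffineOpen V) (hUV : U ≤ f ⁻¹ᵁ V) (M : DerivedCategory (ModuleCat.{u} Γ(X, U)))
    (e : chart E hU ≅ (DCoh.tildeD Γ(X, U)).obj M) :
    @Dual2.IsRelPerfect Γ(S, V) Γ(X, U) _ _ (f.appLE V U hUV).hom.toAlgebra M ↔
      ((∀ m : ℤ, ∀ y ∈ U, PCAt m E y) ∧ ∀ y ∈ U, TorVanNear f E y) := by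
  letI alg : Algebra Γ(S, V) Γ(X, U) := (f.appLE V U hUV).hom.toAlgebra
  haveI hfl : Module.Flat Γ(S, V) Γ(X, U) := f.flat_appLE hV hU hUV
  set φ : Spec Γ(X, U) ⟶ Spec Γ(S, V) := Spec.map (f.appLE V U hUV) with hφ
  haveI : Flat φ := by
    rw [hφ, AlgebraicGeometry.Flat.SpecMap_iff]
    exact f.flat_appLE hV hU hUV
  have key := relPerfect_tilde_iff Γ(S, V) Γ(X, U) M
  have hsq : hU.isoSpec.inv ≫ U.ι ≫ f = φ ≫ hV.fromSpec := by
    rw [← Category.assoc]
    exact (IsAffineOpen.SpecMap_appLE_fromSpec f hV hU hUV).symm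
  have hpc : ∀ m : ℤ, (DCoh.IsPseudoCoherentD m (chart E hU) ↔ ∀ y ∈ U, PCAt m E y) := by
    intro m
    constructor
    · intro h y hy
      obtain ⟨z, rfl⟩ := exists_fromSpec_eq hU y hy
      exact (pcAt_chart_iff E hU m z).mp (h z)
    · intro h z
      exact (pcAt_chart_iff E hU m z).mpr (h _ (fromSpec_mem hU z))
  have htv : LocTorVan φ (chart E hU) ↔ ∀ y ∈ U, TorVanNear f E y := by
    have h1 : ∀ z, TorVanNear φ (chart E hU) z ↔ TorVanNear f E (hU.fromSpec.base z) := by
      intro z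
      rw [← torVanNear_postcomp_iff φ hV.fromSpec, ← torVanNear_congr hsq]
      exact torVanNear_chart_iff f E hU z
    constructor
    · intro h y hy
      obtain ⟨z, rfl⟩ := exists_fromSpec_eq hU y hy
      exact (h1 z).mp (h z)
    · intro h z
      exact (h1 z).mpr (h _ (fromSpec_mem hU z))
  refine key.symm.trans ?_
  constructor
  · rintro ⟨h1, h2⟩
    have h1' : ∀ m, DCoh.IsPseudoCoherentD m (chart E hU) :=
      fun m => isPseudoCoherentD_of_iso e.symm (h1 m)
    have h2' : LocTorVan φ (chart E hU) :=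
      fun z => torVanNear_of_iso φ e.symm z (locTorVan_of_locHasFiniteRelTorDim φ _ h2 z)
    exact ⟨fun m => (hpc m).mp (h1' m), htv.mp h2'⟩
  · rintro ⟨h1, h2⟩
    have h1' : ∀ m, DCoh.IsPseudoCoherentD m ((DCoh.tildeD Γ(X, U)).obj M) :=
      fun m => isPseudoCoherentD_of_iso e ((hpc m).mpr (h1 m))
    have h2' : LocTorVan φ ((DCoh.tildeD Γ(X, U)).obj M) :=
      fun z => torVanNear_of_iso φ e z (htv.mpr h2 z)
    exact ⟨h1', locHasFiniteRelTorDim_of_locTorVan φ _ h1' h2'⟩

end Groth.Agent.Helper5.TBA
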