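import Groth.Agent.Lib.Helper5.TBA4

/-!
# Affine-local transport, part 5: relative perfectness is affine-local (in module terms)
-/

set_option autoImplicit false
set_option linter.unusedSectionVars false
set_option linter.unusedVariables false
set_option linter.style.haveILetI false

universe u

open CategoryTheory CategoryTheory.Limits AlgebraicGeometry

attribute [local instance] HasDerivedCategory.standard

namespace Groth.Agent.Helper5.TBA

open Groth.Agent.Helper5.KF Groth.Agent.Helper5.RPR Groth.Agent.Helper5.TB Groth.Agent.Helper11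
  Groth.Agent.Helper5.PCT

variable {X S : Scheme.{u}} (f : X ⟶ S)
  [∀ R : CommRingCat.{u}, PreservesFiniteLimits (tilde.functor R)]

/-- an object with quasi-coherent cohomology is, on an affine open, the tilde of a complex of
modules -/
theorem exists_model (E : DCoh.D X) (hE : DCoh.IsQCohD E) {U : X.Opens} (hU : IsAffineOpen U) :
    ∃ M : DerivedCategory (ModuleCat.{u} Γ(X, U)),
      Nonempty (chart E hU ≅ (DCoh.tildeD Γ(X, U)).obj M) := by
  have h1 : DCoh.IsQCohD (chart E hU) :=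
    Groth.Agent.Helper9.OpenAdj2.isQCohD_restrictD _ _
      (Groth.Agent.Helper9.OpenAdj2.isQCohD_restrictD _ _ hE)
  obtain ⟨M, ⟨eM⟩⟩ := (Groth.Agent.Helper29.QcD.essImage_iff Γ(X, U) (chart E hU)).mp
    (fun i => h1 i)
  exact ⟨M, ⟨eM.symm⟩⟩

variable [Flat f]

theorem of_cover (E : DCoh.D X) (hE : DCoh.IsQCohD E)
    (ι : Type u) (V : ι → S.Opens) (hV : ∀ i, IsAffineOpen (V i)) (hVcov : ⨆ i, V i = ⊤)
    (κ : ι → Type u) (U : ∀ i, κ i → X.Opens) (hU : ∀ i j, IsAffineOpen (U i j))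
    (hUV : ∀ i j, U i j ≤ f ⁻¹ᵁ V i) (hUcov : ∀ i, ⨆ j, U i j = f ⁻¹ᵁ V i)
    (H : ∀ (i : ι) (j : κ i) (M : DerivedCategory (ModuleCat.{u} Γ(X, U i j))),
      Nonempty (chart E (hU i j) ≅ (DCoh.tildeD Γ(X, U i j)).obj M) →
        @Dual2.IsRelPerfect Γ(S, V i) Γ(X, U i j) _ _
          (f.appLE (V i) (U i j) (hUV i j)).hom.toAlgebra M) :
    (∀ m : ℤ, DCoh.IsPseudoCoherentD m E) ∧ DCoh.LocHasFiniteRelTorDim f E := by
  have hx : ∀ x : X, ∃ i j, x ∈ U i j := by
    intro x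
    have h1 : f.base x ∈ (⨆ i, V i : S.Opens) := by
      rw [hVcov]
      trivial
    obtain ⟨i, hi⟩ := TopologicalSpace.Opens.mem_iSup.mp h1
    have h2 : x ∈ (⨆ j, U i j : X.Opens) := by
      rw [hUcov i]
      exact hi
    obtain ⟨j, hj⟩ := TopologicalSpace.Opens.mem_iSup.mp h2
    exact ⟨i, j, hj⟩
  have hall : ∀ x : X, (∀ m : ℤ, PCAt m E x) ∧ TorVanNear f E x := by
    intro x
    obtain ⟨i, j, hj⟩ := hx x
    obtain ⟨M, ⟨eM⟩⟩ := exists_model E hE (hU i j)
    have h := (core f E (hU i j) (hV i) (hUV i j) M eM).mp (H i j M ⟨eM⟩)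
    exact ⟨fun m => h.1 m x hj, h.2 x hj⟩
  have hpc : ∀ m : ℤ, DCoh.IsPseudoCoherentD m E := fun m x => (hall x).1 m
  exact ⟨hpc, locHasFiniteRelTorDim_of_locTorVan f E hpc (fun x => (hall x).2)⟩

theorem main_iff (E : DCoh.D X) (hE : DCoh.IsQCohD E) :
    ((∀ m : ℤ, DCoh.IsPseudoCoherentD m E) ∧ DCoh.LocHasFiniteRelTorDim f E) ↔
      ∀ (U : X.Opens) (hU : IsAffineOpen U) (V : S.Opens) (hV : IsAffineOpen V)
        (hUV : U ≤ f ⁻¹ᵁ V) (M : DerivedCategory (ModuleCat.{u} Γ(X, U))),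
        Nonempty (chart E hU ≅ (DCoh.tildeD Γ(X, U)).obj M) →
          @Dual2.IsRelPerfect Γ(S, V) Γ(X, U) _ _ (f.appLE V U hUV).hom.toAlgebra M := by
  constructor
  · rintro ⟨hpc, hloc⟩ U hU V hV hUV M ⟨eM⟩
    have hlt := locTorVan_of_locHasFiniteRelTorDim f E hloc
    exact (core f E hU hV hUV M eM).mpr ⟨fun m y _ => hpc m y, fun y _ => hlt y⟩
  · intro H
    refine of_cover f E hE S.affineOpens (fun i => i.1) (fun i => i.2)
      (iSup_affineOpens_eq_top S)
      (fun i => {W : X.affineOpens // W.1 ≤ f ⁻¹ᵁ i.1}) (fun i j => j.1.1) (fun i j => j.1.2)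
      (fun i j => j.2) ?_ ?_
    · intro i
      apply le_antisymm
      · exact iSup_le (fun j => j.2)
      · intro x hx
        obtain ⟨W, hW, hxW, hWi⟩ :=
          (TopologicalSpace.Opens.isBasis_iff_nbhd.mp X.isBasis_affineOpens) hx
        exact TopologicalSpace.Opens.mem_iSup.mpr ⟨⟨⟨W, hW⟩, hWi⟩, hxW⟩
    · intro i j M hM
      exact H j.1.1 j.1.2 i.1 i.2 j.2 M hM

end Groth.Agent.Helper5.TBA
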