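import Groth.Agent.Lib.Helper5.TBB1
import Groth.Agent.Lib.Helper13.LocTransfer

/-!
# Relative perfectness via finitely presented flat models, part 2: finite presentation under
restriction along open immersions, and of global sections on an affine scheme
-/

set_option autoImplicit false
set_option linter.unusedSectionVars false
set_option linter.unusedVariables false
set_option linter.style.haveILetI false

universe u

open CategoryTheory CategoryTheory.Limits AlgebraicGeometry TopologicalSpace

attribute [local instance] HasDerivedCategory.standard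

namespace Groth.Agent.Helper5.TBB

open Groth.Agent.Helper13.LocFree Groth.Agent.Helper13.FinPres

section Restrict

variable {Y X : Scheme.{u}}

/-- the restriction of a finitely presented module along an open immersion is finitely presented -/
theorem isFP_restrict (j : Y ⟶ X) [IsOpenImmersion j] (M : X.Modules) (hM : CohB1.IsFP M) :
    CohB1.IsFP ((Scheme.Modules.restrictFunctor j).obj M) := by
  haveI : SheafOfModules.IsFinitePresentation (R := X.ringCatSheaf) M := hM
  obtain ⟨ι, U, P, hcov, -, hfin⟩ := exists_isOpenCover_finite_presentation M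
  let iso : ∀ i, (M.restrict (U i).ι).restrict (j ∣_ U i) ≅ (M.restrict j).restrict (j ⁻¹ᵁ U i).ι :=
    fun i => ((Scheme.Modules.restrictFunctorComp (j ∣_ U i) (U i).ι).app M).symm ≪≫
      (Scheme.Modules.restrictFunctorCongr (morphismRestrict_ι j (U i))).app M ≪≫
      (Scheme.Modules.restrictFunctorComp (j ⁻¹ᵁ U i).ι j).app M
  refine isFinitePresentation_of_family (M.restrict j) (fun i => ((j ⁻¹ᵁ U i : Y.Opens) : Scheme.{u}))
    (fun i => (j ⁻¹ᵁ U i).ι) ?_
    (fun i => @SheafOfModules.Presentation.ofIsIso _ _ _ _ _ _ _ _ (iso i).hom
      (Iso.isIso_hom (iso i)) (Scheme.Modules.presentationRestrict (j ∣_ U i) (P i))) (fun i => ?_)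
  · intro x
    have hx : j.base x ∈ ⨆ i, U i := by
      rw [hcov.iSup_eq_top]
      trivial
    obtain ⟨i, hi⟩ := Opens.mem_iSup.1 hx
    exact ⟨i, ⟨⟨x, hi⟩, rfl⟩⟩
  · haveI := hfin i
    have := isFinite_presentationRestrict (j ∣_ U i) (P i)
    exact
      { isFiniteType_generators := ⟨this.isFiniteType_generators.finite⟩
        isFiniteType_relations := ⟨this.isFiniteType_relations.finite⟩ }

end Restrict

end Groth.Agent.Helper5.TBB
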