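import Groth.Agent.Lib.Helper5.TBB2

/-!
# Relative perfectness via finitely presented flat models, part 3: global sections on an affine
scheme of a finitely presented module flat over the base
-/

set_option autoImplicit false
set_option linter.unusedSectionVars false
set_option linter.unusedVariables false
set_option linter.style.haveILetI false

universe u

open CategoryTheory CategoryTheory.Limits AlgebraicGeometry TopologicalSpace

attribute [local instance] HasDerivedCategory.standard

namespace Groth.Agent.Helper5.TBB

open Groth.Agent.Helper13.LocFree Groth.Agent.Helper13.FinPres Groth.Agent.Helper5.TB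
  Groth.Agent.Helper5.KF Groth.Agent.Helper5.RPR Groth.Agent.Helper5.TildeSt Groth.Agent.Helper11

section Mod

variable {A : Type u} [CommRing A]

lemma flat_of_iso' {M N : ModuleCat.{u} A} (e : M ≅ N) (h : Module.Flat A M) : Module.Flat A N :=
  Module.Flat.of_linearEquiv e.toLinearEquiv.symm

lemma flat_of_isZero' {M : ModuleCat.{u} A} (h : IsZero M) : Module.Flat A M := by
  haveI : Subsingleton M := ModuleCat.subsingleton_of_isZero h
  infer_instance

end Mod

section FP

lemma smul_top_eq {R : CommRingCat.{u}} (N : (Spec R).Modules) (c : R) (x : Γ(N, ⊤)) :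
    ((Scheme.ΓSpecIso R).commRingCatIsoToRingEquiv.symm c) • x = c • x := by
  rw [Scheme.Modules.smul_Spec_def]
  congr 1

/-- global sections of a finitely presented module on `Spec R` form a finitely presented
`R`-module -/
theorem finitePresentation_Γ (R : CommRingCat.{u}) (F : (Spec R).Modules)
    (hF : CohB1.IsFP F) : Module.FinitePresentation R Γ(F, ⊤) := by
  haveI : SheafOfModules.IsFinitePresentation (R := (Spec R).ringCatSheaf) F := hF
  haveI : Module.FinitePresentation Γ(Spec R, ⊤) Γ(F, ⊤) :=
    finitePresentation_sections_of_isFinitePresentation F (isAffineOpen_top _)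
  exact Groth.Agent.Helper13.LocTransfer.finitePresentation_of_ringEquiv
      (Scheme.ΓSpecIso R).commRingCatIsoToRingEquiv.symm (smul_top_eq F)

theorem finitePresentation_Γf (B : Type u) [CommRing B] (F : (Spec (CommRingCat.of B)).Modules)
    (hF : CohB1.IsFP F) : Module.FinitePresentation B ((Γf B).obj F) :=
  finitePresentation_Γ (CommRingCat.of B) F hF

end FP

section Flat

variable {R B : Type u} [CommRing R] [CommRing B] (φ : R →+* B)
  [PreservesFiniteLimits (tilde.functor (CommRingCat.of B))]

/-- a quasi-coherent module on `Spec B` flat over `Spec R` has global sections flat over `R` -/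
theorem flat_Γf_of_isFlatOver (F : (Spec (CommRingCat.of B)).Modules) [F.IsQuasicoherent]
    (hF : FlatMod.IsFlatOver (fφ φ) F) :
    Module.Flat R ((ModuleCat.restrictScalars φ).obj ((Γf B).obj F)) := by
  set N := (Γf B).obj F with hN
  set K : DRing.Cx B :=
    (HomologicalComplex.single (ModuleCat.{u} B) (ComplexShape.up ℤ) 0).obj N with hK
  haveI : IsIso ((tilde.adjunction (R := CommRingCat.of B)).counit.app F) :=
    Scheme.Modules.isIso_fromTildeΓ_of_isQuasicoherent (R := CommRingCat.of B) F
  have hst : ∀ x : Spec (CommRingCat.of B),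
      DRing.HasTorAmplitudeIn ((Spec (CommRingCat.of R)).presheaf.stalk ((fφ φ).base x)) 0 0
        (DRing.toD ((rsC (μx φ x)).obj ((extC (φx (CommRingCat.of B) x)).obj K))) := by
    intro x
    refine ⟨_, ?_, ?_, ⟨Iso.refl _⟩⟩
    · intro i hi
      have hi' : i ≠ 0 := by omega
      exact (ModuleCat.restrictScalars (μx φ x)).map_isZero
        ((ModuleCat.extendScalars (φx (CommRingCat.of B) x)).map_isZero
          (HomologicalComplex.isZero_single_obj_X (ComplexShape.up ℤ) 0 N i hi'))
    · intro i
      by_cases hi : i = 0
      · subst hi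
        have e1 : K.X 0 ≅ N := HomologicalComplex.singleObjXSelf (ComplexShape.up ℤ) 0 N
        have e2 : (ModuleCat.restrictScalars (μx φ x)).obj
            ((ModuleCat.extendScalars (φx (CommRingCat.of B) x)).obj (K.X 0)) ≅
            (DerSch.stalkOver (fφ φ) x).obj F :=
          (ModuleCat.extendScalars (φx (CommRingCat.of B) x) ⋙
            ModuleCat.restrictScalars (μx φ x)).mapIso e1 ≪≫
          ((stalkOverTildeNatIso φ x).app N).symm ≪≫
          (DerSch.stalkOver (fφ φ) x).mapIso
            (asIso ((tilde.adjunction (R := CommRingCat.of B)).counit.app F))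
        exact flat_of_iso' e2.symm ((isFlatOverAt_iff (fφ φ) F x).mp (hF x))
      · exact flat_of_isZero' ((ModuleCat.restrictScalars (μx φ x)).map_isZero
          ((ModuleCat.extendScalars (φx (CommRingCat.of B) x)).map_isZero
            (HomologicalComplex.isZero_single_obj_X (ComplexShape.up ℤ) 0 N i hi)))
  have h1 := hasTorAmplitudeIn_global_of_stalks φ K 0 0 hst
  have e : DRing.toD ((rsC φ).obj K) ≅
      (DerivedCategory.singleFunctor (ModuleCat.{u} R) 0).obj
        ((ModuleCat.restrictScalars φ).obj N) :=
    DerivedCategory.Q.mapIso ((HomologicalComplex.singleMapHomologicalComplex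
      (ModuleCat.restrictScalars φ) (ComplexShape.up ℤ) 0).app N)
  exact flat_of_torVan_single₀ _ 0 (TA.torVan_of_hasTorAmplitudeIn (hasTorAmplitudeIn_of_iso e h1))

end Flat

end Groth.Agent.Helper5.TBB
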