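import Groth.Agent.Lib.Helper5.TBB3
import Groth.Agent.Lib.Helper5.FBR6
import Groth.Agent.Lib.Helper11.RelPerfFlat

/-!
# Relative perfectness via finitely presented flat models, part 4: a bounded complex of finitely
presented modules flat over the base is pseudo-coherent (for a flat base morphism locally of
finite presentation)
-/

set_option autoImplicit false
set_option linter.unusedSectionVars false
set_option linter.unusedVariables false
set_option linter.style.haveILetI false

universe u

open CategoryTheory CategoryTheory.Limits AlgebraicGeometry TopologicalSpace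

attribute [local instance] HasDerivedCategory.standard

namespace Groth.Agent.Helper5.TBB

open Groth.Agent.Helper13.LocFree Groth.Agent.Helper13.FinPres Groth.Agent.Helper5.TB
  Groth.Agent.Helper5.KF Groth.Agent.Helper5.RPR Groth.Agent.Helper5.TildeSt Groth.Agent.Helper11
  Groth.Agent.Helper5.TBA Groth.Agent.Helper5.RT Groth.Agent.Helper5.PCT Groth.Agent.Helper5.TT

section Postcomp

variable {Y S' S : Scheme.{u}} (g : Y ⟶ S') (i : S' ⟶ S) [IsOpenImmersion i]

/-- flatness over the base is insensitive to composing the base morphism with an open immersion -/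
theorem isFlatOver_of_postcomp (M : Y.Modules) (h : FlatMod.IsFlatOver (g ≫ i) M) :
    FlatMod.IsFlatOver g M := by
  intro y
  rw [isFlatOverAt_iff]
  have h1 := (isFlatOverAt_iff (g ≫ i) M y).mp (h y)
  have h2 : Module.Flat (S.presheaf.stalk (i.base (g.base y)))
      ((ModuleCat.restrictScalars (i.stalkMap (g.base y)).hom).obj
        ((DerSch.stalkOver g y).obj M)) :=
    flat_of_iso' ((stalkOverPostcompIso g i y).app M) h1
  exact Groth.Agent.Helper5.FBR.flat_of_flat_compHom_of_bijective (i.stalkMap (g.base y)).hom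
    (ConcreteCategory.bijective_of_isIso (i.stalkMap (g.base y))) _ h2

end Postcomp

section Main

variable {Y S : Scheme.{u}} (g : Y ⟶ S) [Flat g] [LocallyOfFinitePresentation g]
  [∀ R : CommRingCat.{u}, PreservesFiniteLimits (tilde.functor R)]

/-- a bounded complex of finitely presented modules flat over the base is pseudo-coherent near the
points of an affine open mapping into an affine open of the base -/
theorem pcAt_of_fp_flat_affine (G : CochainComplex Y.Modules ℤ) (a b : ℤ)
    (hv : DCoh.VanishesOutside G a b)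
    (hG : ∀ i : ℤ, CohB1.IsFP (G.X i) ∧ FlatMod.IsFlatOver g (G.X i))
    {U : Y.Opens} (hU : IsAffineOpen U) {V : S.Opens} (hV : IsAffineOpen V) (hUV : U ≤ g ⁻¹ᵁ V)
    (m : ℤ) (y : Y) (hy : y ∈ U) : PCAt m (DerivedCategory.Q.obj G) y := by
  letI alg : Algebra Γ(S, V) Γ(Y, U) := (g.appLE V U hUV).hom.toAlgebra
  haveI hfl : Module.Flat Γ(S, V) Γ(Y, U) := g.flat_appLE hV hU hUV
  haveI hfp : Algebra.FinitePresentation Γ(S, V) Γ(Y, U) :=
    HasRingHomProperty.appLE (P := @LocallyOfFinitePresentation) g inferInstance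
      ⟨V, hV⟩ ⟨U, hU⟩ hUV
  set φ : Spec Γ(Y, U) ⟶ Spec Γ(S, V) := Spec.map (g.appLE V U hUV) with hφ
  have hsq : hU.isoSpec.inv ≫ U.ι ≫ g = φ ≫ hV.fromSpec := by
    rw [← Category.assoc]
    exact (IsAffineOpen.SpecMap_appLE_fromSpec g hV hU hUV).symm
  set GA : CochainComplex (Spec Γ(Y, U)).Modules ℤ :=
    (rCx hU.isoSpec.inv).obj ((rCx U.ι).obj G) with hGA
  have e1 : chart (DerivedCategory.Q.obj G) hU ≅ DerivedCategory.Q.obj GA :=
    (DCoh.restrictD hU.isoSpec.inv).mapIso
      ((Scheme.Modules.restrictFunctor U.ι).mapDerivedCategoryFactors.app G) ≪≫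
    (Scheme.Modules.restrictFunctor hU.isoSpec.inv).mapDerivedCategoryFactors.app _
  have hfpA : ∀ i, CohB1.IsFP (GA.X i) := fun i =>
    isFP_restrict hU.isoSpec.inv _ (isFP_restrict U.ι _ (hG i).1)
  have hq : ∀ i, (GA.X i).IsQuasicoherent := fun i => by
    haveI : SheafOfModules.IsFinitePresentation (R := (Spec Γ(Y, U)).ringCatSheaf) (GA.X i) :=
      hfpA i
    infer_instance
  have hflA : ∀ i, FlatMod.IsFlatOver φ (GA.X i) := fun i => by
    have h1 : FlatMod.IsFlatOver (U.ι ≫ g) ((Scheme.Modules.restrictFunctor U.ι).obj (G.X i)) :=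
      isFlatOver_restrict g U.ι (G.X i) (fun y => (hG i).2 _)
    have h2 : FlatMod.IsFlatOver (hU.isoSpec.inv ≫ U.ι ≫ g) (GA.X i) :=
      isFlatOver_restrict (U.ι ≫ g) hU.isoSpec.inv _ (fun y => h1 _)
    rw [hsq] at h2
    exact isFlatOver_of_postcomp φ hV.fromSpec _ h2
  set N : DRing.Cx Γ(Y, U) := (ΓC Γ(Y, U)).obj GA with hN
  haveI := isIso_counitCx Γ(Y, U) GA hq
  have e2 : (DCoh.tildeD Γ(Y, U)).obj (DerivedCategory.Q.obj N) ≅ DerivedCategory.Q.obj GA :=
    (tilde.functor Γ(Y, U)).mapDerivedCategoryFactors.app N ≪≫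
      DerivedCategory.Q.mapIso (asIso (counitCx Γ(Y, U) GA))
  have hvN : DRing.VanishesOutside N a b := fun i hi =>
    (Γf Γ(Y, U)).map_isZero ((Scheme.Modules.restrictFunctor hU.isoSpec.inv).map_isZero
      ((Scheme.Modules.restrictFunctor U.ι).map_isZero (hv i hi)))
  have hterms : ∀ i : ℤ, Module.FinitePresentation Γ(Y, U) (N.X i) ∧
      Module.Flat Γ(S, V) ((ModuleCat.restrictScalars (algebraMap Γ(S, V) Γ(Y, U))).obj (N.X i)) :=
    fun i => by
      haveI := hq i
      exact ⟨finitePresentation_Γf Γ(Y, U) (GA.X i) (hfpA i),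
        flat_Γf_of_isFlatOver (algebraMap Γ(S, V) Γ(Y, U)) (GA.X i) (hflA i)⟩
  have hrel : Dual2.IsRelPerfect Γ(S, V) Γ(Y, U) (DerivedCategory.Q.obj N) :=
    Groth.Agent.Helper11.RelPerfFlat.relPerfect_of_flat_terms Γ(S, V) Γ(Y, U) _ N a b hvN hterms
      (Iso.refl _)
  exact ((core g (DerivedCategory.Q.obj G) hU hV hUV (DerivedCategory.Q.obj N)
    (e1 ≪≫ e2.symm)).mp hrel).1 m y hy

end Main

end Groth.Agent.Helper5.TBB
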