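import Groth.Agent.Lib.Helper5.TBB4

/-!
# Relative perfectness via finitely presented flat models, part 5: the equivalence
-/

set_option autoImplicit false
set_option linter.unusedSectionVars false
set_option linter.unusedVariables false
set_option linter.style.haveILetI false

universe u

open CategoryTheory CategoryTheory.Limits AlgebraicGeometry TopologicalSpace

attribute [local instance] HasDerivedCategory.standard

namespace Groth.Agent.Helper5.TBB

open Groth.Agent.Helper5.TB Groth.Agent.Helper5.RPR Groth.Agent.Helper11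
  Groth.Agent.Helper5.TBA Groth.Agent.Helper5.RT Groth.Agent.Helper5.PCT Groth.Agent.Helper5.COHP
  Groth.Agent.Helper5.LDer

variable {X S : Scheme.{u}} (f : X ⟶ S) [Flat f] [LocallyOfFinitePresentation f]

/-- an object locally represented by bounded complexes of finitely presented modules flat over the
base is relatively perfect -/
theorem relPerfect_of_local_fp_flat_models
    [∀ R : CommRingCat.{u}, PreservesFiniteLimits (tilde.functor R)] (E : DCoh.D X)
    (H : ∀ x : X, ∃ V : X.Opens, x ∈ V ∧ ∀ F : CochainComplex X.Modules ℤ,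
      Nonempty (DCoh.toD X F ≅ E) →
      ∃ (G : CochainComplex (V : Scheme.{u}).Modules ℤ) (a b : ℤ), DCoh.VanishesOutside G a b ∧
        (∀ i : ℤ, CohB1.IsFP (G.X i) ∧ FlatMod.IsFlatOver (V.ι ≫ f) (G.X i)) ∧
        Nonempty (DerivedCategory.Q.obj ((DCoh.restrictCx V).obj F) ≅ DerivedCategory.Q.obj G)) :
    (∀ m : ℤ, DCoh.IsPseudoCoherentD m E) ∧ DCoh.LocHasFiniteRelTorDim f E := by
  obtain ⟨F₀, ⟨eF₀⟩⟩ : ∃ F : CochainComplex X.Modules ℤ, Nonempty (DCoh.toD X F ≅ E) :=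
    ⟨_, ⟨(DerivedCategory.Q.objObjPreimageIso E)⟩⟩
  constructor
  · intro m x
    obtain ⟨V, hxV, hV⟩ := H x
    obtain ⟨G, a, b, hv, hG, ⟨eG⟩⟩ := hV F₀ ⟨eF₀⟩
    set g : (V : Scheme.{u}) ⟶ S := V.ι ≫ f with hg
    let y : (V : Scheme.{u}) := ⟨x, hxV⟩
    obtain ⟨V', hV', hyV', -⟩ :=
      (Opens.isBasis_iff_nbhd.mp S.isBasis_affineOpens) (show g.base y ∈ (⊤ : S.Opens) from trivial)
    obtain ⟨U, hU, hyU, hUV⟩ :=
      (Opens.isBasis_iff_nbhd.mp (V : Scheme.{u}).isBasis_affineOpens)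
        (show y ∈ g ⁻¹ᵁ V' from hyV')
    have h1 : PCAt m (DerivedCategory.Q.obj G) y :=
      pcAt_of_fp_flat_affine g G a b hv hG hU hV' hUV m y hyU
    have e : DerivedCategory.Q.obj G ≅ (DCoh.restrictD V.ι).obj E :=
      eG.symm ≪≫ ((Scheme.Modules.restrictFunctor V.ι).mapDerivedCategoryFactors.app F₀).symm ≪≫
        (DCoh.restrictD V.ι).mapIso eF₀
    exact pcAt_of_openImmersion V.ι E m y (pcAt_of_iso e h1)
  · intro x
    obtain ⟨V, hxV, hV⟩ := H x
    obtain ⟨G, a, b, hv, hG, ⟨eG⟩⟩ := hV F₀ ⟨eF₀⟩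
    refine ⟨V, a, b, hxV, ?_⟩
    rintro F ⟨eF⟩
    exact ⟨G, hv, fun i => (hG i).2, ⟨eG.symm ≪≫ restrictQIso V.ι (eF₀ ≪≫ eF.symm)⟩⟩

theorem relPerfect_iff_local_fp_flat_models
    [∀ R : CommRingCat.{u}, PreservesFiniteLimits (tilde.functor R)] (E : DCoh.D X) :
    ((∀ m : ℤ, DCoh.IsPseudoCoherentD m E) ∧ DCoh.LocHasFiniteRelTorDim f E) ↔
      ∀ x : X, ∃ V : X.Opens, x ∈ V ∧ ∀ F : CochainComplex X.Modules ℤ,
        Nonempty (DCoh.toD X F ≅ E) →
        ∃ (G : CochainComplex (V : Scheme.{u}).Modules ℤ) (a b : ℤ), DCoh.VanishesOutside G a b ∧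
          (∀ i : ℤ, CohB1.IsFP (G.X i) ∧ FlatMod.IsFlatOver (V.ι ≫ f) (G.X i)) ∧
          Nonempty (DerivedCategory.Q.obj ((DCoh.restrictCx V).obj F) ≅ DerivedCategory.Q.obj G) :=
  ⟨fun h x => exists_local_fp_flat_models f E h.1 h.2 x, relPerfect_of_local_fp_flat_models f E⟩

end Groth.Agent.Helper5.TBB
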