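import Groth.Agent.Lib.Helper5.KFAbs2

/-!
# Connectivity of `P ⊗ a` (abstract form)

If `P ⊗ -` shifts the vanishing range of the cohomology by at most `d`, then `P ⊗ a` is
`(m + d)`-connected for every `m`-connected morphism of complexes `a`.
-/

set_option autoImplicit false
set_option linter.unusedSectionVars false
set_option linter.unusedVariables false
set_option linter.style.haveILetI false

universe v u

open CategoryTheory CategoryTheory.Limits HomologicalComplex

namespace Groth.Agent.Helper5.TPC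

open Groth.Agent.Helper5.KFA

variable {𝒜 : Type u} [Category.{v} 𝒜] [Abelian 𝒜]

/-- chain level `m`-connectedness: iso on `H^i` for `i > m`, epi on `H^m` -/
def CConn (m : ℤ) {K L : CochainComplex 𝒜 ℤ} (a : K ⟶ L) : Prop :=
  (∀ i : ℤ, m < i → IsIso (HomologicalComplex.homologyMap a i)) ∧
    Epi (HomologicalComplex.homologyMap a m)

lemma CConn.epi {m : ℤ} {K L : CochainComplex 𝒜 ℤ} {a : K ⟶ L} (h : CConn m a) (i : ℤ)
    (hi : m ≤ i) : Epi (HomologicalComplex.homologyMap a i) := by
  rcases hi.lt_or_eq with h' | rfl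
  · haveI := h.1 i h'
    infer_instance
  · exact h.2

lemma CConn.mono {m : ℤ} {K L : CochainComplex 𝒜 ℤ} {a : K ⟶ L} (h : CConn m a) (i : ℤ)
    (hi : m < i) : Mono (HomologicalComplex.homologyMap a i) := by
  haveI := h.1 i hi
  infer_instance

lemma cConn_of_quasiIso (m : ℤ) {K L : CochainComplex 𝒜 ℤ} (a : K ⟶ L) [QuasiIso a] :
    CConn m a :=
  ⟨fun i _ => inferInstance, inferInstance⟩

lemma CConn.comp {m : ℤ} {K L M : CochainComplex 𝒜 ℤ} {a : K ⟶ L} {b : L ⟶ M}
    (ha : CConn m a) (hb : CConn m b) : CConn m (a ≫ b) := by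
  refine ⟨fun i hi => ?_, ?_⟩
  · haveI := ha.1 i hi
    haveI := hb.1 i hi
    rw [HomologicalComplex.homologyMap_comp]
    infer_instance
  · haveI := ha.2
    haveI := hb.2
    rw [HomologicalComplex.homologyMap_comp]
    infer_instance

/-- if `a ≫ b` is `m`-connected and `b` is a quasi-isomorphism then `a` is `m`-connected -/
lemma CConn.of_comp_quasiIso {m : ℤ} {K L M : CochainComplex 𝒜 ℤ} {a : K ⟶ L} (b : L ⟶ M)
    [QuasiIso b] (h : CConn m (a ≫ b)) : CConn m a := by
  have key : ∀ i : ℤ, HomologicalComplex.homologyMap a i =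
      HomologicalComplex.homologyMap (a ≫ b) i ≫ inv (HomologicalComplex.homologyMap b i) := by
    intro i
    rw [HomologicalComplex.homologyMap_comp, Category.assoc, IsIso.hom_inv_id, Category.comp_id]
  refine ⟨fun i hi => ?_, ?_⟩
  · haveI := h.1 i hi
    rw [key]
    infer_instance
  · haveI := h.2
    rw [key]
    infer_instance

/-- in a short exact sequence of complexes whose first map is `m`-connected, the cohomology of
the cokernel vanishes in degrees `≥ m` -/
theorem isZero_homology_X₃_of_cConn (S : ShortComplex (CochainComplex 𝒜 ℤ)) (hS : S.ShortExact)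
    (m : ℤ) (h : CConn m S.f) (i : ℤ) (hi : m ≤ i) : IsZero (S.X₃.homology i) := by
  haveI := h.epi i hi
  haveI := h.mono (i + 1) (by omega)
  have hg : HomologicalComplex.homologyMap S.g i = 0 := by
    have : HomologicalComplex.homologyMap S.f i ≫ HomologicalComplex.homologyMap S.g i = 0 := by
      rw [← HomologicalComplex.homologyMap_comp, S.zero, HomologicalComplex.homologyMap_zero]
    exact (cancel_epi (HomologicalComplex.homologyMap S.f i)).mp (by rw [this, comp_zero])
  have hδ : hS.δ i (i + 1) rfl = 0 := by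
    have := hS.δ_comp i (i + 1) rfl
    exact (cancel_mono (HomologicalComplex.homologyMap S.f (i + 1))).mp (by rw [this, zero_comp])
  exact (hS.homology_exact₃ i (i + 1) rfl).isZero_of_both_zeros hg hδ

/-- in a short exact sequence of complexes whose cokernel has vanishing cohomology in
degrees `≥ m`, the first map is `m`-connected -/
theorem cConn_f_of_isZero_homology_X₃ (S : ShortComplex (CochainComplex 𝒜 ℤ))
    (hS : S.ShortExact) (m : ℤ) (h : ∀ i : ℤ, m ≤ i → IsZero (S.X₃.homology i)) :
    CConn m S.f := by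
  have hepi : ∀ i : ℤ, m ≤ i → Epi (HomologicalComplex.homologyMap S.f i) := fun i hi =>
    (hS.homology_exact₂ i).epi_f ((h i hi).eq_of_tgt _ _)
  refine ⟨fun i hi => ?_, hepi m le_rfl⟩
  haveI : Mono (HomologicalComplex.homologyMap S.f i) :=
    (hS.homology_exact₁ (i - 1) i (by simp)).mono_g ((h (i - 1) (by omega)).eq_of_src _ _)
  haveI := hepi i hi.le
  exact isIso_of_mono_of_epi _

variable (T : 𝒜 ⥤ 𝒜 ⥤ 𝒜) [T.Additive] [∀ X, (T.obj X).Additive]
  [∀ (K₁ K₂ : CochainComplex 𝒜 ℤ),
    HomologicalComplex.HasMapBifunctor K₁ K₂ T (ComplexShape.up ℤ)]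

/-- `P ⊗ -` shifts the vanishing range of the cohomology by at most `d` -/
def ShiftsVanishing (P : CochainComplex 𝒜 ℤ) (d : ℤ) : Prop :=
  ∀ (N : CochainComplex 𝒜 ℤ) (n : ℤ), (∀ i : ℤ, n ≤ i → IsZero (N.homology i)) →
    ∀ i : ℤ, n + d ≤ i → IsZero ((tens T P N).homology i)

/-- **Connectivity of `P ⊗ a`.** -/
theorem cConn_tensL (P : CochainComplex 𝒜 ℤ) (d : ℤ) (hP : ShiftsVanishing T P d)
    {L₁ L₂ : CochainComplex 𝒜 ℤ} (a : L₁ ⟶ L₂) (m : ℤ) (ha : CConn m a) :
    CConn (m + d) (tensL T P a) := by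
  haveI : QuasiIso (facπ L₁ L₂) := (facEquiv L₁ L₂).quasiIso_hom
  have h1 : CConn m (facι a) := by
    apply CConn.of_comp_quasiIso (facπ L₁ L₂)
    rw [facι_facπ]
    exact ha
  have hS := facSC_shortExact a
  have h3 : ∀ i : ℤ, m ≤ i → IsZero ((facSC a).X₃.homology i) :=
    isZero_homology_X₃_of_cConn (facSC a) hS m h1
  have hST : (tensSC T P (facSC a)).ShortExact := shortExact_tensSC T P (facSC a) (facSplitting a)
  have h4 : CConn (m + d) (tensL T P (facι a)) :=
    cConn_f_of_isZero_homology_X₃ (tensSC T P (facSC a)) hST (m + d) (hP _ m h3)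
  haveI h5 : QuasiIso (tensL T P (facπ L₁ L₂)) :=
    (tensLHomotopyEquiv T P (facEquiv L₁ L₂)).quasiIso_hom
  have : tensL T P a = tensL T P (facι a) ≫ tensL T P (facπ L₁ L₂) := by
    rw [← tensL_comp, facι_facπ]
  rw [this]
  exact h4.comp (cConn_of_quasiIso _ _)

end Groth.Agent.Helper5.TPC
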