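import Groth.Agent.Lib.Helper5.TRS2
import Groth.Agent.Lib.Helper5.BP1
import Groth.Agent.Lib.Helper5.FPC3

/-!
# Tensor products of finite locally free modules and of strictly perfect complexes
-/

set_option autoImplicit false
set_option linter.unusedSectionVars false
set_option linter.unusedVariables false
set_option linter.style.haveILetI false

universe v u w

open CategoryTheory CategoryTheory.Limits AlgebraicGeometry HomologicalComplex

namespace Groth.Agent.Helper5.TRS

open Groth.Agent.Helper13.LocFree Groth.Agent.Helper5.BP Groth.Agent.Helper5.KFA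

variable {X : Scheme.{u}}

/-- the property of being finite locally free -/
def flfProp (X : Scheme.{u}) : ObjectProperty X.Modules := fun M => FlatMod.IsFinLocFree M

/-- the property of being free of finite rank -/
def freeProp (X : Scheme.{u}) : ObjectProperty X.Modules :=
  fun M => ∃ n : ℕ, Nonempty (M ≅ FlatMod.freeMod X n)

instance : (flfProp X).IsClosedUnderIsomorphisms where
  of_iso e h := isFinLocFree_of_iso e h

instance : (freeProp X).IsClosedUnderIsomorphisms where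
  of_iso e h := by
    obtain ⟨n, ⟨e'⟩⟩ := h
    exact ⟨n, ⟨e.symm ≪≫ e'⟩⟩

instance : (flfProp X).ContainsZero where
  exists_zero := ⟨FlatMod.freeMod X 0, Groth.Agent.Helper5.RT.isZero_freeMod_zero X,
    Groth.Agent.Helper5.FPC.isFinLocFree_of_isZero (Groth.Agent.Helper5.RT.isZero_freeMod_zero X)⟩

instance : (freeProp X).ContainsZero where
  exists_zero := ⟨FlatMod.freeMod X 0, Groth.Agent.Helper5.RT.isZero_freeMod_zero X, 0, ⟨Iso.refl _⟩⟩

lemma binaryCoproducts_of_biprod (P : ObjectProperty X.Modules) [P.IsClosedUnderIsomorphisms]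
    (h : ∀ A B : X.Modules, P A → P B → P (A ⊞ B)) : P.IsClosedUnderBinaryCoproducts where
  colimitsOfShape_le := by
    rintro M ⟨p⟩
    have e : M ≅ p.diag.obj ⟨WalkingPair.left⟩ ⨿ p.diag.obj ⟨WalkingPair.right⟩ :=
      p.isColimit.coconePointsIsoOfNatIso (colimit.isColimit _) (diagramIsoPair p.diag)
    exact P.prop_of_iso (e ≪≫ (biprod.isoCoprod _ _).symm).symm
      (h _ _ (p.prop_diag_obj _) (p.prop_diag_obj _))

instance : (flfProp X).IsClosedUnderBinaryCoproducts :=
  binaryCoproducts_of_biprod _ (fun A B hA hB => isFinLocFree_biprod A B hA hB)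

instance : (freeProp X).IsClosedUnderBinaryCoproducts :=
  binaryCoproducts_of_biprod _ (fun A B hA hB => by
    obtain ⟨a, ⟨eA⟩⟩ := hA
    obtain ⟨b, ⟨eB⟩⟩ := hB
    exact ⟨a + b, ⟨biprod.mapIso eA eB ≪≫ freeModBiprodIso a b⟩⟩)

instance : (flfProp X).IsClosedUnderFiniteCoproducts :=
  ObjectProperty.IsClosedUnderFiniteCoproducts.mk'

instance : (freeProp X).IsClosedUnderFiniteCoproducts :=
  ObjectProperty.IsClosedUnderFiniteCoproducts.mk'

open Classical in
/-- a coproduct of a family supported on a subset is the coproduct over the subset -/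
noncomputable def sigmaIsoOfSupport {C : Type u} [Category.{v} C] [HasZeroMorphisms C]
    {J : Type w} (f : J → C) [HasCoproduct f] (S : Set J) [HasCoproduct (fun s : S => f s.1)]
    (hS : ∀ j, j ∉ S → IsZero (f j)) : ∐ f ≅ ∐ (fun s : S => f s.1) where
  hom := Sigma.desc (fun j => if h : j ∈ S then Sigma.ι (fun s : S => f s.1) ⟨j, h⟩ else 0)
  inv := Sigma.desc (fun s => Sigma.ι f s.1)
  hom_inv_id := by
    apply Sigma.hom_ext
    intro j
    rw [Sigma.ι_desc_assoc, Category.comp_id]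
    by_cases h : j ∈ S
    · rw [dif_pos h, Sigma.ι_desc]
    · exact (hS j h).eq_of_src _ _
  inv_hom_id := by
    apply Sigma.hom_ext
    intro s
    rw [Sigma.ι_desc_assoc, Sigma.ι_desc, Category.comp_id, dif_pos s.2]

lemma prop_sigma_of_finite_support {C : Type u} [Category.{v} C] [HasZeroMorphisms C]
    [HasFiniteCoproducts C]
    (P : ObjectProperty C) [P.IsClosedUnderFiniteCoproducts] [P.IsClosedUnderIsomorphisms]
    {J : Type w} (f : J → C) [HasCoproduct f] (S : Set J) (hfin : S.Finite)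
    (hS : ∀ j, j ∉ S → IsZero (f j)) (h : ∀ j, P (f j)) : P (∐ f) := by
  haveI : Finite S := hfin
  exact P.prop_of_iso (sigmaIsoOfSupport f S hS).symm (P.prop_coproduct (fun s => h s.1))

variable {𝒜 : Type u} [Category.{v} 𝒜] [Abelian 𝒜] (T : 𝒜 ⥤ 𝒜 ⥤ 𝒜) [T.Additive]
  [∀ X, (T.obj X).Additive]
  [∀ (K₁ K₂ : CochainComplex 𝒜 ℤ),
    HomologicalComplex.HasMapBifunctor K₁ K₂ T (ComplexShape.up ℤ)]

lemma isZero_obj_obj_of_isZero_left {Z : 𝒜} (W : 𝒜) (hZ : IsZero Z) :
    IsZero ((T.obj Z).obj W) := by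
  rw [IsZero.iff_id_eq_zero]
  have h1 : 𝟙 Z = 0 := hZ.eq_of_src _ _
  have h2 : (T.map (𝟙 Z)).app W = 0 := by rw [h1, T.map_zero]; rfl
  rw [← h2, T.map_id]; rfl

lemma isZero_obj_obj_of_isZero_right (Z : 𝒜) {W : 𝒜} (hW : IsZero W) :
    IsZero ((T.obj Z).obj W) :=
  (T.obj Z).map_isZero hW

theorem isZero_tens_X (L K : CochainComplex 𝒜 ℤ) (n : ℤ)
    (h : ∀ p q : ℤ, p + q = n → IsZero ((T.obj (L.X p)).obj (K.X q))) :
    IsZero ((tens T L K).X n) := by
  rw [IsZero.iff_id_eq_zero]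
  apply KFA.hom_ext'
  intro p q hpq
  exact (h p q hpq).eq_of_src _ _

theorem prop_tens_X (P : ObjectProperty 𝒜) [P.IsClosedUnderFiniteCoproducts]
    [P.IsClosedUnderIsomorphisms] (L K : CochainComplex 𝒜 ℤ) (a b : ℤ)
    (hL : ∀ i : ℤ, i < a ∨ b < i → IsZero (L.X i))
    (hP : ∀ p q : ℤ, P ((T.obj (L.X p)).obj (K.X q))) (n : ℤ)
    [HasCoproduct (fun i : BiComm.Idx n => (BiComm.gr (T := T) L K) i.1)] :
    P ((tens T L K).X n) := by
  have hc := (BiComm.gr (T := T) L K).isColimitCofanMapObj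
      (ComplexShape.π (ComplexShape.up ℤ) (ComplexShape.up ℤ) (ComplexShape.up ℤ)) n
  have e : ∐ (fun i : BiComm.Idx n => (BiComm.gr (T := T) L K) i.1) ≅ (tens T L K).X n :=
    IsColimit.coconePointUniqueUpToIso (coproductIsCoproduct _) hc
  refine P.prop_of_iso e ?_
  refine prop_sigma_of_finite_support P _ {i : BiComm.Idx n | a ≤ i.1.1 ∧ i.1.1 ≤ b} ?_ ?_ ?_
  · have hinj : Function.Injective (fun i : BiComm.Idx n => i.1.1) := by
      intro i i' h
      have h1 := i.sum
      have h2 := i'.sum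
      simp only at h
      apply Subtype.ext
      apply Prod.ext h
      omega
    exact Set.Finite.preimage hinj.injOn (Set.finite_Icc a b)
  · intro i hi
    apply isZero_obj_obj_of_isZero_left
    apply hL
    simp only [Set.mem_ofPred_eq, not_and_or, not_le] at hi
    exact hi
  · intro i
    exact hP _ _

/-- `A ⊗ O^k` is free when `A` is free -/
theorem freeProp_tensor_freeMod (A : X.Modules) (hA : freeProp X A) (k : ℕ) :
    freeProp X ((DCoh.tensorBi.obj A).obj (FlatMod.freeMod X k)) := by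
  have e1 : (DCoh.tensorBi.obj A).obj (FlatMod.freeMod X k) ≅
      ∐ (fun _ : Fin k => (DCoh.tensorBi.obj A).obj (Coh.structureModule X)) :=
    PreservesCoproduct.iso (DCoh.tensorBi.obj A) (fun _ : Fin k => Coh.structureModule X)
  have e2 : (DCoh.tensorBi.obj A).obj (Coh.structureModule X) ≅ A :=
    Groth.Agent.Helper13.Tensor.rid A
  refine (freeProp X).prop_of_iso e1.symm ((freeProp X).prop_coproduct (fun _ => ?_))
  exact (freeProp X).prop_of_iso e2.symm hA

/-- the tensor product of finite locally free modules is finite locally free -/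
theorem isFinLocFree_tensor (M N : X.Modules) (hM : FlatMod.IsFinLocFree M)
    (hN : FlatMod.IsFinLocFree N) : FlatMod.IsFinLocFree ((DCoh.tensorBi.obj M).obj N) := by
  intro x
  obtain ⟨U₁, n₁, hx₁, ⟨e₁⟩⟩ := hM x
  obtain ⟨U₂, n₂, hx₂, ⟨e₂⟩⟩ := hN x
  obtain ⟨e₁'⟩ := Groth.Agent.Helper5.RT.free_of_le M (inf_le_left : U₁ ⊓ U₂ ≤ U₁) n₁ e₁
  obtain ⟨e₂'⟩ := Groth.Agent.Helper5.RT.free_of_le N (inf_le_right : U₁ ⊓ U₂ ≤ U₂) n₂ e₂
  have h1 : freeProp _ ((DCoh.tensorBi.obj (FlatMod.freeMod (↑(U₁ ⊓ U₂)) n₁)).obj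
      (FlatMod.freeMod (↑(U₁ ⊓ U₂)) n₂)) :=
    freeProp_tensor_freeMod _ ⟨n₁, ⟨Iso.refl _⟩⟩ n₂
  obtain ⟨n, ⟨e⟩⟩ := h1
  refine ⟨U₁ ⊓ U₂, n, ⟨hx₁, hx₂⟩, ⟨?_⟩⟩
  exact Groth.Agent.Helper13.Tensor.restrictIso (U₁ ⊓ U₂).ι M N ≪≫
    Groth.Agent.Helper13.Tensor.mapIso e₁' e₂' ≪≫ e

/-- the tensor product of strictly perfect complexes is strictly perfect -/
theorem isStrictlyPerfect_tensor (P P' : CochainComplex X.Modules ℤ)
    (hP : DCoh.IsStrictlyPerfect P) (hP' : DCoh.IsStrictlyPerfect P') :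
    DCoh.IsStrictlyPerfect ((DCoh.tensorCx.obj P).obj P') := by
  obtain ⟨⟨a, b, hv⟩, hf⟩ := hP
  obtain ⟨⟨a', b', hv'⟩, hf'⟩ := hP'
  refine ⟨⟨a + a', b + b', ?_⟩, ?_⟩
  · intro n hn
    apply isZero_tens_X DCoh.tensorBi P P' n
    intro p q hpq
    by_cases hp : p < a ∨ b < p
    · exact isZero_obj_obj_of_isZero_left DCoh.tensorBi _ (hv p hp)
    · apply isZero_obj_obj_of_isZero_right DCoh.tensorBi
      apply hv'
      simp only [not_or, not_lt] at hp
      omega
  · intro n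
    exact prop_tens_X DCoh.tensorBi (flfProp X) P P' a b hv
      (fun p q => isFinLocFree_tensor _ _ (hf p) (hf' q)) n

end Groth.Agent.Helper5.TRS
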