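import Groth.Agent.Lib.Helper5.TPC1
import Groth.Agent.Lib.Helper5.CXB2
import Groth.Agent.Lib.Helper5.TRS3
import Groth.Agent.Lib.Helper5.PCT2

/-!
# Connectivity of `P ⊗ a` for a bounded above K-flat complex `P` of modules on a scheme
-/

set_option autoImplicit false
set_option linter.unusedSectionVars false
set_option linter.unusedVariables false
set_option linter.style.haveILetI false

universe u

open CategoryTheory CategoryTheory.Limits AlgebraicGeometry

attribute [local instance] HasDerivedCategory.standard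

namespace Groth.Agent.Helper5.TPC

open Groth.Agent.Helper5.KFA Groth.Agent.Helper5.CXB Groth.Agent.Helper5.TRS
  Groth.Agent.Helper5.PC Groth.Agent.Helper5.PCT

variable {X : Scheme.{u}}

/-- `P ⊗ -` preserves quasi-isomorphisms for `P` K-flat -/
theorem quasiIso_tensL_of_isKFlat (P : CochainComplex X.Modules ℤ) (hP : DCoh.IsKFlat P)
    {N N' : CochainComplex X.Modules ℤ} (g : N ⟶ N') (hg : QuasiIso g) :
    QuasiIso ((DCoh.tensorCx.obj P).map g) := by
  have h1 : QuasiIso ((DCoh.tensorCx.map g).app P) :=
    KFA.IsKFl.quasiIso_tensR (T := DCoh.tensorBi) (K := P) hP g hg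
  have nat := braidCx_naturality_left P g
  haveI : QuasiIso (braidCx N P).hom := inferInstance
  haveI : QuasiIso (braidCx N' P).hom := inferInstance
  have h2 : QuasiIso ((braidCx N P).hom ≫ (DCoh.tensorCx.obj P).map g) := by
    rw [← nat]
    exact quasiIso_comp _ _
  exact (quasiIso_iff_comp_left (braidCx N P).hom _).mp h2

/-- a K-flat complex vanishing in degrees `> d` shifts the vanishing range of the cohomology by
at most `d` -/
theorem shiftsVanishing_of_isKFlat (P : CochainComplex X.Modules ℤ) (hP : DCoh.IsKFlat P) (d : ℤ)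
    (hd : ∀ p : ℤ, d < p → IsZero (P.X p)) : ShiftsVanishing (DCoh.tensorBi (X := X)) P d := by
  intro N n hN i hi
  haveI : N.IsLE (n - 1) := by
    rw [CochainComplex.isLE_iff]
    intro j hj
    rw [HomologicalComplex.exactAt_iff_isZero_homology]
    exact hN j (by omega)
  have hq : QuasiIso ((DCoh.tensorCx.obj P).map (N.ιTruncLE (n - 1))) :=
    quasiIso_tensL_of_isKFlat P hP _ inferInstance
  have hz : IsZero (((DCoh.tensorCx.obj P).obj (N.truncLE (n - 1))).X i) := by
    apply isZero_tens_X (DCoh.tensorBi (X := X))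
    intro p q hpq
    by_cases hp : d < p
    · exact isZero_obj_obj_of_isZero_left _ _ (hd p hp)
    · exact isZero_obj_obj_of_isZero_right _ _
        ((N.truncLE (n - 1)).isZero_of_isStrictlyLE (n - 1) q (by omega))
  have hz' : IsZero (((DCoh.tensorCx.obj P).obj (N.truncLE (n - 1))).homology i) := by
    rw [← HomologicalComplex.exactAt_iff_isZero_homology]
    exact HomologicalComplex.ExactAt.of_isZero hz
  haveI := hq
  exact IsZero.of_iso hz' (asIso (HomologicalComplex.homologyMap
    ((DCoh.tensorCx.obj P).map (N.ιTruncLE (n - 1))) i)).symm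

/-- `P ⊗ a` is `(m + d)`-connected in the derived category when `a` is `m`-connected -/
theorem isConn_Q_map_tensL (P : CochainComplex X.Modules ℤ) (hP : DCoh.IsKFlat P) (d : ℤ)
    (hd : ∀ p : ℤ, d < p → IsZero (P.X p)) {L₁ L₂ : CochainComplex X.Modules ℤ} (a : L₁ ⟶ L₂)
    (m : ℤ) (ha : IsConn m (DerivedCategory.Q.map a)) :
    IsConn (m + d) (DerivedCategory.Q.map ((DCoh.tensorCx.obj P).map a)) := by
  rw [isConn_Q_map_iff] at ha ⊢
  exact cConn_tensL (DCoh.tensorBi (X := X)) P d (shiftsVanishing_of_isKFlat P hP d hd) a m ha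

end Groth.Agent.Helper5.TPC
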