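import Groth.Agent.Lib.Helper5.TPC2
import Groth.Agent.Lib.Helper5.RPR3

/-!
# Tensoring with a strictly perfect complex: invariance and relative flatness
-/

set_option autoImplicit false
set_option linter.unusedSectionVars false
set_option linter.unusedVariables false
set_option linter.style.haveILetI false

universe v' u' u

open CategoryTheory CategoryTheory.Limits AlgebraicGeometry TensorProduct MonoidalCategory

attribute [local instance] HasDerivedCategory.standard

namespace Groth.Agent.Helper5.TPC

open Groth.Agent.Helper5.KFA Groth.Agent.Helper5.CXB Groth.Agent.Helper5.TRS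
  Groth.Agent.Helper5.PC Groth.Agent.Helper5.PCT Groth.Agent.Helper5.LDer
  Groth.Agent.Helper5.StalkCx Groth.Agent.Helper5.RPR

section Inv

variable {X : Scheme.{u}} {H : Type u'} [Category.{v'} H]

/-- a functor inverting quasi-isomorphisms between K-flat complexes sends K-flat complexes
isomorphic in the derived category to isomorphic objects -/
theorem nonempty_iso_of_invertsKFlatQis (F : CochainComplex X.Modules ℤ ⥤ H)
    (hF : InvertsKFlatQis F) {A B : CochainComplex X.Modules ℤ} (hA : DCoh.IsKFlat A)
    (hB : DCoh.IsKFlat B) (e : DerivedCategory.Q.obj A ≅ DerivedCategory.Q.obj B) :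
    Nonempty (F.obj A ≅ F.obj B) := by
  haveI := hasLeftDerivedFunctor_cx F hF
  set LF := F.totalLeftDerived DerivedCategory.Q
    (HomologicalComplex.quasiIso X.Modules (ComplexShape.up ℤ)) with hLF
  set α := F.totalLeftDerivedCounit DerivedCategory.Q
    (HomologicalComplex.quasiIso X.Modules (ComplexShape.up ℤ)) with hα
  haveI hA' : IsIso (α.app A) := isIso_counit_cx F hF LF α A hA
  haveI hB' : IsIso (α.app B) := isIso_counit_cx F hF LF α B hB
  exact ⟨(asIso (α.app A)).symm ≪≫ LF.mapIso e ≪≫ asIso (α.app B)⟩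

/-- `Q (A ⊗ M) ≅ Q (B ⊗ M)` for `A`, `B` K-flat and isomorphic in the derived category -/
theorem nonempty_tensQIso_of_kflat (M : CochainComplex X.Modules ℤ)
    {A B : CochainComplex X.Modules ℤ} (hA : DCoh.IsKFlat A)
    (hB : DCoh.IsKFlat B) (e : DerivedCategory.Q.obj A ≅ DerivedCategory.Q.obj B) :
    Nonempty (DerivedCategory.Q.obj ((DCoh.tensorCx.obj A).obj M) ≅
      DerivedCategory.Q.obj ((DCoh.tensorCx.obj B).obj M)) :=
  nonempty_iso_of_invertsKFlatQis (DCoh.tensorCxQ M) (invertsKFlatQis_tensorCxQ M) hA hB e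

/-- `Q (P ⊗ N) ≅ Q (P ⊗ N')` for `P` K-flat and `N`, `N'` isomorphic in the derived category -/
noncomputable def tensQIsoLeftOfKFlat (P : CochainComplex X.Modules ℤ) (hP : DCoh.IsKFlat P)
    {N N' : CochainComplex X.Modules ℤ} (e : DerivedCategory.Q.obj N ≅ DerivedCategory.Q.obj N') :
    DerivedCategory.Q.obj ((DCoh.tensorCx.obj P).obj N) ≅
      DerivedCategory.Q.obj ((DCoh.tensorCx.obj P).obj N') :=
  DerivedCategory.Q.mapIso (braidCx P N) ≪≫ tensQIsoRight P hP e ≪≫
    DerivedCategory.Q.mapIso (braidCx N' P)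

end Inv

section Ring

variable {R O : Type u} [CommRing R] [CommRing O] (φ : R →+* O)

lemma flat_rs_of_iso {M N : ModuleCat.{u} O} (e : M ≅ N)
    (h : Module.Flat R ((ModuleCat.restrictScalars φ).obj N)) :
    Module.Flat R ((ModuleCat.restrictScalars φ).obj M) := by
  haveI := h
  exact Module.Flat.of_linearEquiv ((ModuleCat.restrictScalars φ).mapIso e).toLinearEquiv

lemma flat_rs_finsupp (B : ModuleCat.{u} O) (ι : Type u)
    (h : Module.Flat R ((ModuleCat.restrictScalars φ).obj B)) :
    Module.Flat R ((ModuleCat.restrictScalars φ).obj (ModuleCat.of O (ι →₀ B))) := by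
  classical
  let M := (ModuleCat.restrictScalars φ).obj B
  haveI : Module.Flat R M := h
  let e : ((ModuleCat.restrictScalars φ).obj (ModuleCat.of O (ι →₀ B))) ≃ₗ[R] (ι →₀ M) :=
    { toFun := fun f => (show ι →₀ B from f)
      invFun := fun f => (show ι →₀ B from f)
      map_add' := fun _ _ => rfl
      map_smul' := fun r f => by
        ext i
        rfl
      left_inv := fun _ => rfl
      right_inv := fun _ => rfl }
  haveI : Module.Flat R (ι →₀ M) := Module.Flat.of_linearEquiv (finsuppLequivDFinsupp R)
  exact Module.Flat.of_linearEquiv e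

/-- `A ⊗_O B` is flat over `R` if `A` is free over `O` and `B` is flat over `R` -/
theorem flat_rs_tensor_of_free (A B : ModuleCat.{u} O) [Module.Free O A]
    (hB : Module.Flat R ((ModuleCat.restrictScalars φ).obj B)) :
    Module.Flat R ((ModuleCat.restrictScalars φ).obj
      (((curriedTensor (ModuleCat.{u} O)).obj A).obj B)) := by
  let ι := Module.Free.ChooseBasisIndex O A
  let b := Module.Free.chooseBasis O A
  let e : (A ⊗[O] B) ≃ₗ[O] (ι →₀ B) :=
    (TensorProduct.congr b.repr (LinearEquiv.refl O B)) ≪≫ₗ TensorProduct.finsuppScalarLeft O B ι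
  exact flat_rs_of_iso φ (M := ((curriedTensor (ModuleCat.{u} O)).obj A).obj B)
    (N := ModuleCat.of O (ι →₀ B)) e.toModuleIso (flat_rs_finsupp φ B ι hB)

end Ring

section Sch

variable {Y S : Scheme.{u}} (g : Y ⟶ S)

/-- the tensor product of a finite locally free module with a module flat over the base is flat
over the base -/
theorem isFlatOver_tensor_of_isFinLocFree (A B : Y.Modules) (hA : FlatMod.IsFinLocFree A)
    (hB : FlatMod.IsFlatOver g B) : FlatMod.IsFlatOver g ((DCoh.tensorBi.obj A).obj B) := by
  intro y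
  rw [isFlatOverAt_iff]
  haveI := Groth.Agent.Helper5.FPC.isQuasicoherent_of_isFinLocFree _ hA
  haveI hfree : Module.Free (Y.presheaf.stalk y) ((DerSch.stalkFunctor Y y).obj A) :=
    Groth.Agent.Helper13.LocFree.free_stalk_of_isFinLocFree A hA y
  have hBy : Module.Flat (S.presheaf.stalk (g.base y))
      ((ModuleCat.restrictScalars (g.stalkMap y).hom).obj ((DerSch.stalkFunctor Y y).obj B)) :=
    (isFlatOverAt_iff g B y).mp (hB y)
  exact flat_rs_of_iso (g.stalkMap y).hom (stalkTensorIso y A B)
    (flat_rs_tensor_of_free (g.stalkMap y).hom ((DerSch.stalkFunctor Y y).obj A)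
      ((DerSch.stalkFunctor Y y).obj B) hBy)

/-- the property of being flat over the base -/
def flatOverProp : ObjectProperty Y.Modules := fun M => FlatMod.IsFlatOver g M

end Sch

end Groth.Agent.Helper5.TPC

namespace Groth.Agent.Helper5.TPC

open Groth.Agent.Helper5.RPR

section FlatProd

theorem flat_prod {R : Type u} [CommRing R] (M N : Type u) [AddCommGroup M] [AddCommGroup N]
    [Module R M] [Module R N] [Module.Flat R M] [Module.Flat R N] : Module.Flat R (M × N) := by
  rw [Module.Flat.iff_lTensor_injectiveₛ]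
  intro P _ _ Q
  have h1 : Function.Injective (Q.subtype.lTensor M) :=
    Module.Flat.lTensor_preserves_injective_linearMap _ Subtype.val_injective
  have h2 : Function.Injective (Q.subtype.lTensor N) :=
    Module.Flat.lTensor_preserves_injective_linearMap _ Subtype.val_injective
  have key : (TensorProduct.prodLeft R R M N P).toLinearMap ∘ₗ (Q.subtype.lTensor (M × N)) =
      (LinearMap.prodMap (Q.subtype.lTensor M) (Q.subtype.lTensor N)) ∘ₗ
        (TensorProduct.prodLeft R R M N Q).toLinearMap := by
    apply TensorProduct.ext'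
    rintro ⟨m, n⟩ q
    simp
  have h3 : Function.Injective ((TensorProduct.prodLeft R R M N P).toLinearMap ∘ₗ
      (Q.subtype.lTensor (M × N))) := by
    rw [key]
    exact (Function.Injective.prodMap h1 h2).comp (TensorProduct.prodLeft R R M N Q).injective
  rw [LinearMap.coe_comp] at h3
  exact Function.Injective.of_comp h3

end FlatProd

section Sch2

variable {Y S : Scheme.{u}} (g : Y ⟶ S)

theorem isFlatOver_biprod (A B : Y.Modules) (hA : FlatMod.IsFlatOver g A)
    (hB : FlatMod.IsFlatOver g B) : FlatMod.IsFlatOver g (A ⊞ B) := by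
  intro y
  rw [isFlatOverAt_iff]
  haveI : Module.Flat (S.presheaf.stalk (g.base y)) ((DerSch.stalkOver g y).obj A) :=
    (isFlatOverAt_iff g A y).mp (hA y)
  haveI : Module.Flat (S.presheaf.stalk (g.base y)) ((DerSch.stalkOver g y).obj B) :=
    (isFlatOverAt_iff g B y).mp (hB y)
  haveI := flat_prod (R := S.presheaf.stalk (g.base y)) ((DerSch.stalkOver g y).obj A)
    ((DerSch.stalkOver g y).obj B)
  haveI : PreservesBinaryBiproducts (DerSch.stalkOver g y) :=
    preservesBinaryBiproducts_of_preservesBiproducts _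
  haveI : PreservesBinaryBiproduct A B (DerSch.stalkOver g y) :=
    PreservesBinaryBiproducts.preserves
  let e : (DerSch.stalkOver g y).obj (A ⊞ B) ≅ ModuleCat.of (S.presheaf.stalk (g.base y))
      (((DerSch.stalkOver g y).obj A) × ((DerSch.stalkOver g y).obj B)) :=
    (DerSch.stalkOver g y).mapBiprod A B ≪≫ ModuleCat.biprodIsoProd _ _
  exact Module.Flat.of_linearEquiv e.toLinearEquiv

instance : (flatOverProp g).IsClosedUnderIsomorphisms where
  of_iso e h := isFlatOver_of_iso g e h

instance : (flatOverProp g).ContainsZero where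
  exists_zero := by
    obtain ⟨Z, hZ⟩ := (HasZeroObject.zero : ∃ Z : Y.Modules, IsZero Z)
    exact ⟨Z, hZ, isFlatOver_of_isZero g hZ⟩

instance : (flatOverProp g).IsClosedUnderBinaryCoproducts :=
  Groth.Agent.Helper5.TRS.binaryCoproducts_of_biprod _
    (fun A B hA hB => isFlatOver_biprod g A B hA hB)

instance : (flatOverProp g).IsClosedUnderFiniteCoproducts :=
  ObjectProperty.IsClosedUnderFiniteCoproducts.mk'

/-- the terms of `P ⊗ E` are flat over the base if `P` is strictly perfect and the terms of `E` are
flat over the base -/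
theorem isFlatOver_tens_X (P E : CochainComplex Y.Modules ℤ) (hP : DCoh.IsStrictlyPerfect P)
    (hE : ∀ i : ℤ, FlatMod.IsFlatOver g (E.X i)) (n : ℤ) :
    FlatMod.IsFlatOver g (((DCoh.tensorCx.obj P).obj E).X n) := by
  obtain ⟨⟨a, b, hv⟩, hf⟩ := hP
  exact Groth.Agent.Helper5.TRS.prop_tens_X DCoh.tensorBi (flatOverProp g) P E a b hv
    (fun p q => isFlatOver_tensor_of_isFinLocFree g _ _ (hf p) (hE q)) n

/-- vanishing of `P ⊗ E` outside the sum of the ranges -/
theorem vanishesOutside_tens (P E : CochainComplex Y.Modules ℤ) (a b a' b' : ℤ)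
    (hv : DCoh.VanishesOutside P a b) (hv' : DCoh.VanishesOutside E a' b') :
    DCoh.VanishesOutside ((DCoh.tensorCx.obj P).obj E) (a + a') (b + b') := by
  intro n hn
  apply Groth.Agent.Helper5.TRS.isZero_tens_X DCoh.tensorBi P E n
  intro p q hpq
  by_cases hp : p < a ∨ b < p
  · exact Groth.Agent.Helper5.TRS.isZero_obj_obj_of_isZero_left DCoh.tensorBi _ (hv p hp)
  · apply Groth.Agent.Helper5.TRS.isZero_obj_obj_of_isZero_right DCoh.tensorBi
    apply hv'
    simp only [not_or, not_lt] at hp
    omega

end Sch2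

end Groth.Agent.Helper5.TPC
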