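import Groth.Agent.Lib.Helper5.TRS3
import Groth.Agent.Lib.Helper5.PRF1

/-!
# The derived tensor product of perfect objects is perfect
-/

set_option autoImplicit false
set_option linter.unusedSectionVars false
set_option linter.unusedVariables false
set_option linter.style.haveILetI false

universe u

open CategoryTheory CategoryTheory.Limits AlgebraicGeometry

attribute [local instance] HasDerivedCategory.standard

namespace Groth.Agent.Helper5.TRS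

open Groth.Agent.Helper5.StalkCx Groth.Agent.Helper5.LDer Groth.Agent.Helper5.RT
  Groth.Agent.Helper5.BP Groth.Agent.Helper5.PRF

variable {X : Scheme.{u}}

/-- `Q (G ⊗ L)` is perfect if `Q G` and `Q L` are perfect and `L` is K-flat -/
theorem perfAt_Q_tensor (G L : CochainComplex X.Modules ℤ) (hL : DCoh.IsKFlat L)
    (hG : DCoh.IsPerfect (DerivedCategory.Q.obj G)) (hLp : DCoh.IsPerfect (DerivedCategory.Q.obj L))
    (x : X) : PerfAt (DerivedCategory.Q.obj ((DCoh.tensorCx.obj G).obj L)) x := by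
  obtain ⟨V₁, hx₁, hV₁⟩ := hG x
  obtain ⟨V₂, hx₂, hV₂⟩ := hLp x
  obtain ⟨P₁, hP₁, ⟨e₁⟩⟩ := hV₁ G ⟨Iso.refl _⟩
  obtain ⟨P₂, hP₂, ⟨e₂⟩⟩ := hV₂ L ⟨Iso.refl _⟩
  have hx : x ∈ V₁ ⊓ V₂ := ⟨hx₁, hx₂⟩
  have m₁ := modelRestrict (inf_le_left : V₁ ⊓ V₂ ≤ V₁) e₁
  have m₂ := modelRestrict (inf_le_right : V₁ ⊓ V₂ ≤ V₂) e₂
  have hP := isStrictlyPerfect_restrict (X.homOfLE (inf_le_left : V₁ ⊓ V₂ ≤ V₁)) P₁ hP₁
  have hP' := isStrictlyPerfect_restrict (X.homOfLE (inf_le_right : V₁ ⊓ V₂ ≤ V₂)) P₂ hP₂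
  have hLV := isKFlat_restrict (V₁ ⊓ V₂).ι L hL
  obtain ⟨r4⟩ := nonempty_tensQIsoLeft ((rCx (X.homOfLE (inf_le_left : V₁ ⊓ V₂ ≤ V₁))).obj P₁)
    hLV (isKFlat_of_isStrictlyPerfect _ hP') m₂
  have r3 := tensQIsoRight _ hLV m₁
  have r2 := DerivedCategory.Q.mapIso (restrictTensIso (V₁ ⊓ V₂).ι G L).symm
  have r1 := (Scheme.Modules.restrictFunctor (V₁ ⊓ V₂).ι).mapDerivedCategoryFactors.app
    ((DCoh.tensorCx.obj G).obj L)
  have hperf : PerfAt ((DCoh.restrictD (V₁ ⊓ V₂).ι).obj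
      (DerivedCategory.Q.obj ((DCoh.tensorCx.obj G).obj L))) ⟨x, hx⟩ :=
    perfAt_of_iso (r1 ≪≫ r2 ≪≫ r3 ≪≫ r4).symm
      (perfAt_Q_of_isStrictlyPerfect _ (isStrictlyPerfect_tensor _ _ hP hP') ⟨x, hx⟩)
  exact perfAt_of_openImmersion (V₁ ⊓ V₂).ι _ ⟨x, hx⟩ hperf

/-- the derived tensor product of a perfect object with a K-flat complex representing a perfect
object is perfect -/
theorem isPerfect_LTensorCx (L : CochainComplex X.Modules ℤ) (hL : DCoh.IsKFlat L)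
    (hLp : DCoh.IsPerfect (DerivedCategory.Q.obj L)) [DCoh.HasLTensorCx L] (K : DCoh.D X)
    (hK : DCoh.IsPerfect K) : DCoh.IsPerfect ((DCoh.LTensorCx L).obj K) := by
  rw [isPerfect_iff_forall_perfAt]
  intro x
  have e₀ : DerivedCategory.Q.obj (DerivedCategory.Q.objPreimage K) ≅ K :=
    DerivedCategory.Q.objObjPreimageIso K
  have eT : (DCoh.LTensorCx L).obj K ≅ DerivedCategory.Q.obj
      ((DCoh.tensorCx.obj (DerivedCategory.Q.objPreimage K)).obj L) :=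
    (DCoh.LTensorCx L).mapIso e₀.symm ≪≫ LTensorCxObjIso L hL _
  exact perfAt_of_iso eT.symm
    (perfAt_Q_tensor _ L hL (isPerfect_of_iso e₀.symm hK) hLp x)

end Groth.Agent.Helper5.TRS
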