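import Groth.Agent.Lib.Helper5.TPC3
import Groth.Agent.Lib.Helper5.TRS4
import Groth.Agent.Lib.Helper5.PCT6

/-!
# `K ⊗^L M` for `K` perfect: pseudo-coherence and relative tor dimension
-/

set_option autoImplicit false
set_option linter.unusedSectionVars false
set_option linter.unusedVariables false
set_option linter.style.haveILetI false

universe u

open CategoryTheory CategoryTheory.Limits AlgebraicGeometry

attribute [local instance] HasDerivedCategory.standard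

namespace Groth.Agent.Helper5.TPC

open Groth.Agent.Helper5.KFA Groth.Agent.Helper5.CXB Groth.Agent.Helper5.TRS
  Groth.Agent.Helper5.PC Groth.Agent.Helper5.PCT Groth.Agent.Helper5.LDer
  Groth.Agent.Helper5.StalkCx Groth.Agent.Helper5.RPR Groth.Agent.Helper5.RT
  Groth.Agent.Helper5.BP Groth.Agent.Helper5.FPC

variable {X : Scheme.{u}}

/-- local model of `A ⊗ M` for `A` K-flat and locally strictly perfect -/
theorem nonempty_local_tensor_model (A M : CochainComplex X.Modules ℤ) (hA : DCoh.IsKFlat A)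
    {U : Scheme.{u}} (j : U ⟶ X) [IsOpenImmersion j]
    (P : CochainComplex U.Modules ℤ) (hP : DCoh.IsStrictlyPerfect P)
    (e : DerivedCategory.Q.obj ((rCx j).obj A) ≅ DerivedCategory.Q.obj P) :
    Nonempty (DerivedCategory.Q.obj ((rCx j).obj ((DCoh.tensorCx.obj A).obj M)) ≅
      DerivedCategory.Q.obj ((DCoh.tensorCx.obj P).obj ((rCx j).obj M))) := by
  have hAj := isKFlat_restrict j A hA
  have hPk := isKFlat_of_isStrictlyPerfect P hP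
  obtain ⟨r⟩ := nonempty_tensQIso_of_kflat ((rCx j).obj M) hAj hPk e
  exact ⟨DerivedCategory.Q.mapIso (restrictTensIso j A M).symm ≪≫ r⟩

/-- `A ⊗ M` is pseudo-coherent for `A` K-flat perfect and `M` pseudo-coherent -/
theorem pcAt_Q_tensor (A M : CochainComplex X.Modules ℤ) (hA : DCoh.IsKFlat A)
    (hAp : DCoh.IsPerfect (DerivedCategory.Q.obj A))
    (hM : ∀ m : ℤ, DCoh.IsPseudoCoherentD m (DerivedCategory.Q.obj M)) (m : ℤ) (x : X) :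
    PCAt m (DerivedCategory.Q.obj ((DCoh.tensorCx.obj A).obj M)) x := by
  obtain ⟨V₁, hx₁, hV₁⟩ := hAp x
  obtain ⟨P₁, hP₁, ⟨e₁⟩⟩ := hV₁ A ⟨Iso.refl _⟩
  obtain ⟨⟨c, d, hv⟩, hfl⟩ := id hP₁
  obtain ⟨V₂, hx₂, P₂, a₂, hP₂, ha₂⟩ := exists_chain_model_at M (m - d) x (hM (m - d) x)
  have hx : x ∈ V₁ ⊓ V₂ := ⟨hx₁, hx₂⟩
  have hP := isStrictlyPerfect_restrict (X.homOfLE (inf_le_left : V₁ ⊓ V₂ ≤ V₁)) P₁ hP₁
  have eP := modelRestrict (inf_le_left : V₁ ⊓ V₂ ≤ V₁) e₁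
  have hP' := isStrictlyPerfect_restrict (X.homOfLE (inf_le_right : V₁ ⊓ V₂ ≤ V₂)) P₂ hP₂
  have ha := isConn_restrict_chain (inf_le_right : V₁ ⊓ V₂ ≤ V₂) M a₂ (m - d) ha₂
  have hd : ∀ p : ℤ, d < p →
      IsZero (((rCx (X.homOfLE (inf_le_left : V₁ ⊓ V₂ ≤ V₁))).obj P₁).X p) := fun p hp =>
    (Scheme.Modules.restrictFunctor _).map_isZero (hv p (Or.inr hp))
  have hconn := isConn_Q_map_tensL _ (isKFlat_of_isStrictlyPerfect _ hP) d hd _ (m - d) ha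
  obtain ⟨r⟩ := nonempty_local_tensor_model A M hA (V₁ ⊓ V₂).ι _ hP eP
  have hmd : m - d + d = m := by omega
  rw [hmd] at hconn
  have hα := hconn.comp (isConn_iso_inv r m)
  refine ⟨(V₁ ⊓ V₂).ι.opensRange, ⟨⟨x, hx⟩, rfl⟩, ?_⟩
  rintro F ⟨eF⟩
  obtain ⟨α', hα'⟩ := exists_transfer_conn (V₁ ⊓ V₂).ι eF _ m hα
  exact ⟨_, α', isStrictlyPerfect_restrict _ _ (isStrictlyPerfect_tensor _ _ hP hP'),
    hα'.1, hα'.2⟩

variable {S : Scheme.{u}} (f : X ⟶ S)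

/-- `A ⊗ M` has locally finite relative tor dimension for `A` K-flat perfect and `M` of locally
finite relative tor dimension -/
theorem locHasFiniteRelTorDim_Q_tensor (A M : CochainComplex X.Modules ℤ) (hA : DCoh.IsKFlat A)
    (hAp : DCoh.IsPerfect (DerivedCategory.Q.obj A))
    (hM : DCoh.LocHasFiniteRelTorDim f (DerivedCategory.Q.obj M)) :
    DCoh.LocHasFiniteRelTorDim f (DerivedCategory.Q.obj ((DCoh.tensorCx.obj A).obj M)) := by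
  intro x
  obtain ⟨V₁, hx₁, hV₁⟩ := hAp x
  obtain ⟨P₁, hP₁, ⟨e₁⟩⟩ := hV₁ A ⟨Iso.refl _⟩
  obtain ⟨⟨c, d, hv⟩, hfl⟩ := id hP₁
  obtain ⟨V₂, a, b, hx₂, hV₂⟩ := hM x
  obtain ⟨E, hEv, hEf, ⟨eE⟩⟩ := hV₂ M ⟨Iso.refl _⟩
  have hx : x ∈ V₁ ⊓ V₂ := ⟨hx₁, hx₂⟩
  have hP := isStrictlyPerfect_restrict (X.homOfLE (inf_le_left : V₁ ⊓ V₂ ≤ V₁)) P₁ hP₁
  have eP := modelRestrict (inf_le_left : V₁ ⊓ V₂ ≤ V₁) e₁
  have eE' := modelRestrict (inf_le_right : V₁ ⊓ V₂ ≤ V₂) eE.symm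
  have hE'f : ∀ i : ℤ, FlatMod.IsFlatOver ((V₁ ⊓ V₂).ι ≫ f)
      (((rCx (X.homOfLE (inf_le_right : V₁ ⊓ V₂ ≤ V₂))).obj E).X i) := by
    intro i
    have h1 := isFlatOver_restrict (V₂.ι ≫ f) (X.homOfLE (inf_le_right : V₁ ⊓ V₂ ≤ V₂)) (E.X i)
      (fun y => hEf i _)
    rw [← Category.assoc, X.homOfLE_ι] at h1
    exact h1
  have hvP : DCoh.VanishesOutside ((rCx (X.homOfLE (inf_le_left : V₁ ⊓ V₂ ≤ V₁))).obj P₁) c d :=
    fun i hi => (Scheme.Modules.restrictFunctor _).map_isZero (hv i hi)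
  have hvE : DCoh.VanishesOutside ((rCx (X.homOfLE (inf_le_right : V₁ ⊓ V₂ ≤ V₂))).obj E) a b :=
    fun i hi => (Scheme.Modules.restrictFunctor _).map_isZero (hEv i hi)
  refine ⟨V₁ ⊓ V₂, c + a, d + b, hx, ?_⟩
  rintro F' ⟨eF'⟩
  have i1 := restrictQIso (V₁ ⊓ V₂).ι eF'
  obtain ⟨r⟩ := nonempty_local_tensor_model A M hA (V₁ ⊓ V₂).ι _ hP eP
  have i3 := tensQIsoLeftOfKFlat _ (isKFlat_of_isStrictlyPerfect _ hP) eE'
  exact ⟨_, vanishesOutside_tens _ _ c d a b hvP hvE,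
    fun i => isFlatOver_tens_X ((V₁ ⊓ V₂).ι ≫ f) _ _ hP hE'f i, ⟨(i1 ≪≫ r ≪≫ i3).symm⟩⟩

end Groth.Agent.Helper5.TPC
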