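import Groth.Agent.Lib.Helper5.StalkCx6
import Groth.Agent.Lib.Helper13.TensorRestrict

/-!
# Restriction to an open subscheme commutes with the tensor product (naturally)
-/

set_option autoImplicit false
set_option linter.unusedSectionVars false
set_option linter.unusedVariables false
set_option linter.style.haveILetI false

universe u

open CategoryTheory CategoryTheory.Limits AlgebraicGeometry MonoidalCategory TensorProduct
open Groth.Agent.Helper13.Tensor Groth.Agent.Helper13.FinType Groth.Agent.Helper13.QCoh

namespace Groth.Agent.Helper5.TRS

open Groth.Agent.Helper5.StalkCx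

variable {X Y : Scheme.{u}} (j : Y ⟶ X) [IsOpenImmersion j]

lemma restrictHom_nat {M M' N N' : X.Modules} (f : M ⟶ M') (g : N ⟶ N') :
    restrictHom j M N ≫ (Scheme.Modules.restrictFunctor j).map (Groth.Agent.Helper13.Tensor.map f g) =
      Groth.Agent.Helper13.Tensor.map ((Scheme.Modules.restrictFunctor j).map f)
        ((Scheme.Modules.restrictFunctor j).map g) ≫ restrictHom j M' N' := by
  apply Groth.Agent.Helper13.Tensor.hom_ext
  intro V m n
  have h1 := restrictHom_app_tmul j M N (V := V) m n
  have h2 := restrictHom_app_tmul j M' N' (V := V) (f.app (j ''ᵁ V) m) (g.app (j ''ᵁ V) n)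
  have h3 := map_app_tmul ((Scheme.Modules.restrictFunctor j).map f)
    ((Scheme.Modules.restrictFunctor j).map g) (U := V) m n
  have h4 := map_app_tmul f g (U := j ''ᵁ V) m n
  change ((Scheme.Modules.restrictFunctor j).map (Groth.Agent.Helper13.Tensor.map f g)).app V
      ((restrictHom j M N).app V (Groth.Agent.Helper13.Tensor.tmul (M.restrict j) (N.restrict j) m n)) =
    (restrictHom j M' N').app V
      ((Groth.Agent.Helper13.Tensor.map ((Scheme.Modules.restrictFunctor j).map f)
        ((Scheme.Modules.restrictFunctor j).map g)).app V
          (Groth.Agent.Helper13.Tensor.tmul (M.restrict j) (N.restrict j) m n))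
  rw [h3]
  refine (congrArg _ h1).trans ?_
  refine Eq.trans ?_ h2.symm
  exact h4

lemma restrictIso_nat {M M' N N' : X.Modules} (f : M ⟶ M') (g : N ⟶ N') :
    (Scheme.Modules.restrictFunctor j).map (Groth.Agent.Helper13.Tensor.map f g) ≫
      (restrictIso j M' N').hom = (restrictIso j M N).hom ≫
        Groth.Agent.Helper13.Tensor.map ((Scheme.Modules.restrictFunctor j).map f)
          ((Scheme.Modules.restrictFunctor j).map g) := by
  have h : (restrictIso j M N).inv ≫
      (Scheme.Modules.restrictFunctor j).map (Groth.Agent.Helper13.Tensor.map f g) =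
      Groth.Agent.Helper13.Tensor.map ((Scheme.Modules.restrictFunctor j).map f)
        ((Scheme.Modules.restrictFunctor j).map g) ≫ (restrictIso j M' N').inv :=
    restrictHom_nat j f g
  rw [← cancel_epi (restrictIso j M N).inv, ← Category.assoc, h, Category.assoc,
    Iso.inv_hom_id, Category.comp_id, Iso.inv_hom_id_assoc]

/-- restriction to an open subscheme commutes with the tensor products -/
noncomputable def restrictBiComm :
    KFA.BiComm (DCoh.tensorBi (X := X)) (DCoh.tensorBi (X := Y))
      (Scheme.Modules.restrictFunctor j) where
  μ M N := restrictIso j M N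
  nat_left {M M'} f N := by
    have h := restrictIso_nat j f (𝟙 N)
    rw [CategoryTheory.Functor.map_id, ← tensorBi_map_app, ← tensorBi_map_app] at h
    exact h
  nat_right M {N N'} g := by
    have h := restrictIso_nat j (𝟙 M) g
    rw [CategoryTheory.Functor.map_id, ← tensorBi_obj_map, ← tensorBi_obj_map] at h
    exact h

/-- the restriction of a tensor product of complexes -/
noncomputable def restrictTensIso (L K : CochainComplex X.Modules ℤ) :
    (DCoh.tensorCx.obj (((Scheme.Modules.restrictFunctor j).mapHomologicalComplex
        (ComplexShape.up ℤ)).obj L)).obj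
      (((Scheme.Modules.restrictFunctor j).mapHomologicalComplex (ComplexShape.up ℤ)).obj K) ≅
    ((Scheme.Modules.restrictFunctor j).mapHomologicalComplex (ComplexShape.up ℤ)).obj
      ((DCoh.tensorCx.obj L).obj K) :=
  (restrictBiComm j).tensIso L K

end Groth.Agent.Helper5.TRS
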