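import Mathlib

set_option linter.style.haveILetI false

namespace Groth.Agent.Helper5.TopFinType

open Pointwise

theorem set_pow_subset {B : Type*} [CommRing B] {A : Type*} [CommRing A] [Algebra A B]
    (S : Subalgebra A B) (G : Set B) (hG : G ⊆ S) (n : ℕ) : G ^ n ⊆ (S : Set B) := by
  induction n with
  | zero =>
    rw [pow_zero]
    intro x hx
    rw [Set.mem_one] at hx
    rw [hx]; exact S.one_mem
  | succ n ih =>
    rw [pow_succ]
    intro x hx
    obtain ⟨a, ha, b, hb, rfl⟩ := Set.mem_mul.mp hx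
    exact S.mul_mem (ih ha) (hG hb)

/-- If `B = S + K` for a subalgebra `S` containing generators of the ideal `K`, then
`B = S + K ^ n` for all `n`. -/
theorem dense_of_mod {A B : Type*} [CommRing A] [CommRing B] [Algebra A B]
    (S : Subalgebra A B) (K : Ideal B) (G : Set B) (hG : G ⊆ S) (hK : K = Ideal.span G)
    (h1 : ∀ y : B, ∃ s ∈ S, y - s ∈ K) (n : ℕ) : ∀ y : B, ∃ s ∈ S, y - s ∈ K ^ n := by
  -- step: elements of K^n are in S + K^(n+1)
  have step : ∀ n : ℕ, ∀ z ∈ K ^ n, ∃ s ∈ S, z - s ∈ K ^ (n + 1) := by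
    intro n z hz
    have hKn : K ^ n = Submodule.span B (G ^ n) := by
      rw [hK]; exact Submodule.span_pow (R := B) G n
    rw [hKn] at hz
    suffices h : ∀ c : B, ∃ s ∈ S, c * z - s ∈ K ^ (n + 1) by
      simpa using h 1
    induction hz using Submodule.span_induction with
    | mem x hx =>
      intro c
      obtain ⟨s, hs, hcs⟩ := h1 c
      refine ⟨s * x, S.mul_mem hs (set_pow_subset S G hG n hx), ?_⟩
      have hx' : x ∈ K ^ n := by rw [hKn]; exact Submodule.subset_span hx
      rw [← sub_mul, pow_succ']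
      exact Ideal.mul_mem_mul hcs hx'
    | zero => intro c; exact ⟨0, S.zero_mem, by simp⟩
    | add x y _ _ hx hy =>
      intro c
      obtain ⟨s₁, hs₁, h₁⟩ := hx c
      obtain ⟨s₂, hs₂, h₂⟩ := hy c
      refine ⟨s₁ + s₂, S.add_mem hs₁ hs₂, ?_⟩
      have : c * (x + y) - (s₁ + s₂) = (c * x - s₁) + (c * y - s₂) := by ring
      rw [this]; exact Ideal.add_mem _ h₁ h₂
    | smul a x _ hx =>
      intro c
      obtain ⟨s, hs, h⟩ := hx (c * a)
      exact ⟨s, hs, by rw [smul_eq_mul, ← mul_assoc]; exact h⟩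
  induction n with
  | zero => intro y; exact ⟨0, S.zero_mem, by simp⟩
  | succ n ih =>
    intro y
    obtain ⟨s, hs, hys⟩ := ih y
    obtain ⟨s', hs', h'⟩ := step n _ hys
    exact ⟨s + s', S.add_mem hs hs', by rw [← sub_sub]; exact h'⟩

end Groth.Agent.Helper5.TopFinType
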