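import Mathlib.CategoryTheory.Sites.LocallySurjective
import Mathlib.CategoryTheory.Sites.Subsheaf
import Mathlib.CategoryTheory.Sites.EpiMono
import Mathlib.CategoryTheory.Limits.Types.Pullbacks
import Groth.Prelude.Def_SGA4c

set_option autoImplicit false
set_option linter.style.haveILetI false

universe u

open CategoryTheory CategoryTheory.Limits Opposite

namespace Groth.Agent.Helper5.ToposFin

variable {C : Type u} [SmallCategory C] {J : GrothendieckTopology C}

open _root_.ToposFin

/-- The sieve of arrows along which a section lifts to some member of the family. -/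
def famSieve {ι : Type*} {F : ι → Sh J} {X : Sh J} (π : ∀ i, F i ⟶ X) {U : C}
    (x : X.obj.obj (op U)) : Sieve U where
  arrows V f := ∃ i, ∃ y : (F i).obj.obj (op V), (π i).hom.app (op V) y = X.obj.map f.op x
  downward_closed := by
    rintro V W f ⟨i, y, hy⟩ g
    refine ⟨i, (F i).obj.map g.op y, ?_⟩
    rw [NatTrans.naturality_apply, hy, op_comp, Functor.map_comp_apply]

/-- A family of morphisms is jointly locally surjective. -/
def JLS {ι : Type*} {F : ι → Sh J} {X : Sh J} (π : ∀ i, F i ⟶ X) : Prop :=
  ∀ (U : C) (x : X.obj.obj (op U)), famSieve π x ∈ J U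

/-- Jointly epimorphic family, phrased by cancellation. -/
def JE {ι : Type*} {F : ι → Sh J} {X : Sh J} (π : ∀ i, F i ⟶ X) : Prop :=
  ∀ ⦃Z : Sh J⦄ (a b : X ⟶ Z), (∀ i, π i ≫ a = π i ≫ b) → a = b

theorem je_of_jls {ι : Type*} {F : ι → Sh J} {X : Sh J} (π : ∀ i, F i ⟶ X) (h : JLS π) :
    JE π := by
  intro Z a b hab
  apply Sheaf.hom_ext
  ext U x
  obtain ⟨U⟩ := U
  apply (((isSheaf_iff_isSheaf_of_type _ _).1 Z.property).isSeparated _ (h U x)).ext
  rintro V f ⟨i, y, hy⟩
  have h1 : a.hom.app (op V) (X.obj.map f.op x) = b.hom.app (op V) (X.obj.map f.op x) := by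
    rw [← hy]
    have := congrArg (fun t => t.hom.app (op V) y) (hab i)
    exact this
  rw [NatTrans.naturality_apply, NatTrans.naturality_apply] at h1
  exact h1

/-- The subfunctor of sections locally in the joint image. -/
def famSub {ι : Type*} {F : ι → Sh J} {X : Sh J} (π : ∀ i, F i ⟶ X) : Subfunctor X.obj where
  obj U := {x | famSieve π (U := U.unop) x ∈ J U.unop}
  map := by
    intro U V f x hx
    simp only [Set.mem_ofPred_eq, Set.mem_preimage] at hx ⊢
    refine J.superset_covering ?_ (J.pullback_stable f.unop hx)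
    rintro W g ⟨i, y, hy⟩
    refine ⟨i, y, ?_⟩
    rw [hy, op_comp, Functor.map_comp_apply]
    rfl

theorem famSub_isSheaf {ι : Type*} {F : ι → Sh J} {X : Sh J} (π : ∀ i, F i ⟶ X) :
    Presheaf.IsSheaf J (famSub π).toFunctor := by
  rw [isSheaf_iff_isSheaf_of_type,
    Subfunctor.isSheaf_iff _ ((isSheaf_iff_isSheaf_of_type J X.obj).mp X.property)]
  intro U s hs
  show famSieve π s ∈ J U.unop
  refine J.transitive hs _ ?_
  intro V f hf
  have hf' : famSieve π (X.obj.map f.op s) ∈ J V := hf
  refine J.superset_covering ?_ hf'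
  rintro W g ⟨i, y, hy⟩
  refine ⟨i, y, ?_⟩
  rw [hy, op_comp, Functor.map_comp_apply]

theorem jls_of_je {ι : Type*} {F : ι → Sh J} {X : Sh J} (π : ∀ i, F i ⟶ X)
    (h : JE π) : JLS π := by
  let X' : Sh J := ⟨(famSub π).toFunctor, famSub_isSheaf π⟩
  let ι' : X' ⟶ X := ObjectProperty.homMk (famSub π).ι
  have hle : ∀ i, Subfunctor.range (π i).hom ≤ famSub π := by
    intro i U x hx
    obtain ⟨y, rfl⟩ := hx
    show famSieve π _ ∈ J U.unop
    convert J.top_mem U.unop
    ext W f
    simp only [Sieve.top_apply, iff_true]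
    exact ⟨i, (F i).obj.map f.op y, by rw [NatTrans.naturality_apply]⟩
  let l : ∀ i, F i ⟶ X' := fun i => ObjectProperty.homMk (Subfunctor.lift (π i).hom (hle i))
  have hfac : ∀ i, l i ≫ ι' = π i := fun i => rfl
  haveI : Epi ι' := by
    constructor
    intro Z a b hab
    apply h
    intro i
    rw [← hfac i, Category.assoc, Category.assoc, hab]
  haveI : Mono ι' := by
    haveI : Mono ((sheafToPresheaf J (Type u)).map ι') :=
      (inferInstance : Mono (famSub π).ι)
    exact (sheafToPresheaf J (Type u)).mono_of_mono_map inferInstance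
  haveI : IsIso ι' := isIso_of_mono_of_epi ι'
  intro U x
  have h1 : IsIso (((sheafToPresheaf J (Type u)).map ι').app (op U)) := inferInstance
  have h2 : Function.Surjective (((sheafToPresheaf J (Type u)).map ι').app (op U)) :=
    ((isIso_iff_bijective _).mp h1).2
  obtain ⟨⟨x', hx'⟩, rfl⟩ := h2 x
  exact hx'

/-- Sections of a pullback of sheaves of sets: every compatible pair comes from a section. -/
theorem exists_section_pullback {A B X : Sh J} (f : A ⟶ X) (g : B ⟶ X) (V : C)
    (a : A.obj.obj (op V)) (b : B.obj.obj (op V))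
    (hab : f.hom.app (op V) a = g.hom.app (op V) b) :
    ∃ z : (pullback f g).obj.obj (op V),
      (pullback.fst f g).hom.app (op V) z = a ∧ (pullback.snd f g).hom.app (op V) z = b := by
  let G : Sh J ⥤ Type u := sheafToPresheaf J (Type u) ⋙ (evaluation Cᵒᵖ (Type u)).obj (op V)
  let w : Types.PullbackObj (G.map f) (G.map g) := ⟨(a, b), hab⟩
  refine ⟨(PreservesPullback.iso G f g).inv ((Types.pullbackIsoPullback _ _).inv w), ?_, ?_⟩
  · have e1 := PreservesPullback.iso_inv_fst G f g
    have e2 := Types.pullbackIsoPullback_inv_fst (G.map f) (G.map g)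
    have := ConcreteCategory.congr_hom e1 ((Types.pullbackIsoPullback _ _).inv w)
    rw [types_comp_apply] at this
    refine this.trans ?_
    exact ConcreteCategory.congr_hom e2 w
  · have e1 := PreservesPullback.iso_inv_snd G f g
    have e2 := Types.pullbackIsoPullback_inv_snd (G.map f) (G.map g)
    have := ConcreteCategory.congr_hom e1 ((Types.pullbackIsoPullback _ _).inv w)
    rw [types_comp_apply] at this
    refine this.trans ?_
    exact ConcreteCategory.congr_hom e2 w

theorem jls_pullback {ι : Type*} {F : ι → Sh J} {X X' : Sh J} (π : ∀ i, F i ⟶ X)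
    (g : X' ⟶ X) (h : JLS π) : JLS (fun i => pullback.snd (π i) g) := by
  intro U x'
  refine J.superset_covering ?_ (h U (g.hom.app (op U) x'))
  rintro V f ⟨i, y, hy⟩
  have hab : (π i).hom.app (op V) y = g.hom.app (op V) (X'.obj.map f.op x') := by
    rw [hy, NatTrans.naturality_apply]
  obtain ⟨z, -, hz⟩ := exists_section_pullback (π i) g V y _ hab
  exact ⟨i, z, hz⟩

/-- Joint epimorphy of a family is stable under base change. -/
theorem je_pullback {ι : Type*} {F : ι → Sh J} {X X' : Sh J} (π : ∀ i, F i ⟶ X)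
    (g : X' ⟶ X) (h : JE π) : JE (fun i => pullback.snd (π i) g) :=
  je_of_jls _ (jls_pullback π g (jls_of_je π h))

end Groth.Agent.Helper5.ToposFin
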