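import Groth.Agent.Lib.Helper5.ToposFin9
import Mathlib.CategoryTheory.Extensive
import Mathlib.CategoryTheory.Limits.Shapes.StrictInitial
import Mathlib.Data.Finset.Sum

set_option autoImplicit false
set_option linter.style.haveILetI false

universe u

open CategoryTheory CategoryTheory.Limits Opposite

namespace Groth.Agent.Helper5.ToposFin

variable {C : Type u} [SmallCategory C] {J : GrothendieckTopology C}

open _root_.ToposFin

/-! ### initial objects -/

theorem isInitial_of_hom {W W' : Sh J} (f : W ⟶ W') (h : IsInitial W') : Nonempty (IsInitial W) := by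
  haveI := h.isIso_to f
  exact ⟨IsInitial.ofIso h (asIso f).symm⟩

theorem isQC_of_isInitial {W : Sh J} (h : IsInitial W) : IsQC W := by
  rw [isQC_iff]
  intro ι F π _
  exact ⟨∅, fun Z a b _ => h.hom_ext a b⟩

theorem isQCHom_of_isInitial {W Y : Sh J} (h : IsInitial W) (f : W ⟶ Y) : IsQCHom f := by
  intro T t _
  obtain ⟨h'⟩ := isInitial_of_hom (pullback.fst f t) h
  exact isQC_of_isInitial h'

/-- An object all of whose outgoing parallel pairs agree is initial. -/
theorem isInitial_of_forall_eq {W : Sh J} (h : ∀ ⦃Z : Sh J⦄ (a b : W ⟶ Z), a = b) :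
    Nonempty (IsInitial W) := by
  haveI : Epi (initial.to W) := ⟨fun a b _ => h a b⟩
  haveI : Mono (initial.to W) := inferInstance
  haveI : IsIso (initial.to W) := isIso_of_mono_of_epi _
  exact ⟨IsInitial.ofIso initialIsInitial (asIso (initial.to W))⟩

/-! ### disjointness of arbitrary coproducts -/

section Cofan

variable {ι : Type u} {X : ι → Sh J} (c : Cofan X) (hc : IsColimit c)

include hc in
theorem je_of_isColimit_cofan : JE c.inj :=
  fun _ _ _ hab => Cofan.IsColimit.hom_ext hc _ _ hab

open Classical in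
/-- The comparison map to the binary coproduct of one summand with the coproduct of the others. -/
noncomputable def splitMap (i : ι) :
    c.pt ⟶ X i ⨿ (∐ (fun k : {k // k ≠ i} => X k.1)) :=
  Cofan.IsColimit.desc hc (fun k => if h : k = i then eqToHom (by rw [h]) ≫ coprod.inl else
    Limits.Sigma.ι (fun k : {k // k ≠ i} => X k.1) ⟨k, h⟩ ≫ coprod.inr)

theorem inj_splitMap_self (i : ι) : c.inj i ≫ splitMap c hc i = coprod.inl := by
  unfold splitMap
  rw [Cofan.IsColimit.fac, dif_pos rfl]
  simp

theorem inj_splitMap_of_ne (i j : ι) (h : j ≠ i) : c.inj j ≫ splitMap c hc i =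
    Limits.Sigma.ι (fun k : {k // k ≠ i} => X k.1) ⟨j, h⟩ ≫ coprod.inr := by
  unfold splitMap
  rw [Cofan.IsColimit.fac, dif_neg h]

include hc in
theorem mono_inj (i : ι) : Mono (c.inj i) := by
  haveI : Mono (c.inj i ≫ splitMap c hc i) := by
    rw [inj_splitMap_self]
    infer_instance
  exact mono_of_mono (c.inj i) (splitMap c hc i)

include hc in
/-- Distinct summands of a coproduct are disjoint. -/
theorem isInitial_of_inj_eq {W : Sh J} {i j : ι} (hij : j ≠ i) (a : W ⟶ X i) (b : W ⟶ X j)
    (hab : a ≫ c.inj i = b ≫ c.inj j) : Nonempty (IsInitial W) := by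
  have h1 := FinitaryExtensive.isPullback_initial_to_binaryCofan
    (coprodIsCoprod (X i) (∐ (fun k : {k // k ≠ i} => X k.1)))
  have h2 : a ≫ coprod.inl = (b ≫ Limits.Sigma.ι (fun k : {k // k ≠ i} => X k.1) ⟨j, hij⟩) ≫
      coprod.inr := by
    rw [← inj_splitMap_self c hc i, Category.assoc, ← inj_splitMap_of_ne c hc i j hij,
      ← Category.assoc, hab, Category.assoc]
  exact isInitial_of_hom (h1.lift a _ h2) initialIsInitial

include hc in
/-- Summands of a quasi-compact object are quasi-compact: coproduct injections are quasi-compact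
morphisms. -/
theorem isQCHom_inj (i : ι) : IsQCHom (c.inj i) := by
  classical
  intro T t hT
  haveI := mono_inj c hc i
  rw [isQC_iff]
  intro Λ U π hπ
  let m := pullback.snd (c.inj i) t
  let G : Λ ⊕ {k // k ≠ i} → Sh J := fun l => Sum.rec (fun j => U j)
    (fun k => pullback (c.inj k.1) t) l
  let ρ : ∀ l, G l ⟶ T := fun l => Sum.rec (motive := fun l => G l ⟶ T) (fun j => π j ≫ m)
    (fun k => pullback.snd (c.inj k.1) t) l
  have hρ : JE ρ := by
    intro Z a b hab
    apply je_pullback c.inj t (je_of_isColimit_cofan c hc)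
    intro k
    by_cases hk : k = i
    · subst hk
      apply hπ
      intro j
      have := hab (Sum.inl j)
      simpa [ρ, G] using this
    · exact hab (Sum.inr ⟨k, hk⟩)
  obtain ⟨s, hs⟩ := (isQC_iff T).mp hT _ _ _ hρ
  refine ⟨s.toLeft, ?_⟩
  intro Z a b hab
  apply je_pullback (fun l : s => ρ l) m hs
  rintro ⟨l, hl⟩
  rcases l with j | k
  · have h1 : pullback.snd (π j ≫ m) m = pullback.fst (π j ≫ m) m ≫ π j := by
      rw [← cancel_mono m, Category.assoc]
      exact pullback.condition.symm
    show pullback.snd (π j ≫ m) m ≫ a = pullback.snd (π j ≫ m) m ≫ b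
    rw [h1, Category.assoc, Category.assoc]
    have := hab ⟨j, Finset.mem_toLeft.mpr hl⟩
    exact congrArg _ this
  · have h1 : (pullback.snd (pullback.snd (c.inj k.1) t) m ≫ pullback.fst (c.inj i) t) ≫ c.inj i =
        (pullback.fst (pullback.snd (c.inj k.1) t) m ≫ pullback.fst (c.inj k.1) t) ≫ c.inj k.1 := by
      rw [Category.assoc, Category.assoc, pullback.condition, pullback.condition,
        ← Category.assoc, ← Category.assoc, pullback.condition]
    obtain ⟨hW⟩ := isInitial_of_inj_eq c hc k.2 _ _ h1
    exact hW.hom_ext _ _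

include hc in
theorem isQC_summand (i : ι) (h : IsQC c.pt) : IsQC (X i) :=
  isQC_of_isQCHom (c.inj i) (isQCHom_inj c hc i) h

end Cofan

end Groth.Agent.Helper5.ToposFin
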