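import Groth.Agent.Lib.Helper5.ToposFin10

set_option autoImplicit false
set_option linter.style.haveILetI false

universe u

open CategoryTheory CategoryTheory.Limits Opposite

namespace Groth.Agent.Helper5.ToposFin

variable {C : Type u} [SmallCategory C] {J : GrothendieckTopology C}

open _root_.ToposFin

/-- Quasi-compactness of a morphism is local on the target for covers by quasi-compact
morphisms (no generators needed). -/
theorem isQCHom_of_local_of_isQCHom {X Y : Sh J} (f : X ⟶ Y) {ι : Type u} {Yi : ι → Sh J}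
    (g : ∀ i, Yi i ⟶ Y) (hg : JE g) (hgq : ∀ i, IsQCHom (g i)) {P : ι → Sh J}
    (fst : ∀ i, P i ⟶ X) (f' : ∀ i, P i ⟶ Yi i) (hp : ∀ i, IsPullback (fst i) (f' i) f (g i))
    (hf' : ∀ i, IsQCHom (f' i)) : IsQCHom f := by
  intro T t hT
  have h1 : JE (fun i => pullback.snd (g i) t) := je_pullback g t hg
  obtain ⟨s, hs⟩ := (isQC_iff T).mp hT _ _ _ h1
  refine isQC_of_cover_isPullback (IsPullback.of_hasPullback f t) (fun i : s => pullback (g i) t)
    (fun i => pullback.snd (g i) t) hs ?_
  intro i
  have h2 : IsQC (pullback (g i) t) := hgq i T t hT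
  have h3 := (IsPullback.of_hasPullback (f' i) (pullback.fst (g i) t)).paste_horiz (hp i)
  have h4 : IsQC (pullback f (pullback.fst (g i) t ≫ g i)) :=
    isQC_of_iso h3.isoPullback (hf' i _ _ h2)
  exact isQC_of_iso (pullback.congrHom rfl pullback.condition) h4

section Cofan

variable {ι : Type u} {X : ι → Sh J} (c : Cofan X) (hc : IsColimit c)

include hc in
/-- A coproduct of quasi-separated objects is quasi-separated. -/
theorem isQS_of_isColimit_cofan (h : ∀ i, IsQS (X i)) : IsQS c.pt := by
  rw [isQS_iff_forall_isQCHom]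
  intro A a hA B b hB
  have h1 : JE (fun i => pullback.snd (c.inj i) a) :=
    je_pullback c.inj a (je_of_isColimit_cofan c hc)
  obtain ⟨s, hs⟩ := (isQC_iff A).mp hA _ _ _ h1
  refine isQC_of_cover_isPullback (IsPullback.of_hasPullback a b).flip
    (fun i : s => pullback (c.inj i) a) (fun i => pullback.snd (c.inj i) a) hs ?_
  intro i
  have hAi : IsQC (pullback (c.inj i) a) := isQCHom_inj c hc i A a hA
  have hBi : IsQC (pullback (c.inj i) b) := isQCHom_inj c hc i B b hB
  have h3 := (IsPullback.of_hasPullback (pullback.fst (c.inj i) b)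
    (pullback.fst (c.inj i) a)).paste_horiz (IsPullback.of_hasPullback (c.inj i) b).flip
  have h4 : IsQC (pullback b (pullback.fst (c.inj i) a ≫ c.inj i)) :=
    isQC_of_iso h3.isoPullback (h i _ _ _ _ hBi hAi)
  exact isQC_of_iso (pullback.congrHom rfl pullback.condition) h4

set_option backward.isDefEq.respectTransparency false in
include hc in
/-- A morphism out of a coproduct is quasi-separated as soon as its components are. -/
theorem isQSHom_of_cofan {Y : Sh J} (f : c.pt ⟶ Y) (h : ∀ i, IsQSHom (c.inj i ≫ f)) :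
    IsQSHom f := by
  refine isQCHom_of_local_of_isQCHom (pullback.diagonal f)
    (fun ij : ι × ι => pullback.map (c.inj ij.1 ≫ f) (c.inj ij.2 ≫ f) f f (c.inj ij.1) (c.inj ij.2)
      (𝟙 Y) (Category.comp_id _) (Category.comp_id _))
    (je_pullback_map f f c.inj c.inj (je_of_isColimit_cofan c hc) (je_of_isColimit_cofan c hc))
    (fun ij => isQCHom_pullback_map _ _ f f (isQCHom_inj c hc ij.1) (isQCHom_inj c hc ij.2)) _ _
    (fun ij => pullback_map_diagonal_isPullback (c.inj ij.1) (c.inj ij.2) f) ?_
  rintro ⟨i, j⟩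
  by_cases hij : j = i
  · subst hij
    haveI := mono_inj c hc j
    have h1 : pullback.map (c.inj j) (c.inj j) (c.inj j ≫ f) (c.inj j ≫ f) (𝟙 _) (𝟙 _) f
        (Category.id_comp _).symm (Category.id_comp _).symm =
        inv (pullback.diagonal (c.inj j)) ≫ pullback.diagonal (c.inj j ≫ f) := by
      rw [IsIso.eq_inv_comp]
      apply pullback.hom_ext <;> simp
    show IsQCHom (pullback.map (c.inj j) (c.inj j) (c.inj j ≫ f) (c.inj j ≫ f) (𝟙 _) (𝟙 _) f
        (Category.id_comp _).symm (Category.id_comp _).symm)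
    rw [h1]
    exact isQCHom_comp _ _ (isQCHom_of_isIso _) (h j)
  · obtain ⟨hW⟩ := isInitial_of_inj_eq c hc hij (pullback.fst (c.inj i) (c.inj j))
      (pullback.snd (c.inj i) (c.inj j)) pullback.condition
    exact isQCHom_of_isInitial hW _

end Cofan

/-- The colimit cofan of a coproduct, reindexed along `ULift`. -/
noncomputable def cofanULift {n : ℕ} {X : Fin n → Sh J} (c : Cofan X) :
    Cofan (fun k : ULift.{u} (Fin n) => X k.down) :=
  Cofan.mk c.pt (fun k => c.inj k.down)

noncomputable def isColimitCofanULift {n : ℕ} {X : Fin n → Sh J} (c : Cofan X) (hc : IsColimit c) :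
    IsColimit (cofanULift c) :=
  mkCofanColimit _ (fun s => Cofan.IsColimit.desc hc (fun k => s.inj ⟨k⟩))
    (fun s k => by
      show c.inj k.down ≫ _ = _
      rw [Cofan.IsColimit.fac])
    (fun s m hm => by
      apply Cofan.IsColimit.hom_ext hc
      intro k
      rw [Cofan.IsColimit.fac]
      exact hm ⟨k⟩)

end Groth.Agent.Helper5.ToposFin
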