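import Groth.Agent.Lib.Helper5.ToposFin1

set_option autoImplicit false
set_option linter.style.haveILetI false

universe u

open CategoryTheory CategoryTheory.Limits Opposite

namespace Groth.Agent.Helper5.ToposFin

variable {C : Type u} [SmallCategory C] {J : GrothendieckTopology C}

open _root_.ToposFin

theorem epi_sigmaDesc_iff {ι : Type*} {F : ι → Sh J} [HasCoproduct F] {X : Sh J}
    (π : ∀ i, F i ⟶ X) :
    Epi (Limits.Sigma.desc π) ↔ JE π := by
  constructor
  · intro h Z a b hab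
    rw [← cancel_epi (Limits.Sigma.desc π)]
    apply Limits.Sigma.hom_ext
    intro i
    rw [Limits.Sigma.ι_desc_assoc, Limits.Sigma.ι_desc_assoc]
    exact hab i
  · intro h
    constructor
    intro Z a b hab
    apply h
    intro i
    have := congrArg (fun t => Limits.Sigma.ι F i ≫ t) hab
    simpa using this

theorem isQC_iff (X : Sh J) : IsQC X ↔ ∀ (ι : Type u) (F : ι → Sh J) (π : ∀ i, F i ⟶ X),
    JE π → ∃ s : Finset ι, JE (fun i : s => π i) := by
  constructor
  · intro h ι F π hπ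
    obtain ⟨s, hs⟩ := h ι F π ((epi_sigmaDesc_iff π).mpr hπ)
    exact ⟨s, (epi_sigmaDesc_iff _).mp hs⟩
  · intro h ι F π hπ
    obtain ⟨s, hs⟩ := h ι F π ((epi_sigmaDesc_iff π).mp hπ)
    exact ⟨s, (epi_sigmaDesc_iff _).mpr hs⟩

theorem je_of_epi {X Y : Sh J} (f : X ⟶ Y) [Epi f] : JE (fun _ : PUnit.{u+1} => f) := by
  intro Z a b hab
  rw [← cancel_epi f]
  exact hab PUnit.unit

theorem epi_of_je_punit {X Y : Sh J} (f : X ⟶ Y) (h : JE (fun _ : PUnit.{u+1} => f)) :
    Epi f := ⟨fun a b hab => h a b (fun _ => hab)⟩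

/-- Epimorphisms are stable under base change. -/
theorem epi_pullback_snd {X Y Y' : Sh J} (f : X ⟶ Y) (g : Y' ⟶ Y) [Epi f] :
    Epi (pullback.snd f g) :=
  epi_of_je_punit _ (je_pullback (fun _ : PUnit.{u+1} => f) g (je_of_epi f))

theorem epi_pullback_fst {X Y Y' : Sh J} (f : X ⟶ Y) (g : Y' ⟶ Y) [Epi g] :
    Epi (pullback.fst f g) := by
  have : pullback.fst f g = (pullbackSymmetry f g).hom ≫ pullback.snd g f := by simp
  rw [this]
  haveI := epi_pullback_snd g f
  infer_instance

theorem isQC_of_epi {X Y : Sh J} (f : X ⟶ Y) [Epi f] (hX : IsQC X) : IsQC Y := by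
  rw [isQC_iff] at hX ⊢
  intro ι F π hπ
  obtain ⟨s, hs⟩ := hX ι _ _ (je_pullback π f hπ)
  refine ⟨s, ?_⟩
  intro Z a b hab
  rw [← cancel_epi f]
  apply hs
  intro i
  have hc : pullback.snd (π i) f ≫ f = pullback.fst (π i) f ≫ π i := pullback.condition.symm
  simp only [← Category.assoc]
  rw [hc, Category.assoc, Category.assoc, hab i]

theorem isQC_of_iso {X Y : Sh J} (e : X ≅ Y) (hX : IsQC X) : IsQC Y :=
  isQC_of_epi e.hom hX

/-- A finite jointly epimorphic family of quasi-compact objects has quasi-compact target. -/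
theorem isQC_of_finite_je {κ : Type*} [Finite κ] {X : Sh J} (F : κ → Sh J) (p : ∀ k, F k ⟶ X)
    (hp : JE p) (hF : ∀ k, IsQC (F k)) : IsQC X := by
  classical
  haveI := Fintype.ofFinite κ
  rw [isQC_iff]
  intro ι G π hπ
  have h1 : ∀ k, ∃ s : Finset ι, JE (fun i : s => pullback.snd (π i) (p k)) := fun k =>
    (isQC_iff _).mp (hF k) ι _ _ (je_pullback π (p k) hπ)
  choose s hs using h1
  refine ⟨Finset.univ.biUnion s, ?_⟩
  intro Z a b hab
  apply hp
  intro k
  apply hs k
  intro i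
  have hc : pullback.snd (π i) (p k) ≫ p k = pullback.fst (π i) (p k) ≫ π i :=
    pullback.condition.symm
  simp only [← Category.assoc]
  rw [hc, Category.assoc, Category.assoc]
  have hi : (i : ι) ∈ Finset.univ.biUnion s :=
    Finset.mem_biUnion.mpr ⟨k, Finset.mem_univ k, i.2⟩
  rw [hab ⟨i, hi⟩]

end Groth.Agent.Helper5.ToposFin
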