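import Groth.Agent.Lib.Helper5.ToposFin2

set_option autoImplicit false
set_option linter.style.haveILetI false

universe u

open CategoryTheory CategoryTheory.Limits Opposite

namespace Groth.Agent.Helper5.ToposFin

variable {C : Type u} [SmallCategory C] {J : GrothendieckTopology C}

open _root_.ToposFin

/-- quasi-compactness of the total space of a pullback square over a qc morphism. -/
theorem isQC_of_isPullback {P X Y T : Sh J} {fst : P ⟶ X} {snd : P ⟶ T} {f : X ⟶ Y} {t : T ⟶ Y}
    (h : IsPullback fst snd f t) (hf : IsQCHom f) (hT : IsQC T) : IsQC P :=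
  isQC_of_iso h.isoPullback.symm (hf T t hT)

theorem isQCHom_of_isPullback {P X Y Y' : Sh J} {fst : P ⟶ X} {snd : P ⟶ Y'} {f : X ⟶ Y}
    {g : Y' ⟶ Y} (h : IsPullback fst snd f g) (hf : IsQCHom f) : IsQCHom snd := by
  intro T t hT
  have h1 := ((IsPullback.of_hasPullback snd t).flip.paste_vert h.flip).flip
  exact isQC_of_isPullback h1 hf hT

theorem isQCHom_of_isPullback' {P X Y Y' : Sh J} {fst : P ⟶ X} {snd : P ⟶ Y'} {f : X ⟶ Y}
    {g : Y' ⟶ Y} (h : IsPullback fst snd f g) (hg : IsQCHom g) : IsQCHom fst :=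
  isQCHom_of_isPullback h.flip hg

theorem isQCHom_pullback_snd {X Y Y' : Sh J} (f : X ⟶ Y) (g : Y' ⟶ Y) (hf : IsQCHom f) :
    IsQCHom (pullback.snd f g) :=
  isQCHom_of_isPullback (IsPullback.of_hasPullback f g) hf

theorem isQCHom_pullback_fst {X Y Y' : Sh J} (f : X ⟶ Y) (g : Y' ⟶ Y) (hg : IsQCHom g) :
    IsQCHom (pullback.fst f g) :=
  isQCHom_of_isPullback' (IsPullback.of_hasPullback f g) hg

theorem isQCHom_of_isIso {X Y : Sh J} (f : X ⟶ Y) [IsIso f] : IsQCHom f := by
  intro T t hT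
  exact isQC_of_iso (asIso (pullback.snd f t)).symm hT

theorem isQCHom_comp {X Y Z : Sh J} (f : X ⟶ Y) (g : Y ⟶ Z) (hf : IsQCHom f) (hg : IsQCHom g) :
    IsQCHom (f ≫ g) := by
  intro T t hT
  have h1 : IsQC (pullback g t) := hg T t hT
  have h2 : IsQC (pullback f (pullback.fst g t)) := hf _ _ h1
  exact isQC_of_iso (pullbackRightPullbackFstIso g t f) h2

/-- Cancellation of a monomorphism on the right. -/
theorem isQCHom_of_comp_mono {X Y Z : Sh J} (d : X ⟶ Y) (j : Y ⟶ Z) [Mono j]
    (h : IsQCHom (d ≫ j)) : IsQCHom d := by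
  intro T t hT
  have h1 : IsQC (pullback (d ≫ j) (t ≫ j)) := h T (t ≫ j) hT
  have hpb : IsPullback (pullback.fst (d ≫ j) (t ≫ j)) (pullback.snd (d ≫ j) (t ≫ j)) d t := by
    refine ⟨⟨?_⟩, ⟨PullbackCone.IsLimit.mk _ (fun s => pullback.lift s.fst s.snd
      (by rw [← Category.assoc, s.condition, Category.assoc]))
      (fun s => pullback.lift_fst _ _ _)
      (fun s => pullback.lift_snd _ _ _) ?_⟩⟩
    · rw [← cancel_mono j, Category.assoc, Category.assoc]
      exact pullback.condition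
    · intro s m h1 h2
      apply pullback.hom_ext
      · exact h1.trans (pullback.lift_fst _ _ _).symm
      · exact h2.trans (pullback.lift_snd _ _ _).symm
  exact isQC_of_iso hpb.isoPullback h1

theorem isQC_of_isQCHom {X Y : Sh J} (f : X ⟶ Y) (hf : IsQCHom f) (hY : IsQC Y) : IsQC X :=
  isQC_of_isPullback (IsPullback.id_vert f).flip hf hY

end Groth.Agent.Helper5.ToposFin
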