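import Groth.Agent.Lib.Helper5.ToposFin3

set_option autoImplicit false
set_option linter.style.haveILetI false

universe u

open CategoryTheory CategoryTheory.Limits Opposite

namespace Groth.Agent.Helper5.ToposFin

variable {C : Type u} [SmallCategory C] {J : GrothendieckTopology C}

open _root_.ToposFin

theorem isQSHom_of_comp {X Y Z : Sh J} (f : X ⟶ Y) (g : Y ⟶ Z) (h : IsQSHom (f ≫ g)) :
    IsQSHom f := by
  unfold IsQSHom at h ⊢
  rw [pullback.diagonal_comp] at h
  exact isQCHom_of_comp_mono _ _ h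

theorem isQCHom_of_comp_of_isQSHom {X Y Z : Sh J} (f : X ⟶ Y) (g : Y ⟶ Z) (hg : IsQSHom g)
    (h : IsQCHom (f ≫ g)) : IsQCHom f := by
  have h1 : IsQCHom (pullback.lift (𝟙 X) f (by simp) : X ⟶ pullback (f ≫ g) g) :=
    isQCHom_of_isPullback (pullback_lift_diagonal_isPullback f g) hg
  have h2 : IsQCHom (pullback.snd (f ≫ g) g) := isQCHom_pullback_snd _ _ h
  have := isQCHom_comp _ _ h1 h2
  rwa [pullback.lift_snd] at this

theorem isQS_of_isQSHom {X Y : Sh J} (f : X ⟶ Y) (hf : IsQSHom f) (hY : IsQS Y) : IsQS X := by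
  intro A B a b hA hB
  have h1 : IsQC (pullback (a ≫ f) (b ≫ f)) := hY A B _ _ hA hB
  exact isQC_of_iso (pullbackDiagonalMapIdIso a b f) (hf _ _ h1)

theorem isQCHom_of_finite_je {κ : Type*} [Finite κ] {Y Z : Sh J} (g : Y ⟶ Z) (X : κ → Sh J)
    (f : ∀ k, X k ⟶ Y) (hf : JE f) (h : ∀ k, IsQCHom (f k ≫ g)) : IsQCHom g := by
  intro T t hT
  refine isQC_of_finite_je (fun k => pullback (f k) (pullback.fst g t))
    (fun k => pullback.snd (f k) (pullback.fst g t)) (je_pullback f _ hf) ?_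
  intro k
  exact isQC_of_iso (pullbackRightPullbackFstIso g t (f k)).symm (h k T t hT)

end Groth.Agent.Helper5.ToposFin
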