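import Groth.Agent.Lib.Helper5.ToposFin4
import Groth.Agent.Lib.Helper5.CatPb

set_option autoImplicit false
set_option linter.style.haveILetI false

universe u

open CategoryTheory CategoryTheory.Limits Opposite

namespace Groth.Agent.Helper5.ToposFin

variable {C : Type u} [SmallCategory C] {J : GrothendieckTopology C}

open _root_.ToposFin

/-! ### more tools on jointly epimorphic families -/

theorem je_of_isPullback {ι : Type*} {F : ι → Sh J} {X X' : Sh J} (π : ∀ i, F i ⟶ X)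
    (g : X' ⟶ X) (h : JE π) {P : ι → Sh J} (fst : ∀ i, P i ⟶ F i) (snd : ∀ i, P i ⟶ X')
    (hp : ∀ i, IsPullback (fst i) (snd i) (π i) g) : JE snd := by
  intro Z a b hab
  apply je_pullback π g h
  intro i
  have : pullback.snd (π i) g = (hp i).isoPullback.inv ≫ snd i :=
    ((hp i).isoPullback_inv_snd).symm
  show pullback.snd (π i) g ≫ a = pullback.snd (π i) g ≫ b
  rw [this, Category.assoc, Category.assoc, hab i]

theorem je_sigma {ι : Type*} {κ : ι → Type*} {F : ι → Sh J} {G : ∀ i, κ i → Sh J} {X : Sh J}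
    (π : ∀ i, F i ⟶ X) (ρ : ∀ i (k : κ i), G i k ⟶ F i) (h : JE π) (hρ : ∀ i, JE (ρ i)) :
    JE (fun p : Σ i, κ i => ρ p.1 p.2 ≫ π p.1) := by
  intro Z a b hab
  apply h
  intro i
  apply hρ i
  intro k
  have := hab ⟨i, k⟩
  simpa using this

theorem je_of_comp_left {ι : Type*} {F G : ι → Sh J} {X : Sh J} (e : ∀ i, G i ⟶ F i)
    (π : ∀ i, F i ⟶ X) (h : JE (fun i => e i ≫ π i)) : JE π := by
  intro Z a b hab
  apply h
  intro i
  rw [Category.assoc, Category.assoc, hab i]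

theorem je_of_reindex {ι κ : Type*} {F : ι → Sh J} {X : Sh J} (π : ∀ i, F i ⟶ X) (φ : κ → ι)
    (h : JE (fun k => π (φ k))) : JE π := by
  intro Z a b hab
  apply h
  intro k
  exact hab (φ k)

theorem je_reindex_surj {ι κ : Type*} {F : ι → Sh J} {X : Sh J} (π : ∀ i, F i ⟶ X) (φ : κ → ι)
    (hφ : Function.Surjective φ) (h : JE π) : JE (fun k => π (φ k)) := by
  intro Z a b hab
  apply h
  intro i
  obtain ⟨k, rfl⟩ := hφ i
  exact hab k

theorem je_comp_epi {ι : Type*} {F : ι → Sh J} {X Y : Sh J} (π : ∀ i, F i ⟶ X) (p : X ⟶ Y)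
    [Epi p] (h : JE π) : JE (fun i => π i ≫ p) := by
  intro Z a b hab
  rw [← cancel_epi p]
  apply h
  intro i
  simpa using hab i

/-! ### covers by quasi-compact objects -/

theorem exists_qc_cover (hE : HasQCGenerators J) (X : Sh J) :
    ∃ (ι : Type u) (F : ι → Sh J) (π : ∀ i, F i ⟶ X), (∀ i, IsQC (F i)) ∧ JE π := by
  obtain ⟨ι, F, π, h1, h2⟩ := hE X
  exact ⟨ι, F, π, h1, (epi_sigmaDesc_iff π).mp h2⟩

theorem hasQCGenerators_of_family {α : Type u} (G : α → Sh J) (hG : ∀ a, IsQC (G a))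
    (hgen : ∀ X : Sh J, ∃ (ι : Type u) (a : ι → α) (π : ∀ i, G (a i) ⟶ X),
      Epi (Limits.Sigma.desc π)) : HasQCGenerators J := by
  intro X
  obtain ⟨ι, a, π, h⟩ := hgen X
  exact ⟨ι, fun i => G (a i), π, fun i => hG _, h⟩

/-- A quasi-compact object over `Y` admits a finite cover by quasi-compact objects each of which
factors through a member of a given jointly epimorphic family over `Y`. -/
theorem exists_finite_qc_refinement (hE : HasQCGenerators J) {T Y : Sh J} (hT : IsQC T)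
    (t : T ⟶ Y) {ι : Type u} {Yi : ι → Sh J} (g : ∀ i, Yi i ⟶ Y) (hg : JE g) :
    ∃ (κ : Type u) (_ : Finite κ) (Q : κ → Sh J) (q : ∀ k, Q k ⟶ T) (idx : κ → ι)
      (r : ∀ k, Q k ⟶ Yi (idx k)), (∀ k, IsQC (Q k)) ∧ JE q ∧ ∀ k, q k ≫ t = r k ≫ g (idx k) := by
  have h1 : JE (fun i => pullback.snd (g i) t) := je_pullback g t hg
  have h2 : ∀ i, ∃ (κ : Type u) (F : κ → Sh J) (π : ∀ k, F k ⟶ pullback (g i) t),
      (∀ k, IsQC (F k)) ∧ JE π := fun i => exists_qc_cover hE _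
  choose κ' Q' ρ hQ' hρ using h2
  have h3 := je_sigma (fun i => pullback.snd (g i) t) ρ h1 hρ
  obtain ⟨s, hs⟩ := (isQC_iff T).mp hT _ _ _ h3
  refine ⟨s, inferInstance, fun k => Q' k.1.1 k.1.2,
    fun k => ρ k.1.1 k.1.2 ≫ pullback.snd (g k.1.1) t, fun k => k.1.1,
    fun k => ρ k.1.1 k.1.2 ≫ pullback.fst (g k.1.1) t, fun k => hQ' _ _, hs, ?_⟩
  intro k
  rw [Category.assoc, Category.assoc, pullback.condition]

/-- Quasi-compactness of a pullback can be tested on a finite cover of one factor. -/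
theorem isQC_of_cover_isPullback {P X Y T : Sh J} {fst : P ⟶ X} {snd : P ⟶ T} {f : X ⟶ Y}
    {t : T ⟶ Y} (h : IsPullback fst snd f t) {κ : Type*} [Finite κ] (F : κ → Sh J)
    (π : ∀ k, F k ⟶ T) (hπ : JE π) (hq : ∀ k, IsQC (pullback f (π k ≫ t))) : IsQC P := by
  refine isQC_of_finite_je (fun k => pullback snd (π k)) (fun k => pullback.fst snd (π k)) ?_ ?_
  · exact je_of_isPullback π snd hπ (fun k => pullback.snd snd (π k))
      (fun k => pullback.fst snd (π k)) (fun k => (IsPullback.of_hasPullback snd (π k)).flip)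
  · intro k
    have h1 := (IsPullback.of_hasPullback snd (π k)).paste_horiz h
    exact isQC_of_iso h1.isoPullback.symm (hq k)

/-- Quasi-compactness of a morphism is local on the target (for a topos with enough
quasi-compact objects): test on quasi-compact objects factoring through a cover. -/
theorem isQCHom_of_local (hE : HasQCGenerators J) {X Y : Sh J} (f : X ⟶ Y) {ι : Type u}
    {Yi : ι → Sh J} (g : ∀ i, Yi i ⟶ Y) (hg : JE g)
    (h : ∀ (i : ι) (Q : Sh J) (r : Q ⟶ Yi i), IsQC Q → IsQC (pullback f (r ≫ g i))) :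
    IsQCHom f := by
  intro T t hT
  obtain ⟨κ, hκ, Q, q, idx, r, hQ, hq, hr⟩ := exists_finite_qc_refinement hE hT t g hg
  refine isQC_of_cover_isPullback (IsPullback.of_hasPullback f t) Q q hq ?_
  intro k
  exact isQC_of_iso (pullback.congrHom rfl (hr k)).symm (h _ _ _ (hQ k))

theorem isQCHom_of_local_isPullback (hE : HasQCGenerators J) {X Y : Sh J} (f : X ⟶ Y)
    {ι : Type u} {Yi : ι → Sh J} (g : ∀ i, Yi i ⟶ Y) (hg : JE g) {P : ι → Sh J}
    (fst : ∀ i, P i ⟶ X) (f' : ∀ i, P i ⟶ Yi i) (hp : ∀ i, IsPullback (fst i) (f' i) f (g i))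
    (hf' : ∀ i, IsQCHom (f' i)) : IsQCHom f := by
  refine isQCHom_of_local hE f g hg ?_
  intro i Q r hQ
  have h1 := (IsPullback.of_hasPullback (f' i) r).paste_horiz (hp i)
  exact isQC_of_iso h1.isoPullback (hf' i Q r hQ)

/-! ### quasi-separated morphisms -/

theorem isQCHom_of_isQC_of_isQS {X Y : Sh J} (f : X ⟶ Y) (hX : IsQC X) (hY : IsQS Y) :
    IsQCHom f := fun T t hT => hY X T f t hX hT

theorem isQSHom_of_mono {X Y : Sh J} (f : X ⟶ Y) [Mono f] : IsQSHom f :=
  isQCHom_of_isIso (pullback.diagonal f)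

theorem isQSHom_of_isPullback {P X Y Y' : Sh J} {fst : P ⟶ X} {snd : P ⟶ Y'} {f : X ⟶ Y}
    {g : Y' ⟶ Y} (h : IsPullback fst snd f g) (hf : IsQSHom f) : IsQSHom snd :=
  isQCHom_of_isPullback (CatPb.isPullback_diagonal h) hf

theorem isQSHom_of_isPullback' {P X Y Y' : Sh J} {fst : P ⟶ X} {snd : P ⟶ Y'} {f : X ⟶ Y}
    {g : Y' ⟶ Y} (h : IsPullback fst snd f g) (hg : IsQSHom g) : IsQSHom fst :=
  isQSHom_of_isPullback h.flip hg

theorem isQSHom_comp {X Y Z : Sh J} (f : X ⟶ Y) (g : Y ⟶ Z) (hf : IsQSHom f) (hg : IsQSHom g) :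
    IsQSHom (f ≫ g) := by
  unfold IsQSHom at hf hg ⊢
  rw [pullback.diagonal_comp]
  refine isQCHom_comp _ _ hf (isQCHom_comp _ _ (isQCHom_of_isIso _) ?_)
  exact isQCHom_pullback_snd _ _ hg

theorem isCohHom_comp {X Y Z : Sh J} (f : X ⟶ Y) (g : Y ⟶ Z) (hf : IsCohHom f) (hg : IsCohHom g) :
    IsCohHom (f ≫ g) :=
  ⟨isQCHom_comp _ _ hf.1 hg.1, isQSHom_comp _ _ hf.2 hg.2⟩

/-- Quasi-separatedness of a morphism is local on the target. -/
theorem isQSHom_of_local_isPullback (hE : HasQCGenerators J) {X Y : Sh J} (f : X ⟶ Y)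
    {ι : Type u} {Yi : ι → Sh J} (g : ∀ i, Yi i ⟶ Y) (hg : JE g) {P : ι → Sh J}
    (fst : ∀ i, P i ⟶ X) (f' : ∀ i, P i ⟶ Yi i) (hp : ∀ i, IsPullback (fst i) (f' i) f (g i))
    (hf' : ∀ i, IsQSHom (f' i)) : IsQSHom f := by
  refine isQCHom_of_local_isPullback hE (pullback.diagonal f)
    (fun i => pullback.map (f' i) (f' i) f f (fst i) (fst i) (g i) (hp i).w.symm (hp i).w.symm) ?_
    fst (fun i => pullback.diagonal (f' i)) (fun i => CatPb.isPullback_diagonal (hp i)) hf'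
  exact je_of_isPullback g (pullback.fst f f ≫ f) hg _ _
    (fun i => (CatPb.isPullback_map_self (hp i)).flip)

end Groth.Agent.Helper5.ToposFin
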