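import Groth.Agent.Lib.Helper5.ToposFin5

set_option autoImplicit false
set_option linter.style.haveILetI false

universe u

open CategoryTheory CategoryTheory.Limits Opposite

namespace Groth.Agent.Helper5.ToposFin

variable {C : Type u} [SmallCategory C] {J : GrothendieckTopology C}

open _root_.ToposFin

/-- An object is quasi-separated iff every morphism from a quasi-compact object to it is
quasi-compact. -/
theorem isQS_iff_forall_isQCHom (Y : Sh J) :
    IsQS Y ↔ ∀ (A : Sh J) (a : A ⟶ Y), IsQC A → IsQCHom a :=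
  ⟨fun h A a hA => isQCHom_of_isQC_of_isQS a hA h, fun h A B a b hA hB => h A a hA B b hB⟩

/-- Quasi-separatedness from a cover by quasi-separated objects with quasi-compact structure
maps. -/
theorem isQS_of_cover (hE : HasQCGenerators J) {Y : Sh J} {ι : Type u} (Yi : ι → Sh J)
    (g : ∀ i, Yi i ⟶ Y) (hg : JE g) (hqs : ∀ i, IsQS (Yi i)) (hqc : ∀ i, IsQCHom (g i)) :
    IsQS Y := by
  rw [isQS_iff_forall_isQCHom]
  intro A a hA
  obtain ⟨κ, hκ, Q, q, idx, r, hQ, hq, hr⟩ := exists_finite_qc_refinement hE hA a g hg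
  refine isQCHom_of_finite_je a Q q hq ?_
  intro k
  rw [hr k]
  exact isQCHom_comp _ _ (isQCHom_of_isQC_of_isQS _ (hQ k) (hqs _)) (hqc _)

/-- Quasi-separatedness tested on a generating family of quasi-compact objects. -/
theorem isQS_of_generators {α : Type u} (G : α → Sh J)
    (hgen : ∀ X : Sh J, ∃ (ι : Type u) (a : ι → α) (π : ∀ i, G (a i) ⟶ X),
      Epi (Limits.Sigma.desc π)) (Y : Sh J)
    (h : ∀ (a : α) (s : G a ⟶ Y), IsQCHom s) : IsQS Y := by
  rw [isQS_iff_forall_isQCHom]
  intro A a' hA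
  obtain ⟨ι, a, π, hπ⟩ := hgen A
  have hπ' := (epi_sigmaDesc_iff π).mp hπ
  obtain ⟨s, hs⟩ := (isQC_iff A).mp hA _ _ _ hπ'
  exact isQCHom_of_finite_je a' (fun i : s => G (a i)) (fun i : s => π i) hs (fun i => h _ _)

end Groth.Agent.Helper5.ToposFin
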