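import Groth.Agent.Lib.Helper5.ToposFin6

set_option autoImplicit false
set_option linter.style.haveILetI false

universe u

open CategoryTheory CategoryTheory.Limits Opposite

namespace Groth.Agent.Helper5.ToposFin

variable {C : Type u} [SmallCategory C] {J : GrothendieckTopology C}

open _root_.ToposFin

/-- Fibre products of jointly epimorphic families are jointly epimorphic. -/
theorem je_pullback_map {Y Y' Z : Sh J} (p : Y ⟶ Z) (p' : Y' ⟶ Z) {ι ι' : Type*}
    {X : ι → Sh J} {X' : ι' → Sh J} (f : ∀ i, X i ⟶ Y) (f' : ∀ j, X' j ⟶ Y') (hf : JE f)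
    (hf' : JE f') :
    JE (fun ij : ι × ι' => pullback.map (f ij.1 ≫ p) (f' ij.2 ≫ p') p p' (f ij.1) (f' ij.2) (𝟙 Z)
      (Category.comp_id _) (Category.comp_id _)) := by
  have h1 : JE (fun j => pullback.map p (f' j ≫ p') p p' (𝟙 Y) (f' j) (𝟙 Z) (by simp) (by simp)) :=
    je_of_isPullback f' (pullback.snd p p') hf' _ _
      (fun j => (CatPb.isPullback_map_right p p' (f' j)).flip)
  have h2 : ∀ j, JE (fun i => pullback.map (f i ≫ p) (f' j ≫ p') p (f' j ≫ p') (f i) (𝟙 _) (𝟙 Z)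
      (by simp) (by simp)) := fun j =>
    je_of_isPullback f (pullback.fst p (f' j ≫ p')) hf _ _
      (fun i => (CatPb.isPullback_map_left p (f' j ≫ p') (f i)).flip)
  intro W a b hab
  apply h1
  intro j
  apply h2 j
  intro i
  have e := CatPb.map_comp_map p p' (f i) (f' j)
  have h3 : (pullback.map (f i ≫ p) (f' j ≫ p') p (f' j ≫ p') (f i) (𝟙 (X' j)) (𝟙 Z) (by simp)
      (by simp) ≫ pullback.map p (f' j ≫ p') p p' (𝟙 Y) (f' j) (𝟙 Z) (by simp) (by simp)) ≫ a =
      (pullback.map (f i ≫ p) (f' j ≫ p') p (f' j ≫ p') (f i) (𝟙 (X' j)) (𝟙 Z) (by simp)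
      (by simp) ≫ pullback.map p (f' j ≫ p') p p' (𝟙 Y) (f' j) (𝟙 Z) (by simp) (by simp)) ≫ b := by
    rw [e]
    exact hab (i, j)
  exact (Category.assoc _ _ _).symm.trans (h3.trans (Category.assoc _ _ _))

set_option backward.isDefEq.respectTransparency false in
/-- SGA4 VI 1.11-type statement: descent of quasi-separatedness along a quasi-compact cover of the
source. -/
theorem isQSHom_of_cover_source (hE : HasQCGenerators J) {Y Z : Sh J} (g : Y ⟶ Z) {ι : Type u}
    (X : ι → Sh J) (f : ∀ i, X i ⟶ Y) (hf : JE f) (hqc : ∀ i, IsQCHom (f i))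
    (hqs : ∀ i, IsQSHom (f i ≫ g)) : IsQSHom g := by
  refine isQCHom_of_local_isPullback hE (pullback.diagonal g)
    (fun ij : ι × ι => pullback.map (f ij.1 ≫ g) (f ij.2 ≫ g) g g (f ij.1) (f ij.2) (𝟙 Z)
      (Category.comp_id _) (Category.comp_id _)) (je_pullback_map g g f f hf hf) _ _
    (fun ij => pullback_map_diagonal_isPullback (f ij.1) (f ij.2) g) ?_
  rintro ⟨i, j⟩
  refine isQCHom_of_comp_of_isQSHom _ (pullback.fst (f i ≫ g) (f j ≫ g)) ?_ ?_
  · exact isQSHom_of_isPullback' (IsPullback.of_hasPullback (f i ≫ g) (f j ≫ g)) (hqs j)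
  · have : pullback.map (f i) (f j) (f i ≫ g) (f j ≫ g) (𝟙 _) (𝟙 _) g (Category.id_comp _).symm
        (Category.id_comp _).symm ≫ pullback.fst (f i ≫ g) (f j ≫ g) = pullback.fst (f i) (f j) := by
      simp
    rw [this]
    exact isQCHom_pullback_fst _ _ (hqc j)

/-- A morphism with quasi-separated source is quasi-separated as soon as the fibre products of a
quasi-compact cover of the source are quasi-separated. -/
theorem isQSHom_of_isQS_source (hE : HasQCGenerators J) {X Y : Sh J} (f : X ⟶ Y) {ι : Type u}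
    (Xi : ι → Sh J) (g : ∀ i, Xi i ⟶ X) (hg : JE g) (hqc : ∀ i, IsQC (Xi i))
    (hqs : ∀ i j, IsQS (pullback (g i ≫ f) (g j ≫ f))) (hX : IsQS X) : IsQSHom f := by
  refine isQCHom_of_local_isPullback hE (pullback.diagonal f)
    (fun ij : ι × ι => pullback.map (g ij.1 ≫ f) (g ij.2 ≫ f) f f (g ij.1) (g ij.2) (𝟙 Y)
      (Category.comp_id _) (Category.comp_id _)) (je_pullback_map f f g g hg hg) _ _
    (fun ij => pullback_map_diagonal_isPullback (g ij.1) (g ij.2) f) ?_
  rintro ⟨i, j⟩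
  exact isQCHom_of_isQC_of_isQS _ (hX _ _ (g i) (g j) (hqc i) (hqc j)) (hqs i j)

theorem isQS_of_mono {X Y : Sh J} (i : X ⟶ Y) [Mono i] (hY : IsQS Y) : IsQS X :=
  isQS_of_isQSHom i (isQSHom_of_mono i) hY

end Groth.Agent.Helper5.ToposFin
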