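import Groth.Agent.Lib.Helper5.ToposFin7
import Groth.Prelude.Def_ToposFin2

set_option autoImplicit false
set_option linter.style.haveILetI false

universe u

open CategoryTheory CategoryTheory.Limits Opposite

namespace Groth.Agent.Helper5.ToposFin

variable {C : Type u} [SmallCategory C] {J : GrothendieckTopology C}

open _root_.ToposFin

/-! ### products of morphisms -/

theorem isQCHom_pullback_map {X Y X' Y' S : Sh J} (f : X ⟶ Y) (f' : X' ⟶ Y') (a : Y ⟶ S)
    (a' : Y' ⟶ S) (hf : IsQCHom f) (hf' : IsQCHom f') :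
    IsQCHom (pullback.map (f ≫ a) (f' ≫ a') a a' f f' (𝟙 S) (Category.comp_id _)
      (Category.comp_id _)) := by
  rw [← CatPb.map_comp_map a a' f f']
  exact isQCHom_comp _ _ (isQCHom_of_isPullback' (CatPb.isPullback_map_left a (f' ≫ a') f) hf)
    (isQCHom_of_isPullback' (CatPb.isPullback_map_right a a' f') hf')

theorem isQSHom_pullback_map {X Y X' Y' S : Sh J} (f : X ⟶ Y) (f' : X' ⟶ Y') (a : Y ⟶ S)
    (a' : Y' ⟶ S) (hf : IsQSHom f) (hf' : IsQSHom f') :
    IsQSHom (pullback.map (f ≫ a) (f' ≫ a') a a' f f' (𝟙 S) (Category.comp_id _)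
      (Category.comp_id _)) := by
  rw [← CatPb.map_comp_map a a' f f']
  exact isQSHom_comp _ _ (isQSHom_of_isPullback' (CatPb.isPullback_map_left a (f' ≫ a') f) hf)
    (isQSHom_of_isPullback' (CatPb.isPullback_map_right a a' f') hf')

/-! ### generating sets -/

theorem isQS_of_iso {X Y : Sh J} (e : X ≅ Y) (hX : IsQS X) : IsQS Y :=
  isQS_of_mono e.inv hX

theorem isCoherent_of_iso {X Y : Sh J} (e : X ≅ Y) (hX : IsCoherent X) : IsCoherent Y :=
  ⟨isQC_of_iso e hX.1, isQS_of_iso e hX.2⟩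

theorem exists_cover_of_isGenerating {S : Set (Sh J)} (hgen : IsGenerating S) (X : Sh J) :
    ∃ (ι : Type u) (F : ι → Sh J) (π : ∀ i, F i ⟶ X), (∀ i, F i ∈ S) ∧ JE π := by
  obtain ⟨ι, F, π, h1, h2⟩ := hgen X
  exact ⟨ι, F, π, h1, fun Z a b h => h2 Z a b h⟩

theorem hasQCGenerators_of_isGenerating {S : Set (Sh J)} (hqc : ∀ K ∈ S, IsQC K)
    (hgen : IsGenerating S) : HasQCGenerators J := by
  intro X
  obtain ⟨ι, F, π, h1, h2⟩ := exists_cover_of_isGenerating hgen X
  exact ⟨ι, F, π, fun i => hqc _ (h1 i), (epi_sigmaDesc_iff π).mpr h2⟩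

theorem exists_finite_cover_of_isGenerating {S : Set (Sh J)} (hgen : IsGenerating S) {X : Sh J}
    (hX : IsQC X) : ∃ (κ : Type u) (_ : Finite κ) (F : κ → Sh J) (π : ∀ k, F k ⟶ X),
      (∀ k, F k ∈ S) ∧ JE π := by
  obtain ⟨ι, F, π, h1, h2⟩ := exists_cover_of_isGenerating hgen X
  obtain ⟨s, hs⟩ := (isQC_iff X).mp hX _ _ _ h2
  exact ⟨s, inferInstance, fun k => F k, fun k => π k, fun k => h1 _, hs⟩

theorem isQCHom_of_isGenerating {S : Set (Sh J)} (hgen : IsGenerating S) {X Y : Sh J} (f : X ⟶ Y)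
    (h : ∀ K ∈ S, ∀ s : K ⟶ Y, IsQC (pullback f s)) : IsQCHom f := by
  intro T t hT
  obtain ⟨κ, hκ, F, π, hF, hπ⟩ := exists_finite_cover_of_isGenerating hgen hT
  exact isQC_of_cover_isPullback (IsPullback.of_hasPullback f t) F π hπ (fun k => h _ (hF k) _)

theorem isQS_of_isGenerating {S : Set (Sh J)} (hgen : IsGenerating S) (Y : Sh J)
    (h : ∀ K ∈ S, ∀ s : K ⟶ Y, IsQCHom s) : IsQS Y := by
  rw [isQS_iff_forall_isQCHom]
  intro A a hA
  obtain ⟨κ, hκ, F, π, hF, hπ⟩ := exists_finite_cover_of_isGenerating hgen hA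
  exact isQCHom_of_finite_je a F π hπ (fun k => h _ (hF k) _)

theorem isQS_of_isGenerating' {S : Set (Sh J)} (hgen : IsGenerating S) (Y : Sh J)
    (h : ∀ K ∈ S, ∀ L ∈ S, ∀ (s : K ⟶ Y) (n : L ⟶ Y), IsQC (pullback s n)) : IsQS Y :=
  isQS_of_isGenerating hgen Y (fun K hK s => isQCHom_of_isGenerating hgen s
    (fun L hL n => h K hK L hL s n))

/-- Members of a generating set of quasi-compact objects closed under fibre products are
coherent. -/
theorem isCoherent_of_mem {S : Set (Sh J)} (hqc : ∀ K ∈ S, IsQC K) (hgen : IsGenerating S)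
    (hpb : ClosedUnderPullbacks S) {M : Sh J} (hM : M ∈ S) : IsCoherent M := by
  refine ⟨hqc M hM, isQS_of_isGenerating' hgen M ?_⟩
  intro K hK L hL s n
  obtain ⟨P, p, q, hP, hpq⟩ := hpb s n hK hL hM
  exact isQC_of_iso hpq.isoPullback (hqc P hP)

/-- In an algebraic topos, fibre products of members of the generating set over any object are
quasi-separated. -/
theorem isQS_pullback_of_mem {S : Set (Sh J)} (hqc : ∀ K ∈ S, IsQC K) (hgen : IsGenerating S)
    (hpb : ClosedUnderPullbacks S) (heq : ClosedUnderEqualizers S) {K L Y : Sh J} (hK : K ∈ S)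
    (hL : L ∈ S) (k : K ⟶ Y) (l : L ⟶ Y) : IsQS (pullback k l) := by
  refine isQS_of_isGenerating' hgen _ ?_
  intro M hM N hN s n
  obtain ⟨P, p, q, hP, hpq⟩ := hpb (s ≫ pullback.fst k l) (n ≫ pullback.fst k l) hM hN hK
  obtain ⟨E, e, w, hE, ⟨he⟩⟩ := heq (p ≫ s ≫ pullback.snd k l) (q ≫ n ≫ pullback.snd k l) hP hL
  have := CatPb.isPullback_of_equalizer (pullback.fst k l) (pullback.snd k l)
    (fun W u v h1 h2 => pullback.hom_ext h1 h2) s n hpq e w he
  exact isQC_of_iso this.isoPullback (hqc E hE)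

/-- In an algebraic topos every morphism with quasi-separated source is quasi-separated. -/
theorem isQSHom_of_isQS_of_isAlgebraic (hE : IsAlgebraic J) {X Y : Sh J} (f : X ⟶ Y)
    (hX : IsQS X) : IsQSHom f := by
  obtain ⟨S, hqc, hgen, hpb, heq⟩ := hE
  obtain ⟨ι, F, π, hF, hπ⟩ := exists_cover_of_isGenerating hgen X
  exact isQSHom_of_isQS_source (hasQCGenerators_of_isGenerating hqc hgen) f F π hπ
    (fun i => hqc _ (hF i)) (fun i j => isQS_pullback_of_mem hqc hgen hpb heq (hF i) (hF j) _ _) hX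

theorem hasQCGenerators_of_isAlgebraic (hE : IsAlgebraic J) : HasQCGenerators J := by
  obtain ⟨S, hqc, hgen, -, -⟩ := hE
  exact hasQCGenerators_of_isGenerating hqc hgen

/-- With a generating set of quasi-compact objects closed under fibre products, a morphism from a
quasi-separated object to a member of the set is quasi-separated. -/
theorem isQSHom_of_isQS_of_mem {S : Set (Sh J)} (hqc : ∀ K ∈ S, IsQC K) (hgen : IsGenerating S)
    (hpb : ClosedUnderPullbacks S) {P K : Sh J} (hK : K ∈ S) (h : P ⟶ K) (hP : IsQS P) :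
    IsQSHom h := by
  obtain ⟨ι, F, π, hF, hπ⟩ := exists_cover_of_isGenerating hgen P
  refine isQSHom_of_isQS_source (hasQCGenerators_of_isGenerating hqc hgen) h F π hπ
    (fun i => hqc _ (hF i)) ?_ hP
  intro i j
  obtain ⟨Q, p, q, hQ, hpq⟩ := hpb (π i ≫ h) (π j ≫ h) (hF i) (hF j) hK
  exact isQS_of_iso hpq.isoPullback (isCoherent_of_mem hqc hgen hpb hQ).2

end Groth.Agent.Helper5.ToposFin
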