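import Groth.Agent.Lib.Helper5.ToposFin8

set_option autoImplicit false
set_option linter.style.haveILetI false

universe u

open CategoryTheory CategoryTheory.Limits Opposite

namespace Groth.Agent.Helper5.ToposFin

variable {C : Type u} [SmallCategory C] {J : GrothendieckTopology C}

open _root_.ToposFin

/-- Quasi-separatedness from a cover by coherent objects with quasi-compact double
intersections. -/
theorem isQS_of_cover_pullback_qc (hE : HasQCGenerators J) {Y : Sh J} {ι : Type u}
    (Yi : ι → Sh J) (g : ∀ i, Yi i ⟶ Y) (hg : JE g) (hY : ∀ i, IsCoherent (Yi i))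
    (h : ∀ i j, IsQC (pullback (g i) (g j))) : IsQS Y := by
  refine isQS_of_cover hE Yi g hg (fun i => (hY i).2) ?_
  intro i
  refine isQCHom_of_local_isPullback hE (g i) g hg _ _
    (fun j => IsPullback.of_hasPullback (g i) (g j)) ?_
  intro j
  exact isQCHom_of_isQC_of_isQS _ (h i j) (hY j).2

variable {D : Type u} [SmallCategory D] {K : GrothendieckTopology D}

theorem je_map_of_adj (F : Sh K ⥤ Sh J) (R : Sh J ⥤ Sh K) (adj : F ⊣ R) {ι : Type*}
    {X : ι → Sh K} {Y : Sh K} (π : ∀ i, X i ⟶ Y) (h : JE π) : JE (fun i => F.map (π i)) := by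
  intro Z a b hab
  apply (adj.homEquiv _ _).injective
  apply h
  intro i
  rw [← adj.homEquiv_naturality_left, ← adj.homEquiv_naturality_left]
  exact congrArg _ (hab i)

/-- An inverse image functor preserves quasi-compact objects as soon as it does so on a
generating set. -/
theorem isQC_map_of_isGenerating (F : Sh K ⥤ Sh J) (R : Sh J ⥤ Sh K) (adj : F ⊣ R)
    (S : Set (Sh K)) (hgen : IsGenerating S) (h : ∀ X ∈ S, IsQC (F.obj X)) (X : Sh K)
    (hX : IsQC X) : IsQC (F.obj X) := by
  obtain ⟨κ, hκ, G, π, hG, hπ⟩ := exists_finite_cover_of_isGenerating hgen hX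
  exact isQC_of_finite_je (fun k => F.obj (G k)) (fun k => F.map (π k))
    (je_map_of_adj F R adj π hπ) (fun k => h _ (hG k))

/-- An inverse image functor preserves quasi-separated objects as soon as it sends a generating set
of coherent objects to coherent objects. -/
theorem isQS_map_of_isGenerating (F : Sh K ⥤ Sh J) (R : Sh J ⥤ Sh K) (adj : F ⊣ R)
    [PreservesFiniteLimits F] (hE' : HasQCGenerators J)
    (S : Set (Sh K)) (hS : ∀ X ∈ S, IsCoherent X) (hgen : IsGenerating S)
    (h : ∀ X ∈ S, IsCoherent (F.obj X)) (X : Sh K) (hX : IsQS X) : IsQS (F.obj X) := by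
  obtain ⟨ι, G, π, hG, hπ⟩ := exists_cover_of_isGenerating hgen X
  refine isQS_of_cover_pullback_qc hE' (fun i => F.obj (G i)) (fun i => F.map (π i))
    (je_map_of_adj F R adj π hπ) (fun i => h _ (hG i)) ?_
  intro i j
  refine isQC_of_iso (PreservesPullback.iso F (π i) (π j)) ?_
  exact isQC_map_of_isGenerating F R adj S hgen (fun X hX => (h X hX).1) _
    (hX _ _ (π i) (π j) (hS _ (hG i)).1 (hS _ (hG j)).1)

end Groth.Agent.Helper5.ToposFin
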