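import Groth.Agent.Lib.Helper5.ToposFinEps4

set_option autoImplicit false
set_option linter.style.haveILetI false

universe u

open CategoryTheory CategoryTheory.Limits Opposite

namespace Groth.Agent.Helper5.ToposFin

variable {C : Type u} [SmallCategory C] {J : GrothendieckTopology C}

open _root_.ToposFin

theorem epsMap_secHom {U V : C} (f : U ⟶ V) {F : Sh J} (x : F.obj.obj (op V)) :
    epsMap J f ≫ secHom x = secHom (F.obj.map f.op x) := by
  apply eps_hom_ext
  rw [hom_app_comp_apply, epsMap_etaSec, NatTrans.naturality_apply, secHom_etaSec, secHom_etaSec]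

theorem secHom_injective {U : C} {F : Sh J} (x y : F.obj.obj (op U)) (h : secHom x = secHom y) :
    x = y := by
  rw [← secHom_etaSec (J := J) x, h, secHom_etaSec]

/-- Criterion: the cofan `(eps X, eps (s i))` is a coproduct iff every sheaf turns it into a
product. -/
theorem isColimit_cofan_eps_iff {X : C} {ι : Type u} (Y : ι → C) (s : ∀ i, Y i ⟶ X) :
    Nonempty (IsColimit (Cofan.mk (eps J X) (fun i => epsMap J (s i)))) ↔
      ∀ F : Sh J, Function.Bijective
        (fun (x : F.obj.obj (op X)) (i : ι) => F.obj.map (s i).op x) := by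
  constructor
  · rintro ⟨hc⟩ F
    constructor
    · intro x x' hxx
      apply secHom_injective (J := J)
      refine Cofan.IsColimit.hom_ext hc _ _ (fun i => ?_)
      show epsMap J (s i) ≫ secHom x = epsMap J (s i) ≫ secHom x'
      rw [epsMap_secHom, epsMap_secHom]
      exact congrArg secHom (congrFun hxx i)
    · intro y
      let d : eps J X ⟶ F := Cofan.IsColimit.desc hc (fun i => secHom (y i))
      refine ⟨d.hom.app (op X) (etaSec J X), ?_⟩
      funext i
      have h1 : epsMap J (s i) ≫ d = secHom (y i) :=
        Cofan.IsColimit.fac hc (fun i => secHom (y i)) i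
      have h2 := congrArg (fun t => t.hom.app (op (Y i)) (etaSec J (Y i))) h1
      simp only [hom_app_comp_apply, epsMap_etaSec, NatTrans.naturality_apply, secHom_etaSec] at h2
      exact h2
  · intro h
    have hx : ∀ (t : Cofan (fun i => eps J (Y i))),
        ∃ x : t.pt.obj.obj (op X), ∀ i, t.pt.obj.map (s i).op x =
          (t.inj i).hom.app (op (Y i)) (etaSec J (Y i)) := by
      intro t
      obtain ⟨x, hx⟩ := (h t.pt).2 (fun i => (t.inj i).hom.app (op (Y i)) (etaSec J (Y i)))
      exact ⟨x, fun i => congrFun hx i⟩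
    choose x hx using hx
    refine ⟨Cofan.IsColimit.mk _ (fun t => secHom (x t)) ?_ ?_⟩
    · intro t i
      show epsMap J (s i) ≫ secHom (x t) = t.inj i
      rw [epsMap_secHom, hx, secHom_app_etaSec]
    · intro t m hm
      rw [← secHom_app_etaSec m]
      congr 1
      apply (h t.pt).1
      funext i
      show t.pt.obj.map (s i).op _ = t.pt.obj.map (s i).op _
      rw [hx]
      have h1 : epsMap J (s i) ≫ m = t.inj i := hm i
      rw [← h1, hom_app_comp_apply, epsMap_etaSec, NatTrans.naturality_apply]

/-- Morphisms from a presheaf into a sheaf are determined after precomposition with a morphism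
whose sheafification is an epimorphism. -/
theorem presheaf_hom_ext_of_epi {P Q : Cᵒᵖ ⥤ Type u} (f : P ⟶ Q)
    [Epi ((presheafToSheaf J (Type u)).map f)] (F : Sh J) (φ ψ : Q ⟶ F.obj)
    (h : f ≫ φ = f ≫ ψ) : φ = ψ := by
  let adj := sheafificationAdjunction J (Type u)
  have h1 : (adj.homEquiv Q F).symm φ = (adj.homEquiv Q F).symm ψ := by
    rw [← cancel_epi ((presheafToSheaf J (Type u)).map f),
      ← adj.homEquiv_naturality_left_symm, ← adj.homEquiv_naturality_left_symm]
    exact congrArg _ h
  exact (adj.homEquiv Q F).symm.injective h1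

theorem presheaf_hom_eq_of_isInitial {Q : Cᵒᵖ ⥤ Type u}
    (hQ : IsInitial ((presheafToSheaf J (Type u)).obj Q)) (F : Sh J) (φ ψ : Q ⟶ F.obj) :
    φ = ψ := by
  let adj := sheafificationAdjunction J (Type u)
  exact (adj.homEquiv Q F).symm.injective (hQ.hom_ext _ _)

end Groth.Agent.Helper5.ToposFin
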