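import Groth.Agent.Lib.Helper5.ToposFinEps5
import Mathlib.CategoryTheory.Limits.Types.Filtered
import Mathlib.CategoryTheory.Limits.FunctorCategory.Basic

set_option autoImplicit false
set_option linter.style.haveILetI false

universe u

open CategoryTheory CategoryTheory.Limits Opposite

namespace Groth.Agent.Helper5.ToposFin

variable {C : Type u} [SmallCategory C] {J : GrothendieckTopology C}

open _root_.ToposFin

variable {I : Type u} [SmallCategory I] (D : I ⥤ Sh J)

/-- The standard colimit cocone: sheafification of the presheaf colimit. -/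
noncomputable def stdCocone : Cocone D :=
  Sheaf.sheafifyCocone (colimit.cocone (D ⋙ sheafToPresheaf J (Type u)))

noncomputable def stdCoconeIsColimit : IsColimit (stdCocone D) :=
  Sheaf.isColimitSheafifyCocone _ (colimit.isColimit _)

theorem stdCocone_app (i : I) (V : Cᵒᵖ) (x : (D.obj i).obj.obj V) :
    ((stdCocone D).ι.app i).hom.app V x =
      (toSheafify J (colimit (D ⋙ sheafToPresheaf J (Type u)))).app V
        ((colimit.ι (D ⋙ sheafToPresheaf J (Type u)) i).app V x) := by
  have h := Sheaf.sheafifyCocone_ι_app_val (colimit.cocone (D ⋙ sheafToPresheaf J (Type u))) i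
  exact congrArg (fun t => t.app V x) h

/-- The sieve on which two sections become equal at a finite stage. -/
def eqSieve {i : I} {U : C} (x y : (D.obj i).obj.obj (op U)) : Sieve U where
  arrows V f := ∃ (k : I) (φ : i ⟶ k), (D.map φ).hom.app (op V) ((D.obj i).obj.map f.op x) =
    (D.map φ).hom.app (op V) ((D.obj i).obj.map f.op y)
  downward_closed := by
    rintro V W f ⟨k, φ, h⟩ g
    refine ⟨k, φ, ?_⟩
    have e : ∀ z, (D.map φ).hom.app (op W) ((D.obj i).obj.map (g ≫ f).op z) =
        (D.obj k).obj.map g.op ((D.map φ).hom.app (op V) ((D.obj i).obj.map f.op z)) := fun z => by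
      rw [op_comp, Functor.map_comp_apply, NatTrans.naturality_apply]
    rw [e, e, h]

/-- The evaluated presheaf colimit is a colimit of sets. -/
noncomputable def evalIsColimit (V : Cᵒᵖ) :
    IsColimit (((evaluation Cᵒᵖ (Type u)).obj V).mapCocone
      (colimit.cocone (D ⋙ sheafToPresheaf J (Type u)))) :=
  isColimitOfPreserves _ (colimit.isColimit _)

variable [IsFiltered I]

theorem eqSieve_mem_std {i : I} {U : C} (x y : (D.obj i).obj.obj (op U))
    (h : ((stdCocone D).ι.app i).hom.app (op U) x = ((stdCocone D).ι.app i).hom.app (op U) y) :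
    eqSieve D x y ∈ J U := by
  rw [stdCocone_app, stdCocone_app] at h
  have h1 := Presheaf.equalizerSieve_mem J
    (toSheafify J (colimit (D ⋙ sheafToPresheaf J (Type u)))) _ _ h
  refine J.superset_covering ?_ h1
  intro V f hf
  have hf' : (colimit (D ⋙ sheafToPresheaf J (Type u))).map f.op
      ((colimit.ι (D ⋙ sheafToPresheaf J (Type u)) i).app (op U) x) =
      (colimit (D ⋙ sheafToPresheaf J (Type u))).map f.op
      ((colimit.ι (D ⋙ sheafToPresheaf J (Type u)) i).app (op U) y) := hf
  rw [← NatTrans.naturality_apply, ← NatTrans.naturality_apply] at hf'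
  have h2 := (Types.FilteredColimit.isColimit_eq_iff' (evalIsColimit D (op V))
    ((D.obj i).obj.map f.op x) ((D.obj i).obj.map f.op y)).mp hf'
  obtain ⟨k, φ, hk⟩ := h2
  exact ⟨k, φ, hk⟩

theorem eqSieve_mem {c : Cocone D} (hc : IsColimit c) {i : I} {U : C}
    (x y : (D.obj i).obj.obj (op U))
    (h : (c.ι.app i).hom.app (op U) x = (c.ι.app i).hom.app (op U) y) :
    eqSieve D x y ∈ J U := by
  apply eqSieve_mem_std
  have e := IsColimit.comp_coconePointUniqueUpToIso_hom hc (stdCoconeIsColimit D) i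
  rw [← e, hom_app_comp_apply, hom_app_comp_apply, h]

/-- Finitely many arrows out of an object of a filtered category can be equalised. -/
theorem exists_common_target {ι : Type*} (s : Finset ι) (i : I) (k : ι → I) (φ : ∀ m, i ⟶ k m) :
    ∃ (k0 : I) (ψ : i ⟶ k0), ∀ m ∈ s, ∃ χ : k m ⟶ k0, φ m ≫ χ = ψ := by
  classical
  induction s using Finset.induction_on with
  | empty => exact ⟨i, 𝟙 i, fun m hm => absurd hm (Finset.notMem_empty m)⟩
  | insert a s _ ih =>
    obtain ⟨k0, ψ, hψ⟩ := ih
    obtain ⟨k', g, g', hg⟩ := IsFiltered.span ψ (φ a)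
    refine ⟨k', ψ ≫ g, ?_⟩
    intro m hm
    rcases Finset.mem_insert.mp hm with rfl | hm
    · exact ⟨g', hg.symm⟩
    · obtain ⟨χ, hχ⟩ := hψ m hm
      exact ⟨χ ≫ g, by rw [← Category.assoc, hχ]⟩

/-- Key finiteness statement: two morphisms from a quasi-compact object to a stage of a
filtered diagram which agree in the colimit agree at a later stage. -/
theorem exists_stage_eq {c : Cocone D} (hc : IsColimit c) {X : Sh J} (hX : IsQC X) {i : I}
    (f g : X ⟶ D.obj i) (h : f ≫ c.ι.app i = g ≫ c.ι.app i) :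
    ∃ (k : I) (φ : i ⟶ k), f ≫ D.map φ = g ≫ D.map φ := by
  classical
  let T := {p : Σ (V : C) (k : I), (X.obj.obj (op V)) × (i ⟶ k) //
    (D.map p.2.2.2).hom.app (op p.1) (f.hom.app (op p.1) p.2.2.1) =
    (D.map p.2.2.2).hom.app (op p.1) (g.hom.app (op p.1) p.2.2.1)}
  have hje : JE (fun p : T => secHom p.1.2.2.1) := by
    apply je_of_jls
    intro U x
    have h1 : (c.ι.app i).hom.app (op U) (f.hom.app (op U) x) =
        (c.ι.app i).hom.app (op U) (g.hom.app (op U) x) :=
      congrArg (fun t => t.hom.app (op U) x) h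
    refine J.superset_covering ?_ (eqSieve_mem D hc _ _ h1)
    rintro V l ⟨k, φ, hk⟩
    rw [← NatTrans.naturality_apply, ← NatTrans.naturality_apply] at hk
    exact ⟨⟨⟨V, k, X.obj.map l.op x, φ⟩, hk⟩, etaSec J V, secHom_etaSec _⟩
  obtain ⟨s, hs⟩ := (isQC_iff X).mp hX T _ _ hje
  obtain ⟨k0, ψ, hψ⟩ := exists_common_target s i (fun p : T => p.1.2.1) (fun p => p.1.2.2.2)
  refine ⟨k0, ψ, ?_⟩
  apply hs
  rintro ⟨p, hp⟩
  obtain ⟨χ, hχ⟩ := hψ p hp
  have e1 : secHom p.1.2.2.1 ≫ f ≫ D.map p.1.2.2.2 = secHom p.1.2.2.1 ≫ g ≫ D.map p.1.2.2.2 := by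
    rw [← Category.assoc, ← Category.assoc, secHom_comp, secHom_comp, secHom_comp, secHom_comp,
      p.2]
  calc secHom p.1.2.2.1 ≫ f ≫ D.map ψ
      = (secHom p.1.2.2.1 ≫ f ≫ D.map p.1.2.2.2) ≫ D.map χ := by
        rw [← hχ, D.map_comp]
        simp only [Category.assoc]
    _ = (secHom p.1.2.2.1 ≫ g ≫ D.map p.1.2.2.2) ≫ D.map χ := by rw [e1]
    _ = secHom p.1.2.2.1 ≫ g ≫ D.map ψ := by
        rw [← hχ, D.map_comp]
        simp only [Category.assoc]

end Groth.Agent.Helper5.ToposFin
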