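import Groth.Agent.Lib.Helper5.ToposFinColim
import Mathlib.CategoryTheory.Filtered.Basic
import Mathlib.Order.Category.Preord

set_option autoImplicit false
set_option linter.style.haveILetI false

universe u

open CategoryTheory CategoryTheory.Limits Opposite

namespace Groth.Agent.Helper5.ToposFin

variable {C : Type u} [SmallCategory C] {J : GrothendieckTopology C}

open _root_.ToposFin

theorem post_apply {I : Type u} [SmallCategory I] (D : I ⥤ Sh J) (X : Sh J) (i : I)
    (a : X ⟶ D.obj i) :
    colimit.post D (coyoneda.obj (op X)) (colimit.ι (D ⋙ coyoneda.obj (op X)) i a) =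
      a ≫ colimit.ι D i := by
  have := ConcreteCategory.congr_hom (colimit.ι_post D (coyoneda.obj (op X)) i) a
  rw [types_comp_apply] at this
  exact this

theorem injective_post_of_isQC {X : Sh J} (hX : IsQC X) {I : Type u} [SmallCategory I]
    [IsFiltered I] (D : I ⥤ Sh J) :
    Function.Injective (colimit.post D (coyoneda.obj (op X))) := by
  intro u v huv
  obtain ⟨i, a, rfl⟩ := Types.jointly_surjective' u
  obtain ⟨j, b, rfl⟩ := Types.jointly_surjective' v
  rw [post_apply, post_apply] at huv
  have a0 : X ⟶ D.obj i := a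
  have b0 : X ⟶ D.obj j := b
  have h1 : (a ≫ D.map (IsFiltered.leftToMax i j)) ≫ colimit.ι D (IsFiltered.max i j) =
      (b ≫ D.map (IsFiltered.rightToMax i j)) ≫ colimit.ι D (IsFiltered.max i j) := by
    rw [Category.assoc, Category.assoc, colimit.w, colimit.w]
    exact huv
  obtain ⟨k, φ, hφ⟩ := exists_stage_eq D (colimit.isColimit D) hX _ _ h1
  rw [Types.FilteredColimit.colimit_eq_iff]
  refine ⟨k, IsFiltered.leftToMax i j ≫ φ, IsFiltered.rightToMax i j ≫ φ, ?_⟩
  show a ≫ D.map (IsFiltered.leftToMax i j ≫ φ) = b ≫ D.map (IsFiltered.rightToMax i j ≫ φ)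
  rw [D.map_comp, D.map_comp, ← Category.assoc, ← Category.assoc, hφ]

end Groth.Agent.Helper5.ToposFin
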