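import Groth.Agent.Lib.Helper5.ToposFinColim2

set_option autoImplicit false
set_option linter.style.haveILetI false
set_option backward.isDefEq.respectTransparency false

universe u

open CategoryTheory CategoryTheory.Limits Opposite

namespace Groth.Agent.Helper5.ToposFin

variable {C : Type u} [SmallCategory C] {J : GrothendieckTopology C}

open _root_.ToposFin

section Converse

variable {X : Sh J} {ι : Type u} {F : ι → Sh J} (π : ∀ i, F i ⟶ X)

noncomputable def lMap (s : Finset ι) : ∐ (fun i : s => F i) ⟶ X ⨿ X :=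
  Limits.Sigma.desc (fun i : s => π i ≫ coprod.inl)

noncomputable def rMap (s : Finset ι) : ∐ (fun i : s => F i) ⟶ X ⨿ X :=
  Limits.Sigma.desc (fun i : s => π i ≫ coprod.inr)

/-- The "cokernel pair" of the subfamily indexed by `s`. -/
noncomputable def Dobj (s : Finset ι) : Sh J := coequalizer (lMap π s) (rMap π s)

noncomputable def qMap (s : Finset ι) : X ⨿ X ⟶ Dobj π s := coequalizer.π _ _

theorem q_mem {s : Finset ι} (i : ι) (hi : i ∈ s) :
    π i ≫ coprod.inl ≫ qMap π s = π i ≫ coprod.inr ≫ qMap π s := by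
  have e1 : Limits.Sigma.ι (fun i : s => F i) ⟨i, hi⟩ ≫ lMap π s = π i ≫ coprod.inl := by
    simp [lMap]
  have e2 : Limits.Sigma.ι (fun i : s => F i) ⟨i, hi⟩ ≫ rMap π s = π i ≫ coprod.inr := by
    simp [rMap]
  rw [← Category.assoc, ← e1, ← Category.assoc (π i), ← e2, Category.assoc, Category.assoc]
  congr 1
  exact coequalizer.condition _ _

theorem q_cond {s s' : Finset ι} (h : s ≤ s') :
    lMap π s ≫ qMap π s' = rMap π s ≫ qMap π s' := by
  apply Limits.Sigma.hom_ext
  intro i
  have := q_mem π (s := s') i (h i.2)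
  simpa [lMap, rMap] using this

/-- The diagram of cokernel pairs indexed by finite subsets. -/
noncomputable def Dfun : Finset ι ⥤ Sh J where
  obj := Dobj π
  map {s s'} h := coequalizer.desc (qMap π s') (q_cond π (leOfHom h))
  map_id s := by
    apply coequalizer.hom_ext
    rw [coequalizer.π_desc]
    exact (Category.comp_id _).symm
  map_comp := by
    intro s s' s'' f g
    apply coequalizer.hom_ext
    rw [coequalizer.π_desc]
    show qMap π s'' = qMap π s ≫ _
    unfold qMap
    rw [coequalizer.π_desc_assoc, coequalizer.π_desc]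

/-- The canonical map to the `s`-th stage of the diagram. -/
noncomputable def qM (s : Finset ι) : X ⨿ X ⟶ (Dfun π).obj s := qMap π s

theorem qM_map {s s' : Finset ι} (h : s ⟶ s') : qM π s ≫ (Dfun π).map h = qM π s' := by
  unfold qM Dfun qMap
  exact coequalizer.π_desc _ _

theorem qM_mem {s : Finset ι} (i : ι) (hi : i ∈ s) :
    π i ≫ coprod.inl ≫ qM π s = π i ≫ coprod.inr ≫ qM π s := q_mem π i hi

/-- If the two canonical maps to the cokernel pair agree, the subfamily is jointly epimorphic. -/
theorem je_of_q_eq (s : Finset ι) (h : coprod.inl ≫ qM π s = coprod.inr ≫ qM π s) :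
    JE (fun i : s => π i) := by
  intro Z a b hab
  have hc : lMap π s ≫ coprod.desc a b = rMap π s ≫ coprod.desc a b := by
    apply Limits.Sigma.hom_ext
    intro i
    unfold lMap rMap
    rw [Limits.Sigma.ι_desc_assoc, Limits.Sigma.ι_desc_assoc, Category.assoc, Category.assoc,
      coprod.inl_desc, coprod.inr_desc]
    exact hab i
  let t : (Dfun π).obj s ⟶ Z := coequalizer.desc (coprod.desc a b) hc
  have ht : qM π s ≫ t = coprod.desc a b := coequalizer.π_desc _ _
  have e1 : (coprod.inl ≫ qM π s) ≫ t = a := by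
    rw [Category.assoc, ht, coprod.inl_desc]
  have e2 : (coprod.inr ≫ qM π s) ≫ t = b := by
    rw [Category.assoc, ht, coprod.inr_desc]
  rw [← e1, ← e2, h]

end Converse

/-- Quasi-compactness from injectivity of the comparison maps for filtered colimits. -/
theorem isQC_of_injective_post (X : Sh J)
    (h : ∀ (I : Type u) [SmallCategory I] [IsFiltered I] (D : I ⥤ Sh J),
      Function.Injective (colimit.post D (coyoneda.obj (op X)))) : IsQC X := by
  classical
  rw [isQC_iff]
  intro ι F π hπ
  have hinj := h (Finset ι) (Dfun π)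
  have h1 : (coprod.inl ≫ qM π ∅) ≫ colimit.ι (Dfun π) ∅ =
      (coprod.inr ≫ qM π ∅) ≫ colimit.ι (Dfun π) ∅ := by
    apply hπ
    intro i
    have hle : (∅ : Finset ι) ⟶ {i} := homOfLE (Finset.empty_subset _)
    have e : qM π ∅ ≫ colimit.ι (Dfun π) ∅ = qM π {i} ≫ colimit.ι (Dfun π) {i} := by
      rw [← colimit.w (Dfun π) hle, ← Category.assoc, qM_map]
    have := qM_mem π (s := {i}) i (Finset.mem_singleton_self i)
    calc π i ≫ (coprod.inl ≫ qM π ∅) ≫ colimit.ι (Dfun π) ∅
        = (π i ≫ coprod.inl ≫ qM π {i}) ≫ colimit.ι (Dfun π) {i} := by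
          simp only [Category.assoc]
          rw [e]
      _ = (π i ≫ coprod.inr ≫ qM π {i}) ≫ colimit.ι (Dfun π) {i} := by rw [this]
      _ = π i ≫ (coprod.inr ≫ qM π ∅) ≫ colimit.ι (Dfun π) ∅ := by
          simp only [Category.assoc]
          rw [e]
  have h1' : colimit.post (Dfun π) (coyoneda.obj (op X))
      (colimit.ι (Dfun π ⋙ coyoneda.obj (op X)) ∅ (coprod.inl ≫ qM π ∅)) =
      colimit.post (Dfun π) (coyoneda.obj (op X))
      (colimit.ι (Dfun π ⋙ coyoneda.obj (op X)) ∅ (coprod.inr ≫ qM π ∅)) := by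
    rw [post_apply, post_apply]
    exact h1
  have h2 := hinj h1'
  rw [Types.FilteredColimit.colimit_eq_iff] at h2
  obtain ⟨s, f, g, hfg⟩ := h2
  refine ⟨s, je_of_q_eq π s ?_⟩
  have hfg' : (coprod.inl ≫ qM π ∅) ≫ (Dfun π).map f = (coprod.inr ≫ qM π ∅) ≫ (Dfun π).map g :=
    hfg
  rw [Category.assoc, Category.assoc, qM_map, qM_map] at hfg'
  exact hfg'

theorem isQC_iff_injective_post (X : Sh J) :
    IsQC X ↔ ∀ (I : Type u) [SmallCategory I] [IsFiltered I] (D : I ⥤ Sh J),
      Function.Injective (colimit.post D (coyoneda.obj (op X))) :=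
  ⟨fun hX I _ _ D => injective_post_of_isQC hX D, isQC_of_injective_post X⟩

end Groth.Agent.Helper5.ToposFin
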