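import Groth.Agent.Lib.Helper5.ToposFinColim3
import Mathlib.CategoryTheory.Sites.RegularEpi
import Mathlib.CategoryTheory.EffectiveEpi.Coproduct

set_option autoImplicit false
set_option linter.style.haveILetI false

universe u

open CategoryTheory CategoryTheory.Limits Opposite

namespace Groth.Agent.Helper5.ToposFin

variable {C : Type u} [SmallCategory C] {J : GrothendieckTopology C}

open _root_.ToposFin

/-- Jointly epimorphic families are effective: compatible morphisms glue. -/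
theorem exists_desc_of_je {κ : Type u} {Q : κ → Sh J} {X Z : Sh J} (q : ∀ a, Q a ⟶ X)
    (hq : JE q) (l : ∀ a, Q a ⟶ Z)
    (hl : ∀ a b, pullback.fst (q a) (q b) ≫ l a = pullback.snd (q a) (q b) ≫ l b) :
    ∃ t : X ⟶ Z, ∀ a, q a ≫ t = l a := by
  haveI : Epi (Limits.Sigma.desc q) := (epi_sigmaDesc_iff q).mpr hq
  haveI : EffectiveEpi (Limits.Sigma.desc q) := by
    rw [← isRegularEpi_iff_effectiveEpi]
    exact IsRegularEpiCategory.regularEpiOfEpi _
  haveI : ∀ {W : Sh J} (g : W ⟶ ∐ Q),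
      Epi (Limits.Sigma.desc fun a ↦ pullback.fst g (Limits.Sigma.ι Q a)) := by
    intro W g
    rw [epi_sigmaDesc_iff]
    exact je_of_isPullback (Limits.Sigma.ι Q) g
      (je_of_isColimit_cofan (Cofan.mk (∐ Q) (Limits.Sigma.ι Q)) (coproductIsCoproduct Q)) _ _
      (fun a => (IsPullback.of_hasPullback g (Limits.Sigma.ι Q a)).flip)
  have h : ∀ {W : Sh J} (a₁ a₂ : κ) (g₁ : W ⟶ Q a₁) (g₂ : W ⟶ Q a₂),
      g₁ ≫ q a₁ = g₂ ≫ q a₂ → g₁ ≫ l a₁ = g₂ ≫ l a₂ := by
    intro W a₁ a₂ g₁ g₂ hg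
    have := congrArg (fun t => pullback.lift g₁ g₂ hg ≫ t) (hl a₁ a₂)
    simp only [pullback.lift_fst_assoc, pullback.lift_snd_assoc] at this
    exact this
  refine ⟨EffectiveEpi.desc (Limits.Sigma.desc q) (Limits.Sigma.desc l)
    (fun g₁ g₂ hg => effectiveEpiFamilyStructOfEffectiveEpiDesc_aux h hg), ?_⟩
  intro a
  have := EffectiveEpi.fac (Limits.Sigma.desc q) (Limits.Sigma.desc l)
    (fun g₁ g₂ hg => effectiveEpiFamilyStructOfEffectiveEpiDesc_aux h hg)
  have h2 := congrArg (fun t => Limits.Sigma.ι Q a ≫ t) this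
  simp only [Limits.Sigma.ι_desc_assoc, Limits.Sigma.ι_desc] at h2
  exact h2

variable {I : Type u} [SmallCategory I] (D : I ⥤ Sh J)

/-- The sieve on which a section of the colimit lifts to a finite stage. -/
def liftSieve (c : Cocone D) {U : C} (z : c.pt.obj.obj (op U)) : Sieve U where
  arrows V f := ∃ (k : I) (w : (D.obj k).obj.obj (op V)),
    (c.ι.app k).hom.app (op V) w = c.pt.obj.map f.op z
  downward_closed := by
    rintro V W f ⟨k, w, hw⟩ g
    refine ⟨k, (D.obj k).obj.map g.op w, ?_⟩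
    rw [NatTrans.naturality_apply, hw, op_comp, Functor.map_comp_apply]
    rfl

theorem liftSieve_mem_std {U : C} (z : (stdCocone D).pt.obj.obj (op U)) :
    liftSieve D (stdCocone D) z ∈ J U := by
  have h1 := Presheaf.imageSieve_mem J
    (toSheafify J (colimit (D ⋙ sheafToPresheaf J (Type u)))) z
  refine J.superset_covering ?_ h1
  rintro V f ⟨t, ht⟩
  obtain ⟨k, w, hw⟩ := Types.jointly_surjective_of_isColimit (evalIsColimit D (op V)) t
  refine ⟨k, w, ?_⟩
  rw [stdCocone_app]
  have hw' : (colimit.ι (D ⋙ sheafToPresheaf J (Type u)) k).app (op V) w = t := hw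
  rw [hw']
  exact ht

theorem liftSieve_mem {c : Cocone D} (hc : IsColimit c) {U : C} (z : c.pt.obj.obj (op U)) :
    liftSieve D c z ∈ J U := by
  let e := IsColimit.coconePointUniqueUpToIso (stdCoconeIsColimit D) hc
  have he : ∀ k, (stdCocone D).ι.app k ≫ e.hom = c.ι.app k := fun k =>
    IsColimit.comp_coconePointUniqueUpToIso_hom (stdCoconeIsColimit D) hc k
  have h1 := liftSieve_mem_std D (e.inv.hom.app (op U) z)
  refine J.superset_covering ?_ h1
  rintro V f ⟨k, w, hw⟩
  refine ⟨k, w, ?_⟩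
  rw [← he k, hom_app_comp_apply, hw, ← NatTrans.naturality_apply, ← hom_app_comp_apply,
    e.inv_hom_id]
  rfl

end Groth.Agent.Helper5.ToposFin
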