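import Groth.Agent.Lib.Helper5.ToposFinColim4

set_option autoImplicit false
set_option linter.style.haveILetI false

universe u

open CategoryTheory CategoryTheory.Limits Opposite

namespace Groth.Agent.Helper5.ToposFin

variable {C : Type u} [SmallCategory C] {J : GrothendieckTopology C}

open _root_.ToposFin

/-- Every morphism from a coherent object to a filtered colimit factors through a stage. -/
theorem exists_factor_of_isCoherent (hE : HasQCGenerators J) {X : Sh J} (hX : IsCoherent X)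
    {I : Type u} [SmallCategory I] [IsFiltered I] (D : I ⥤ Sh J) (h0 : X ⟶ colimit D) :
    ∃ (k0 : I) (t : X ⟶ D.obj k0), t ≫ colimit.ι D k0 = h0 := by
  classical
  let T := Σ (V : C) (k : I), {p : X.obj.obj (op V) × (D.obj k).obj.obj (op V) //
    (colimit.ι D k).hom.app (op V) p.2 = h0.hom.app (op V) p.1}
  have hje : JE (fun p : T => secHom p.2.2.1.1) := by
    apply je_of_jls
    intro U x
    refine J.superset_covering ?_ (liftSieve_mem D (colimit.isColimit D) (h0.hom.app (op U) x))
    rintro V f ⟨k, w, hw⟩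
    have hw' : (colimit.ι D k).hom.app (op V) w = h0.hom.app (op V) (X.obj.map f.op x) := by
      rw [NatTrans.naturality_apply]
      exact hw
    exact ⟨⟨V, k, ⟨(X.obj.map f.op x, w), hw'⟩⟩, etaSec J V, secHom_etaSec _⟩
  obtain ⟨κ, hκ, Q, q, idx, r, hQ, hq, hr⟩ := exists_finite_qc_refinement hE hX.1 (𝟙 X) _ hje
  haveI := Fintype.ofFinite κ
  let kk : κ → I := fun a => (idx a).2.1
  let l : ∀ a, Q a ⟶ D.obj (kk a) := fun a => r a ≫ secHom (idx a).2.2.1.2
  have hl : ∀ a, l a ≫ colimit.ι D (kk a) = q a ≫ h0 := by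
    intro a
    have e1 : q a = r a ≫ secHom (idx a).2.2.1.1 := by
      have := hr a
      rw [Category.comp_id] at this
      exact this
    rw [e1, Category.assoc, Category.assoc, secHom_comp, secHom_comp, (idx a).2.2.2]
  obtain ⟨k1, hk1⟩ := IsFiltered.sup_objs_exists (Finset.univ.image kk)
  have m : ∀ a, kk a ⟶ k1 := fun a =>
    (hk1 (Finset.mem_image_of_mem kk (Finset.mem_univ a))).some
  let l' : ∀ a, Q a ⟶ D.obj k1 := fun a => l a ≫ D.map (m a)
  have hl' : ∀ a, l' a ≫ colimit.ι D k1 = q a ≫ h0 := by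
    intro a
    rw [Category.assoc, colimit.w, hl]
  have h3 : ∀ ab : κ × κ, ∃ (k : I) (φ : k1 ⟶ k),
      (pullback.fst (q ab.1) (q ab.2) ≫ l' ab.1) ≫ D.map φ =
      (pullback.snd (q ab.1) (q ab.2) ≫ l' ab.2) ≫ D.map φ := by
    intro ab
    have h1 := hl' ab.1
    have h2 := hl' ab.2
    have e : (pullback.fst (q ab.1) (q ab.2) ≫ l' ab.1) ≫ (colimit.cocone D).ι.app k1 =
        (pullback.snd (q ab.1) (q ab.2) ≫ l' ab.2) ≫ (colimit.cocone D).ι.app k1 := by
      calc (pullback.fst (q ab.1) (q ab.2) ≫ l' ab.1) ≫ (colimit.cocone D).ι.app k1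
          = pullback.fst (q ab.1) (q ab.2) ≫ (l' ab.1 ≫ colimit.ι D k1) := Category.assoc _ _ _
        _ = pullback.fst (q ab.1) (q ab.2) ≫ q ab.1 ≫ h0 := by rw [h1]
        _ = pullback.snd (q ab.1) (q ab.2) ≫ q ab.2 ≫ h0 := by
            rw [← Category.assoc, pullback.condition, Category.assoc]
        _ = pullback.snd (q ab.1) (q ab.2) ≫ (l' ab.2 ≫ colimit.ι D k1) := by rw [h2]
        _ = (pullback.snd (q ab.1) (q ab.2) ≫ l' ab.2) ≫ (colimit.cocone D).ι.app k1 :=
            (Category.assoc _ _ _).symm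
    exact exists_stage_eq D (colimit.isColimit D) (hX.2 _ _ (q ab.1) (q ab.2) (hQ _) (hQ _))
      _ _ e
  choose k2 φ hφ using h3
  obtain ⟨k0, ψ, hψ⟩ := exists_common_target (Finset.univ : Finset (κ × κ)) k1 k2 φ
  obtain ⟨t, ht⟩ := exists_desc_of_je q hq (fun a => l' a ≫ D.map ψ) (by
    intro a b
    obtain ⟨χ, hχ⟩ := hψ (a, b) (Finset.mem_univ _)
    have := congrArg (fun t => t ≫ D.map χ) (hφ (a, b))
    simp only [Category.assoc, ← D.map_comp, hχ] at this
    exact this)
  refine ⟨k0, t, ?_⟩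
  apply hq
  intro a
  rw [← Category.assoc, ht, Category.assoc, colimit.w, hl']

theorem surjective_post_of_isCoherent (hE : HasQCGenerators J) {X : Sh J} (hX : IsCoherent X)
    {I : Type u} [SmallCategory I] [IsFiltered I] (D : I ⥤ Sh J) :
    Function.Surjective (colimit.post D (coyoneda.obj (op X))) := by
  intro h
  obtain ⟨k0, t, ht⟩ := exists_factor_of_isCoherent hE hX D h
  refine ⟨colimit.ι (D ⋙ coyoneda.obj (op X)) k0 t, ?_⟩
  rw [post_apply]
  exact ht

theorem bijective_post_of_isCoherent (hE : HasQCGenerators J) {X : Sh J} (hX : IsCoherent X)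
    {I : Type u} [SmallCategory I] [IsFiltered I] (D : I ⥤ Sh J) :
    Function.Bijective (colimit.post D (coyoneda.obj (op X))) :=
  ⟨injective_post_of_isQC hX.1 D, surjective_post_of_isCoherent hE hX D⟩

end Groth.Agent.Helper5.ToposFin
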