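import Groth.Agent.Lib.Helper5.ToposFin11
import Mathlib.CategoryTheory.Sites.LocallyBijective

set_option autoImplicit false
set_option linter.style.haveILetI false

universe u

open CategoryTheory CategoryTheory.Limits Opposite

namespace Groth.Agent.Helper5.ToposFin

variable {C : Type u} [SmallCategory C] {J : GrothendieckTopology C}

open _root_.ToposFin

variable (J) in
/-- The canonical section of the sheaf associated to a representable presheaf. -/
noncomputable def etaSec (X : C) : (eps J X).obj.obj (op X) :=
  (toSheafify J (yoneda.obj X)).app (op X) (𝟙 X)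

variable (J) in
/-- Functoriality of `eps`. -/
noncomputable def epsMap {U V : C} (f : U ⟶ V) : eps J U ⟶ eps J V :=
  (presheafToSheaf J (Type u)).map (yoneda.map f)

theorem toSheafify_app_eq {V X : C} (t : V ⟶ X) :
    (toSheafify J (yoneda.obj X)).app (op V) t = (eps J X).obj.map t.op (etaSec J X) := by
  have := NatTrans.naturality_apply (toSheafify J (yoneda.obj X)) t.op (𝟙 X)
  have h2 : (yoneda.obj X).map t.op (𝟙 X) = t := by simp
  rw [h2] at this
  exact this

theorem epsMap_etaSec {U V : C} (f : U ⟶ V) :
    (epsMap J f).hom.app (op U) (etaSec J U) = (eps J V).obj.map f.op (etaSec J V) := by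
  have h1 := toSheafify_naturality J (yoneda.map f)
  have h2 := congrArg (fun t => t.app (op U) (𝟙 U)) h1
  simp only [NatTrans.comp_app, types_comp_apply] at h2
  rw [← toSheafify_app_eq]
  refine Eq.trans ?_ (Eq.trans h2.symm ?_)
  · rfl
  · simp

theorem eps_hom_ext {U : C} {F : Sh J} (a b : eps J U ⟶ F)
    (h : a.hom.app (op U) (etaSec J U) = b.hom.app (op U) (etaSec J U)) : a = b := by
  apply Sheaf.hom_ext
  apply sheafify_hom_ext J _ _ F.property
  ext V t
  obtain ⟨V⟩ := V
  show a.hom.app (op V) ((toSheafify J (yoneda.obj U)).app (op V) t) =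
    b.hom.app (op V) ((toSheafify J (yoneda.obj U)).app (op V) t)
  rw [toSheafify_app_eq, NatTrans.naturality_apply, NatTrans.naturality_apply, h]

/-- The morphism out of `eps U` attached to a section over `U`. -/
noncomputable def secHom {U : C} {F : Sh J} (x : F.obj.obj (op U)) : eps J U ⟶ F :=
  ObjectProperty.homMk (sheafifyLift J (yonedaEquiv.symm x) F.property)

theorem secHom_etaSec {U : C} {F : Sh J} (x : F.obj.obj (op U)) :
    (secHom x).hom.app (op U) (etaSec J U) = x := by
  have h1 := toSheafify_sheafifyLift J (yonedaEquiv.symm x) F.property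
  have h2 := congrArg (fun t => t.app (op U) (𝟙 U)) h1
  simp only [NatTrans.comp_app, types_comp_apply] at h2
  refine Eq.trans ?_ (h2.trans ?_)
  · rfl
  · simp [yonedaEquiv]

theorem hom_app_comp_apply {F G H : Sh J} (a : F ⟶ G) (b : G ⟶ H) (U : Cᵒᵖ) (x : F.obj.obj U) :
    (a ≫ b).hom.app U x = b.hom.app U (a.hom.app U x) := rfl

/-- Every sheaf is covered by the `eps U`. -/
theorem je_secHom (F : Sh J) :
    JE (fun p : Σ U : C, F.obj.obj (op U) => secHom p.2) := by
  intro Z a b hab
  apply Sheaf.hom_ext
  ext U x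
  obtain ⟨U⟩ := U
  have := congrArg (fun t => t.hom.app (op U) (etaSec J U)) (hab ⟨U, x⟩)
  simp only [hom_app_comp_apply, secHom_etaSec] at this
  exact this

/-- A covering family of arrows gives a jointly epimorphic family on associated sheaves. -/
theorem je_epsMap {U : C} {ι : Type*} (V : ι → C) (g : ∀ i, V i ⟶ U)
    (h : Sieve.ofArrows V g ∈ J U) : JE (fun i => epsMap J (g i)) := by
  intro Z a b hab
  apply eps_hom_ext
  apply (((isSheaf_iff_isSheaf_of_type _ _).1 Z.property).isSeparated _ h).ext
  rintro W f ⟨W', l, _, ⟨i⟩, rfl⟩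
  have := congrArg (fun t => t.hom.app (op (V i)) (etaSec J (V i))) (hab i)
  simp only [hom_app_comp_apply, epsMap_etaSec, NatTrans.naturality_apply] at this
  rw [op_comp, Functor.map_comp_apply, Functor.map_comp_apply, this]

/-- Conversely, a family of arrows inducing a jointly epimorphic family generates a covering
sieve. -/
theorem ofArrows_mem_of_je {U : C} {ι : Type*} (V : ι → C) (g : ∀ i, V i ⟶ U)
    (h : JE (fun i => epsMap J (g i))) : Sieve.ofArrows V g ∈ J U := by
  have hT := jls_of_je _ h U (etaSec J U)
  refine J.transitive hT _ ?_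
  rintro W l ⟨i, y, hy⟩
  have hR := Presheaf.imageSieve_mem J (toSheafify J (yoneda.obj (V i))) y
  refine J.transitive hR _ ?_
  rintro W' r ⟨m, hm⟩
  have hm' : (toSheafify J (yoneda.obj (V i))).app (op W') m =
    (eps J (V i)).obj.map r.op y := hm
  have heq : (toSheafify J (yoneda.obj U)).app (op W') (m ≫ g i) =
      (toSheafify J (yoneda.obj U)).app (op W') (r ≫ l) := by
    rw [toSheafify_app_eq, toSheafify_app_eq, op_comp, Functor.map_comp_apply, op_comp,
      Functor.map_comp_apply, ← epsMap_etaSec, ← NatTrans.naturality_apply, ← toSheafify_app_eq,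
      hm', NatTrans.naturality_apply, hy]
  have hE : Presheaf.equalizerSieve (F := yoneda.obj U) (X := op W') (m ≫ g i) (r ≫ l) ∈ J W' :=
    Presheaf.equalizerSieve_mem J (toSheafify J (yoneda.obj U)) _ _ heq
  refine J.superset_covering ?_ hE
  intro W'' q hq
  have hq' : q ≫ m ≫ g i = q ≫ r ≫ l := hq
  show Sieve.ofArrows V g ((q ≫ r) ≫ l)
  rw [Category.assoc, ← hq', ← Category.assoc]
  exact Sieve.downward_closed _ (Sieve.ofArrows_mk V g i) _

end Groth.Agent.Helper5.ToposFin
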