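import Groth.Agent.Lib.Helper5.ToposFinEps

set_option autoImplicit false
set_option linter.style.haveILetI false

universe u

open CategoryTheory CategoryTheory.Limits Opposite

namespace Groth.Agent.Helper5.ToposFin

variable {C : Type u} [SmallCategory C] {J : GrothendieckTopology C}

open _root_.ToposFin

theorem isQC_eps_of_isQCSite (X : C) (h : IsQCSite J X) : IsQC (eps J X) := by
  classical
  rw [isQC_iff]
  intro ι F π hπ
  have hT := jls_of_je π hπ X (etaSec J X)
  obtain ⟨n, V, g, hg, hcov⟩ := h _ hT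
  choose idx y hy using hg
  refine ⟨Finset.univ.image idx, ?_⟩
  intro Z a b hab
  apply je_epsMap V g hcov
  intro k
  apply eps_hom_ext
  simp only [hom_app_comp_apply, epsMap_etaSec]
  rw [← hy k]
  have := hab ⟨idx k, Finset.mem_image_of_mem _ (Finset.mem_univ k)⟩
  exact congrArg (fun t => t.hom.app (op (V k)) (y k)) this

theorem isQCSite_of_isQC_eps (X : C) (h : IsQC (eps J X)) : IsQCSite J X := by
  intro S hS
  let ι := Σ V : C, {f : V ⟶ X // S f}
  have hje : JE (fun p : ι => epsMap J p.2.1) := by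
    apply je_epsMap (fun p : ι => p.1) (fun p => p.2.1)
    refine J.superset_covering ?_ hS
    intro W f hf
    exact ⟨W, 𝟙 W, f, ⟨(⟨W, f, hf⟩ : ι)⟩, by simp⟩
  obtain ⟨s, hs⟩ := (isQC_iff _).mp h ι _ _ hje
  let e := s.equivFin
  refine ⟨s.card, fun k => (e.symm k).1.1, fun k => (e.symm k).1.2.1,
    fun k => (e.symm k).1.2.2, ?_⟩
  apply ofArrows_mem_of_je
  exact je_reindex_surj (fun i : s => epsMap J i.1.2.1) e.symm e.symm.surjective hs

theorem isQC_eps_iff (X : C) : IsQCSite J X ↔ IsQC (eps J X) :=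
  ⟨isQC_eps_of_isQCSite X, isQCSite_of_isQC_eps X⟩

end Groth.Agent.Helper5.ToposFin
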