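import Groth.Agent.Lib.Helper5.ToposFinEps2
import Mathlib.CategoryTheory.Limits.Yoneda

set_option autoImplicit false
set_option linter.style.haveILetI false

universe u

open CategoryTheory CategoryTheory.Limits Opposite

namespace Groth.Agent.Helper5.ToposFin

variable {C : Type u} [SmallCategory C] {J : GrothendieckTopology C}

open _root_.ToposFin

theorem isGenerating_eps : IsGenerating (Set.range (fun U : C => eps J U)) := by
  intro X
  exact ⟨Σ U : C, X.obj.obj (op U), fun p => eps J p.1, fun p => secHom p.2,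
    fun p => ⟨p.1, rfl⟩, fun Z a b h => je_secHom X a b h⟩

theorem hasQCGenerators_of_isQCSite (hC : ∀ X : C, IsQCSite J X) : HasQCGenerators J :=
  hasQCGenerators_of_isGenerating (S := Set.range (fun U : C => eps J U))
    (by rintro _ ⟨U, rfl⟩; exact isQC_eps_of_isQCSite U (hC U)) isGenerating_eps

/-- A section of `eps X` over a quasi-compact object is representable on a finite cover. -/
theorem exists_local_rep {U X : C} (hU : IsQCSite J U) (s : eps J U ⟶ eps J X) :
    ∃ (n : ℕ) (V : Fin n → C) (u : ∀ k, V k ⟶ U) (f : ∀ k, V k ⟶ X),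
      Sieve.ofArrows V u ∈ J U ∧ ∀ k, epsMap J (u k) ≫ s = epsMap J (f k) := by
  have h1 := Presheaf.imageSieve_mem J (toSheafify J (yoneda.obj X))
    (s.hom.app (op U) (etaSec J U))
  obtain ⟨n, V, u, hu, hcov⟩ := hU _ h1
  choose f hf using hu
  refine ⟨n, V, u, f, hcov, ?_⟩
  intro k
  apply eps_hom_ext
  have hf' : (toSheafify J (yoneda.obj X)).app (op (V k)) (f k) =
    (eps J X).obj.map (u k).op (s.hom.app (op U) (etaSec J U)) := hf k
  rw [hom_app_comp_apply, epsMap_etaSec, epsMap_etaSec, NatTrans.naturality_apply, ← hf',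
    toSheafify_app_eq]

variable [HasPullbacks C]

/-- `eps` commutes with fibre products. -/
noncomputable def epsPullbackIso {U V X : C} (f : U ⟶ X) (g : V ⟶ X) :
    eps J (pullback f g) ≅ pullback (epsMap J f) (epsMap J g) :=
  PreservesPullback.iso (yoneda ⋙ presheafToSheaf J (Type u)) f g

theorem isQC_pullback_epsMap (hC : ∀ X : C, IsQCSite J X) {U V X : C} (f : U ⟶ X) (g : V ⟶ X) :
    IsQC (pullback (epsMap J f) (epsMap J g)) :=
  isQC_of_iso (epsPullbackIso f g) (isQC_eps_of_isQCSite _ (hC _))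

/-- Fibre products of associated sheaves over an associated sheaf are quasi-compact. -/
theorem isQC_pullback_eps (hC : ∀ X : C, IsQCSite J X) {U V X : C} (s : eps J U ⟶ eps J X)
    (t : eps J V ⟶ eps J X) : IsQC (pullback s t) := by
  obtain ⟨n, A, u, f, hu, hf⟩ := exists_local_rep (hC U) s
  obtain ⟨m, B, v, g, hv, hg⟩ := exists_local_rep (hC V) t
  have h1 := je_pullback_map s t (fun k => epsMap J (u k)) (fun l => epsMap J (v l))
    (je_epsMap A u hu) (je_epsMap B v hv)
  refine isQC_of_finite_je _ _ h1 ?_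
  rintro ⟨k, l⟩
  exact isQC_of_iso (pullback.congrHom (hf k).symm (hg l).symm) (isQC_pullback_epsMap hC (f k) (g l))

theorem isCoherent_eps (hC : ∀ X : C, IsQCSite J X) (X : C) : IsCoherent (eps J X) := by
  refine ⟨isQC_eps_of_isQCSite X (hC X), isQS_of_isGenerating' isGenerating_eps _ ?_⟩
  rintro _ ⟨U, rfl⟩ _ ⟨V, rfl⟩ s t
  exact isQC_pullback_eps hC s t

theorem isQSHom_epsMap (hC : ∀ X : C, IsQCSite J X) {V X : C} (g : V ⟶ X) :
    IsQSHom (epsMap J g) :=
  isQCHom_of_isQC_of_isQS _ (isQC_eps_of_isQCSite V (hC V))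
    (isQS_of_iso (epsPullbackIso g g) (isCoherent_eps hC _).2)

/-- Every morphism between associated sheaves is quasi-separated. -/
theorem isQSHom_eps (hC : ∀ X : C, IsQCSite J X) {V X : C} (t : eps J V ⟶ eps J X) :
    IsQSHom t := by
  obtain ⟨m, B, v, g, hv, hg⟩ := exists_local_rep (hC V) t
  refine isQSHom_of_cover_source (hasQCGenerators_of_isQCSite hC) t
    (fun l : ULift.{u} (Fin m) => eps J (B l.down)) (fun l => epsMap J (v l.down))
    (je_reindex_surj (fun l => epsMap J (v l)) ULift.down ULift.down_surjective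
      (je_epsMap B v hv)) ?_ ?_
  · intro l
    exact isQCHom_of_isQC_of_isQS _ (isQC_eps_of_isQCSite _ (hC _)) (isCoherent_eps hC _).2
  · intro l
    rw [hg l.down]
    exact isQSHom_epsMap hC _

/-- Every morphism from a quasi-separated object to an associated sheaf is quasi-separated. -/
theorem isQSHom_to_eps (hC : ∀ X : C, IsQCSite J X) {G : Sh J} {X : C} (g : G ⟶ eps J X)
    (hG : IsQS G) : IsQSHom g := by
  refine isQSHom_of_cover_source (hasQCGenerators_of_isQCSite hC) g
    (fun p : Σ U : C, G.obj.obj (op U) => eps J p.1) (fun p => secHom p.2) (je_secHom G) ?_ ?_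
  · intro p
    exact isQCHom_of_isQC_of_isQS _ (isQC_eps_of_isQCSite _ (hC _)) hG
  · intro p
    exact isQSHom_eps hC _

end Groth.Agent.Helper5.ToposFin
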