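import Groth.Agent.Lib.Helper5.ToposFinEps3
import Mathlib.CategoryTheory.Sites.Pullback

set_option autoImplicit false
set_option linter.style.haveILetI false

universe u

open CategoryTheory CategoryTheory.Limits Opposite

namespace Groth.Agent.Helper5.ToposFin

variable {C : Type u} [SmallCategory C] {J : GrothendieckTopology C}
variable {D : Type u} [SmallCategory D] {K : GrothendieckTopology D}

open _root_.ToposFin

theorem secHom_comp {U : C} {F G : Sh J} (x : F.obj.obj (op U)) (g : F ⟶ G) :
    secHom x ≫ g = secHom (g.hom.app (op U) x) := by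
  apply eps_hom_ext
  rw [hom_app_comp_apply, secHom_etaSec, secHom_etaSec]

theorem secHom_app_etaSec {U : C} {F : Sh J} (a : eps J U ⟶ F) :
    secHom (a.hom.app (op U) (etaSec J U)) = a := by
  apply eps_hom_ext
  rw [secHom_etaSec]

/-- An inverse image functor sends the sheaf associated to `X` to the sheaf associated to the
image of `X`, as soon as its right adjoint is "evaluation-compatible". -/
noncomputable def mapEpsIso (F : Sh J ⥤ Sh K) (R : Sh K ⥤ Sh J) (adj : F ⊣ R) (X : C) (Y : D)
    (e : ∀ H : Sh K, (R.obj H).obj.obj (op X) ≃ H.obj.obj (op Y))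
    (he : ∀ {H H' : Sh K} (g : H ⟶ H') (s : (R.obj H).obj.obj (op X)),
      e H' ((R.map g).hom.app (op X) s) = g.hom.app (op Y) (e H s)) :
    F.obj (eps J X) ≅ eps K Y :=
  Coyoneda.ext _ _
    (fun {H} a => secHom (e H ((adj.homEquiv _ _ a).hom.app (op X) (etaSec J X))))
    (fun {H} b => (adj.homEquiv _ _).symm (secHom ((e H).symm (b.hom.app (op Y) (etaSec K Y)))))
    (by
      intro H a
      rw [secHom_etaSec, Equiv.symm_apply_apply, secHom_app_etaSec, Equiv.symm_apply_apply])
    (by
      intro H b
      rw [Equiv.apply_symm_apply, secHom_etaSec, Equiv.apply_symm_apply, secHom_app_etaSec])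
    (by
      intro Z Z' f g
      rw [← adj.homEquiv_naturality_right_symm, secHom_comp, hom_app_comp_apply]
      congr 2
      rw [Equiv.symm_apply_eq, he, Equiv.apply_symm_apply])

end Groth.Agent.Helper5.ToposFin
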