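import Groth.Agent.Lib.Helper5.ToposFinEps4
import Mathlib.CategoryTheory.Generator.Basic

set_option autoImplicit false
set_option linter.style.haveILetI false

universe u

open CategoryTheory CategoryTheory.Limits Opposite

namespace Groth.Agent.Helper5.ToposFin

variable {C : Type u} [SmallCategory C] {J : GrothendieckTopology C}

open _root_.ToposFin

/-- A morphism of sheaves which is bijective on sections over a "basis" of the site is an
isomorphism. -/
theorem isIso_of_bijective_on_basis (G : Set C)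
    (hG : ∀ X : C, ∃ (ι : Type u) (Y : ι → C) (f : ∀ i, Y i ⟶ X),
      Sieve.ofArrows Y f ∈ J X ∧ ∀ i, Y i ∈ G) {F F' : Sh J} (φ : F ⟶ F')
    (h : ∀ U ∈ G, Function.Bijective (φ.hom.app (op U))) : IsIso φ := by
  have hF := (isSheaf_iff_isSheaf_of_type J F.obj).1 F.property
  have hF' := (isSheaf_iff_isSheaf_of_type J F'.obj).1 F'.property
  have hinj : ∀ X : C, Function.Injective (φ.hom.app (op X)) := by
    intro X x x' hxx'
    obtain ⟨ι, Y, f, hcov, hY⟩ := hG X
    apply (hF.isSeparated _ hcov).ext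
    rintro W g ⟨W', l, _, ⟨i⟩, rfl⟩
    rw [op_comp, Functor.map_comp_apply, Functor.map_comp_apply]
    congr 1
    apply (h _ (hY i)).1
    rw [NatTrans.naturality_apply, NatTrans.naturality_apply, hxx']
  have hsurj : ∀ X : C, Function.Surjective (φ.hom.app (op X)) := by
    intro X y
    obtain ⟨ι, Y, f, hcov, hY⟩ := hG X
    have hex : ∀ ⦃W : C⦄ (g : W ⟶ X), Sieve.ofArrows Y f g →
        ∃ x : F.obj.obj (op W), φ.hom.app (op W) x = F'.obj.map g.op y := by
      rintro W g ⟨W', l, _, ⟨i⟩, rfl⟩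
      obtain ⟨xi, hxi⟩ := (h _ (hY i)).2 (F'.obj.map (f i).op y)
      refine ⟨F.obj.map l.op xi, ?_⟩
      rw [NatTrans.naturality_apply, hxi, op_comp, Functor.map_comp_apply]
    let fam : Presieve.FamilyOfElements F.obj (Sieve.ofArrows Y f).arrows :=
      fun W g hg => Classical.choose (hex g hg)
    have hfam : ∀ ⦃W : C⦄ (g : W ⟶ X) (hg : Sieve.ofArrows Y f g),
        φ.hom.app (op W) (fam g hg) = F'.obj.map g.op y :=
      fun W g hg => Classical.choose_spec (hex g hg)
    have hcomp : fam.Compatible := by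
      intro Y₁ Y₂ Z g₁ g₂ f₁ f₂ h₁ h₂ hgf
      apply hinj Z
      rw [NatTrans.naturality_apply, NatTrans.naturality_apply, hfam f₁ h₁, hfam f₂ h₂,
        ← Functor.map_comp_apply, ← Functor.map_comp_apply, ← op_comp, ← op_comp, hgf]
    have hsh := hF _ hcov
    refine ⟨hsh.amalgamate fam hcomp, ?_⟩
    apply (hF'.isSeparated _ hcov).ext
    intro W g hg
    rw [← NatTrans.naturality_apply, hsh.valid_glue hcomp g hg, hfam g hg]
  haveI : ∀ X : Cᵒᵖ, IsIso (φ.hom.app X) := by
    intro X
    rw [isIso_iff_bijective]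
    exact ⟨hinj X.unop, hsurj X.unop⟩
  haveI : IsIso φ.hom := NatIso.isIso_of_isIso_app φ.hom
  haveI : IsIso ((sheafToPresheaf J (Type u)).map φ) := ‹IsIso φ.hom›
  exact isIso_of_reflects_iso φ (sheafToPresheaf J (Type u))

theorem isDetecting_eps (G : Set C)
    (hG : ∀ X : C, ∃ (ι : Type u) (Y : ι → C) (f : ∀ i, Y i ⟶ X),
      Sieve.ofArrows Y f ∈ J X ∧ ∀ i, Y i ∈ G) :
    (ObjectProperty.ofObj fun X : G => eps J (X : C)).IsDetecting := by
  intro F F' φ hφ
  apply isIso_of_bijective_on_basis G hG φ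
  intro U hU
  have hφ' := hφ (eps J U) (ObjectProperty.ofObj_apply (fun X : G => eps J (X : C)) ⟨U, hU⟩)
  constructor
  · intro x x' hxx'
    obtain ⟨h', -, huniq⟩ := hφ' (secHom (φ.hom.app (op U) x))
    have h1 : secHom x = h' := huniq _ (secHom_comp x φ)
    have h2 : secHom x' = h' := huniq _ (by
      show secHom x' ≫ φ = secHom (φ.hom.app (op U) x)
      rw [secHom_comp, hxx'])
    have := congrArg (fun t => t.hom.app (op U) (etaSec J U)) (h1.trans h2.symm)
    simpa only [secHom_etaSec] using this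
  · intro y
    obtain ⟨h', hh', -⟩ := hφ' (secHom y)
    refine ⟨h'.hom.app (op U) (etaSec J U), ?_⟩
    have := congrArg (fun t => t.hom.app (op U) (etaSec J U)) hh'
    simpa only [hom_app_comp_apply, secHom_etaSec] using this

end Groth.Agent.Helper5.ToposFin
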