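import Groth.Agent.Lib.Helper5.ToposFinCofan
import Mathlib.CategoryTheory.Sites.Subcanonical

set_option autoImplicit false
set_option linter.style.haveILetI false

universe u

open CategoryTheory CategoryTheory.Limits Opposite

namespace Groth.Agent.Helper5.ToposFin

variable {C : Type u} [SmallCategory C] {J : GrothendieckTopology C}
variable {D : Type u} [SmallCategory D] {K : GrothendieckTopology D}

open _root_.ToposFin

theorem mapEpsIso_hom (F : Sh J ⥤ Sh K) (R : Sh K ⥤ Sh J) (adj : F ⊣ R) (X : C) (Y : D)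
    (e : ∀ H : Sh K, (R.obj H).obj.obj (op X) ≃ H.obj.obj (op Y))
    (he : ∀ {H H' : Sh K} (g : H ⟶ H') (s : (R.obj H).obj.obj (op X)),
      e H' ((R.map g).hom.app (op X) s) = g.hom.app (op Y) (e H s)) :
    (mapEpsIso F R adj X Y e he).hom =
      (adj.homEquiv _ _).symm (secHom ((e (eps K Y)).symm (etaSec K Y))) := rfl

/-- Naturality of `mapEpsIso`. -/
theorem mapEpsIso_hom_naturality (F : Sh J ⥤ Sh K) (R : Sh K ⥤ Sh J) (adj : F ⊣ R)
    {X X' : C} {Y Y' : D} (f : X ⟶ X') (g : Y ⟶ Y')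
    (e : ∀ H : Sh K, (R.obj H).obj.obj (op X) ≃ H.obj.obj (op Y))
    (he : ∀ {H H' : Sh K} (g : H ⟶ H') (s : (R.obj H).obj.obj (op X)),
      e H' ((R.map g).hom.app (op X) s) = g.hom.app (op Y) (e H s))
    (e' : ∀ H : Sh K, (R.obj H).obj.obj (op X') ≃ H.obj.obj (op Y'))
    (he' : ∀ {H H' : Sh K} (g : H ⟶ H') (s : (R.obj H).obj.obj (op X')),
      e' H' ((R.map g).hom.app (op X') s) = g.hom.app (op Y') (e' H s))
    (hfg : ∀ (H : Sh K) (s : (R.obj H).obj.obj (op X')),
      e H ((R.obj H).obj.map f.op s) = H.obj.map g.op (e' H s)) :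
    F.map (epsMap J f) ≫ (mapEpsIso F R adj X' Y' e' he').hom =
      (mapEpsIso F R adj X Y e he).hom ≫ epsMap K g := by
  apply (adj.homEquiv _ _).injective
  rw [adj.homEquiv_naturality_left, adj.homEquiv_naturality_right, mapEpsIso_hom, mapEpsIso_hom,
    Equiv.apply_symm_apply, Equiv.apply_symm_apply, epsMap_secHom, secHom_comp]
  congr 1
  apply (e (eps K Y')).injective
  rw [hfg, Equiv.apply_symm_apply, he, Equiv.apply_symm_apply, epsMap_etaSec]

section Subcanonical

variable [J.Subcanonical]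

variable (J) in
/-- The representable presheaf, as a sheaf for a subcanonical topology. -/
noncomputable def yonedaSh (X : C) : Sh J :=
  ⟨yoneda.obj X, (isSheaf_iff_isSheaf_of_type _ _).2
    (GrothendieckTopology.Subcanonical.isSheaf_of_isRepresentable _)⟩

variable (J) in
/-- The unit `h_X ⟶ eps X` as a morphism of sheaves. -/
noncomputable def etaSh (X : C) : yonedaSh J X ⟶ eps J X :=
  ObjectProperty.homMk (toSheafify J (yoneda.obj X))

variable (J) in
/-- The inverse of the unit. -/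
noncomputable def rhoSh (X : C) : eps J X ⟶ yonedaSh J X :=
  secHom (F := yonedaSh J X) (𝟙 X : X ⟶ X)

theorem rhoSh_app_etaSec (X : C) :
    (rhoSh J X).hom.app (op X) (etaSec J X) = (𝟙 X : X ⟶ X) :=
  secHom_etaSec (F := yonedaSh J X) _

theorem rhoSh_etaSh (X : C) : rhoSh J X ≫ etaSh J X = 𝟙 _ := by
  apply eps_hom_ext
  rw [hom_app_comp_apply, rhoSh_app_etaSec]
  rfl

theorem epsMap_bijective (X X' : C) : Function.Bijective (fun f : X ⟶ X' => epsMap J f) := by
  have key : ∀ f : X ⟶ X', (epsMap J f ≫ rhoSh J X').hom.app (op X) (etaSec J X) = f := by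
    intro f
    rw [hom_app_comp_apply, epsMap_etaSec, NatTrans.naturality_apply, rhoSh_app_etaSec]
    show f ≫ 𝟙 X' = f
    rw [Category.comp_id]
  constructor
  · intro f f' hff
    have hff' : epsMap J f = epsMap J f' := hff
    rw [← key f, hff', key f']
  · intro a
    obtain ⟨f, hf⟩ : ∃ f : X ⟶ X', f = (a ≫ rhoSh J X').hom.app (op X) (etaSec J X) := ⟨_, rfl⟩
    refine ⟨f, ?_⟩
    show epsMap J f = a
    apply eps_hom_ext
    rw [epsMap_etaSec, ← toSheafify_app_eq]
    have h1 : a = a ≫ rhoSh J X' ≫ etaSh J X' := by rw [rhoSh_etaSh, Category.comp_id]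
    conv_rhs => rw [h1, ← Category.assoc, hom_app_comp_apply, ← hf]
    rfl

end Subcanonical

end Groth.Agent.Helper5.ToposFin
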