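import Groth.Agent.Lib.Helper5.US1
import Groth.Agent.Lib.Helper5.EC4
import Groth.Agent.Lib.Helper13.FinTypeEpi

/-!
# Finite type modules: stalks, vanishing loci, pullback to points
-/

set_option autoImplicit false
set_option linter.unusedSectionVars false
set_option linter.unusedVariables false
set_option linter.style.haveILetI false

universe u

open CategoryTheory CategoryTheory.Limits AlgebraicGeometry HomologicalComplex Opposite
  TopologicalSpace

attribute [local instance] HasDerivedCategory.standard

namespace Groth.Agent.Helper5.US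

open Groth.Agent.Helper13.QCoh Groth.Agent.Helper13.FinType Groth.Agent.Helper13.LocFree
  Groth.Agent.Helper5.LDer Groth.Agent.Helper5.EC

variable {W : Scheme.{u}}

/-- a quotient of a free module of finite rank is generated by finitely many global sections -/
theorem exists_genOn_top_of_epi {G : W.Modules} {n : ℕ} (p : FlatMod.freeMod W n ⟶ G) [Epi p] :
    ∃ g : ULift.{u} (Fin n) → Γ(G, ⊤), GenOn G ⊤ g := by
  let A : W.Modules := SheafOfModules.free (R := W.ringCatSheaf) (ULift.{u} (Fin n))
  let e : A ≅ FlatMod.freeMod W n :=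
    Sigma.whiskerEquiv (f := fun _ : ULift.{u} (Fin n) => Coh.structureModule W)
      (g := fun _ : Fin n => Coh.structureModule W) Equiv.ulift (fun _ => Iso.refl _)
  let p' : A ⟶ G := e.hom ≫ p
  haveI : Epi p' := epi_comp e.hom p
  let s := SheafOfModules.freeHomEquiv G p'
  have hs : (SheafOfModules.freeHomEquiv G).symm s = p' := Equiv.symm_apply_apply _ _
  have hE : Epi ((SheafOfModules.freeHomEquiv G).symm s) := by
    rw [hs]
    exact (inferInstance : Epi p')
  exact ⟨_, (epi_iff_genOn_top G s).mp hE⟩

/-- the stalks of a module generated by finitely many sections are finitely generated -/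
theorem finite_stalk_of_genOn {G : W.Modules} {I : Type*} [Finite I] (g : I → Γ(G, ⊤))
    (hg : GenOn G ⊤ g) (y : W) : Module.Finite (W.presheaf.stalk y) (G.presheaf.stalk y) := by
  refine ⟨⟨(Set.finite_range fun i => G.presheaf.germ ⊤ y trivial (g i)).toFinset, ?_⟩⟩
  rw [Set.Finite.coe_toFinset]
  exact hg y trivial

/-- the vanishing locus of the stalks of a finite type module is open -/
theorem exists_open_subsingleton_stalk {G : W.Modules} {I : Type*} [Fintype I] (g : I → Γ(G, ⊤))
    (hg : GenOn G ⊤ g) (y₀ : W) (h₀ : Subsingleton (G.presheaf.stalk y₀)) :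
    ∃ U : W.Opens, y₀ ∈ U ∧ ∀ y ∈ U, Subsingleton (G.presheaf.stalk y) := by
  have key : ∀ i : I, ∃ V : W.Opens, y₀ ∈ V ∧ ∃ h : V ≤ ⊤,
      G.presheaf.map (homOfLE h).op (g i) = 0 := by
    intro i
    have h1 : G.presheaf.germ ⊤ y₀ trivial (g i) = G.presheaf.germ ⊤ y₀ trivial 0 :=
      h₀.elim _ _
    obtain ⟨V, hV, i₁, i₂, heq⟩ := TopCat.Presheaf.germ_eq G.presheaf y₀
      (show y₀ ∈ (⊤ : W.Opens) from trivial) (show y₀ ∈ (⊤ : W.Opens) from trivial) _ _ h1
    refine ⟨V, hV, le_top, ?_⟩
    have h2 : i₁ = homOfLE le_top := Subsingleton.elim _ _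
    rw [← h2]
    rw [heq]
    exact map_zero _
  choose V hV hle hres using key
  refine ⟨Finset.univ.inf V, ?_, ?_⟩
  · rw [← SetLike.mem_coe, Opens.coe_finset_inf, Finset.inf_set_eq_iInter]
    exact Set.mem_iInter₂.mpr (fun i _ => hV i)
  · intro y hy
    have hyV : ∀ i, y ∈ V i := fun i => (Finset.inf_le (Finset.mem_univ i) : _ ≤ V i) hy
    have hz : ∀ i, G.presheaf.germ ⊤ y trivial (g i) = 0 := by
      intro i
      rw [← TopCat.Presheaf.germ_res_apply G.presheaf (homOfLE (hle i)) y (hyV i) (g i), hres i]
      exact map_zero _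
    have hspan := hg y trivial
    have hbot : Submodule.span (W.presheaf.stalk y)
        (Set.range fun i => G.presheaf.germ ⊤ y trivial (g i)) = ⊥ := by
      rw [Submodule.span_eq_bot]
      rintro _ ⟨i, rfl⟩
      exact hz i
    rw [hbot] at hspan
    refine ⟨fun a b => ?_⟩
    have ha : a ∈ (⊥ : Submodule (W.presheaf.stalk y) (G.presheaf.stalk y)) := hspan ▸ trivial
    have hb : b ∈ (⊥ : Submodule (W.presheaf.stalk y) (G.presheaf.stalk y)) := hspan ▸ trivial
    rw [Submodule.mem_bot] at ha hb
    rw [ha, hb]

/-- a test point: a morphism from a one point scheme whose ring of functions is a field, which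
is surjective on the stalk -/
structure Pt (W : Scheme.{u}) where
  /-- the one point scheme -/
  S : Scheme.{u}
  /-- the morphism -/
  f : S ⟶ W
  /-- the point -/
  s : S
  hS : ∀ y z : S, y = z
  field : IsField Γ(S, ⊤)
  surj : Function.Surjective (Sky.φst f s)

/-- the image point -/
def Pt.pt (t : Pt W) : W := t.f.base t.s

/-- Nakayama: if the fibre of a finite type module vanishes, so does the stalk -/
theorem subsingleton_stalk_of_isZero_pullback (t : Pt W) {G : W.Modules} {I : Type*} [Finite I]
    (g : I → Γ(G, ⊤)) (hg : GenOn G ⊤ g) (h : IsZero ((Scheme.Modules.pullback t.f).obj G)) :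
    Subsingleton (G.presheaf.stalk t.pt) := by
  have e := (Sky.pullbackStalkIso t.f t.s).app G
  have h1 : IsZero ((ModuleCat.extendScalars (Sky.φst t.f t.s)).obj
      ((DerSch.stalkFunctor W (t.f.base t.s)).obj G)) :=
    IsZero.of_iso ((DerSch.stalkFunctor t.S t.s).map_isZero h) e.symm
  haveI : Module.Finite (W.presheaf.stalk (t.f.base t.s))
      ((DerSch.stalkFunctor W (t.f.base t.s)).obj G) := finite_stalk_of_genOn g hg _
  exact subsingleton_of_isZero_extendScalars (Sky.φst t.f t.s) t.surj _ h1

/-- if the stalk vanishes, so does the fibre -/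
theorem isZero_pullback_of_subsingleton_stalk (t : Pt W) (G : W.Modules)
    (h : Subsingleton (G.presheaf.stalk t.pt)) : IsZero ((Scheme.Modules.pullback t.f).obj G) := by
  rw [isZero_iff_stalk]
  intro x
  obtain rfl : x = t.s := t.hS _ _
  have e := (Sky.pullbackStalkIso t.f t.s).app G
  have h0 : IsZero ((DerSch.stalkFunctor W (t.f.base t.s)).obj G) := by
    haveI : Subsingleton ((DerSch.stalkFunctor W (t.f.base t.s)).obj G) := h
    exact ModuleCat.isZero_of_subsingleton _
  have h1 : IsZero ((DerSch.stalkFunctor t.S t.s).obj ((Scheme.Modules.pullback t.f).obj G)) :=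
    IsZero.of_iso ((ModuleCat.extendScalars (Sky.φst t.f t.s)).map_isZero h0) e
  exact ModuleCat.subsingleton_of_isZero h1

end Groth.Agent.Helper5.US
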