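import Groth.Agent.Lib.Helper5.US2

/-!
# Upper semicontinuity of the fibre dimension of a finite type module
-/

set_option autoImplicit false
set_option linter.unusedSectionVars false
set_option linter.unusedVariables false
set_option linter.style.haveILetI false

universe u

open CategoryTheory CategoryTheory.Limits AlgebraicGeometry HomologicalComplex Opposite
  TopologicalSpace

attribute [local instance] HasDerivedCategory.standard

namespace Groth.Agent.Helper5.US

section Algebra

variable {k : Type u} [Ring k] (hk : IsField k)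

include hk in
lemma finrank_range_eq_one {L M : Type u} [AddCommGroup L] [Module k L] [AddCommGroup M]
    [Module k M] (f : L →ₗ[k] M) (hL : Module.finrank k L = 1) (hf : f ≠ 0) :
    Module.finrank k (LinearMap.range f) = 1 := by
  letI : Field k := hk.toField
  haveI : Module.Finite k L := Module.finite_of_finrank_pos (by rw [hL]; exact Nat.one_pos)
  have h1 : Module.finrank k (LinearMap.range f) ≤ 1 := hL ▸ LinearMap.finrank_range_le f
  have h2 : 1 ≤ Module.finrank k (LinearMap.range f) := by
    rw [Submodule.one_le_finrank_iff]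
    intro hbot
    exact hf (LinearMap.range_eq_bot.mp hbot)
  omega

include hk in
lemma finrank_range_le_one {L M : Type u} [AddCommGroup L] [Module k L] [AddCommGroup M]
    [Module k M] (f : L →ₗ[k] M) (hL : Module.finrank k L = 1) :
    Module.finrank k (LinearMap.range f) ≤ 1 := by
  letI : Field k := hk.toField
  haveI : Module.Finite k L := Module.finite_of_finrank_pos (by rw [hL]; exact Nat.one_pos)
  exact hL ▸ LinearMap.finrank_range_le f

include hk in
lemma subsingleton_of_finrank_eq_zero {M : Type u} [AddCommGroup M] [Module k M]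
    [Module.Finite k M] (h : Module.finrank k M = 0) : Subsingleton M := by
  letI : Field k := hk.toField
  exact Module.finrank_zero_iff.mp h

include hk in
lemma finrank_quotient_add {M : Type u} [AddCommGroup M] [Module k M]
    [Module.Finite k M] (N : Submodule k M) :
    Module.finrank k (M ⧸ N) + Module.finrank k N = Module.finrank k M := by
  letI : Field k := hk.toField
  exact Submodule.finrank_quotient_add_finrank N

end Algebra

open Groth.Agent.Helper13.QCoh Groth.Agent.Helper13.FinType Groth.Agent.Helper13.LocFree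
  Groth.Agent.Helper5.LDer Groth.Agent.Helper5.EC

variable {W : Scheme.{u}}

/-- the sections of the fibre at a test point -/
noncomputable def Pt.Φ (t : Pt W) : W.Modules ⥤ ModuleCat.{u} (Coh.Γtop t.S) :=
  Scheme.Modules.pullback t.f ⋙ Γfun t.S

instance (t : Pt W) : t.Φ.Additive := by
  unfold Pt.Φ
  infer_instance

lemma Pt.isField (t : Pt W) : IsField (Coh.Γtop t.S) := t.field

/-- the dimension of the fibre at a test point -/
noncomputable def fdim (t : Pt W) (G : W.Modules) : ℕ :=
  Module.finrank (Coh.Γtop t.S) (t.Φ.obj G)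

lemma Γfun_map_epi {S : Scheme.{u}} (hS : ∀ y z : S, y = z) (y₀ : S) {M N : S.Modules}
    (q : M ⟶ N) [Epi q] : Epi ((Γfun S).map q) := by
  rw [ModuleCat.epi_iff_surjective]
  intro t
  obtain ⟨s, hs⟩ := app_top_surjective_of_epi hS y₀ q t
  exact ⟨s, hs⟩

lemma Pt.Φ_map_epi (t : Pt W) {M N : W.Modules} (q : M ⟶ N) [Epi q] : Epi (t.Φ.map q) := by
  haveI : Epi ((Scheme.Modules.pullback t.f).map q) := inferInstance
  exact Γfun_map_epi t.hS t.s _

/-- the fibre functor commutes with cokernels -/
noncomputable def Pt.cokernelIso (t : Pt W) {M N : W.Modules} (a : M ⟶ N) :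
    t.Φ.obj (cokernel a) ≅ cokernel (t.Φ.map a) := by
  haveI := preservesHomology_Γfun t.hS t.s
  haveI : PreservesColimit (parallelPair ((Scheme.Modules.pullback t.f).map a) 0) (Γfun t.S) :=
    Functor.PreservesHomology.preservesCokernel _ _
  exact (Γfun t.S).mapIso (PreservesCokernel.iso (Scheme.Modules.pullback t.f) a) ≪≫
    PreservesCokernel.iso (Γfun t.S) ((Scheme.Modules.pullback t.f).map a)

lemma fdim_cokernel_add (t : Pt W) {M N : W.Modules} (a : M ⟶ N)
    [Module.Finite (Coh.Γtop t.S) (t.Φ.obj N)] :
    fdim t (cokernel a) + Module.finrank (Coh.Γtop t.S) (LinearMap.range (t.Φ.map a).hom) =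
      fdim t N := by
  have e := t.cokernelIso a ≪≫ ModuleCat.cokernelIsoRangeQuotient (t.Φ.map a)
  unfold fdim
  rw [LinearEquiv.finrank_eq e.toLinearEquiv]
  exact finrank_quotient_add t.isField _

lemma finite_Φ_of_epi (t : Pt W) {G : W.Modules} {n : ℕ} (p : FlatMod.freeMod W n ⟶ G) [Epi p] :
    Module.Finite (Coh.Γtop t.S) (t.Φ.obj G) := by
  haveI := t.Φ_map_epi p
  have hsurj : Function.Surjective (t.Φ.map p).hom :=
    (ModuleCat.epi_iff_surjective (t.Φ.map p)).mp inferInstance
  haveI := finite_Γfun_freeMod (S := t.S) n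
  haveI : Module.Finite (Coh.Γtop t.S) (t.Φ.obj (FlatMod.freeMod W n)) :=
    Module.Finite.equiv ((Γfun t.S).mapIso (pullbackFreeModIso t.f n)).toLinearEquiv.symm
  exact Module.Finite.of_surjective _ hsurj

lemma finrank_Φ_structureModule (t : Pt W) :
    Module.finrank (Coh.Γtop t.S) (t.Φ.obj (Coh.structureModule W)) = 1 := by
  have e := (Γfun t.S).mapIso (Groth.Agent.Helper13.PbUnit.pullbackUnitIso t.f)
  have h := LinearEquiv.finrank_eq e.toLinearEquiv
  have h1 : Module.finrank (Coh.Γtop t.S) ((Γfun t.S).obj (Coh.structureModule t.S)) = 1 := by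
    letI : Field (Coh.Γtop t.S) := t.isField.toField
    exact Module.finrank_self (Coh.Γtop t.S)
  exact h.trans h1

/-- on a one point scheme, a module without nonzero global sections is zero -/
lemma isZero_of_subsingleton_Γ {S : Scheme.{u}} (hS : ∀ y z : S, y = z) (M : S.Modules)
    (h : Subsingleton ((Γfun S).obj M)) : IsZero M := by
  rw [isZero_iff_sections]
  intro U
  refine ⟨fun a b => ?_⟩
  apply TopCat.Presheaf.section_ext ⟨M.presheaf, M.isSheaf⟩ U
  intro x hx
  have hU := opens_eq_top_of_mem hS U x hx
  subst hU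
  rw [h.elim a b]

lemma fdim_eq_zero_of_isZero (t : Pt W) (G : W.Modules)
    (h : IsZero ((Scheme.Modules.pullback t.f).obj G)) : fdim t G = 0 := by
  haveI : Subsingleton (t.Φ.obj G) :=
    ModuleCat.subsingleton_of_isZero ((Γfun t.S).map_isZero h)
  letI : Field (Coh.Γtop t.S) := t.isField.toField
  exact Module.finrank_zero_of_subsingleton

/-- upper semicontinuity of the fibre dimension, by induction on the dimension -/
theorem usc_aux (r : ℕ) : ∀ (G : W.Modules) (n : ℕ) (p : FlatMod.freeMod W n ⟶ G) [Epi p]
    (t₀ : Pt W), fdim t₀ G = r →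
    ∃ U : W.Opens, t₀.pt ∈ U ∧ ∀ t : Pt W, t.pt ∈ U → fdim t G ≤ r := by
  induction r with
  | zero =>
    intro G n p _ t₀ h0
    obtain ⟨g, hg⟩ := exists_genOn_top_of_epi p
    haveI := finite_Φ_of_epi t₀ p
    have hsub : Subsingleton (t₀.Φ.obj G) := subsingleton_of_finrank_eq_zero t₀.isField h0
    have hz : IsZero ((Scheme.Modules.pullback t₀.f).obj G) :=
      isZero_of_subsingleton_Γ t₀.hS _ hsub
    have hst := subsingleton_stalk_of_isZero_pullback t₀ g hg hz
    obtain ⟨U, hU, hUz⟩ := exists_open_subsingleton_stalk g hg t₀.pt hst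
    refine ⟨U, hU, fun t ht => ?_⟩
    rw [fdim_eq_zero_of_isZero t G (isZero_pullback_of_subsingleton_stalk t G (hUz _ ht))]
  | succ r ih =>
    intro G n p _ t₀ h0
    haveI := finite_Φ_of_epi t₀ p
    have hex : ∃ i : Fin n, t₀.Φ.map (ι n i ≫ p) ≠ 0 := by
      by_contra hcon
      simp only [not_exists, not_not] at hcon
      have h1 : p = ∑ i : Fin n, π n i ≫ (ι n i ≫ p) := by
        have h2 : p = (∑ i : Fin n, π n i ≫ ι n i) ≫ p := by rw [total, Category.id_comp]
        rw [Preadditive.sum_comp] at h2
        simpa only [Category.assoc] using h2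
      have hp0 : t₀.Φ.map p = 0 := by
        rw [h1, Functor.map_sum]
        apply Finset.sum_eq_zero
        intro i _
        rw [Functor.map_comp, hcon i, comp_zero]
      haveI := t₀.Φ_map_epi p
      have hz : IsZero (t₀.Φ.obj G) := IsZero.of_epi_eq_zero _ hp0
      haveI : Subsingleton (t₀.Φ.obj G) := ModuleCat.subsingleton_of_isZero hz
      have h3 : fdim t₀ G = 0 := by
        letI : Field (Coh.Γtop t₀.S) := t₀.isField.toField
        exact Module.finrank_zero_of_subsingleton
      omega
    obtain ⟨i, hi⟩ := hex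
    set a := ι n i ≫ p with ha
    haveI : Epi (p ≫ cokernel.π a) := epi_comp _ _
    have key : ∀ t : Pt W, fdim t (cokernel a) +
        Module.finrank (Coh.Γtop t.S) (LinearMap.range (t.Φ.map a).hom) = fdim t G := by
      intro t
      haveI := finite_Φ_of_epi t p
      exact fdim_cokernel_add t a
    have h1 : Module.finrank (Coh.Γtop t₀.S) (LinearMap.range (t₀.Φ.map a).hom) = 1 :=
      finrank_range_eq_one t₀.isField _ (finrank_Φ_structureModule t₀)
        (fun h => hi (ModuleCat.hom_ext h))
    have h2 : fdim t₀ (cokernel a) = r := by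
      have := key t₀
      omega
    obtain ⟨U, hU, hUle⟩ := ih (cokernel a) n (p ≫ cokernel.π a) t₀ h2
    refine ⟨U, hU, fun t ht => ?_⟩
    have h3 := finrank_range_le_one t.isField (t.Φ.map a).hom (finrank_Φ_structureModule t)
    have h4 := key t
    have h5 := hUle t ht
    omega

/-- upper semicontinuity of the fibre dimension of a finite type module -/
theorem usc (G : W.Modules) (n : ℕ) (p : FlatMod.freeMod W n ⟶ G) [Epi p] (t₀ : Pt W) :
    ∃ U : W.Opens, t₀.pt ∈ U ∧ ∀ t : Pt W, t.pt ∈ U → fdim t G ≤ fdim t₀ G :=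
  usc_aux _ G n p t₀ rfl

end Groth.Agent.Helper5.US
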