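import Groth.Agent.Lib.Helper5.US3
import Groth.Agent.Lib.Helper5.PC3

/-!
# Betti numbers of a pseudo-coherent object at a point from a local model
-/

set_option autoImplicit false
set_option linter.unusedSectionVars false
set_option linter.unusedVariables false
set_option linter.style.haveILetI false

universe u

open CategoryTheory CategoryTheory.Limits AlgebraicGeometry HomologicalComplex Opposite
  TopologicalSpace

attribute [local instance] HasDerivedCategory.standard

namespace Groth.Agent.Helper5.US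

open Groth.Agent.Helper13.QCoh Groth.Agent.Helper13.FinType Groth.Agent.Helper13.LocFree
  Groth.Agent.Helper5.LDer Groth.Agent.Helper5.EC Groth.Agent.Helper5.PC

section Algebra

variable {k : Type u} [Ring k] [Nontrivial k] [HasRankNullity.{u} k] [StrongRankCondition k]
  [IsNoetherianRing k]

lemma finrank_homology_cx' (D : CochainComplex (ModuleCat.{u} k) ℤ)
    [∀ i, Module.Finite k (D.X i)] (i : ℤ) :
    (Module.finrank k (D.homology i) : ℤ) = Module.finrank k (D.X i) -
      Module.finrank k (LinearMap.range (D.d i (i + 1)).hom) -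
      Module.finrank k (LinearMap.range (D.d (i - 1) i).hom) := by
  have e := D.homologyIsoSc' (i - 1) i (i + 1) (by simp) (by simp)
  rw [LinearEquiv.finrank_eq e.toLinearEquiv]
  haveI : Module.Finite k (D.sc' (i - 1) i (i + 1)).X₂ :=
    inferInstanceAs (Module.Finite k (D.X i))
  exact finrank_homology (D.sc' (i - 1) i (i + 1))

end Algebra

variable {X : Scheme.{u}}

/-- the cohomology of the derived pullback along a morphism which factors through an open, in
terms of a local model in degrees `≥ p` -/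
theorem nonempty_HD_Lpull_iso_of_conn {S : Scheme.{u}} (f : S ⟶ X) [DCoh.HasLpull f]
    (V : X.Opens) (l : S ⟶ (V : Scheme.{u})) (hl : l ≫ V.ι = f) (E : DCoh.D X)
    (F : CochainComplex X.Modules ℤ) (hF : DCoh.IsKFlat F) (eF : DerivedCategory.Q.obj F ≅ E)
    (P : CochainComplex (V : Scheme.{u}).Modules ℤ) (hP : DCoh.IsKFlat P) (p : ℤ)
    (α : DerivedCategory.Q.obj P ⟶ DerivedCategory.Q.obj ((DCoh.restrictCx V).obj F))
    (hα : IsConn (p - 1) α) :
    Nonempty (DCoh.HD ((DCoh.Lpull f).obj E) p ≅
      (((Scheme.Modules.pullback l).mapHomologicalComplex (ComplexShape.up ℤ)).obj P).homology p) := by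
  haveI := hasLpull l
  have hFV := isKFlat_restrict V.ι F hF
  have r2 := (NatIso.mapHomologicalComplex (pullbackLiftIso f V l hl) (ComplexShape.up ℤ)).app F
  have hconn := isConn_Lpull_map l α (p - 1) hα
  haveI : IsIso ((DerivedCategory.homologyFunctor _ p).map ((DCoh.Lpull l).map α)) :=
    hconn.1 p (by omega)
  have φ1 : (DCoh.Lpull f).obj E ≅ (DCoh.Lpull l).obj
      (DerivedCategory.Q.obj ((DCoh.restrictCx V).obj F)) :=
    (DCoh.Lpull f).mapIso eF.symm ≪≫ LpullObjIso f F hF ≪≫ DerivedCategory.Q.mapIso r2 ≪≫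
      (LpullObjIso l _ hFV).symm
  exact ⟨(DerivedCategory.homologyFunctor _ p).mapIso φ1 ≪≫
    (asIso ((DerivedCategory.homologyFunctor _ p).map ((DCoh.Lpull l).map α))).symm ≪≫
    (DerivedCategory.homologyFunctor _ p).mapIso (LpullObjIso l P hP) ≪≫ HDQIso _ p⟩

variable {W : Scheme.{u}}

lemma fdim_of_iso_freeMod (t : Pt W) {M : W.Modules} {n : ℕ} (e : M ≅ FlatMod.freeMod W n) :
    fdim t M = n := by
  unfold fdim
  haveI : Nontrivial Γ(t.S, ⊤) := t.field.nontrivial
  rw [← finrank_Γfun_freeMod (S := t.S) n]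
  exact LinearEquiv.finrank_eq ((Γfun t.S).mapIso
    ((Scheme.Modules.pullback t.f).mapIso e ≪≫ pullbackFreeModIso t.f n)).toLinearEquiv

lemma finite_Φ_of_iso_freeMod (t : Pt W) {M : W.Modules} {n : ℕ} (e : M ≅ FlatMod.freeMod W n) :
    Module.Finite (Coh.Γtop t.S) (t.Φ.obj M) := by
  haveI := finite_Γfun_freeMod (S := t.S) n
  exact Module.Finite.equiv ((Γfun t.S).mapIso
    ((Scheme.Modules.pullback t.f).mapIso e ≪≫ pullbackFreeModIso t.f n)).toLinearEquiv.symm

/-- the dimension of the cohomology of the fibre of a complex of free modules, in terms of the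
fibre dimensions of the cokernels of the differentials -/
theorem finrank_homology_fibre (t : Pt W) (P' : CochainComplex W.Modules ℤ) (n : ℤ → ℕ)
    (hfree : ∀ i, Nonempty (P'.X i ≅ FlatMod.freeMod W (n i))) (p : ℤ) :
    Module.finrank (Coh.Γtop t.S) ((Γfun t.S).obj
      ((((Scheme.Modules.pullback t.f).mapHomologicalComplex
        (ComplexShape.up ℤ)).obj P').homology p)) + n (p + 1) =
    fdim t (cokernel (P'.d (p - 1) p)) + fdim t (cokernel (P'.d p (p + 1))) := by
  letI : Field (Coh.Γtop t.S) := t.isField.toField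
  haveI := preservesHomology_Γfun t.hS t.s
  set C := ((Scheme.Modules.pullback t.f).mapHomologicalComplex (ComplexShape.up ℤ)).obj P' with hC
  set D := ((Γfun t.S).mapHomologicalComplex (ComplexShape.up ℤ)).obj C with hD
  haveI hfin : ∀ i, Module.Finite (Coh.Γtop t.S) (D.X i) := fun i =>
    finite_Φ_of_iso_freeMod t (hfree i).some
  have hH : Module.finrank (Coh.Γtop t.S) (D.homology p) =
      Module.finrank (Coh.Γtop t.S) ((Γfun t.S).obj (C.homology p)) :=
    LinearEquiv.finrank_eq ((C.sc p).mapHomologyIso (Γfun t.S)).toLinearEquiv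
  have h1 := finrank_homology_cx' D p
  have hX : ∀ i, Module.finrank (Coh.Γtop t.S) (D.X i) = n i := fun i =>
    fdim_of_iso_freeMod t (hfree i).some
  have c1 : fdim t (cokernel (P'.d (p - 1) p)) +
      Module.finrank (Coh.Γtop t.S) (LinearMap.range (D.d (p - 1) p).hom) =
      Module.finrank (Coh.Γtop t.S) (D.X p) := by
    haveI : Module.Finite (Coh.Γtop t.S) (t.Φ.obj (P'.X p)) := hfin p
    exact fdim_cokernel_add t (P'.d (p - 1) p)
  have c2 : fdim t (cokernel (P'.d p (p + 1))) +
      Module.finrank (Coh.Γtop t.S) (LinearMap.range (D.d p (p + 1)).hom) =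
      Module.finrank (Coh.Γtop t.S) (D.X (p + 1)) := by
    haveI : Module.Finite (Coh.Γtop t.S) (t.Φ.obj (P'.X (p + 1))) := hfin (p + 1)
    exact fdim_cokernel_add t (P'.d p (p + 1))
  rw [← hH]
  rw [hX] at c1 c2 h1
  omega

end Groth.Agent.Helper5.US
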