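import Mathlib
import Groth.Agent.Lib.Helper14.WeilAff1

/-!
# The Weil-restriction ring of a finitely presented algebra is finitely presented
-/

set_option autoImplicit false
set_option linter.style.haveILetI false
set_option linter.unusedSectionVars false
set_option linter.unusedVariables false
set_option maxHeartbeats 400000

universe u

open TensorProduct

namespace Groth.Agent.Helper5.WRFP

open Groth.Agent.Helper14.WeilAff

variable {A B : Type u} [CommRing A] [CommRing B] [Algebra A B]
  {ι : Type u} [Fintype ι] (e : Module.Basis ι A B)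

section Ext

variable (D : Type u) [CommRing D] [Algebra A D]

/-- `D → D ⊗_A B` -/
noncomputable def φD : D →+* D ⊗[A] B := Algebra.TensorProduct.includeLeftRingHom

/-- `B → D ⊗_A B` -/
noncomputable def ιD : B →+* D ⊗[A] B :=
  (Algebra.TensorProduct.includeRight : B →ₐ[A] D ⊗[A] B).toRingHom

lemma φD_apply (d : D) : φD (A := A) (B := B) D d = d ⊗ₜ[A] (1 : B) := rfl

lemma ιD_apply (b : B) : ιD (A := A) D b = (1 : D) ⊗ₜ[A] b := rfl

lemma φ_mul_ι (d : D) (b : B) : φD (A := A) (B := B) D d * ιD (A := A) D b = d ⊗ₜ[A] b := by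
  rw [φD_apply, ιD_apply, Algebra.TensorProduct.tmul_mul_tmul, mul_one, one_mul]

lemma hσD : (φD (A := A) (B := B) D).comp (algebraMap A D) =
    (ιD (A := A) D).comp (algebraMap A B) := by
  ext a
  show (algebraMap A D a) ⊗ₜ[A] (1 : B) = (1 : D) ⊗ₜ[A] (algebraMap A B a)
  rw [Algebra.algebraMap_eq_smul_one, Algebra.algebraMap_eq_smul_one, TensorProduct.smul_tmul]

lemma coord_eq (d : ι → D) :
    ∑ k, φD (A := A) (B := B) D (d k) * ιD (A := A) D (e k) =
      ∑ k, d k • (Algebra.TensorProduct.basis D e) k := by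
  refine Finset.sum_congr rfl fun k _ => ?_
  rw [φ_mul_ι, Algebra.TensorProduct.basis_apply, TensorProduct.smul_tmul', smul_eq_mul, mul_one]

theorem hcoordD : ∀ x : D ⊗[A] B, ∃! d : ι → D,
    x = ∑ k, φD (A := A) (B := B) D (d k) * ιD (A := A) D (e k) := by
  intro x
  refine ⟨fun k => (Algebra.TensorProduct.basis D e).repr x k, ?_, ?_⟩
  · show x = _
    rw [coord_eq]
    exact ((Algebra.TensorProduct.basis D e).sum_repr x).symm
  · intro d hd
    rw [coord_eq] at hd
    funext k
    rw [hd, Module.Basis.repr_sum_self]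

end Ext

section Map

variable {D₁ D₂ : Type u} [CommRing D₁] [CommRing D₂] [Algebra A D₁] [Algebra A D₂]
  (θ : D₁ →ₐ[A] D₂)

/-- `θ ⊗ id` -/
noncomputable def tmap : D₁ ⊗[A] B →ₐ[A] D₂ ⊗[A] B :=
  Algebra.TensorProduct.map θ (AlgHom.id A B)

lemma tmap_coord (d : ι → D₁) :
    tmap (B := B) θ (∑ k, φD (A := A) (B := B) D₁ (d k) * ιD (A := A) D₁ (e k)) =
      ∑ k, φD (A := A) (B := B) D₂ (θ (d k)) * ιD (A := A) D₂ (e k) := by
  rw [map_sum]
  refine Finset.sum_congr rfl fun k _ => ?_
  rw [φ_mul_ι, φ_mul_ι]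
  exact Algebra.TensorProduct.map_tmul _ _ _ _

end Map

section Main

variable {C : Type u} [CommRing C] [Algebra A C] {n : ℕ}
  (π : MvPolynomial (Fin n) A →ₐ[A] C) (s : Finset (MvPolynomial (Fin n) A))

/-- the polynomial ring of the coordinates -/
abbrev D₀ (A : Type u) [CommRing A] (ι : Type u) (n : ℕ) : Type u := MvPolynomial (Fin n × ι) A

/-- the universal map on the polynomial ring -/
noncomputable def β₀ : MvPolynomial (Fin n) A →ₐ[A] D₀ A ι n ⊗[A] B :=
  MvPolynomial.aeval (fun j => ∑ k, (MvPolynomial.X (j, k) : D₀ A ι n) ⊗ₜ[A] e k)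

/-- coordinates of the image of a polynomial -/
noncomputable def g (f : MvPolynomial (Fin n) A) (k : ι) : D₀ A ι n :=
  (Algebra.TensorProduct.basis (D₀ A ι n) e).repr (β₀ (n := n) e f) k

lemma hg (f : MvPolynomial (Fin n) A) :
    β₀ (n := n) e f = ∑ k, φD (A := A) (B := B) (D₀ A ι n) (g e f k) *
      ιD (A := A) (D₀ A ι n) (e k) := by
  rw [coord_eq]
  exact ((Algebra.TensorProduct.basis (D₀ A ι n) e).sum_repr (β₀ (n := n) e f)).symm

/-- the ideal of coordinates of the relations -/
noncomputable def J : Ideal (D₀ A ι n) :=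
  Ideal.span (Set.range (fun p : s × ι => g e p.1.1 p.2))

lemma J_fg : (J e s).FG := Submodule.fg_span (Set.finite_range _)

lemma g_mem_J (f : MvPolynomial (Fin n) A) (hf : f ∈ s) (k : ι) : g e f k ∈ J e s :=
  Ideal.subset_span ⟨(⟨f, hf⟩, k), rfl⟩

/-- the candidate presentation (a `def`, to keep instance search away from the quotient) -/
def DD : Type u := D₀ A ι n ⧸ J e s

noncomputable instance : CommRing (DD e s) :=
  inferInstanceAs (CommRing (D₀ A ι n ⧸ J e s))

noncomputable instance : Algebra A (DD e s) :=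
  inferInstanceAs (Algebra A (D₀ A ι n ⧸ J e s))

instance : Algebra.FinitePresentation A (DD e s) :=
  Algebra.FinitePresentation.quotient (R := A) (A := D₀ A ι n) (J_fg e s)

/-- the quotient map -/
noncomputable def q : D₀ A ι n →ₐ[A] DD e s := Ideal.Quotient.mkₐ A (J e s)

lemma q_surjective : Function.Surjective (q e s) := Ideal.Quotient.mkₐ_surjective A (J e s)

/-- maps out of the candidate presentation -/
noncomputable def liftDD {W : Type u} [CommRing W] [Algebra A W] (ψ₀ : D₀ A ι n →ₐ[A] W)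
    (h : ∀ x ∈ J e s, ψ₀ x = 0) : DD e s →ₐ[A] W :=
  Ideal.Quotient.liftₐ (J e s) ψ₀ h

lemma liftDD_q {W : Type u} [CommRing W] [Algebra A W] (ψ₀ : D₀ A ι n →ₐ[A] W)
    (h : ∀ x ∈ J e s, ψ₀ x = 0) (x : D₀ A ι n) : liftDD e s ψ₀ h (q e s x) = ψ₀ x :=
  Ideal.Quotient.liftₐ_apply (J e s) ψ₀ h (Ideal.Quotient.mk (J e s) x)

lemma q_g (f : MvPolynomial (Fin n) A) (hf : f ∈ s) (k : ι) : q e s (g e f k) = 0 :=
  Ideal.Quotient.eq_zero_iff_mem.mpr (g_mem_J e s f hf k)

/-- the universal map modulo the coordinates of the relations -/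
noncomputable def β₁ : MvPolynomial (Fin n) A →ₐ[A] DD e s ⊗[A] B :=
  (tmap (B := B) (q e s)).comp (β₀ (n := n) e)

lemma β₁_mem (f : MvPolynomial (Fin n) A) (hf : f ∈ s) : β₁ e s f = 0 := by
  show tmap (B := B) (q e s) (β₀ (n := n) e f) = 0
  rw [hg, tmap_coord]
  refine Finset.sum_eq_zero fun k _ => ?_
  rw [q_g e s f hf k, map_zero, zero_mul]

lemma ker_le (hs : Ideal.span (s : Set (MvPolynomial (Fin n) A)) = RingHom.ker π.toRingHom) :
    RingHom.ker π.toRingHom ≤ RingHom.ker (β₁ (B := B) e s).toRingHom := by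
  rw [← hs, Ideal.span_le]
  intro f hf
  exact β₁_mem e s f hf

lemma β₁_eq_zero_of (hs : Ideal.span (s : Set (MvPolynomial (Fin n) A)) = RingHom.ker π.toRingHom)
    (f : MvPolynomial (Fin n) A) (hf : π f = 0) : β₁ (B := B) e s f = 0 := by
  have h1 : f ∈ RingHom.ker π.toRingHom := RingHom.mem_ker.mpr hf
  exact RingHom.mem_ker.mp (ker_le (B := B) e π s hs h1)

end Main

section WW

variable (C : Type u) [CommRing C] [Algebra A C]

/-- a copy of `WR C e` (a `def`, to keep instance search away from the quotient) -/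
def WW : Type u := WR C e

noncomputable instance : CommRing (WW e C) := inferInstanceAs (CommRing (WR C e))

noncomputable instance : Algebra A (WW e C) := inferInstanceAs (Algebra A (WR C e))

/-- the identity `WR C e → WW e C` -/
noncomputable def toWW : WR C e →+* WW e C := RingHom.id (WR C e)

/-- the identity `WW e C → WR C e` -/
noncomputable def ofWW : WW e C →+* WR C e := RingHom.id (WR C e)

lemma toWW_ofWW (w : WW e C) : toWW e C (ofWW e C w) = w := rfl

lemma ofWW_toWW (w : WR C e) : ofWW e C (toWW e C w) = w := rfl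

lemma toWW_algebraMap (a : A) : toWW e C (algebraMap A (WR C e) a) = algebraMap A (WW e C) a := rfl

lemma ofWW_algebraMap (a : A) : ofWW e C (algebraMap A (WW e C) a) = algebraMap A (WR C e) a := rfl

end WW

end Groth.Agent.Helper5.WRFP
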