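import Groth.Agent.Lib.Helper5.WRFP1

/-!
# The Weil-restriction ring of a finitely presented algebra is finitely presented (main theorem)

`WR C e ≃ₐ[A] MvPolynomial (Fin n × ι) A ⧸ J`, `J` generated by the coordinates of the relations of
a presentation `MvPolynomial (Fin n) A ↠ C`.
-/

set_option autoImplicit false
set_option linter.style.haveILetI false
set_option linter.unusedSectionVars false
set_option linter.unusedVariables false
set_option maxHeartbeats 400000

universe u

open TensorProduct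

namespace Groth.Agent.Helper5.WRFP

open Groth.Agent.Helper14.WeilAff

variable {A B C : Type u} [CommRing A] [CommRing B] [CommRing C] [Algebra A B] [Algebra A C]
  {ι : Type u} [Fintype ι] (e : Module.Basis ι A B)

lemma algebraMap_tensor (D : Type u) [CommRing D] [Algebra A D] (a : A) :
    algebraMap A (D ⊗[A] B) a = ιD (A := A) D (algebraMap A B a) := by
  rw [Algebra.TensorProduct.algebraMap_apply, ιD_apply, Algebra.algebraMap_eq_smul_one,
    Algebra.algebraMap_eq_smul_one (A := B), TensorProduct.smul_tmul]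

lemma β₀_X {n : ℕ} (j : Fin n) :
    β₀ (n := n) e (MvPolynomial.X j) =
      ∑ k, φD (A := A) (B := B) (D₀ A ι n) (MvPolynomial.X (j, k)) *
        ιD (A := A) (D₀ A ι n) (e k) := by
  rw [β₀, MvPolynomial.aeval_X]
  refine Finset.sum_congr rfl fun k _ => ?_
  rw [φ_mul_ι]

lemma sum_zero_coord (D : Type u) [CommRing D] [Algebra A D] :
    (0 : D ⊗[A] B) = ∑ k, φD (A := A) (B := B) D ((fun _ : ι => (0 : D)) k) *
      ιD (A := A) D (e k) := by
  symm
  refine Finset.sum_eq_zero fun k _ => ?_
  rw [map_zero, zero_mul]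

theorem finitePresentation_WR [Algebra.FinitePresentation A C] :
    Algebra.FinitePresentation A (WR C e) := by
  obtain ⟨n, π, hπ, s, hs⟩ := (Algebra.FinitePresentation.out (R := A) (A := C))
  have hz : ∀ f, π f = 0 → β₁ (B := B) e s f = 0 := β₁_eq_zero_of e π s hs
  have hwd : ∀ f f', π f = π f' → β₁ (B := B) e s f = β₁ (B := B) e s f' := by
    intro f f' h
    have h1 := hz (f - f') (by rw [map_sub, h, sub_self])
    rw [map_sub] at h1
    exact sub_eq_zero.mp h1
  let σ : C → MvPolynomial (Fin n) A := Function.surjInv hπ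
  have hσ : ∀ c, π (σ c) = c := Function.surjInv_eq hπ
  let β : C →+* DD e s ⊗[A] B :=
    { toFun := fun c => β₁ (B := B) e s (σ c)
      map_one' := (hwd (σ 1) 1 (by rw [hσ, map_one])).trans (map_one _)
      map_mul' := fun c c' => (hwd (σ (c * c')) (σ c * σ c')
        (by rw [hσ, map_mul, hσ, hσ])).trans (map_mul _ _ _)
      map_zero' := (hwd (σ 0) 0 (by rw [hσ, map_zero])).trans (map_zero _)
      map_add' := fun c c' => (hwd (σ (c + c')) (σ c + σ c')
        (by rw [hσ, map_add, hσ, hσ])).trans (map_add _ _ _) }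
  have hβπ : ∀ f, β (π f) = β₁ (B := B) e s f := fun f => hwd _ _ (hσ (π f))
  have hβ : β.comp (algebraMap A C) = (ιD (A := A) (DD e s)).comp (algebraMap A B) := by
    ext a
    show β (algebraMap A C a) = _
    rw [← π.commutes a, hβπ, AlgHom.commutes]
    exact algebraMap_tensor (DD e s) a
  obtain ⟨ρ, ⟨hρ1, hρ2⟩, -⟩ := existsUnique_rho e (φD (A := A) (B := B) (DD e s))
    (ιD (A := A) (DD e s)) (algebraMap A (DD e s)) (hσD (DD e s)) (hcoordD e (DD e s)) β hβ
  -- the other direction
  obtain ⟨β', hβ'1, hβ'2⟩ := exists_beta e (φD (A := A) (B := B) (WW e C))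
    (ιD (A := A) (WW e C)) (algebraMap A (WW e C)) (hσD (WW e C)) (toWW e C)
    (RingHom.ext fun a => toWW_algebraMap e C a)
  let ψ₀ : D₀ A ι n →ₐ[A] WW e C :=
    MvPolynomial.aeval (fun p : Fin n × ι => toWW e C (xb e (π (MvPolynomial.X p.1)) p.2))
  have hψ₀X : ∀ j k, ψ₀ (MvPolynomial.X (j, k)) = toWW e C (xb e (π (MvPolynomial.X j)) k) :=
    fun j k => MvPolynomial.aeval_X _ _
  have K1 : ∀ f, β' (π f) = tmap (B := B) ψ₀ (β₀ (n := n) e f) := by
    have h : β'.comp π.toRingHom = ((tmap (B := B) ψ₀).comp (β₀ (n := n) e)).toRingHom := by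
      apply MvPolynomial.ringHom_ext
      · intro a
        show β' (π (MvPolynomial.C a)) = tmap (B := B) ψ₀ (β₀ (n := n) e (MvPolynomial.C a))
        rw [← MvPolynomial.algebraMap_eq, π.commutes, AlgHom.commutes, AlgHom.commutes,
          algebraMap_tensor]
        exact congrArg (fun f : A →+* _ => f a) hβ'2
      · intro j
        show β' (π (MvPolynomial.X j)) = tmap (B := B) ψ₀ (β₀ (n := n) e (MvPolynomial.X j))
        rw [hβ'1, β₀_X, tmap_coord]
        refine Finset.sum_congr rfl fun k _ => ?_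
        rw [hψ₀X]
    intro f
    exact congrArg (fun r : MvPolynomial (Fin n) A →+* WW e C ⊗[A] B => r f) h
  have K2' : ∀ f ∈ s, ∀ k, ψ₀ (g e f k) = 0 := by
    intro f hf k
    have hπf : π f = 0 := by
      have h1 : f ∈ RingHom.ker π.toRingHom := hs ▸ Ideal.subset_span hf
      exact RingHom.mem_ker.mp h1
    have h1 : tmap (B := B) ψ₀ (β₀ (n := n) e f) = 0 := by rw [← K1, hπf, map_zero]
    rw [hg, tmap_coord, sum_zero_coord e (WW e C)] at h1
    have h2 := coord_inj e (φD (A := A) (B := B) (WW e C)) (ιD (A := A) (WW e C))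
      (hcoordD e (WW e C)) _ _ h1
    exact congrFun h2 k
  have K2 : ∀ x ∈ J e s, ψ₀ x = 0 := by
    intro x hx
    have hle : J e s ≤ RingHom.ker ψ₀.toRingHom := by
      rw [J, Ideal.span_le]
      rintro _ ⟨⟨⟨f, hf⟩, k⟩, rfl⟩
      exact RingHom.mem_ker.mpr (K2' f hf k)
    exact RingHom.mem_ker.mp (hle hx)
  let ψ : DD e s →ₐ[A] WW e C := liftDD e s ψ₀ K2
  have hψq : ∀ x, ψ (q e s x) = ψ₀ x := fun x => liftDD_q e s ψ₀ K2 x
  have K3 : ∀ c k, ψ (ρ (xb e c k)) = toWW e C (xb e c k) := by
    intro c k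
    obtain ⟨f, rfl⟩ := hπ c
    have h1 : tmap (B := B) ψ (β (π f)) = β' (π f) := by
      rw [hβπ]
      show tmap (B := B) ψ (tmap (B := B) (q e s) (β₀ (n := n) e f)) = _
      rw [hg, tmap_coord, tmap_coord, K1, hg, tmap_coord]
      refine Finset.sum_congr rfl fun k _ => ?_
      rw [hψq]
    rw [hρ2, tmap_coord, hβ'1] at h1
    have h2 := coord_inj e (φD (A := A) (B := B) (WW e C)) (ιD (A := A) (WW e C))
      (hcoordD e (WW e C)) _ _ h1
    exact congrFun h2 k
  have K4' : ∀ j k, ρ (xb e (π (MvPolynomial.X j)) k) = q e s (MvPolynomial.X (j, k)) := by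
    intro j k
    have h1 : β (π (MvPolynomial.X j)) =
        tmap (B := B) (q e s) (β₀ (n := n) e (MvPolynomial.X j)) := hβπ _
    rw [hρ2, β₀_X, tmap_coord] at h1
    have h2 := coord_inj e (φD (A := A) (B := B) (DD e s)) (ιD (A := A) (DD e s))
      (hcoordD e (DD e s)) _ _ h1
    exact congrFun h2 k
  have K4 : ∀ y : D₀ A ι n, ρ (ofWW e C (ψ₀ y)) = q e s y := by
    have h : (ρ.comp (ofWW e C)).comp ψ₀.toRingHom = (q e s).toRingHom := by
      apply MvPolynomial.ringHom_ext
      · intro a
        show ρ (ofWW e C (ψ₀ (MvPolynomial.C a))) = q e s (MvPolynomial.C a)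
        rw [← MvPolynomial.algebraMap_eq, AlgHom.commutes, AlgHom.commutes, ofWW_algebraMap]
        exact congrArg (fun f : A →+* _ => f a) hρ1
      · rintro ⟨j, k⟩
        show ρ (ofWW e C (ψ₀ (MvPolynomial.X (j, k)))) = q e s (MvPolynomial.X (j, k))
        rw [hψ₀X, ofWW_toWW, K4']
    intro y
    exact congrArg (fun r : D₀ A ι n →+* DD e s => r y) h
  -- the two maps are mutually inverse
  have h1 : ((ψ : DD e s →+* WW e C).comp ρ) = toWW e C := by
    apply wr_hom_ext e
    · refine RingHom.ext fun a => ?_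
      show ψ (ρ (algebraMap A (WR C e) a)) = toWW e C (algebraMap A (WR C e) a)
      have h3 : ρ (algebraMap A (WR C e) a) = algebraMap A (DD e s) a :=
        congrArg (fun f : A →+* _ => f a) hρ1
      rw [h3, AlgHom.commutes, toWW_algebraMap]
    · intro c k
      exact K3 c k
  let ρw : WW e C →ₐ[A] DD e s :=
    { (ρ.comp (ofWW e C)) with
      commutes' := fun a => by
        show ρ (ofWW e C (algebraMap A (WW e C) a)) = algebraMap A (DD e s) a
        rw [ofWW_algebraMap]
        exact congrArg (fun f : A →+* _ => f a) hρ1 }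
  have h2 : ∀ w : WW e C, ψ (ρw w) = w := by
    intro w
    have := congrArg (fun r : WR C e →+* WW e C => r (ofWW e C w)) h1
    exact this
  have h3 : ∀ x : DD e s, ρw (ψ x) = x := by
    intro x
    obtain ⟨y, rfl⟩ := q_surjective e s x
    rw [hψq]
    exact K4 y
  let E : DD e s ≃ₐ[A] WW e C := AlgEquiv.ofAlgHom ψ ρw (AlgHom.ext h2) (AlgHom.ext h3)
  have hfp : Algebra.FinitePresentation A (WW e C) := Algebra.FinitePresentation.equiv E
  exact hfp

end Groth.Agent.Helper5.WRFP
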