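import Groth.Agent.Lib.Helper5.PCZ8
import Groth.Agent.Lib.Helper5.TB4
import Groth.Agent.Lib.Helper5.CHP2
import Groth.Agent.Lib.Helper11.MPC11
import Groth.Agent.Lib.Helper24.TildePush1
import Groth.Agent.Lib.Helper14.TildeExact

/-!
# Independence of the chart for relative pseudo-coherence of arbitrary objects, part 1:
direct image along `Spec ρ` for a surjection `ρ : P → A` making `A` a pseudo-coherent `P`-module
-/

set_option autoImplicit false
set_option linter.unusedSectionVars false
set_option linter.unusedVariables false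
set_option linter.style.haveILetI false

universe u

open CategoryTheory CategoryTheory.Limits AlgebraicGeometry Pretriangulated DerivedCategory
  TopologicalSpace

attribute [local instance] HasDerivedCategory.standard

namespace Groth.Agent.Helper5.XCH

open Groth.Agent.Helper5.PCT Groth.Agent.Helper5.TB Groth.Agent.Helper5.RT
  Groth.Agent.Helper5.PCZ Groth.Agent.Helper11.MPC Groth.Agent.Helper5.CHP

variable {P A B : Type u} [CommRing P] [CommRing A] [CommRing B]

/-- the hypothesis on the structure sheaf for `Spec ρ` -/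
theorem hO_spec (ρ : P →+* A) (hB : BaseIsPc ρ) :
    HO (Spec.map (CommRingCat.ofHom ρ)) := by
  intro m
  have h1 : DRing.IsPseudoCoherent P m ((singleFunctor (ModuleCat.{u} P) 0).obj
      ((ModuleCat.restrictScalars.{u} ρ).obj (ModuleCat.of A A))) :=
    (pc'_iff_forall_mpc.mp hB) m
  have h2 := tilde_mpc P _ m h1
  have e : (DCoh.tildeD (CommRingCat.of P)).obj ((singleFunctor (ModuleCat.{u} P) 0).obj
      ((ModuleCat.restrictScalars.{u} ρ).obj (ModuleCat.of A A))) ≅
      DCoh.inD (Spec (CommRingCat.of P))
        ((Scheme.Modules.pushforward (Spec.map (CommRingCat.ofHom ρ))).obj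
          (Coh.structureModule (Spec (CommRingCat.of A)))) :=
    ((tilde.functor (CommRingCat.of P)).mapDerivedCategorySingleFunctor 0).app _ ≪≫
      (singleFunctor _ 0).mapIso
        ((Groth.Agent.Helper24.TildePush.tildePushIso (CommRingCat.ofHom ρ)).app
          (ModuleCat.of A A))
  exact isPseudoCoherentD_of_iso e h2

/-- direct image along a composite of morphisms of affine schemes, on complexes -/
noncomputable def pushSpecCompIso (ρ : P →+* A) (φ : A →+* B)
    (H : CochainComplex (Spec (CommRingCat.of B)).Modules ℤ) :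
    (DerSch.pushCx (Spec.map (CommRingCat.ofHom ρ))).obj
        ((DerSch.pushCx (Spec.map (CommRingCat.ofHom φ))).obj H) ≅
      (DerSch.pushCx (Spec.map (CommRingCat.ofHom (φ.comp ρ)))).obj H := by
  have hcomp : Spec.map (CommRingCat.ofHom φ) ≫ Spec.map (CommRingCat.ofHom ρ) =
      Spec.map (CommRingCat.ofHom (φ.comp ρ)) := by
    rw [← Spec.map_comp]
    rfl
  haveI i1 : (Scheme.Modules.pushforward (Spec.map (CommRingCat.ofHom φ)) ⋙
      Scheme.Modules.pushforward (Spec.map (CommRingCat.ofHom ρ))).PreservesZeroMorphisms :=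
    inferInstance
  haveI i2 : (Scheme.Modules.pushforward
      (Spec.map (CommRingCat.ofHom (φ.comp ρ)))).PreservesZeroMorphisms := inferInstance
  exact (@NatIso.mapHomologicalComplex _ _ _ _ _ _ _ _ _ i1 i2
    (Scheme.Modules.pushforwardComp _ _ ≪≫ Scheme.Modules.pushforwardCongr hcomp)
    (ComplexShape.up ℤ)).app H

/-- transfer of pseudo-coherence of a direct image to a bigger affine scheme -/
theorem pc_push_comp_iff (ρ : P →+* A) (hρ : Function.Surjective ρ) (hB : BaseIsPc ρ)
    (φ : A →+* B) (H : CochainComplex (Spec (CommRingCat.of B)).Modules ℤ) (m : ℤ) :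
    DCoh.IsPseudoCoherentD m
        (Q.obj ((DerSch.pushCx (Spec.map (CommRingCat.ofHom φ))).obj H)) ↔
      DCoh.IsPseudoCoherentD m
        (Q.obj ((DerSch.pushCx (Spec.map (CommRingCat.ofHom (φ.comp ρ)))).obj H)) := by
  haveI : IsClosedImmersion (Spec.map (CommRingCat.ofHom ρ)) :=
    IsClosedImmersion.spec_of_surjective _ hρ
  have h := PCZ.main (Spec.map (CommRingCat.ofHom ρ)) (hO_spec ρ hB)
    ((DerSch.pushCx (Spec.map (CommRingCat.ofHom φ))).obj H) m
  rw [h]
  exact ⟨isPseudoCoherentD_of_iso (Q.mapIso (pushSpecCompIso ρ φ H)),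
    isPseudoCoherentD_of_iso (Q.mapIso (pushSpecCompIso ρ φ H).symm)⟩

end Groth.Agent.Helper5.XCH
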